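import Cfsg.Agent.H94.SatBasic
import Cfsg.Agent.H94.StrongClosure
import Cfsg.Agent.H19.Cores
import Cfsg.Prelude.Def_PLocal
import Cfsg.Agent.S0120
import Mathlib.GroupTheory.Nilpotent

/-!
Criteria for a strongly closed subgroup to be normal in a saturated system, by stabilizers of invariant
chains in centric radical subgroups.
-/
set_option autoImplicit false

namespace Cfsg.Agent.H95

open Cfsg
open scoped commutatorElement

variable {Ω : Type*} [Group Ω] {S : Subgroup Ω} [Finite S] {p : ℕ} [Fact p.Prime]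

/-- A strongly closed subgroup inside every fully normalized centric radical subgroup is normal. -/
theorem isNormal_of_le_centricRadical (hS : IsPGroup p S) {F : FusionSystem S} (hF : F.IsSaturated p)
    {Q : Subgroup Ω} (hQ : F.StronglyClosed Q)
    (h : ∀ U : Subgroup Ω, F.IsFullyNormalized U → F.IsCentric U → F.IsRadical p U → Q ≤ U) :
    F.IsNormal Q := by
  have himg : ∀ (D : Subgroup Ω) (ψ : D →* Ω), ψ ∈ F.Hom D → ∀ (hle : Q ≤ D),
      (Q.subgroupOf D).map ψ = Q := by
    intro D ψ hψ hle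
    rw [H96.map_subgroupOf_eq_range ψ hle]
    exact H96.range_eq_of_stronglyClosed hQ (H96.res_mem F hψ hle)
  refine ⟨hQ.1, fun P φ hφ => ?_⟩
  suffices hext : ∃ ψ ∈ F.Hom (P ⊔ Q), ∀ x : P, ψ (Subgroup.inclusion le_sup_left x) = φ x by
    obtain ⟨ψ, hψ, he⟩ := hext
    exact ⟨ψ, hψ, he, himg _ ψ hψ le_sup_right⟩
  refine H94.alperin_induction hS hF
    (fun P φ => ∃ ψ ∈ F.Hom (P ⊔ Q), ∀ x : P, ψ (Subgroup.inclusion le_sup_left x) = φ x)
    ?_ ?_ ?_ hφ
  · rintro P R hle φ - ⟨ψ, hψ, he⟩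
    exact ⟨H96.res ψ (sup_le_sup_right hle Q), H96.res_mem F hψ _, fun x => he ⟨x, hle x.2⟩⟩
  · rintro P R φ ψ hφ hψ ⟨φ₁, hφ₁, e₁⟩ ⟨ψ₁, hψ₁, e₂⟩ hPR
    have hval : ∀ z, φ₁ z ∈ R ⊔ Q := by
      intro z
      have hgen : P ⊔ Q ≤ ((R ⊔ Q).comap φ₁).map (P ⊔ Q).subtype := by
        refine sup_le (fun x hx => ⟨⟨x, Subgroup.mem_sup_left hx⟩, ?_, rfl⟩)
          (fun x hx => ⟨⟨x, Subgroup.mem_sup_right hx⟩, ?_, rfl⟩)
        · show φ₁ _ ∈ R ⊔ Q
          rw [show (⟨x, Subgroup.mem_sup_left hx⟩ : ↥(P ⊔ Q)) = Subgroup.inclusion le_sup_left ⟨x, hx⟩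
            from rfl, e₁]
          exact Subgroup.mem_sup_left (hPR _)
        · exact Subgroup.mem_sup_right (H94.apply_mem_of_stronglyClosed hQ hφ₁ hx)
      obtain ⟨y, hy, hyz⟩ := hgen z.2
      rwa [← show y = z from Subtype.ext hyz]
    obtain ⟨χ, hχ, hχe⟩ := H96.exists_comp F hφ₁ hψ₁ hval
    refine ⟨χ, hχ, fun x => ?_⟩
    rw [hχe]
    show _ = ψ ⟨φ x, hPR x⟩
    rw [← e₂ ⟨φ x, hPR x⟩]
    congr 1
    exact Subtype.ext (e₁ x)
  · intro U hU hc hr α hα
    have hle : U ⊔ Q ≤ U := sup_le le_rfl (h U hU hc hr)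
    exact ⟨H96.res (U.subtype.comp α.toMonoidHom) hle,
      H96.res_mem F ((H96.mem_autGroup F hU.1).1 hα) hle, fun x => rfl⟩

/-- Elements of `S` inducing automorphisms from a normal `p`-subgroup of the automizer of a centric radical
subgroup lie in it. -/
theorem mem_of_induced_of_normal_pGroup {F : FusionSystem S} {U : Subgroup Ω}
    (hc : F.IsCentric U) (hr : F.IsRadical p U) {K : Subgroup (MulAut U)}
    (hK : K ≤ F.autGroup U) (hKn : ∀ a ∈ F.autGroup U, ∀ k ∈ K, a * k * a⁻¹ ∈ K)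
    (hKp : IsPGroup p K) {g : Ω} (hgS : g ∈ S) {α : MulAut U} (hα : α ∈ K)
    (hg : ∀ x : U, ((α x : U) : Ω) = g * (x : Ω) * g⁻¹) : g ∈ U := by
  have hle : K.subgroupOf (F.autGroup U) ≤ pCore p (F.autGroup U) :=
    H19.le_pCore ⟨fun k hk a => Subgroup.mem_subgroupOf.2 (hKn a a.2 k (Subgroup.mem_subgroupOf.1 hk))⟩
      (IsPGroup.of_equiv hKp (Subgroup.subgroupOfEquivOfLe hK).symm)
  have hinn : α ∈ Inn U := by
    rw [← hr.2]
    exact ⟨⟨α, hK hα⟩, hle (Subgroup.mem_subgroupOf.2 hα), rfl⟩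
  obtain ⟨u, hu, hue⟩ := H96.mem_inn_iff.1 hinn
  have hUS := hc.1
  have hcen : u⁻¹ * g ∈ FusionSystem.centralizerIn S U := by
    refine Subgroup.mem_inf.2 ⟨mul_mem (inv_mem (hUS hu)) hgS, Subgroup.mem_centralizer_iff.2 fun x hx => ?_⟩
    have h1 : u * x * u⁻¹ = g * x * g⁻¹ := (hue ⟨x, hx⟩).symm.trans (hg ⟨x, hx⟩)
    calc x * (u⁻¹ * g) = u⁻¹ * (u * x * u⁻¹) * g := by group
      _ = u⁻¹ * (g * x * g⁻¹) * g := by rw [h1]
      _ = u⁻¹ * g * x := by group
  have := mul_mem hu (hc.2 U (H96.isConj_refl F hUS) hcen)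
  simpa using this

/-- The automorphisms stabilizing a chain. -/
def chainStab {U : Type*} [Group U] [Finite U] (W : ℕ → Subgroup U) (m : ℕ) : Subgroup (MulAut U) where
  carrier := {α | ∀ i < m, ∀ x ∈ W (i + 1), x⁻¹ * α x ∈ W i ∧ α x ∈ W (i + 1)}
  mul_mem' := by
    intro α β hα hβ i hi x hx
    obtain ⟨h1, h2⟩ := hβ i hi x hx
    obtain ⟨h3, h4⟩ := hα i hi (β x) h2
    refine ⟨?_, h4⟩
    have := mul_mem h1 h3
    simpa [mul_assoc] using this
  one_mem' := fun i _ x hx => ⟨by simp, hx⟩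
  inv_mem' := by
    intro α hα i hi x hx
    have hsurj : Function.Surjective (fun y : W (i + 1) => (⟨α y, (hα i hi y y.2).2⟩ : W (i + 1))) :=
      Finite.surjective_of_injective fun a b hab => Subtype.ext (α.injective (congrArg Subtype.val hab))
    obtain ⟨y, hy⟩ := hsurj ⟨x, hx⟩
    have hy' : α (y : U) = x := congrArg Subtype.val hy
    have hinv : α⁻¹ x = y := by rw [← hy']; exact α.symm_apply_apply _
    rw [hinv]
    refine ⟨?_, y.2⟩
    have := inv_mem (hα i hi y y.2).1
    rw [hy'] at this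
    simpa using this

/-- An automorphism of order prime to `p` in the stabilizer fixes every member pointwise once it fixes the
bottom one. -/
theorem chainStab_fixed {U : Type*} [Group U] [Finite U] (hU : IsPGroup p U) {W : ℕ → Subgroup U} {m : ℕ}
    {α : MulAut U} (hα : α ∈ chainStab W m) (hcop : (orderOf α).Coprime p)
    (h0 : ∀ x ∈ W 0, α x = x) : ∀ i ≤ m, ∀ x ∈ W i, α x = x := by
  intro i
  induction i with
  | zero => intro _; exact h0
  | succ i ih =>
    intro hi x hx
    obtain ⟨hy, -⟩ := hα i (by omega) x hx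
    have hy' : α (x⁻¹ * α x) = x⁻¹ * α x := ih (by omega) _ hy
    set y := x⁻¹ * α x with hydef
    have hpow : ∀ k : ℕ, (α ^ k) x = x * y ^ k := by
      intro k
      induction k with
      | zero => simp
      | succ k ihk =>
        rw [pow_succ', MulAut.mul_apply, ihk, map_mul, map_pow, hy',
          show α x = x * y by rw [hydef]; group, pow_succ' y, mul_assoc]
    have h1 := hpow (orderOf α)
    rw [pow_orderOf_eq_one] at h1
    simp only [MulAut.one_apply] at h1
    have hyo : y ^ orderOf α = 1 := mul_left_cancel (a := x) (by rw [mul_one]; exact h1.symm)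
    obtain ⟨k, hk⟩ := hU y
    have hy1 : y = 1 := by
      rw [← orderOf_eq_one_iff]
      exact Nat.eq_one_of_dvd_coprimes (hcop.pow_right k) (orderOf_dvd_of_pow_eq_one hyo)
        (orderOf_dvd_of_pow_eq_one hk)
    exact (inv_mul_eq_one.1 hy1).symm

/-- A group of automorphisms in which the elements of order prime to `p` are trivial is a `p`-group. -/
theorem isPGroup_of_coprime_trivial {G : Type*} [Group G] [Finite G]
    (h : ∀ a : G, (orderOf a).Coprime p → a = 1) : IsPGroup p G := by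
  intro a
  obtain ⟨k, m, hm, hkm⟩ := Nat.exists_eq_pow_mul_and_not_dvd (orderOf_pos a).ne' p
    (Fact.out : p.Prime).ne_one
  refine ⟨k, h _ ?_⟩
  rw [orderOf_pow_of_dvd (pow_ne_zero _ (Fact.out : p.Prime).ne_zero) (hkm ▸ dvd_mul_right _ _),
    hkm, Nat.mul_div_cancel_left _ (pow_pos (Fact.out : p.Prime).pos _)]
  exact ((Fact.out : p.Prime).coprime_iff_not_dvd.2 hm).symm

/-- The stabilizer of a chain from `1` to the whole group is a `p`-group. -/
theorem isPGroup_chainStab {U : Type*} [Group U] [Finite U] (hU : IsPGroup p U) {W : ℕ → Subgroup U}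
    {m : ℕ} (h0 : W 0 = ⊥) (hm : W m = ⊤) : IsPGroup p (chainStab W m) := by
  refine isPGroup_of_coprime_trivial fun a ha => ?_
  apply Subtype.ext
  apply MulEquiv.ext
  intro x
  exact chainStab_fixed hU a.2 (by rwa [Subgroup.orderOf_coe])
    (fun y hy => by rw [h0, Subgroup.mem_bot] at hy; rw [hy, map_one]) m le_rfl x (hm ▸ Subgroup.mem_top x)

/-- The stabilizer of an invariant chain is normalized by the automizer. -/
theorem chainStab_conj {U : Type*} [Group U] [Finite U] {W : ℕ → Subgroup U} {m : ℕ} {a : MulAut U}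
    (ha : ∀ i ≤ m, ∀ x, x ∈ W i ↔ a x ∈ W i) {k : MulAut U} (hk : k ∈ chainStab W m) :
    a * k * a⁻¹ ∈ chainStab W m := by
  intro i hi x hx
  obtain ⟨y, rfl⟩ := a.surjective x
  have hy : y ∈ W (i + 1) := (ha (i + 1) hi y).2 hx
  obtain ⟨h1, h2⟩ := hk i hi y hy
  have e : (a * k * a⁻¹) (a y) = a (k y) := by simp
  rw [e]
  refine ⟨?_, (ha (i + 1) hi _).1 h2⟩
  rw [← map_inv, ← map_mul]
  exact (ha i (by omega) _).1 h1

/-- A normal subgroup of `S` not inside `U` has an element outside `U` normalizing `U`. -/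
theorem exists_mem_normalizer_not_mem (hS : IsPGroup p S) {U C : Subgroup Ω} (hU : U ≤ S) (hC : C ≤ S)
    (hCn : S ≤ Subgroup.normalizer (C : Set Ω)) (h : ¬ C ≤ U) :
    ∃ g ∈ C, g ∈ Subgroup.normalizer (U : Set Ω) ∧ g ∉ U := by
  have hle : U ⊔ C ≤ S := sup_le hU hC
  have := H96.finite_of_le hle
  have hlt : U < U ⊔ C := lt_of_le_of_ne le_sup_left fun he => h (le_trans le_sup_right he.symm.le)
  have hp : IsPGroup p ↥(U ⊔ C) := hS.to_le hle
  have hnil : Group.IsNilpotent ↥(U ⊔ C) := hp.isNilpotent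
  have hne : U.subgroupOf (U ⊔ C) < ⊤ := lt_of_le_of_ne le_top fun he =>
    hlt.not_ge (Subgroup.subgroupOf_eq_top.1 he)
  have h2 := Group.normalizerCondition_of_isNilpotent (U.subgroupOf (U ⊔ C)) hne
  obtain ⟨x, hxN, hxU⟩ := SetLike.exists_of_lt h2
  obtain ⟨u, hu, c, hc, huc⟩ :=
    Set.mem_mul.1 ((Subgroup.coe_mul_of_left_le_normalizer_right U C (hU.trans hCn)).le x.2)
  have hxNU : (x : Ω) ∈ Subgroup.normalizer (U : Set Ω) := by
    rw [Subgroup.mem_normalizer_iff]
    intro y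
    constructor
    · intro hy
      have := (Subgroup.mem_normalizer_iff.1 hxN ⟨y, Subgroup.mem_sup_left hy⟩).1 hy
      exact this
    · intro hy
      have hyy : y ∈ U ⊔ C := by
        have := mul_mem (mul_mem (inv_mem x.2) (Subgroup.mem_sup_left (T := C) hy)) x.2
        simpa [mul_assoc] using this
      exact (Subgroup.mem_normalizer_iff.1 hxN ⟨y, hyy⟩).2 hy
  refine ⟨c, hc, ?_, fun hcU => hxU ?_⟩
  · have e : c = u⁻¹ * (x : Ω) := by rw [← huc]; group
    rw [e]
    exact mul_mem (inv_mem (Subgroup.le_normalizer hu)) hxNU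
  · show (x : Ω) ∈ U
    rw [← huc]; exact mul_mem hu hcU

/-- Weakly closed subgroups inside `U` are invariant under the automizer of `U`. -/
theorem autGroup_mem_iff_of_range {F : FusionSystem S} {U W : Subgroup Ω} (hU : U ≤ S) (hW : W ≤ U)
    (hw : ∀ φ ∈ F.Hom W, φ.range = W) {a : MulAut U} (ha : a ∈ F.autGroup U) (x : U) :
    (x : Ω) ∈ W ↔ ((a x : U) : Ω) ∈ W := by
  have key : ∀ b ∈ F.autGroup U, ∀ y : U, (y : Ω) ∈ W → ((b y : U) : Ω) ∈ W := by
    intro b hb y hy
    rw [← hw _ (H96.res_mem F ((H96.mem_autGroup F hU).1 hb) hW)]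
    exact ⟨⟨y, hy⟩, rfl⟩
  refine ⟨key a ha x, fun h => ?_⟩
  have := key a⁻¹ (inv_mem ha) (a x) h
  rwa [show a⁻¹ (a x) = x from a.symm_apply_apply x] at this

/-- A strongly closed subgroup with a central series of weakly closed subgroups is normal. -/
theorem isNormal_of_central_series (hS : IsPGroup p S) {F : FusionSystem S} (hF : F.IsSaturated p)
    {Q : Subgroup Ω} (hQ : F.StronglyClosed Q) (n : ℕ) (C : ℕ → Subgroup Ω) (hC0 : C 0 = ⊥)
    (hCn : C n = Q) (hle : ∀ i ≤ n, C i ≤ Q) (hcomm : ∀ i < n, ⁅C (i + 1), Q⁆ ≤ C i)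
    (hweak : ∀ i < n, F.WeaklyClosed (C i)) : F.IsNormal Q := by
  refine isNormal_of_le_centricRadical hS hF hQ fun U hU hc hr => ?_
  by_contra hQU
  classical
  have hex : ∃ i, i ≤ n ∧ ¬ C i ≤ U := ⟨n, le_rfl, by rwa [hCn]⟩
  obtain ⟨hjn, hjU⟩ := Nat.find_spec hex
  have hlt : ∀ i < Nat.find hex, C i ≤ U := fun i hi => by
    have := Nat.find_min hex hi
    simp only [not_and, not_not] at this
    exact this (le_trans hi.le hjn)
  generalize hjdef : Nat.find hex = j at hjn hjU hlt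
  obtain ⟨j, rfl⟩ : ∃ j', j = j' + 1 := ⟨j - 1, by
    rcases Nat.eq_zero_or_pos j with h | h
    · exact absurd (by rw [h, hC0]; exact bot_le) hjU
    · omega⟩
  have hUS := hU.1
  have := H96.finite_of_le hUS
  have hQS := hQ.1
  have hCnorm : S ≤ Subgroup.normalizer (C (j + 1) : Set Ω) := by
    rcases eq_or_lt_of_le hjn with h | h
    · rw [h, hCn]; exact H94.le_normalizer_of_stronglyClosed hQ
    · intro s hs
      have := H96.finite_of_le ((hweak _ h).1)
      refine H94.mem_normalizer_of_forall_conj_mem fun r hr => ?_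
      have := (hweak _ h).2 _ (F.conj_mem (hweak _ h).1 hs)
      rw [← this]
      exact ⟨⟨r, hr⟩, rfl⟩
  obtain ⟨g, hgC, hgN, hgU⟩ := exists_mem_normalizer_not_mem hS hUS ((hle _ hjn).trans hQS) hCnorm hjU
  let W : ℕ → Subgroup U := fun i =>
    if i ≤ j then (C i).subgroupOf U else if i = j + 1 then Q.subgroupOf U else ⊤
  set m := j + 2
  have hW0 : W 0 = ⊥ := by
    simp only [W, Nat.zero_le, if_true, hC0]
    exact Subgroup.bot_subgroupOf _
  have hWm : W m = ⊤ := by simp [W, m]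
  set K := chainStab W m ⊓ F.autGroup U
  have hgS : g ∈ S := hQS (hle _ hjn hgC)
  have hgQ : g ∈ Q := hle _ hjn hgC
  obtain ⟨α, hα, hαe⟩ := H96.exists_autGroup_of_mem F (F.conj_mem hUS hgS) fun x =>
    (Subgroup.mem_normalizer_iff.1 hgN _).1 x.2
  refine hgU (mem_of_induced_of_normal_pGroup hc hr (K := K) inf_le_right ?_
    ((isPGroup_chainStab (hS.to_le hUS) hW0 hWm).to_le inf_le_left) hgS ⟨?_, hα⟩ hαe)
  · intro a ha k hk
    obtain ⟨hk1, hk2⟩ := Subgroup.mem_inf.1 hk
    refine Subgroup.mem_inf.2 ⟨chainStab_conj (fun i hi x => ?_) hk1, mul_mem (mul_mem ha hk2) (inv_mem ha)⟩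
    simp only [W]
    split_ifs with h1 h2
    · simp only [Subgroup.mem_subgroupOf]
      exact autGroup_mem_iff_of_range hUS (hlt i (by omega)) (hweak i (by omega)).2 ha x
    · simp only [Subgroup.mem_subgroupOf]
      have hr' := fun φ (hφ : φ ∈ F.Hom (Q ⊓ U)) => H96.range_eq_of_forall_mem F hφ
      constructor
      · exact fun hx => H94.apply_mem_of_stronglyClosed hQ ((H96.mem_autGroup F hUS).1 ha) hx
      · intro hx
        have := H94.apply_mem_of_stronglyClosed hQ ((H96.mem_autGroup F hUS).1 (inv_mem ha)) (x := a x) hx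
        simpa using this
    · exact ⟨fun _ => trivial, fun _ => trivial⟩
  · intro i hi x hx
    have hval : ((x⁻¹ * α x : U) : Ω) = (x : Ω)⁻¹ * (g * x * g⁻¹) := by
      push_cast; rw [hαe]; rfl
    have hax : ((α x : U) : Ω) = g * x * g⁻¹ := hαe x
    rcases lt_trichotomy i j with h | rfl | h
    · simp only [W, if_pos (show i ≤ j by omega), if_pos (show i + 1 ≤ j by omega),
        Subgroup.mem_subgroupOf] at hx ⊢
      have h1 : (x : Ω)⁻¹ * (g * x * g⁻¹) ∈ C i := by
        have h3 : ⁅(x : Ω)⁻¹, g⁆ ∈ C i :=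
          hcomm i (by omega) (Subgroup.commutator_mem_commutator (inv_mem hx) hgQ)
        simpa [commutatorElement_def, mul_assoc] using h3
      refine ⟨by rw [hval]; exact h1, ?_⟩
      rw [hax]
      have hconj : g * (x : Ω) * g⁻¹ ∈ C (i + 1) := by
        have hw := (hweak (i + 1) (by omega)).2 _ (F.conj_mem (hweak (i + 1) (by omega)).1 hgS)
        rw [← hw]
        exact ⟨⟨x, hx⟩, rfl⟩
      exact hconj
    · simp only [W, le_refl, if_true, if_neg (show ¬ i + 1 ≤ i by omega), Subgroup.mem_subgroupOf] at hx ⊢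
      refine ⟨?_, ?_⟩
      · rw [hval]
        have h3 : ⁅g, (x : Ω)⁻¹⁆ ∈ C i :=
          hcomm i (by omega) (Subgroup.commutator_mem_commutator hgC (inv_mem hx))
        have h4 := inv_mem h3
        rw [commutatorElement_inv] at h4
        simpa [commutatorElement_def, mul_assoc] using h4
      · rw [hax]
        exact mul_mem (mul_mem hgQ hx) (inv_mem hgQ)
    · have hi' : i = j + 1 := by omega
      subst hi'
      simp only [W, if_neg (show ¬ j + 1 ≤ j by omega), if_true, if_neg (show ¬ j + 1 + 1 ≤ j by omega),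
        if_neg (show ¬ j + 1 + 1 = j + 1 by omega), Subgroup.mem_subgroupOf]
      refine ⟨?_, trivial⟩
      rw [hval]
      have h4 : (x : Ω)⁻¹ * g * x ∈ Q := by
        have := H96.conj_mem_of_stronglyClosed hQ (hUS (x⁻¹).2) hgQ
        simpa using this
      have := mul_mem h4 (inv_mem hgQ)
      simpa [mul_assoc] using this

/-- Normal subgroups are strongly closed. -/
theorem stronglyClosed_of_isNormal {F : FusionSystem S} {Q : Subgroup Ω} (hQ : F.IsNormal Q) :
    F.StronglyClosed Q := by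
  refine ⟨hQ.1, fun R hR φ hφ x => ?_⟩
  obtain ⟨ψ, -, he, him⟩ := hQ.2 R φ hφ
  rw [← him]
  exact ⟨Subgroup.inclusion le_sup_left x, Subgroup.mem_subgroupOf.2 (hR x.2), he x⟩

/-- Characteristic subgroups of a normal subgroup are strongly closed. -/
theorem stronglyClosed_of_characteristic {F : FusionSystem S} {Q : Subgroup Ω} (hQ : F.IsNormal Q)
    {A : Subgroup Q} (hA : A.Characteristic) : F.StronglyClosed (A.map Q.subtype) := by
  refine ⟨(Subgroup.map_subtype_le A).trans hQ.1, fun R hR φ hφ x => ?_⟩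
  obtain ⟨ψ, hψ, he, him⟩ := hQ.2 R φ hφ
  have hmem : ∀ y : Q, ψ (Subgroup.inclusion le_sup_right y) ∈ Q := fun y =>
    him.le ⟨Subgroup.inclusion le_sup_right y, Subgroup.mem_subgroupOf.2 y.2, rfl⟩
  obtain ⟨α, -, hαe⟩ := H96.exists_autGroup_of_mem F
    (H96.res_mem F hψ (le_sup_right : Q ≤ R ⊔ Q)) hmem
  obtain ⟨a, ha, hax⟩ := hR x.2
  rw [← he x]
  refine ⟨α a, ?_, ?_⟩
  · have := Subgroup.characteristic_iff_comap_eq.1 hA α
    rw [← this] at ha
    exact ha
  · show ((α a : Q) : Ω) = _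
    rw [hαe]
    simp only [H96.res_apply]
    congr 1
    exact Subtype.ext hax

/-- A normal subgroup has a central series of weakly closed subgroups. -/
theorem exists_central_series_of_isNormal (hS : IsPGroup p S) {F : FusionSystem S} {Q : Subgroup Ω}
    (hQ : F.IsNormal Q) : ∃ (n : ℕ) (C : ℕ → Subgroup Ω), C 0 = ⊥ ∧ C n = Q ∧ Monotone C ∧
      (∀ i, ⁅C (i + 1), Q⁆ ≤ C i) ∧ ∀ i, F.StronglyClosed (C i) := by
  have := H96.finite_of_le hQ.1
  have hnil : Group.IsNilpotent Q := (hS.to_le hQ.1).isNilpotent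
  refine ⟨Group.nilpotencyClass Q, fun i => (Subgroup.upperCentralSeries Q i).map Q.subtype, by simp, ?_,
    fun i j h => Subgroup.map_mono (Subgroup.upperCentralSeries_mono Q h), fun i => ?_, fun i => ?_⟩
  · show (Subgroup.upperCentralSeries Q (Group.nilpotencyClass Q)).map Q.subtype = Q
    rw [Subgroup.upperCentralSeries_nilpotencyClass, ← MonoidHom.range_eq_map, Subgroup.range_subtype]
  · conv_lhs => arg 2; rw [← Subgroup.range_subtype Q, MonoidHom.range_eq_map]
    rw [← Subgroup.map_commutator]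
    refine Subgroup.map_mono (Subgroup.commutator_le.2 fun x hx y _ => ?_)
    exact Subgroup.mem_upperCentralSeries_succ_iff.1 hx y
  · have hcl := stronglyClosed_of_characteristic hQ (A := Subgroup.upperCentralSeries Q i) inferInstance
    exact hcl

/-- For odd `p`: a strongly closed `P` with a chain of strongly closed subgroups up to `Ω₁(P)` central in `P`
is normal. -/
theorem isNormal_of_omega_series (hS : IsPGroup p S) {F : FusionSystem S} (hF : F.IsSaturated p)
    (hp : p ≠ 2) {P : Subgroup Ω} (hP : F.StronglyClosed P) (n : ℕ) (Q : ℕ → Subgroup Ω)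
    (hQ0 : Q 0 = ⊥) (hQn : Q n = omegaOne p P) (hQsc : ∀ i ≤ n, F.StronglyClosed (Q i))
    (hcomm : ∀ i < n, ⁅Q (i + 1), P⁆ ≤ Q i) : F.IsNormal P := by
  refine isNormal_of_le_centricRadical hS hF hP fun U hU hc hr => ?_
  by_contra hPU
  have hUS := hU.1
  have := H96.finite_of_le hUS
  obtain ⟨g, hgP, hgN, hgU⟩ :=
    exists_mem_normalizer_not_mem hS hUS hP.1 (H94.le_normalizer_of_stronglyClosed hP) hPU
  have hgS := hP.1 hgP
  let W : ℕ → Subgroup U := fun i => (Q i).subgroupOf U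
  let V : ℕ → Subgroup U := fun i => if i = 0 then P.subgroupOf U else ⊤
  set K := (chainStab W n ⊓ chainStab V 1) ⊓ F.autGroup U
  have hinv : ∀ (R : Subgroup Ω), F.StronglyClosed R → ∀ a ∈ F.autGroup U, ∀ x : U,
      ((x : Ω) ∈ R ↔ ((a x : U) : Ω) ∈ R) := by
    intro R hR a ha x
    constructor
    · exact fun hx => H94.apply_mem_of_stronglyClosed hR ((H96.mem_autGroup F hUS).1 ha) hx
    · intro hx
      have := H94.apply_mem_of_stronglyClosed hR ((H96.mem_autGroup F hUS).1 (inv_mem ha)) (x := a x) hx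
      simpa using this
  obtain ⟨α, hα, hαe⟩ := H96.exists_autGroup_of_mem F (F.conj_mem hUS hgS) fun x =>
    (Subgroup.mem_normalizer_iff.1 hgN _).1 x.2
  have hUp := hS.to_le hUS
  refine hgU (mem_of_induced_of_normal_pGroup hc hr (K := K) inf_le_right ?_ ?_ hgS
    (α := α) ⟨⟨?_, ?_⟩, hα⟩ hαe)
  · intro a ha k hk
    obtain ⟨hk12, hk3⟩ := Subgroup.mem_inf.1 hk
    obtain ⟨hk1, hk2⟩ := Subgroup.mem_inf.1 hk12
    refine Subgroup.mem_inf.2 ⟨Subgroup.mem_inf.2 ⟨chainStab_conj (fun i hi x => ?_) hk1, chainStab_conj (fun i hi x => ?_) hk2⟩,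
      mul_mem (mul_mem ha hk3) (inv_mem ha)⟩
    · exact hinv _ (hQsc i hi) a ha x
    · simp only [V]
      split_ifs
      · exact hinv _ hP a ha x
      · exact ⟨fun _ => trivial, fun _ => trivial⟩
  · refine isPGroup_of_coprime_trivial fun k hk => ?_
    have hk' : (orderOf (k : MulAut U)).Coprime p := by rwa [Subgroup.orderOf_coe]
    have hW := chainStab_fixed hUp k.2.1.1 hk' (fun y hy => by
      have : y = 1 := Subtype.ext (by simpa [W, hQ0, Subgroup.mem_subgroupOf] using hy)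
      rw [this, map_one])
    apply Subtype.ext
    apply MulEquiv.ext
    intro x
    refine chainStab_fixed hUp k.2.1.2 hk' (fun y hy => ?_) 1 le_rfl x (by simp [V])
    simp only [V, if_true, Subgroup.mem_subgroupOf] at hy
    -- `k` is trivial on `P ∩ U`, being trivial on its elements of order `p`
    set A := P.subgroupOf U
    have hkA : ∀ z : A, (k : MulAut U) z ∈ A := fun z =>
      Subgroup.mem_subgroupOf.2 ((hinv P hP _ k.2.2 z).1 (Subgroup.mem_subgroupOf.1 z.2))
    let f : A →* A := ((k : MulAut U).toMonoidHom.comp A.subtype).codRestrict A hkA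
    have hf : Function.Injective f := fun u v huv =>
      Subtype.ext ((k : MulAut U).injective (congrArg Subtype.val huv))
    let b : MulAut A := MulEquiv.ofBijective f ⟨hf, Finite.surjective_of_injective hf⟩
    have hbpow : ∀ (r : ℕ) (z : A), (((b ^ r) z : A) : U) = ((k : MulAut U) ^ r) (z : U) := by
      intro r
      induction r with
      | zero => intro z; rfl
      | succ r ih => intro z; rw [pow_succ', pow_succ', MulAut.mul_apply, MulAut.mul_apply, ← ih]; rfl
    have hbo : (orderOf b).Coprime p := by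
      refine Nat.Coprime.coprime_dvd_left (orderOf_dvd_of_pow_eq_one ?_) hk'
      apply MulEquiv.ext
      intro z
      apply Subtype.ext
      rw [hbpow, pow_orderOf_eq_one]
      rfl
    have hb1 := Cfsg.Agent.S0120.result hp (hUp.to_subgroup A) b hbo (fun z hz => by
      apply Subtype.ext
      refine hW n le_rfl (z : U) ?_
      show ((z : U) : Ω) ∈ Q n
      rw [hQn]
      refine Subgroup.subset_closure ⟨z.2, ?_⟩
      exact_mod_cast congrArg (fun w : A => ((w : U) : Ω)) hz)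
    exact congrArg (fun c : MulAut A => ((c ⟨y, hy⟩ : A) : U)) hb1
  · intro i hi x hx
    have hxQ : (x : Ω) ∈ Q (i + 1) := hx
    refine ⟨?_, ?_⟩
    · show ((x⁻¹ * α x : U) : Ω) ∈ Q i
      push_cast
      rw [hαe]
      have h3 : ⁅(x : Ω)⁻¹, g⁆ ∈ Q i := hcomm i hi (Subgroup.commutator_mem_commutator (inv_mem hxQ) hgP)
      simpa [commutatorElement_def, mul_assoc, conjHom] using h3
    · show ((α x : U) : Ω) ∈ Q (i + 1)
      rw [hαe]
      exact H96.conj_mem_of_stronglyClosed (hQsc (i + 1) hi) hgS hxQ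
  · intro i hi x _
    obtain rfl : i = 0 := by omega
    simp only [V, if_true, Subgroup.mem_subgroupOf]
    refine ⟨?_, by simp⟩
    push_cast
    rw [hαe]
    have h4 : (x : Ω)⁻¹ * g * x ∈ P := by
      have := H96.conj_mem_of_stronglyClosed hP (hUS (x⁻¹).2) hgP
      simpa using this
    have := mul_mem h4 (inv_mem hgP)
    simpa [mul_assoc, conjHom] using this

end Cfsg.Agent.H95

namespace Cfsg.Agent.H95

open Cfsg

variable {Ω : Type*} [Group Ω] {S : Subgroup Ω} {p : ℕ}

/-- `Ω₁(P)` lies in `P`. -/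
theorem omegaOne_le (P : Subgroup Ω) : omegaOne p P ≤ P := (Subgroup.closure_le _).2 fun _ hx => hx.1

/-- `Ω₁` of a strongly closed subgroup is strongly closed. -/
theorem stronglyClosed_omegaOne_of_isNormal {F : FusionSystem S} {Q : Subgroup Ω} (hQ : F.IsNormal Q) :
    F.StronglyClosed (omegaOne p Q) := by
  refine ⟨(omegaOne_le Q).trans hQ.1, fun R hR φ hφ x => ?_⟩
  obtain ⟨ψ, hψ, he, him⟩ := hQ.2 R φ hφ
  rw [← he x]
  have key : omegaOne p Q ≤ ((omegaOne p Q).comap ψ).map (R ⊔ Q).subtype := by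
    refine (Subgroup.closure_le _).2 ?_
    rintro y ⟨hy, hyp⟩
    refine ⟨⟨y, Subgroup.mem_sup_right hy⟩, Subgroup.subset_closure ⟨?_, ?_⟩, rfl⟩
    · exact him.le ⟨⟨y, Subgroup.mem_sup_right hy⟩, Subgroup.mem_subgroupOf.2 hy, rfl⟩
    · rw [← map_pow, show (⟨y, Subgroup.mem_sup_right hy⟩ : ↥(R ⊔ Q)) ^ p = 1 from Subtype.ext hyp, map_one]
  obtain ⟨z, hz, hzx⟩ := key (hR x.2)
  rwa [← show z = Subgroup.inclusion le_sup_left x from Subtype.ext hzx]

end Cfsg.Agent.H95
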