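import Cfsg.Agent.H95.GenExtraNormal
import Cfsg.Agent.H35.SmallPGroups
import Cfsg.Agent.H93.Normal
import Cfsg.Agent.H96.ThompsonCenter

/-!
A strongly closed metacyclic subgroup is normal, `p` odd: more generally one whose `Ω₁` is elementary abelian of
order `p²`.
-/
set_option autoImplicit false

namespace Cfsg.Agent.H95

open Cfsg
open scoped commutatorElement

variable {Ω : Type*} [Group Ω] {S : Subgroup Ω} [Finite S] {p : ℕ} [Fact p.Prime]

/-- An automorphism of a group of odd order which inverts the elements of order `p` fixes no coset not containing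
the identity, modulo an invariant subgroup: with a fixed coset `bC` one gets a fixed element of order `p`. -/
theorem false_of_inverting {P : Type*} [Group P] [Finite P] (hP : IsPGroup p P) (hp2 : p ≠ 2) (θ : MulAut P)
    (hinv : ∀ v : P, v ^ p = 1 → θ v = v⁻¹) {C : Subgroup P} (hC : ∀ x, x ∈ C ↔ θ x ∈ C) {b : P}
    (hb : b⁻¹ * θ b ∈ C) (hbC : b ∉ C) : False := by
  have hp : p.Prime := Fact.out
  obtain ⟨k, m, hm, hkm⟩ := Nat.exists_eq_pow_mul_and_not_dvd (orderOf_pos θ).ne' 2 (by norm_num)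
  set β := θ ^ m with hβ
  have hmodd : Odd m := Nat.not_even_iff_odd.1 fun h => hm (even_iff_two_dvd.1 h)
  have hord : β ^ (2 ^ k) = 1 := by
    rw [hβ, ← pow_mul, mul_comm, ← hkm]; exact pow_orderOf_eq_one θ
  have hinv' : ∀ v : P, v ^ p = 1 → β v = v⁻¹ := by
    intro v hv
    have hj : ∀ j : ℕ, (θ ^ j) v = if Even j then v else v⁻¹ := by
      intro j
      induction j with
      | zero => simp
      | succ j ih =>
        rw [pow_succ', MulAut.mul_apply, ih]
        by_cases he : Even j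
        · rw [if_pos he, hinv v hv, if_neg (by simp [Nat.even_add_one, he])]
        · rw [if_neg he, map_inv, hinv v hv, inv_inv, if_pos (by simp [Nat.even_add_one, he])]
    rw [hβ, hj, if_neg (Nat.not_even_iff_odd.2 hmodd)]
  have hX : ∀ (j : ℕ) (x : P), b⁻¹ * x ∈ C → b⁻¹ * (θ ^ j) x ∈ C := by
    intro j
    induction j with
    | zero => intro x hx; simpa using hx
    | succ j ih =>
      intro x hx
      rw [pow_succ', MulAut.mul_apply]
      have h1 : θ (b⁻¹ * (θ ^ j) x) ∈ C := (hC _).1 (ih x hx)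
      have := mul_mem hb h1
      simpa [mul_assoc] using this
  haveI : Fact (Nat.Prime 2) := ⟨Nat.prime_two⟩
  let X := {x : P // b⁻¹ * x ∈ C}
  have hcard : Nat.card X = Nat.card C := Nat.card_congr
    { toFun := fun x => ⟨b⁻¹ * x.1, x.2⟩
      invFun := fun c => ⟨b * c, by simpa using c.2⟩
      left_inv := fun x => Subtype.ext (by simp)
      right_inv := fun c => Subtype.ext (by simp) }
  have hnd : ¬ 2 ∣ Nat.card X := by
    rw [hcard]
    obtain ⟨n, hn⟩ := (hP.to_subgroup C).exists_card_eq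
    rw [hn]
    exact fun h => hp2 ((Nat.prime_dvd_prime_iff_eq Nat.prime_two hp).1 (Nat.prime_two.dvd_of_dvd_pow h)).symm
  have hz : ∀ g : Subgroup.zpowers β, ∃ j : ℕ, (g : MulAut P) = θ ^ j := by
    intro g
    obtain ⟨j, hj⟩ := mem_powers_iff_mem_zpowers.2 g.2
    exact ⟨m * j, by rw [← hj, hβ, pow_mul]⟩
  let _ : MulAction (Subgroup.zpowers β) X :=
    { smul := fun g x => ⟨(g : MulAut P) x.1, by
        obtain ⟨j, hj⟩ := hz g
        rw [hj]; exact hX j x.1 x.2⟩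
      one_smul := fun x => Subtype.ext rfl
      mul_smul := fun g h x => Subtype.ext rfl }
  have h2 : IsPGroup 2 (Subgroup.zpowers β) := by
    rintro ⟨g, i, rfl⟩
    refine ⟨k, Subtype.ext ?_⟩
    show (β ^ i) ^ (2 ^ k) = 1
    rw [← zpow_natCast, ← zpow_mul, mul_comm, zpow_mul, zpow_natCast, hord, one_zpow]
  obtain ⟨⟨x, hx⟩, hfix⟩ := h2.nonempty_fixed_point_of_prime_not_dvd_card X hnd
  have hxfix : β x = x := congrArg Subtype.val (hfix ⟨β, Subgroup.mem_zpowers β⟩)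
  have hx1 : x ≠ 1 := fun h => hbC (by rw [h, mul_one] at hx; simpa using C.inv_mem hx)
  obtain ⟨n, hn⟩ := IsPGroup.iff_orderOf.1 hP x
  have hn0 : n ≠ 0 := fun h => hx1 (orderOf_eq_one_iff.1 (by rw [hn, h, pow_zero]))
  set v := x ^ p ^ (n - 1) with hv
  have hvp : v ^ p = 1 := by
    rw [hv, ← pow_mul, ← pow_succ, Nat.sub_add_cancel (by omega), ← hn, pow_orderOf_eq_one]
  have hv1 : v ≠ 1 := by
    intro h
    have := orderOf_dvd_of_pow_eq_one h
    rw [hn, Nat.pow_dvd_pow_iff_le_right hp.one_lt] at this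
    omega
  have h3 : v = v⁻¹ := by
    conv_lhs => rw [hv, ← hxfix, ← map_pow, ← hv, hinv' v hvp]
  apply hv1
  rw [← orderOf_eq_one_iff]
  refine Nat.eq_one_of_dvd_coprimes ((Nat.coprime_primes Nat.prime_two hp).2 (Ne.symm hp2))
    (orderOf_dvd_of_pow_eq_one ?_) (orderOf_dvd_of_pow_eq_one hvp)
  rw [pow_two]
  exact eq_inv_iff_mul_eq_one.1 h3

/-- A strongly closed subgroup whose `Ω₁` is elementary abelian of order `p²` is normal, `p` odd. -/
theorem isNormal_of_omega_sq (hS : IsPGroup p S) {F : FusionSystem S} (hF : F.IsSaturated p) (hp2 : p ≠ 2)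
    {P : Subgroup Ω} (hP : F.StronglyClosed P) (hV : Cfsg.IsElementaryAbelian p (omegaOne p P))
    (hcard : Nat.card (omegaOne p P) = p ^ 2) : F.IsNormal P := by
  have hp : p.Prime := Fact.out
  set V := omegaOne p P with hVdef
  have hVP : V ≤ P := omegaOne_le P
  have hPS := hP.1
  have hVS : V ≤ S := hVP.trans hPS
  have := H96.finite_of_le hVS
  have := H96.finite_of_le hPS
  have hVp : ∀ x ∈ V, x ^ p = 1 := fun x hx => hV.2 x hx
  have hmemV : ∀ x ∈ P, x ^ p = 1 → x ∈ V := fun x hx h => Subgroup.subset_closure ⟨hx, h⟩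
  have hVsc : F.StronglyClosed V := by
    refine ⟨hVS, fun R hR φ hφ x => hmemV _ (hP.2 R (hR.trans hVP) φ hφ x) ?_⟩
    rw [← map_pow, show x ^ p = 1 from Subtype.ext (by simpa using hVp _ (hR x.2)), map_one]
  have hVn : S ≤ Subgroup.normalizer (V : Set Ω) := H94.le_normalizer_of_stronglyClosed hVsc
  by_cases hcen : ∀ v ∈ V, ∀ x ∈ P, v * x = x * v
  · refine isNormal_of_omega_series hS hF hp2 hP 1 (fun i => if i = 0 then ⊥ else V) (by simp) (by simp [hVdef])
      (fun i hi => ?_) (fun i hi => ?_)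
    · rcases (show i = 0 ∨ i = 1 by omega) with rfl | rfl
      · simpa using H96.stronglyClosed_bot F
      · simpa using hVsc
    · obtain rfl : i = 0 := by omega
      simp only [zero_add, one_ne_zero, if_false, if_true, le_bot_iff]
      rw [Subgroup.commutator_eq_bot_iff_le_centralizer]
      exact fun v hv => Subgroup.mem_centralizer_iff.2 fun x hx => (hcen v hv x hx).symm
  push Not at hcen
  obtain ⟨v₀, hv₀, b, hb, hvb⟩ := hcen
  set Z := V ⊓ Subgroup.centralizer (S : Set Ω) with hZdef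
  have hZV : Z ≤ V := inf_le_left
  have hZS : Z ≤ S := hZV.trans hVS
  have := H96.finite_of_le hZS
  have hVne : V ≠ ⊥ := fun h => by
    rw [h, Subgroup.card_bot] at hcard
    exact (Nat.one_lt_pow two_ne_zero hp.one_lt).ne hcard
  have hv₀Z : v₀ ∉ Z := fun h => hvb (Subgroup.mem_centralizer_iff.1 h.2 b (hPS hb)).symm
  have hcardZ : Nat.card Z = p := by
    have hd := Subgroup.card_dvd_of_le hZV
    rw [hcard] at hd
    obtain ⟨i, hi, hic⟩ := (Nat.dvd_prime_pow hp).1 hd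
    rcases (show i = 0 ∨ i = 1 ∨ i = 2 by omega) with rfl | rfl | rfl
    · exact absurd (Subgroup.card_eq_one.1 (by rw [hic, pow_zero]))
        (H96.inf_center_ne_bot' hS hVS hVn hVne)
    · rw [hic, pow_one]
    · refine absurd ?_ hv₀Z
      rw [Subgroup.eq_of_le_of_card_ge hZV (by rw [hcard, hic])]
      exact hv₀
  have hZcen : ∀ s ∈ S, ∀ x ∈ Z, s * x = x * s := fun s hs x hx => Subgroup.mem_centralizer_iff.1 hx.2 s hs
  obtain ⟨⟨z₀, hz₀⟩, hz₁⟩ : ∃ z : Z, z ≠ 1 := by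
    have : Nontrivial Z := Finite.one_lt_card_iff_nontrivial.1 (by rw [hcardZ]; exact hp.one_lt)
    exact exists_ne 1
  have hz0 : z₀ ≠ 1 := fun h => hz₁ (Subtype.ext h)
  have hgen : Subgroup.zpowers z₀ = Z := by
    refine Subgroup.eq_of_le_of_card_ge (Subgroup.zpowers_le.2 hz₀) ?_
    have hd := Subgroup.card_dvd_of_le (Subgroup.zpowers_le.2 hz₀)
    rw [hcardZ] at hd ⊢
    rcases (Nat.dvd_prime hp).1 hd with h | h
    · exact absurd (Subgroup.zpowers_eq_bot.1 (Subgroup.card_eq_one.1 h)) hz0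
    · exact h.ge
  -- commutators with `S` lie in `Z`
  have hcomm : ∀ s ∈ S, ∀ v ∈ V, s * v * s⁻¹ * v⁻¹ ∈ Z := by
    haveI hZn : (Z.subgroupOf S).Normal := ⟨fun x hx g => Subgroup.mem_subgroupOf.2 (by
      rw [show ((g * x * g⁻¹ : S) : Ω) = (g : Ω) * x * (g : Ω)⁻¹ from rfl,
        hZcen g g.2 x hx, mul_inv_cancel_right]
      exact hx)⟩
    haveI : (V.subgroupOf S).Normal := (Subgroup.normal_subgroupOf_iff_le_normalizer hVS).2 hVn
    set q := QuotientGroup.mk' (Z.subgroupOf S)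
    haveI : ((V.subgroupOf S).map q).Normal :=
      Subgroup.Normal.map inferInstance q (QuotientGroup.mk'_surjective _)
    have hc : Nat.card ((V.subgroupOf S).map q) = p := by
      have h := Subgroup.relIndex_ker (K := V.subgroupOf S) q
      rw [QuotientGroup.ker_mk'] at h
      rw [← h, Subgroup.relIndex_subgroupOf hVS]
      have h2 := Subgroup.relIndex_mul_relIndex ⊥ Z V bot_le hZV
      rw [Subgroup.relIndex_bot_left, Subgroup.relIndex_bot_left, hcardZ, hcard, pow_two] at h2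
      exact Nat.eq_of_mul_eq_mul_left hp.pos h2
    have hle := le_center_of_card_prime (hS.to_quotient _) hc
    intro s hs v hv
    have hmem := hle ⟨⟨v, hVS hv⟩, hv, rfl⟩
    have h1 : q (⟨s, hs⟩ * ⟨v, hVS hv⟩ * ⟨s, hs⟩⁻¹ * ⟨v, hVS hv⟩⁻¹) = 1 := by
      rw [map_mul, map_mul, map_mul, Subgroup.mem_center_iff.1 hmem (q ⟨s, hs⟩), map_inv, map_inv,
        mul_inv_cancel_right, mul_inv_cancel]
    exact Subgroup.mem_subgroupOf.1 ((QuotientGroup.eq_one_iff _).1 h1)
  have hseries : F.StronglyClosed Z → F.IsNormal P := by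
    intro hZsc
    refine isNormal_of_omega_series hS hF hp2 hP 2 (fun i => if i = 0 then ⊥ else if i = 1 then Z else V)
      (by simp) (by simp [hVdef]) (fun i hi => ?_) (fun i hi => ?_)
    · rcases (show i = 0 ∨ i = 1 ∨ i = 2 by omega) with rfl | rfl | rfl
      · simpa using H96.stronglyClosed_bot F
      · simpa using hZsc
      · simpa using hVsc
    · rcases (show i = 0 ∨ i = 1 by omega) with rfl | rfl
      · simp only [zero_add, one_ne_zero, if_false, if_true, le_bot_iff]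
        rw [Subgroup.commutator_eq_bot_iff_le_centralizer]
        exact fun z hz => Subgroup.mem_centralizer_iff.2 fun x hx => hZcen x (hPS hx) z hz
      · simp only [show ¬ (1 + 1 = 0) by omega, show ¬ (1 + 1 = 1) by omega, if_false, if_true,
          one_ne_zero]
        refine Subgroup.commutator_le.2 fun v hv x hx => ?_
        rw [← commutatorElement_inv, commutatorElement_def]
        exact Z.inv_mem (hcomm x (hPS hx) v hv)
  by_contra hnot
  obtain ⟨R, hRZ, φ, hφ, x₁, hx₁⟩ : ∃ R, ∃ _ : R ≤ Z, ∃ φ ∈ F.Hom R, ∃ x : R, φ x ∉ Z := by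
    by_contra h
    push Not at h
    exact hnot (hseries ⟨hZS, fun R hR φ hφ x => h R hR φ hφ x⟩)
  obtain ⟨a₀, ha₀⟩ : ∃ a, a = φ x₁ := ⟨_, rfl⟩
  have haV : a₀ ∈ V := ha₀ ▸ hVsc.2 R (hRZ.trans hZV) φ hφ x₁
  obtain ⟨σ, hσ, -, hσinv⟩ := H96.exists_inv F hφ rfl
  have haR : a₀ ∈ φ.range := ⟨x₁, ha₀.symm⟩
  have hσa : σ ⟨a₀, haR⟩ = (x₁ : Ω) := by
    have h := hσinv x₁ ⟨_, rfl⟩
    simp only [← ha₀] at h
    exact h
  obtain ⟨ψ, hψ, hψa⟩ := exists_ext_centralizer hS hF hσ haR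
    (fun s hs => by rw [hσa]; exact hZcen s hs _ (hRZ x₁.2))
  have hVC : V ≤ FusionSystem.centralizerIn S (Subgroup.zpowers a₀) := fun v hv =>
    Subgroup.mem_inf.2 ⟨hVS hv, Subgroup.mem_centralizer_iff.2 fun y hy =>
      H35.commute_of_mem_isMulCommutative hV.1 (Subgroup.zpowers_le.2 haV hy) hv⟩
  have hrec : F.IsFullyAutomized p V ∧ F.IsReceptive V := by
    refine H94.fullyNormalized_spec hS hF ⟨hVS, fun Q hQ => ?_⟩
    obtain ⟨χ, hχ, rfl⟩ := hQ
    rw [H96.range_eq_of_stronglyClosed hVsc hχ]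
  obtain ⟨τ, hτ, hτe⟩ := H96.exists_autGroup_of_mem F (H96.res_mem F hψ hVC)
    (fun x => hVsc.2 V le_rfl _ (H96.res_mem F hψ hVC) x)
  letI : CommGroup V :=
    { (inferInstance : Group V) with mul_comm := hV.1.is_comm.comm }
  have hexp : ∀ v : V, v ^ p = 1 := fun v => Subtype.ext (by simpa using hVp v v.2)
  obtain ⟨zm, hzm⟩ : ∃ zm : V, (zm : Ω) = z₀ := ⟨⟨z₀, hZV hz₀⟩, rfl⟩
  have hgenZ : ∀ v : V, (v : Ω) ∈ Z → ∃ i : ℤ, v = zm ^ i := by
    intro v hv
    rw [← hgen] at hv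
    obtain ⟨i, hi⟩ := hv
    exact ⟨i, Subtype.ext (by rw [Subgroup.coe_zpow, hzm]; exact hi.symm)⟩
  have hτa : ((τ ⟨a₀, haV⟩ : V) : Ω) = x₁ := by
    rw [hτe, H96.res_apply, ← hσa]
    exact hψa _
  have hτz : ((τ zm : V) : Ω) ∉ Z ∨ ((τ⁻¹ zm : V) : Ω) ∉ Z := by
    by_contra h
    push Not at h
    obtain ⟨i, hi⟩ := hgenZ _ h.2
    obtain ⟨j, hj⟩ := hgenZ (τ ⟨a₀, haV⟩) (by rw [hτa]; exact hRZ x₁.2)
    have h2 : (⟨a₀, haV⟩ : V) = zm ^ (i * j) := by
      apply τ.injective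
      rw [hj, map_zpow, zpow_mul]
      congr 1
      rw [← map_zpow, ← hi, show τ (τ⁻¹ zm) = zm from τ.apply_symm_apply zm]
    exact hx₁ (by rw [← ha₀, show a₀ = ((⟨a₀, haV⟩ : V) : Ω) from rfl, h2, Subgroup.coe_zpow, hzm]; exact zpow_mem hz₀ _)
  obtain ⟨τ, hτ, hτz⟩ : ∃ τ' ∈ F.autGroup V, ((τ' zm : V) : Ω) ∉ Z := by
    rcases hτz with h | h
    · exact ⟨τ, hτ, h⟩
    · exact ⟨τ⁻¹, inv_mem hτ, h⟩
  -- conjugation by elements of `S`
  obtain ⟨t, ht, hte⟩ := H94.exists_autInducedBy (hPS hb) (hVn (hPS hb))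
  have hfixz : ∀ γ ∈ autInducedBy S V, γ zm = zm := by
    intro γ hγ
    obtain ⟨g, hg, hge⟩ := H96.mem_autInducedBy.1 hγ
    apply Subtype.ext
    rw [hge, hzm, hZcen g hg z₀ hz₀, mul_inv_cancel_right]
  have htrans : ∀ γ ∈ autInducedBy S V, ∀ v : V, ∃ i : ℤ, γ v = v * zm ^ i := by
    intro γ hγ v
    obtain ⟨g, hg, hge⟩ := H96.mem_autInducedBy.1 hγ
    obtain ⟨i, hi⟩ := hgenZ (γ v * v⁻¹) (by
      rw [Subgroup.coe_mul, InvMemClass.coe_inv, hge]; exact hcomm g hg v v.2)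
    exact ⟨i, by rw [← hi, mul_comm (γ v) v⁻¹, ← mul_assoc, mul_inv_cancel, one_mul]⟩
  obtain ⟨vm, hvm⟩ : ∃ vm : V, (vm : Ω) = v₀ := ⟨⟨v₀, hv₀⟩, rfl⟩
  have htv : t vm ≠ vm := by
    intro h
    have h1 := congrArg Subtype.val h
    rw [hte, hvm] at h1
    exact hvb (mul_inv_eq_iff_eq_mul.1 h1).symm
  -- the fixed points of a nontrivial induced automorphism are `Z`
  have hbasis : ∀ v : V, ∃ i j : ℤ, v = vm ^ i * zm ^ j := by
    have hlt : Z < Z ⊔ Subgroup.zpowers v₀ :=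
      lt_of_le_of_ne le_sup_left fun h => hv₀Z (h ▸ Subgroup.mem_sup_right (Subgroup.mem_zpowers v₀))
    have htop : Z ⊔ Subgroup.zpowers v₀ = V := by
      have hle : Z ⊔ Subgroup.zpowers v₀ ≤ V := sup_le hZV (Subgroup.zpowers_le.2 hv₀)
      have := H96.finite_of_le (hle.trans hVS)
      refine Subgroup.eq_of_le_of_card_ge hle ?_
      have hd := Subgroup.card_dvd_of_le hle
      have hd' := Subgroup.card_dvd_of_le hlt.le
      rw [hcard] at hd ⊢
      rw [hcardZ] at hd'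
      obtain ⟨i, hi, hic⟩ := (Nat.dvd_prime_pow hp).1 hd
      rw [hic] at hd' ⊢
      rcases (show i = 0 ∨ i = 1 ∨ i = 2 by omega) with rfl | rfl | rfl
      · simp at hd'
        exact absurd hd' hp.ne_one
      · exact absurd (Subgroup.eq_of_le_of_card_ge hlt.le (by rw [hic, pow_one, hcardZ])) hlt.ne
      · exact le_rfl
    intro v
    have hv : (v : Ω) ∈ Z ⊔ Subgroup.zpowers v₀ := htop.ge v.2
    have hVle : Z ≤ Subgroup.normalizer (Subgroup.zpowers v₀ : Set Ω) := fun z hz => by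
      refine Subgroup.centralizer_le_normalizer _ (Subgroup.mem_centralizer_iff.2 fun y hy => ?_)
      exact H35.commute_of_mem_isMulCommutative hV.1 (Subgroup.zpowers_le.2 hv₀ hy) (hZV hz)
    rw [← SetLike.mem_coe, Subgroup.coe_mul_of_left_le_normalizer_right _ _ hVle] at hv
    obtain ⟨z, hz, _, ⟨i, rfl⟩, hzv⟩ := hv
    obtain ⟨j, hj⟩ := hgenZ ⟨z, hZV hz⟩ hz
    refine ⟨i, j, Subtype.ext ?_⟩
    rw [← hj, ← hzv, mul_comm (vm ^ i) ⟨z, hZV hz⟩, Subgroup.coe_mul, Subgroup.coe_zpow, hvm]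
  have hext : ∀ {γ δ : MulAut V}, γ zm = δ zm → γ vm = δ vm → γ = δ := by
    intro γ δ h1 h2
    refine MulEquiv.ext fun v => ?_
    obtain ⟨i, j, rfl⟩ := hbasis v
    rw [map_mul, map_mul, map_zpow, map_zpow, map_zpow, map_zpow, h1, h2]
  obtain ⟨i₀, hi₀⟩ := htrans t ht vm
  have hpi : ¬ (p : ℤ) ∣ i₀ := by
    rintro ⟨k, rfl⟩
    exact htv (by rw [hi₀, zpow_mul, zpow_natCast, hexp, one_zpow, mul_one])
  obtain ⟨a1, a2, ha12⟩ := (Prime.coprime_iff_not_dvd (Nat.prime_iff_prime_int.1 hp)).2 hpi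
  have hAut : ∀ γ ∈ autInducedBy S V, ∃ k : ℤ, γ = t ^ k := by
    intro γ hγ
    obtain ⟨i, hi⟩ := htrans γ hγ vm
    refine ⟨a2 * i, hext ?_ ?_⟩
    · rw [hfixz γ hγ]
      exact (hfixz _ (zpow_mem ht _)).symm
    · rw [hi, zpow_apply_of_fixed t hi₀ (by rw [map_zpow, hfixz t ht]) (a2 * i), ← zpow_mul]
      congr 1
      rw [show i₀ * (a2 * i) = i + (p : ℤ) * (-(a1 * i)) by linear_combination i * ha12, zpow_add, zpow_mul zm (p : ℤ),
        zpow_natCast, hexp, one_zpow, mul_one]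
  have hfix : ∀ γ ∈ autInducedBy S V, γ ≠ 1 → ∀ v : V, γ v = v → (v : Ω) ∈ Z := by
    intro γ hγ hne v hv
    by_contra hvZ
    obtain ⟨i, j, rfl⟩ := hbasis v
    have hpi' : ¬ (p : ℤ) ∣ i := by
      rintro ⟨k, rfl⟩
      refine hvZ ?_
      rw [zpow_mul, zpow_natCast, hexp, one_zpow, one_mul, Subgroup.coe_zpow, hzm]
      exact zpow_mem hz₀ j
    obtain ⟨c1, c2, hc⟩ := (Prime.coprime_iff_not_dvd (Nat.prime_iff_prime_int.1 hp)).2 hpi'
    refine hne (hext (by rw [hfixz γ hγ]; rfl) ?_)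
    rw [map_mul, map_zpow, map_zpow, hfixz γ hγ, mul_left_inj] at hv
    have h := congrArg (· ^ c2) hv
    simp only [← zpow_mul] at h
    rw [show i * c2 = 1 + (p : ℤ) * (-c1) by linear_combination hc] at h
    simpa [zpow_add, zpow_mul, hexp] using h
  have htA : t ∈ F.autGroup V := H96.autInducedBy_le_autGroup F hVS ht
  set u := τ * t * τ⁻¹ with hu
  have huA : u ∈ F.autGroup V := mul_mem (mul_mem hτ htA) (inv_mem hτ)
  have huc : u (τ zm) = τ zm := by
    rw [hu, MulAut.mul_apply, MulAut.mul_apply, show τ⁻¹ (τ zm) = zm from τ.symm_apply_apply zm, hfixz t ht]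
  have hum : ∀ v : V, ∃ i : ℤ, u v = v * (τ zm) ^ i := by
    intro v
    obtain ⟨i, hi⟩ := htrans t ht (τ⁻¹ v)
    exact ⟨i, by rw [hu, MulAut.mul_apply, MulAut.mul_apply, hi, map_mul, map_zpow,
      show τ (τ⁻¹ v) = v from τ.apply_symm_apply v]⟩
  rcases transvection_pair hexp (hfixz t ht) huc (htrans t ht) hum with hL | ⟨β, hβ, hβt, hβz⟩
  · -- both centres would be carried into `Z`
    set A := F.autGroup V
    set L := Subgroup.closure ({t, u} : Set (MulAut V))
    have hLA : L ≤ A := by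
      rw [Subgroup.closure_le]
      rintro x (rfl | rfl) <;> assumption
    obtain ⟨Q, hQ⟩ := (IsPGroup.of_equiv hL (Subgroup.subgroupOfEquivOfLe hLA).symm).exists_le_sylow
    obtain ⟨R, hR⟩ := hrec.1.2
    obtain ⟨h, hh⟩ := MulAction.exists_smul_eq A Q R
    have hconjR : ∀ x ∈ L, (h : MulAut V) * x * (h : MulAut V)⁻¹ ∈ autInducedBy S V := by
      intro x hx
      have h1 : h * ⟨x, hLA hx⟩ * h⁻¹ ∈ (R : Subgroup A) := by
        rw [← hh, Sylow.coe_subgroup_smul]
        exact Subgroup.smul_mem_pointwise_smul _ (MulAut.conj h) _ (hQ (show (⟨x, hLA hx⟩ : A) ∈ L.subgroupOf A from hx))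
      rw [hR, Subgroup.mem_subgroupOf] at h1
      exact h1
    have ht1 : t ≠ 1 := fun e => htv (by rw [e]; rfl)
    have hu1 : u ≠ 1 := fun e => ht1 (by
      rw [hu] at e
      have : τ⁻¹ * (τ * t * τ⁻¹) * τ = τ⁻¹ * 1 * τ := by rw [e]
      simpa [mul_assoc] using this)
    have hne : ∀ x : MulAut V, x ≠ 1 → (h : MulAut V) * x * (h : MulAut V)⁻¹ ≠ 1 := fun x hx e => hx (by
      have : (h : MulAut V)⁻¹ * ((h : MulAut V) * x * (h : MulAut V)⁻¹) * (h : MulAut V) =
        (h : MulAut V)⁻¹ * 1 * (h : MulAut V) := by rw [e]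
      simpa [mul_assoc] using this)
    have key : ∀ x ∈ L, x ≠ 1 → ∀ v : V, x v = v → (((h : MulAut V) v : V) : Ω) ∈ Z := by
      intro x hx hx1 v hv
      refine hfix _ (hconjR x hx) (hne x hx1) _ ?_
      rw [MulAut.mul_apply, MulAut.mul_apply, show (h : MulAut V)⁻¹ ((h : MulAut V) v) = v from
        (h : MulAut V).symm_apply_apply v, hv]
    obtain ⟨i, hi⟩ := hgenZ _ (key t (Subgroup.subset_closure (Set.mem_insert t _)) ht1 zm (hfixz t ht))
    obtain ⟨j, hj⟩ := hgenZ _ (key u (Subgroup.subset_closure (Set.mem_insert_of_mem _ rfl)) hu1 _ huc)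
    have hpi' : ¬ (p : ℤ) ∣ i := by
      rintro ⟨k, rfl⟩
      rw [zpow_mul, zpow_natCast, hexp, one_zpow] at hi
      refine hz0 ?_
      rw [← hzm, show zm = 1 from (h : MulAut V).injective (hi.trans (map_one _).symm)]
      rfl
    obtain ⟨c1, c2, hc⟩ := (Prime.coprime_iff_not_dvd (Nat.prime_iff_prime_int.1 hp)).2 hpi'
    refine hτz ?_
    have h9 : τ zm = zm ^ (c2 * j) := by
      apply (h : MulAut V).injective
      rw [map_zpow, hi, ← zpow_mul, hj]
      rw [show i * (c2 * j) = j + (p : ℤ) * (-(c1 * j)) by linear_combination j * hc, zpow_add, zpow_mul zm (p : ℤ),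
        zpow_natCast, hexp, one_zpow, mul_one]
    rw [h9, Subgroup.coe_zpow, hzm]
    exact zpow_mem hz₀ _
  · -- the inverting automorphism extends to `P`
    have hβA : β ∈ F.autGroup V := by
      refine (Subgroup.closure_le _).2 ?_ hβ
      rintro x (rfl | rfl) <;> assumption
    have hβS : ∀ γ ∈ autInducedBy S V, β * γ * β⁻¹ = γ := by
      intro γ hγ
      obtain ⟨k, rfl⟩ := hAut γ hγ
      rw [((show Commute β t from hβt).zpow_right k).eq, mul_inv_cancel_right]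
    -- a power of it inverts `V`
    obtain ⟨β', hβ'A, hβ'S, hβ'inv⟩ : ∃ β' ∈ F.autGroup V,
        (∀ γ ∈ autInducedBy S V, β' * γ * β'⁻¹ = γ) ∧ ∀ v : V, β' v = v⁻¹ := by
      obtain ⟨i, j, hij⟩ := hbasis (β vm)
      have h1 : β (t vm) = t (β vm) := DFunLike.congr_fun hβt vm
      rw [hi₀, map_mul, map_zpow, hβz, hij, map_mul, map_zpow, map_zpow, hfixz t ht, hi₀, mul_zpow,
        ← zpow_mul, inv_zpow', mul_right_comm (vm ^ i) (zm ^ (i₀ * i)) (zm ^ j), mul_right_inj] at h1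
      have hip : (p : ℤ) ∣ i + 1 := by
        have h2 : zm ^ (i₀ * (i + 1)) = 1 := by
          rw [mul_add, mul_one, zpow_add, ← h1, ← zpow_add, neg_add_cancel, zpow_zero]
        have hzord : orderOf zm = p := orderOf_eq_prime (hexp zm) fun e => hz0 (by rw [← hzm, e]; rfl)
        have h3 := orderOf_dvd_iff_zpow_eq_one.2 h2
        rw [hzord] at h3
        exact ((Nat.prime_iff_prime_int.1 hp).dvd_or_dvd h3).resolve_left hpi
      obtain ⟨k, hk⟩ := hip
      have hv : β vm = vm⁻¹ * zm ^ j := by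
        rw [hij, show i = (p : ℤ) * k + -1 by omega, zpow_add, zpow_mul, zpow_natCast, hexp, one_zpow, one_mul,
          zpow_neg_one]
      have hsq : (β * β) vm = vm * zm ^ (-2 * j) := by
        rw [MulAut.mul_apply, hv, map_mul, map_inv, map_zpow, hβz, hv, inv_zpow', _root_.mul_inv, inv_inv,
          ← zpow_neg, mul_assoc, ← zpow_add]
        ring_nf
      have hsqz : (β * β) zm = zm := by rw [MulAut.mul_apply, hβz, map_inv, hβz, inv_inv]
      obtain ⟨r, hr⟩ := (hp.eq_two_or_odd').resolve_left hp2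
      refine ⟨(β * β) ^ (r : ℤ) * β, mul_mem (zpow_mem (mul_mem hβA hβA) _) hβA, fun γ hγ => ?_, ?_⟩
      · have hc : Commute β γ := by
          have h9 : β * γ * β⁻¹ * β = γ * β := by rw [hβS γ hγ]
          rwa [inv_mul_cancel_right] at h9
        have hc' : Commute ((β * β) ^ (r : ℤ) * β) γ := ((hc.mul_left hc).zpow_left _).mul_left hc
        rw [hc'.eq, mul_inv_cancel_right]
      · have e1 : ((β * β) ^ (r : ℤ) * β) zm = zm⁻¹ := by
          rw [MulAut.mul_apply, hβz, map_inv]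
          congr 1
          have := zpow_apply_of_fixed (β * β) (m := zm) (d := 1) (by rw [hsqz, mul_one]) (map_one _) (r : ℤ)
          rwa [one_zpow, mul_one] at this
        have e2 : ((β * β) ^ (r : ℤ) * β) vm = vm⁻¹ := by
          have h2 := zpow_apply_of_fixed (β * β) hsq (by rw [map_zpow, hsqz]) (r : ℤ)
          have h3 := zpow_apply_of_fixed (β * β) (m := zm) (d := 1) (by rw [hsqz, mul_one]) (map_one _) (r : ℤ)
          rw [one_zpow, mul_one] at h3
          rw [MulAut.mul_apply, hv, map_mul, map_inv, map_zpow, h2, h3, ← zpow_mul, _root_.mul_inv, ← zpow_neg,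
            mul_assoc, ← zpow_add, show -(-2 * j * (r : ℤ)) + j = (p : ℤ) * j by rw [hr]; push_cast; ring,
            zpow_mul, zpow_natCast, hexp, one_zpow, mul_one]
        intro v
        obtain ⟨c, d, rfl⟩ := hbasis v
        rw [map_mul, map_zpow, map_zpow, e1, e2, inv_zpow, inv_zpow, _root_.mul_inv]
    have hβ'F := (H96.mem_autGroup F hVS).1 hβ'A
    obtain ⟨χ, hχ, hχe⟩ := hrec.2.2 V _ hβ'F (H96.range_eq_of_forall_mem F hβ'F fun x => (β' x).2)
    have hSE : S ≤ FusionSystem.extender S V (V.subtype.comp β'.toMonoidHom) := by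
      intro s hs
      obtain ⟨γ, hγ, hγe⟩ := H94.exists_autInducedBy hs (hVn hs)
      exact H94.mem_extender_of_conj hs (hVn hs) hγe (by rw [hβ'S γ hγ]; exact hγ)
    have hPE : P ≤ FusionSystem.extender S V (V.subtype.comp β'.toMonoidHom) := hPS.trans hSE
    obtain ⟨θ, -, hθ⟩ := H96.exists_autGroup_of_mem F (H96.res_mem F hχ hPE)
      (fun x => H94.apply_mem_of_stronglyClosed hP hχ x.2)
    have hθV : ∀ v : V, ((θ ⟨v, hVP v.2⟩ : P) : Ω) = ((v⁻¹ : V) : Ω) := by
      intro v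
      rw [hθ, H96.res_apply, ← hβ'inv v]
      exact hχe v v.2 (hPE (hVP v.2))
    -- `x` and `θ x` act in the same way on `V`
    have hact : ∀ (x : P) (v : V),
        ((θ x : P) : Ω) * v * ((θ x : P) : Ω)⁻¹ = (x : Ω) * v * (x : Ω)⁻¹ := by
      intro x v
      have hxv : (x : Ω) * v * (x : Ω)⁻¹ ∈ V := H96.conj_mem_of_stronglyClosed hVsc (hPS x.2) v.2
      have h1 := congrArg Subtype.val (map_mul θ (x * ⟨v, hVP v.2⟩) x⁻¹)
      have e : x * ⟨v, hVP v.2⟩ * x⁻¹ = (⟨((⟨_, hxv⟩ : V) : Ω), hVP hxv⟩ : P) := rfl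
      rw [e, hθV, map_mul, map_inv, Subgroup.coe_mul, Subgroup.coe_mul, InvMemClass.coe_inv,
        InvMemClass.coe_inv, hθV, InvMemClass.coe_inv] at h1
      have h2 := congrArg (·⁻¹) h1
      simpa [mul_assoc] using h2.symm
    refine false_of_inverting (P := ↥P) (hS.to_le hPS) hp2 θ (fun v hv => Subtype.ext ?_)
      (C := Subgroup.centralizer ((V.subgroupOf P : Subgroup P) : Set P)) (fun x => ?_) (b := ⟨b, hb⟩) ?_ ?_
    · exact hθV ⟨v, hmemV _ v.2 (by simpa using congrArg Subtype.val hv)⟩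
    · simp only [Subgroup.mem_centralizer_iff]
      constructor
      · intro h y hy
        apply Subtype.ext
        have h1 := hact x ⟨y, hy⟩
        have h2 : (x : Ω) * y * (x : Ω)⁻¹ = y := by
          rw [show (x : Ω) * y = y * x from (congrArg Subtype.val (h y hy)).symm, mul_inv_cancel_right]
        exact (mul_inv_eq_iff_eq_mul.1 (h1.trans h2)).symm
      · intro h y hy
        apply Subtype.ext
        have h1 := hact x ⟨y, hy⟩
        have h2 : ((θ x : P) : Ω) * y * ((θ x : P) : Ω)⁻¹ = y := by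
          rw [show ((θ x : P) : Ω) * y = y * (θ x : P) from (congrArg Subtype.val (h y hy)).symm,
            mul_inv_cancel_right]
        exact (mul_inv_eq_iff_eq_mul.1 (h1.symm.trans h2)).symm
    · refine Subgroup.mem_centralizer_iff.2 fun y hy => Subtype.ext ?_
      have h1 := hact ⟨b, hb⟩ ⟨y, hy⟩
      show (y : Ω) * (b⁻¹ * (θ ⟨b, hb⟩ : P)) = b⁻¹ * ((θ ⟨b, hb⟩ : P) : Ω) * y
      calc (y : Ω) * (b⁻¹ * (θ ⟨b, hb⟩ : P)) = b⁻¹ * (b * y * b⁻¹) * (θ ⟨b, hb⟩ : P) := by group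
        _ = b⁻¹ * (((θ ⟨b, hb⟩ : P) : Ω) * y * ((θ ⟨b, hb⟩ : P) : Ω)⁻¹) * (θ ⟨b, hb⟩ : P) := by rw [← h1]
        _ = b⁻¹ * ((θ ⟨b, hb⟩ : P) : Ω) * y := by group
    · intro h
      exact hvb (congrArg Subtype.val (Subgroup.mem_centralizer_iff.1 h ⟨v₀, hVP hv₀⟩ hv₀))

/-- A strongly closed metacyclic subgroup is normal, `p` odd. -/
theorem isNormal_of_metacyclic_odd (hS : IsPGroup p S) {F : FusionSystem S} (hF : F.IsSaturated p) (hp2 : p ≠ 2)
    {P : Subgroup Ω} (hP : F.StronglyClosed P) (hm : Cfsg.IsMetacyclic ↥P) : F.IsNormal P := by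
  have := H96.finite_of_le hP.1
  by_cases hc : IsCyclic P
  · letI := IsCyclic.commGroup (α := P)
    exact H93.isNormal_of_stronglyClosed_abelian hS hF hP fun a ha b hb =>
      congrArg Subtype.val (mul_comm (⟨a, ha⟩ : P) ⟨b, hb⟩)
  obtain ⟨hE, hcard⟩ := H35.omegaOne_of_metacyclic hp2 (hS.to_le hP.1) hm hc
  have hmap : (omegaOne p (⊤ : Subgroup P)).map P.subtype = omegaOne p P := by
    refine le_antisymm ?_ ((Subgroup.closure_le _).2 fun x hx => ⟨⟨x, hx.1⟩, Subgroup.subset_closure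
      ⟨Subgroup.mem_top _, Subtype.ext (by simpa using hx.2)⟩, rfl⟩)
    rw [omegaOne, MonoidHom.map_closure]
    refine (Subgroup.closure_le _).2 ?_
    rintro _ ⟨x, hx, rfl⟩
    exact Subgroup.subset_closure ⟨x.2, by simpa using congrArg Subtype.val hx.2⟩
  have hcard' : Nat.card (omegaOne p P) = p ^ 2 := by
    rw [← hmap, Subgroup.card_map_of_injective Subtype.val_injective, hcard]
  refine isNormal_of_omega_sq hS hF hp2 hP ⟨⟨⟨?_⟩⟩, ?_⟩ hcard'
  · rintro ⟨x, hx⟩ ⟨y, hy⟩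
    rw [← hmap] at hx hy
    obtain ⟨a, ha, rfl⟩ := hx
    obtain ⟨c, hc, rfl⟩ := hy
    exact Subtype.ext (congrArg P.subtype (H35.commute_of_mem_isMulCommutative hE.1 ha hc) :)
  · intro x hx
    rw [← hmap] at hx
    obtain ⟨a, ha, rfl⟩ := hx
    rw [← map_pow, hE.2 a ha, map_one]

end Cfsg.Agent.H95
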