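import Cfsg.Prelude.Def_FusionComponents
import Cfsg.Agent.H94.StrongClosure

/-!
Consequences of Puig's lemma for a strongly closed subgroup `T`: `T C_S(T)` is strongly closed, the hyperfocal
subgroup acts on `T` inside `O^p(Aut_F(T)) Inn(T)`, and the hyperfocal subgroup of a factor system.
-/
set_option autoImplicit false

namespace Cfsg.Agent.H95

open Cfsg

variable {Ω : Type*} [Group Ω] {S : Subgroup Ω} [Finite S] {p : ℕ} [Fact p.Prime]

/-- `T C_S(T)` is strongly closed for `T` strongly closed. -/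
theorem stronglyClosed_sup_centralizer (hS : IsPGroup p S) {F : FusionSystem S} (hF : F.IsSaturated p)
    {T : Subgroup Ω} (hT : F.StronglyClosed T) :
    F.StronglyClosed (T ⊔ FusionSystem.centralizerIn S T) := by
  refine ⟨sup_le hT.1 inf_le_left, fun R hR φ hφ x => ?_⟩
  obtain ⟨ψ, hψ, he⟩ := H94.exists_map_sup_congr hS hF hT hφ
  have hRS : R ≤ S := (F.le_of_mem hφ).1
  -- `x = c t` with `c` centralizing `T`
  have hnorm : FusionSystem.centralizerIn S T ≤ Subgroup.normalizer (T : Set Ω) :=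
    fun c hc => Subgroup.centralizer_le_normalizer _ (Subgroup.mem_inf.1 hc).2
  have hx : (x : Ω) ∈ FusionSystem.centralizerIn S T ⊔ T := sup_comm (T : Subgroup Ω) _ ▸ hR x.2
  obtain ⟨c, hc, t, ht, hct⟩ :=
    Set.mem_mul.1 ((Subgroup.coe_mul_of_left_le_normalizer_right _ T hnorm).le hx)
  have hcm : c ∈ R ⊔ T := by
    have : c = (x : Ω) * t⁻¹ := by rw [← hct, mul_inv_cancel_right]
    rw [this]
    exact mul_mem (Subgroup.mem_sup_left x.2) (Subgroup.mem_sup_right (inv_mem ht))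
  have htm : t ∈ R ⊔ T := Subgroup.mem_sup_right ht
  have hψt : ψ ⟨t, htm⟩ ∈ T := H94.apply_mem_of_stronglyClosed hT hψ ht
  have hψc : ψ ⟨c, hcm⟩ ∈ FusionSystem.centralizerIn S T := by
    refine Subgroup.mem_inf.2 ⟨(F.le_of_mem hψ).2 _, Subgroup.mem_centralizer_iff.2 fun y hy => ?_⟩
    have hTle : T ≤ R ⊔ T := le_sup_right
    have hres := H96.res_mem F hψ hTle
    have hy' : y ∈ (H96.res ψ hTle).range := by rw [H96.range_eq_of_stronglyClosed hT hres]; exact hy
    obtain ⟨u, rfl⟩ := hy'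
    simp only [H96.res_apply, ← map_mul]
    congr 1
    exact Subtype.ext (Subgroup.mem_centralizer_iff.1 (Subgroup.mem_inf.1 hc).2 u u.2)
  have hψx : ψ (Subgroup.inclusion le_sup_left x) ∈ T ⊔ FusionSystem.centralizerIn S T := by
    have : Subgroup.inclusion (le_sup_left : R ≤ R ⊔ T) x = ⟨c, hcm⟩ * ⟨t, htm⟩ := Subtype.ext hct.symm
    rw [this, map_mul]
    exact mul_mem (Subgroup.mem_sup_right hψc) (Subgroup.mem_sup_left hψt)
  have := mul_mem hψx (Subgroup.mem_sup_left (T := FusionSystem.centralizerIn S T) (he x))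
  simpa using this

/-- The hyperfocal subgroup acts on a strongly closed `T` inside `O^p(Aut_F(T)) Inn(T)`. -/
theorem hyperfocal_automizer (hS : IsPGroup p S) {F : FusionSystem S} (hF : F.IsSaturated p)
    {T : Subgroup Ω} (hT : F.StronglyClosed T) :
    ∀ x ∈ F.hyperfocalSubgroup p,
      ∃ α ∈ ((pResidual p ↥(F.autGroup T)).map (F.autGroup T).subtype ⊔ Inn ↥T : Subgroup (MulAut ↥T)),
        ∀ t : ↥T, ((α t : ↥T) : Ω) = x * (t : Ω) * x⁻¹ := by
  have hTS := hT.1
  have := H96.finite_of_le hTS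
  set A := F.autGroup T with hA
  set K : Subgroup (MulAut T) := (pResidual p ↥A).map A.subtype ⊔ Inn ↥T with hK
  have hInnA : Inn ↥T ≤ A := fun α hα => by
    obtain ⟨g, hg, hge⟩ := H96.mem_inn_iff.1 hα
    exact H96.autInducedBy_le_autGroup F hTS (H96.mem_autInducedBy.2 ⟨g, hTS hg, hge⟩)
  have hKA : K ≤ A := sup_le (by rintro _ ⟨a, -, rfl⟩; exact a.2) hInnA
  -- `K` is normalized by `A`
  have hKn : ∀ a ∈ A, ∀ k ∈ K, a * k * a⁻¹ ∈ K := by
    intro a ha k hk
    have hle : K ≤ K.comap (MulAut.conj a).toMonoidHom := by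
      refine sup_le ?_ ?_
      · rintro _ ⟨r, hr, rfl⟩
        refine Subgroup.mem_sup_left ⟨⟨a, ha⟩ * r * ⟨a, ha⟩⁻¹, ?_, rfl⟩
        have hN : (pResidual p ↥A).Normal := ⟨fun n hn g => by
          refine (show pResidual p ↥A ≤ (pResidual p ↥A).comap (MulAut.conj g).toMonoidHom from
            (Subgroup.closure_le _).2 fun y hy => Subgroup.subset_closure ?_) hn
          show Nat.Coprime (orderOf ((MulAut.conj g).toMonoidHom y)) p
          rw [orderOf_injective _ (MulAut.conj g).injective]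
          exact hy⟩
        exact hN.conj_mem _ hr _
      · rintro _ ⟨g, rfl⟩
        refine Subgroup.mem_sup_right ⟨a g, ?_⟩
        apply MulEquiv.ext
        intro x
        simp
    exact hle hk
  haveI hKN : (K.subgroupOf A).Normal := ⟨fun k hk a => hKn a a.2 k hk⟩
  let Q := A ⧸ K.subgroupOf A
  -- `A / K` is a `p`-group
  have hQp : IsPGroup p Q := by
    intro q
    obtain ⟨a, rfl⟩ := QuotientGroup.mk_surjective q
    obtain ⟨k, m, hm, hkm⟩ := Nat.exists_eq_pow_mul_and_not_dvd (orderOf_pos a).ne' p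
      (Fact.out : p.Prime).ne_one
    refine ⟨k, ?_⟩
    rw [← QuotientGroup.mk_pow, QuotientGroup.eq_one_iff]
    refine Subgroup.mem_sup_left ⟨a ^ p ^ k, Subgroup.subset_closure ?_, rfl⟩
    show Nat.Coprime (orderOf (a ^ p ^ k)) p
    rw [orderOf_pow_of_dvd (pow_ne_zero _ (Fact.out : p.Prime).ne_zero) (hkm ▸ dvd_mul_right _ _),
      hkm, Nat.mul_div_cancel_left _ (pow_pos (Fact.out : p.Prime).pos _)]
    exact ((Fact.out : p.Prime).coprime_iff_not_dvd.2 hm).symm
  -- the action of `S` on `T`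
  have hex : ∀ s : S, ∃ α : A, ∀ t : T, (((α : MulAut T) t : T) : Ω) = s * t * (s : Ω)⁻¹ := by
    intro s
    obtain ⟨α, hα, he⟩ := H96.exists_autGroup_of_mem F (F.conj_mem hTS s.2) fun x =>
      H96.conj_mem_of_stronglyClosed hT s.2 x.2
    exact ⟨⟨α, hα⟩, he⟩
  choose c hc using hex
  let cH : S →* A := MonoidHom.mk' c fun a b => Subtype.ext (MulEquiv.ext fun t => Subtype.ext (by
    show ((c (a * b) : MulAut T) t : Ω) = ((c a : MulAut T) ((c b : MulAut T) t) : Ω)
    rw [hc, hc, hc]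
    simp [mul_assoc]))
  let ρ : S →* Q := (QuotientGroup.mk' _).comp cH
  have hρT : ∀ (d : Ω) (hd : d ∈ T), ρ ⟨d, hTS hd⟩ = 1 := by
    intro d hd
    show QuotientGroup.mk (c ⟨d, hTS hd⟩) = (1 : Q)
    rw [QuotientGroup.eq_one_iff]
    exact Subgroup.mem_sup_right (H96.mem_inn_iff.2 ⟨d, hd, hc _⟩)
  -- every map acts on `S → A/K` through an inner automorphism
  have hmap : ∀ (P : Subgroup Ω) (φ : P →* Ω) (hφ : φ ∈ F.Hom P), ∃ q : Q, ∀ u : P,
      ρ ⟨φ u, (F.le_of_mem hφ).2 u⟩ = q * ρ ⟨u, (F.le_of_mem hφ).1 u.2⟩ * q⁻¹ := by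
    intro P φ hφ
    obtain ⟨ψ, hψ, he⟩ := H94.exists_map_sup_congr hS hF hT hφ
    have hle : T ≤ P ⊔ T := le_sup_right
    obtain ⟨a, ha, hae⟩ := H96.exists_autGroup_of_mem F (H96.res_mem F hψ hle)
      fun x => H94.apply_mem_of_stronglyClosed hT hψ x.2
    refine ⟨QuotientGroup.mk (⟨a, ha⟩ : A), fun u => ?_⟩
    have h1 : ρ ⟨φ u, (F.le_of_mem hφ).2 u⟩ =
        ρ ⟨ψ (Subgroup.inclusion le_sup_left u), (F.le_of_mem hψ).2 _⟩ := by
      calc ρ ⟨φ u, (F.le_of_mem hφ).2 u⟩
          = ρ (⟨ψ (Subgroup.inclusion le_sup_left u), (F.le_of_mem hψ).2 _⟩ * ⟨_, hTS (he u)⟩) := by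
            congr 1; exact Subtype.ext (by simp)
        _ = _ := by rw [map_mul, hρT _ (he u), mul_one]
    rw [h1]
    show QuotientGroup.mk (c _) = QuotientGroup.mk (⟨a, ha⟩ : A) * QuotientGroup.mk (c _) *
      (QuotientGroup.mk (⟨a, ha⟩ : A) : Q)⁻¹
    rw [← QuotientGroup.mk_inv, ← QuotientGroup.mk_mul, ← QuotientGroup.mk_mul]
    congr 1
    apply Subtype.ext
    rw [Subgroup.coe_mul, Subgroup.coe_mul, Subgroup.coe_inv, eq_mul_inv_iff_mul_eq]
    apply MulEquiv.ext
    intro t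
    apply Subtype.ext
    show ((c _ : MulAut T) (a t) : Ω) = ((a ((c _ : MulAut T) t) : T) : Ω)
    rw [hc, hae, hae]
    simp only [H96.res_apply]
    rw [← map_inv, ← map_mul, ← map_mul]
    congr 1
    exact Subtype.ext (hc ⟨(u : Ω), (F.le_of_mem hφ).1 u.2⟩ t).symm
  -- so `O^p(Aut_F(P))` centralizes the image of `P`
  have hP : ∀ (P : Subgroup Ω) (hPS : P ≤ S), ∀ α ∈ pResidual p ↥(F.autGroup P), ∀ u : P,
      ρ ⟨(((α : MulAut P) u : P) : Ω), hPS ((α : MulAut P) u).2⟩ = ρ ⟨u, hPS u.2⟩ := by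
    intro P hPS α hα
    induction hα using Subgroup.closure_induction with
    | one => intro u; rfl
    | mul a b _ _ ha hb => intro u; exact (ha ((b : MulAut P) u)).trans (hb u)
    | inv a _ ha =>
      intro u
      have := ha ((a : MulAut P)⁻¹ u)
      simp only [show ((a : MulAut P)) ((a : MulAut P)⁻¹ u) = u from (a : MulAut P).apply_symm_apply u] at this
      exact this.symm
    | mem α hα =>
      have := H96.finite_of_le hPS
      obtain ⟨q, hq⟩ := hmap P _ ((H96.mem_autGroup F hPS).1 α.2)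
      have hit : ∀ (n : ℕ) (u : P), ρ ⟨((((α ^ n : F.autGroup P) : MulAut P) u : P) : Ω), hPS (Subtype.prop _)⟩ =
          q ^ n * ρ ⟨u, hPS u.2⟩ * (q ^ n)⁻¹ := by
        intro n
        induction n with
        | zero => intro u; simp
        | succ n ih =>
          intro u
          have h2 := hq (((α ^ n : F.autGroup P) : MulAut P) u)
          have h3 := ih u
          rw [pow_succ' q]
          calc _ = q * ρ ⟨_, hPS (Subtype.prop (((α ^ n : F.autGroup P) : MulAut P) u))⟩ * q⁻¹ := by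
                rw [← h2]; congr 1; apply Subtype.ext; simp [pow_succ']
            _ = _ := by rw [h3, mul_inv_rev]; simp only [mul_assoc]
      intro u
      obtain ⟨k, hk⟩ := hQp q
      have hcop : Nat.Coprime (orderOf α) (orderOf q) :=
        Nat.Coprime.coprime_dvd_right (orderOf_dvd_of_pow_eq_one hk) (Nat.Coprime.pow_right k hα)
      have h0 : ∀ w : P, Commute (q ^ orderOf α) (ρ ⟨w, hPS w.2⟩) := by
        intro w
        have := hit (orderOf α) w
        simp only [pow_orderOf_eq_one] at this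
        exact (eq_mul_inv_iff_mul_eq.1 this).symm
      have hmem : q ∈ Subgroup.zpowers (q ^ orderOf α) := by
        have hb := Nat.gcd_eq_gcd_ab (orderOf α) (orderOf q)
        rw [Nat.Coprime.gcd_eq_one hcop, Nat.cast_one] at hb
        refine ⟨Nat.gcdA (orderOf α) (orderOf q), ?_⟩
        show (q ^ orderOf α) ^ _ = q
        conv_rhs => rw [← zpow_one q, hb]
        rw [zpow_add, zpow_mul, zpow_mul, zpow_natCast, zpow_natCast, pow_orderOf_eq_one, one_zpow, mul_one]
      obtain ⟨i, hi⟩ := hmem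
      have h1 := hq u
      have hcq : Commute q (ρ ⟨u, hPS u.2⟩) := by
        rw [← hi]; exact (h0 u).zpow_left i
      calc _ = q * ρ ⟨u, hPS u.2⟩ * q⁻¹ := h1
        _ = _ := by rw [hcq.eq, mul_inv_cancel_right]
  -- the elements acting inside `K`
  let X : Subgroup Ω :=
    { carrier := {x | ∃ α ∈ K, ∀ t : T, ((α t : T) : Ω) = x * t * x⁻¹}
      mul_mem' := by
        rintro a b ⟨α, hα, ha⟩ ⟨β, hβ, hb⟩
        exact ⟨α * β, mul_mem hα hβ, fun t => by show ((α (β t) : T) : Ω) = _; rw [ha, hb]; group⟩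
      one_mem' := ⟨1, one_mem _, fun t => by simp⟩
      inv_mem' := by
        rintro a ⟨α, hα, ha⟩
        refine ⟨α⁻¹, inv_mem hα, fun t => ?_⟩
        have := ha (α⁻¹ t)
        rw [show α (α⁻¹ t) = t from α.apply_symm_apply t] at this
        rw [this]; group }
  show F.hyperfocalSubgroup p ≤ X
  refine (Subgroup.closure_le _).2 ?_
  rintro _ ⟨P, α, u, hPS, hα, rfl⟩
  set s : S := (⟨u, hPS u.2⟩ : S)⁻¹ * ⟨(((α : MulAut P) u : P) : Ω), hPS ((α : MulAut P) u).2⟩ with hs
  have h1 : ρ s = 1 := by rw [hs, map_mul, map_inv, hP P hPS α hα u, inv_mul_cancel]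
  have h2 : (c s : MulAut T) ∈ K :=
    Subgroup.mem_subgroupOf.1 ((QuotientGroup.eq_one_iff (N := K.subgroupOf A) (c s)).1 h1)
  exact ⟨_, h2, hc s⟩

end Cfsg.Agent.H95
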