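import Cfsg.Agent.H95.AxiomaticInner

/-!
The axiomatic Glauberman–Thompson criterion for saturated systems.
-/
set_option autoImplicit false

namespace Cfsg.Agent.H95

open Cfsg Cfsg.FusionSystem
open scoped commutatorElement

universe u

/-- The hypotheses on a family of abelian subgroups in a fusion system. -/
structure AxSystem {Ω : Type u} [Group Ω] {S : Subgroup Ω} (F : FusionSystem S) (𝒜 : Set (Subgroup Ω)) :
    Prop where
  /-- members are abelian subgroups of `S` -/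
  mem : ∀ A ∈ 𝒜, A ≤ S ∧ IsMulCommutative ↥A
  /-- the family is not empty -/
  nonempty : 𝒜.Nonempty
  /-- invariance -/
  inv : ∀ Q : Subgroup Ω, Q ≤ S → (∃ A ∈ 𝒜, A ≤ Q) → ∀ α ∈ F.autGroup Q, ∀ x : ↥Q,
    (x : Ω) ∈ famInf 𝒜 Q → (((α : MulAut ↥Q) x : ↥Q) : Ω) ∈ famInf 𝒜 Q
  /-- replacement -/
  repl : ∀ B : Subgroup Ω, B ≤ S → ⁅⁅B, B⁆, B⁆ = ⊥ → (∃ A ∈ 𝒜, ⁅B, B⁆ ≤ A ∧ ¬ B ≤ A) →
    ∃ A ∈ 𝒜, ⁅B, B⁆ ≤ A ∧ ¬ B ≤ A ∧ B ≤ Subgroup.normalizer (A : Set Ω)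

variable {Ω : Type u} [Group Ω] {S : Subgroup Ω} {𝒜 : Set (Subgroup Ω)}

theorem AxSystem.mono {F : FusionSystem S} (h : AxSystem F 𝒜) {E : FusionSystem S} (hE : E.IsSubsystemOf F) :
    AxSystem E 𝒜 := by
  refine ⟨h.mem, h.nonempty, fun Q hQ hA α hα => h.inv Q hQ hA α ?_, h.repl⟩
  exact (H96.mem_autGroup F hQ).2 (hE Q ((H96.mem_autGroup E hQ).1 hα))

theorem AxSystem.famInf_le {F : FusionSystem S} (h : AxSystem F 𝒜) : famInf 𝒜 S ≤ S := by
  obtain ⟨A, hA⟩ := h.nonempty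
  exact fun x hx => (h.mem A hA).1 (mem_famInf.1 hx A hA (h.mem A hA).1)

theorem AxSystem.le_normalizer {F : FusionSystem S} (h : AxSystem F 𝒜) :
    S ≤ Subgroup.normalizer (famInf 𝒜 S : Set Ω) := by
  have key : ∀ s ∈ S, ∀ x ∈ famInf 𝒜 S, s * x * s⁻¹ ∈ famInf 𝒜 S := by
    intro s hs x hx
    obtain ⟨k, hk, hke⟩ := H94.exists_autInducedBy hs (Subgroup.le_normalizer hs)
    obtain ⟨A, hA⟩ := h.nonempty
    have := h.inv S le_rfl ⟨A, hA, (h.mem A hA).1⟩ k (H96.autInducedBy_le_autGroup F le_rfl hk)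
      ⟨x, h.famInf_le hx⟩ hx
    rwa [hke] at this
  intro s hs
  refine Subgroup.mem_normalizer_iff.2 fun x => ⟨key s hs x, fun hx => ?_⟩
  simpa [mul_assoc] using key s⁻¹ (inv_mem hs) _ hx

section Realized

variable {L : Type u} [Group L] (ι : S →* L)

/-- The subgroup of `L` corresponding to a subgroup of `Ω`. -/
def pushSub (X : Subgroup Ω) : Subgroup L := (X.subgroupOf S).map ι

/-- The subgroup of `Ω` corresponding to a subgroup of `L`. -/
def pullSub (X : Subgroup L) : Subgroup Ω := (X.comap ι).map S.subtype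

variable {ι}

theorem pullSub_le (X : Subgroup L) : pullSub ι X ≤ S := Subgroup.map_subtype_le _

theorem pullSub_mono {X Y : Subgroup L} (h : X ≤ Y) : pullSub ι X ≤ pullSub ι Y :=
  Subgroup.map_mono (Subgroup.comap_mono h)

theorem pushSub_mono {X Y : Subgroup Ω} (h : X ≤ Y) : pushSub ι X ≤ pushSub ι Y :=
  Subgroup.map_mono (Subgroup.comap_mono h)

theorem pushSub_le (X : Subgroup Ω) : pushSub ι X ≤ ι.range := Subgroup.map_le_range ι _

theorem mem_pullSub {X : Subgroup L} {x : S} : (x : Ω) ∈ pullSub ι X ↔ ι x ∈ X :=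
  ⟨fun ⟨y, hy, he⟩ => (Subtype.ext he : y = x) ▸ hy, fun h => ⟨x, h, rfl⟩⟩

theorem mem_pushSub (hinj : Function.Injective ι) {X : Subgroup Ω} {x : S} :
    ι x ∈ pushSub ι X ↔ (x : Ω) ∈ X :=
  ⟨fun ⟨y, hy, he⟩ => hinj he ▸ hy, fun h => ⟨x, h, rfl⟩⟩

theorem pushSub_pullSub {X : Subgroup L} (hX : X ≤ ι.range) : pushSub ι (pullSub ι X) = X := by
  rw [pushSub, pullSub, Subgroup.subgroupOf,
    Subgroup.comap_map_eq_self_of_injective Subtype.val_injective, Subgroup.map_comap_eq_self hX]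

theorem pullSub_pushSub (hinj : Function.Injective ι) {X : Subgroup Ω} (hX : X ≤ S) :
    pullSub ι (pushSub ι X) = X := by
  rw [pushSub, pullSub, Subgroup.comap_map_eq_self_of_injective hinj,
    Subgroup.map_subgroupOf_eq_of_le hX]

theorem pullSub_commutator_le (hinj : Function.Injective ι) {X Y : Subgroup L} (hX : X ≤ ι.range)
    (hY : Y ≤ ι.range) : ⁅pullSub ι X, pullSub ι Y⁆ = pullSub ι ⁅X, Y⁆ := by
  rw [pullSub, pullSub, pullSub, ← Subgroup.map_commutator]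
  congr 1
  apply Subgroup.map_injective hinj
  rw [Subgroup.map_commutator, Subgroup.map_comap_eq_self hX, Subgroup.map_comap_eq_self hY,
    Subgroup.map_comap_eq_self ((Subgroup.commutator_mono hX hY).trans (Subgroup.commutator_le_self _))]

/-- The family carried to a group realizing the system. -/
theorem AxSystem.pushed [Finite S] {F : FusionSystem S} (h : AxSystem F 𝒜) (hι : F.IsRealizedBy ι) :
    AxFamily ι.range (pushSub ι '' 𝒜) := by
  have hinj := hι.1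
  have hinf : ∀ (Q : Subgroup L) (x : S), Q ≤ ι.range →
      (ι x ∈ famInf (pushSub ι '' 𝒜) Q ↔ (x : Ω) ∈ famInf 𝒜 (pullSub ι Q)) := by
    intro Q x hQ
    rw [mem_famInf, mem_famInf]
    constructor
    · intro hx A hA hAQ
      exact (mem_pushSub hinj).1 (hx _ ⟨A, hA, rfl⟩ ((pushSub_mono hAQ).trans (pushSub_pullSub hQ).le))
    · rintro hx _ ⟨A, hA, rfl⟩ hAQ
      exact (mem_pushSub hinj).2
        (hx A hA ((pullSub_pushSub hinj (h.mem A hA).1).ge.trans (pullSub_mono hAQ)))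
  refine ⟨?_, h.nonempty.image _, ?_, ?_⟩
  · rintro _ ⟨A, hA, rfl⟩
    refine ⟨pushSub_le A, ⟨⟨?_⟩⟩⟩
    rintro ⟨_, a, ha, rfl⟩ ⟨_, b, hb, rfl⟩
    refine Subtype.ext ?_
    show ι a * ι b = ι b * ι a
    rw [← map_mul, ← map_mul, show a * b = b * a from
      Subtype.ext (H35.commute_of_mem_isMulCommutative (h.mem A hA).2 ha hb)]
  · rintro Q hQ ⟨_, ⟨A, hA, rfl⟩, hAQ⟩ g hg x hx
    have hQ' : pullSub ι Q ≤ S := pullSub_le Q
    obtain ⟨xs, rfl⟩ : x ∈ ι.range :=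
      pushSub_le A (mem_famInf.1 hx _ ⟨A, hA, rfl⟩ hAQ)
    have hxA : ι xs ∈ Q := hAQ (mem_famInf.1 hx _ ⟨A, hA, rfl⟩ hAQ)
    have hex : ∀ y : pullSub ι Q, ∃ z : pullSub ι Q,
        ι ⟨z, hQ' z.2⟩ = g * ι ⟨y, hQ' y.2⟩ * g⁻¹ := by
      intro y
      have hy : ι ⟨y, hQ' y.2⟩ ∈ Q := mem_pullSub.1 y.2
      have h1 := (Subgroup.mem_normalizer_iff.1 hg _).1 hy
      obtain ⟨z, hz⟩ := hQ h1
      exact ⟨⟨z, mem_pullSub.2 (hz ▸ h1)⟩, hz⟩
    choose f hf using hex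
    let φ : pullSub ι Q →* Ω := (pullSub ι Q).subtype.comp (MonoidHom.mk' f fun a b =>
      Subtype.ext (congrArg (Subtype.val : S → Ω) (a₁ := ⟨_, hQ' (f (a * b)).2⟩)
        (a₂ := ⟨f a, hQ' (f a).2⟩ * ⟨f b, hQ' (f b).2⟩) (hinj (by
          rw [map_mul, hf, hf, hf, show (⟨((a * b : pullSub ι Q) : Ω), hQ' (a * b).2⟩ : S) =
            ⟨a, hQ' a.2⟩ * ⟨b, hQ' b.2⟩ from rfl, map_mul]
          group))))
    have hφ : φ ∈ F.Hom (pullSub ι Q) := (hι.2 _ hQ' φ fun y => hQ' (f y).2).2 ⟨g, hf⟩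
    obtain ⟨α, hα, hαe⟩ := H96.exists_autGroup_of_mem F hφ fun y => (f y).2
    have hxm : (xs : Ω) ∈ pullSub ι Q := mem_pullSub.2 hxA
    have h1 := h.inv _ hQ' ⟨A, hA, (pullSub_pushSub hinj (h.mem A hA).1).ge.trans (pullSub_mono hAQ)⟩
      α hα ⟨xs, hxm⟩ ((hinf Q xs hQ).1 hx)
    rw [hαe] at h1
    have h2 := (hinf Q ⟨_, hQ' (f ⟨xs, hxm⟩).2⟩ hQ).2 h1
    rwa [hf] at h2
  · rintro B hB hcl ⟨_, ⟨A, hA, rfl⟩, h1, h2⟩
    have hA' := pullSub_pushSub hinj (h.mem A hA).1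
    obtain ⟨A', hA'm, h3, h4, h5⟩ := h.repl (pullSub ι B) (pullSub_le B) (by
      rw [pullSub_commutator_le hinj hB hB, pullSub_commutator_le hinj
        ((Subgroup.commutator_mono hB hB).trans (Subgroup.commutator_le_self _)) hB, hcl, pullSub,
        MonoidHom.comap_bot, (MonoidHom.ker_eq_bot_iff ι).2 hinj, Subgroup.map_bot])
      ⟨A, hA, by rw [pullSub_commutator_le hinj hB hB]; exact (pullSub_mono h1).trans hA'.le,
        fun hle => h2 ((pushSub_pullSub hB).ge.trans (pushSub_mono hle))⟩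
    refine ⟨_, ⟨A', hA'm, rfl⟩, ?_, fun hle => h4 ((pullSub_mono hle).trans
      (pullSub_pushSub hinj (h.mem A' hA'm).1).le), fun b hb => ?_⟩
    · rw [pullSub_commutator_le hinj hB hB] at h3
      exact (pushSub_pullSub ((Subgroup.commutator_mono hB hB).trans
        (Subgroup.commutator_le_self _))).ge.trans (pushSub_mono h3)
    · obtain ⟨bs, rfl⟩ := hB hb
      have hb' := h5 (mem_pullSub.2 hb)
      have key : ∀ (c : S), (c : Ω) ∈ Subgroup.normalizer (A' : Set Ω) → ∀ y ∈ pushSub ι A',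
          ι c * y * (ι c)⁻¹ ∈ pushSub ι A' := by
        rintro c hc _ ⟨a, ha, rfl⟩
        rw [← map_inv, ← map_mul, ← map_mul]
        exact (mem_pushSub hinj).2 ((Subgroup.mem_normalizer_iff.1 hc _).1 ha)
      refine Subgroup.mem_normalizer_iff.2 fun y => ⟨key bs hb' y, fun hy => ?_⟩
      have := key bs⁻¹ (inv_mem hb') _ hy
      simpa [mul_assoc] using this

end Realized

variable {p : ℕ} [Fact p.Prime]

/-- The criterion in the constrained case. -/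
theorem AxSystem.le_inner_of_constrained (hp2 : p ≠ 2) [Finite S] (hS : IsPGroup p S) {F : FusionSystem S}
    (hF : F.IsSaturated p) (hA : AxSystem F 𝒜) (hQc : F.IsCentric F.core)
    (hN : ∀ (P : Subgroup Ω) (φ : P →* Ω), φ ∈ F.normalizerHom (famInf 𝒜 S) P →
      φ ∈ (innerFusionSystem S).Hom P) : F ≤ innerFusionSystem S := by
  obtain ⟨L, hL, ι, hfin, hι, ⟨T, hT⟩, hc⟩ :=
    S5090.result p hS F ⟨hF, F.core, H96.isNormal_core F, hQc⟩
  haveI := hfin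
  have hfam := hA.pushed hι
  rw [← hT] at hfam
  set Z := famInf 𝒜 S with hZ
  have hZS : Z ≤ S := hA.famInf_le
  have hZn : S ≤ Subgroup.normalizer (Z : Set Ω) := hA.le_normalizer
  set Z' := famInf (pushSub ι '' 𝒜) (T : Subgroup L) with hZ'
  have hZiff : ∀ x : S, ι x ∈ Z' ↔ (x : Ω) ∈ Z := by
    intro x
    rw [hZ', hZ, mem_famInf, mem_famInf]
    constructor
    · intro hx A hA' _
      exact (mem_pushSub hι.1).1 (hx _ ⟨A, hA', rfl⟩ ((pushSub_le A).trans hT.ge))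
    · rintro hx _ ⟨A, hA', rfl⟩ _
      exact (mem_pushSub hι.1).2 (hx A hA' (hA.mem A hA').1)
  have hOT : Cfsg.pCore p L ≤ ι.range := hT ▸ H19.pCore_le_sylow T
  have hNT : Subgroup.normalizer (Z' : Set L) ≤ (T : Subgroup L) := by
    intro g hg
    rw [hT]
    set D := pullSub ι (Cfsg.pCore p L) ⊔ Z with hD
    have hDS : D ≤ S := sup_le (pullSub_le _) hZS
    have hgmem : ∀ x : D, g * ι ⟨x, hDS x.2⟩ * g⁻¹ ∈ ι.range := by
      intro x
      have hle : D ≤ (ι.range.comap ((MulAut.conj g).toMonoidHom.comp ι)).map S.subtype := by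
        refine sup_le ?_ fun z hz => ⟨⟨z, hZS hz⟩, ?_, rfl⟩
        · rintro _ ⟨y, hy, rfl⟩
          exact ⟨y, hOT ((H19.pCore_normal p L).conj_mem _ hy g), rfl⟩
        · have h3 := (Subgroup.mem_normalizer_iff.1 hg _).1 ((hZiff ⟨z, hZS hz⟩).2 hz)
          exact hT ▸ hfam.famInf_le h3
      obtain ⟨y, hy, hyx⟩ := hle x.2
      rw [show y = (⟨x, hDS x.2⟩ : S) from Subtype.ext hyx] at hy
      exact hy
    choose f hf using hgmem
    let φ : D →* Ω := S.subtype.comp (MonoidHom.mk' f fun a b => hι.1 (by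
      rw [map_mul, hf, hf, hf, show (⟨((a * b : D) : Ω), hDS (a * b).2⟩ : S)
        = ⟨a, hDS a.2⟩ * ⟨b, hDS b.2⟩ from rfl, map_mul]
      group))
    have hφ : φ ∈ F.Hom D := (hι.2 D hDS φ fun x => (f x).2).2 ⟨g, hf⟩
    have hφN : φ ∈ F.normalizerHom Z D := by
      have hle : D ⊔ Z ≤ D := sup_le le_rfl le_sup_right
      refine ⟨hφ, fun x hx => ⟨hDS hx, hZn (hDS hx)⟩, fun x => ⟨(f x).2, hZn (f x).2⟩,
        H96.res φ hle, H96.res_mem F hφ hle, fun x => rfl, ?_⟩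
      rw [H96.map_subgroupOf_eq_range _ le_sup_right]
      have := H96.finite_of_le hZS
      refine H96.range_eq_of_forall_mem F (H96.res_mem F (H96.res_mem F hφ hle) _) fun x => ?_
      refine (hZiff _).1 ?_
      show ι (f _) ∈ Z'
      rw [hf]
      exact (Subgroup.mem_normalizer_iff.1 hg _).1 ((hZiff _).2 x.2)
    obtain ⟨-, s, hs, hse⟩ := hN D φ hφN
    have hcen : (ι ⟨s, hs⟩)⁻¹ * g ∈ Subgroup.centralizer ((Cfsg.pCore p L : Subgroup L) : Set L) := by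
      refine Subgroup.mem_centralizer_iff.2 fun z hz => ?_
      obtain ⟨y, rfl⟩ := hOT hz
      have hyD : (y : Ω) ∈ D := Subgroup.mem_sup_left (mem_pullSub.2 hz)
      have h5 : f ⟨y, hyD⟩ = ⟨s, hs⟩ * y * ⟨s, hs⟩⁻¹ := Subtype.ext (hse ⟨y, hyD⟩)
      have h6 := hf ⟨y, hyD⟩
      rw [h5, map_mul, map_mul, map_inv] at h6
      calc ι y * ((ι ⟨s, hs⟩)⁻¹ * g) = (ι ⟨s, hs⟩)⁻¹ * (ι ⟨s, hs⟩ * ι y * (ι ⟨s, hs⟩)⁻¹) * g := by group
        _ = (ι ⟨s, hs⟩)⁻¹ * (g * ι y * g⁻¹) * g := by rw [h6]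
        _ = (ι ⟨s, hs⟩)⁻¹ * g * ι y := by group
    have := ι.range.mul_mem (show ι ⟨s, hs⟩ ∈ ι.range from ⟨_, rfl⟩) (hOT (hc hcen))
    simpa using this
  have htop := AxFamily.top_le hp2 _ L rfl T _ hfam hc hNT
  rw [hT] at htop
  intro P φ hφ
  obtain ⟨hP, hφS⟩ := F.le_of_mem hφ
  obtain ⟨g, hg⟩ := (hι.2 P hP φ hφS).1 hφ
  obtain ⟨s, rfl⟩ : g ∈ ι.range := htop (Subgroup.mem_top g)
  refine ⟨hP, s, s.2, fun x => ?_⟩
  have h7 := hg x
  rw [← map_inv, ← map_mul, ← map_mul] at h7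
  exact congrArg Subtype.val (hι.1 h7)

/-- The axiomatic criterion. -/
theorem AxSystem.le_inner (hp2 : p ≠ 2) [Finite S] (hS : IsPGroup p S) {F : FusionSystem S}
    (hF : F.IsSaturated p) (hA : AxSystem F 𝒜)
    (hN : ∀ (P : Subgroup Ω) (φ : P →* Ω), φ ∈ F.normalizerHom (famInf 𝒜 S) P →
      φ ∈ (innerFusionSystem S).Hom P) : F ≤ innerFusionSystem S := by
  suffices H : ∀ (n : ℕ) (F : FusionSystem S), (mapGraphs F).ncard = n → F.IsSaturated p → AxSystem F 𝒜 →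
      (∀ (P : Subgroup Ω) (φ : P →* Ω), φ ∈ F.normalizerHom (famInf 𝒜 S) P →
        φ ∈ (innerFusionSystem S).Hom P) → F ≤ innerFusionSystem S from H _ F rfl hF hA hN
  intro n
  induction n using Nat.strong_induction_on with
  | _ n ih =>
  intro F hn hF hA hN
  refine le_inner_of_proper hp2 hS hF ?_ fun hc => hA.le_inner_of_constrained hp2 hS hF hc hN
  rintro T N hNF rfl hNs hproper P φ hφ
  refine ih _ (hn ▸ ncard_mapGraphs_lt hNF hproper) N rfl hNs (hA.mono hNF) ?_ P hφ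
  rintro D χ ⟨hχ, hD, hv, ψ, hψ, h1, h2⟩
  exact hN D χ ⟨hNF D hχ, hD, hv, ψ, hNF _ hψ, h1, h2⟩

end Cfsg.Agent.H95
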