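import Cfsg.Agent.H95.InnerThompson
import Cfsg.Agent.H95.AxiomaticFamily

/-!
Inner systems for odd `p`: it suffices that the proper subsystems over `S` and the constrained case are inner; the
axiomatic form of the Glauberman–Thompson criterion.
-/
set_option autoImplicit false

namespace Cfsg.Agent.H95

open Cfsg Cfsg.FusionSystem
open scoped commutatorElement

universe u

variable {Ω : Type u} [Group Ω] {S : Subgroup Ω} {p : ℕ} [Fact p.Prime]

/-- For odd `p` a saturated system is inner when its proper saturated subsystems over `S` are, unless its core is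
centric. -/
theorem le_inner_of_proper (hp2 : p ≠ 2) [Finite S] (hS : IsPGroup p S) {F : FusionSystem S}
    (hF : F.IsSaturated p)
    (hsub : ∀ (T : Subgroup Ω) (N : FusionSystem T), N.IsSubsystemOf F → T = S → N.IsSaturated p →
      (∃ (P : Subgroup Ω) (φ : P →* Ω), φ ∈ F.Hom P ∧ φ ∉ N.Hom P) →
      ∀ (P : Subgroup Ω) (φ : P →* Ω), φ ∈ N.Hom P → φ ∈ (innerFusionSystem S).Hom P)
    (hcore : F.IsCentric F.core → F ≤ innerFusionSystem S) : F ≤ innerFusionSystem S := by
  set Q := F.core with hQdef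
  have hQ : F.IsNormal Q := H96.isNormal_core F
  by_cases hQc : F.IsCentric Q
  · exact hcore hQc
  by_cases hQ1 : Q = ⊥
  · refine le_of_normalizers hS hF (innerFusionSystem S) fun X hX hX1 big src P φ hφ => ?_
    set T := normalizerIn S X with hTdef
    set N : FusionSystem T := H93.normalizerSystem F X hX.1 with hNdef
    have hNF : N.IsSubsystemOf F := fun P φ h => h.1
    have hproper : ∃ (P : Subgroup Ω) (φ : P →* Ω), φ ∈ F.Hom P ∧ φ ∉ N.Hom P :=
      (proper_normalizerSystem_or_isNormal F hX.1).resolve_left fun h =>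
        hX1 (eq_bot_iff.2 ((le_sSup h : X ≤ F.core).trans hQ1.le))
    have hTS : T ≤ S := inf_le_left
    have hTfin : Finite T := H96.finite_of_le hTS
    have hTp : IsPGroup p T := hS.to_le hTS
    have hNs : N.IsSaturated p := H93.IsNormalizerSystem.isSaturated hS hF hX fun P => rfl
    rcases eq_or_ne T S with heq | hne
    · exact hsub T N hNF heq hNs hproper P φ hφ
    suffices hNN : ∀ (P : Subgroup Ω) (φ : P →* Ω),
        φ ∈ N.normalizerHom (Cfsg.centerThompsonAOf T) P → φ ∈ (innerFusionSystem T).Hom P by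
      obtain ⟨hP, g, hg, hge⟩ := le_inner_of_centerThompsonA hp2 hTp hNs hNN P hφ
      exact ⟨hP.trans hTS, g, hTS hg, hge⟩
    intro P φ hφ
    obtain ⟨hφN, -, -, ψ, hψ, h1, h2⟩ := hφ
    obtain ⟨hψF, hψdom, hψval, χ, hχ, h3, h4⟩ := hψ
    obtain ⟨hPT, -⟩ := N.le_of_mem hφN
    have hXT : X ≤ T := le_inf hX.1 Subgroup.le_normalizer
    have hDT : (P ⊔ (Cfsg.centerThompsonAOf T)) ⊔ X ≤ T := sup_le hψdom hXT
    have hchiT : ∀ x, χ x ∈ T := fun x =>
      sup_le le_rfl hXT (H93.extension_apply_mem h3 h4 hψval x)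
    have hchiW : H93.imgIn χ ((Cfsg.centerThompsonAOf T)) = (Cfsg.centerThompsonAOf T) := by
      rw [H93.imgIn_eq_range_restrict χ (le_sup_of_le_left le_sup_right)]
      refine H96.range_eq_of_forall_mem F (H96.res_mem F hχ (le_sup_of_le_left le_sup_right)) fun x => ?_
      show χ (Subgroup.inclusion le_sup_left (Subgroup.inclusion le_sup_right x)) ∈ (Cfsg.centerThompsonAOf T)
      rw [h3]
      exact h2.le ⟨_, x.2, rfl⟩
    have hT1 : T ≠ ⊥ := fun h0 => hX1 (eq_bot_iff.2 (hXT.trans h0.le))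
    obtain ⟨-, g, hg, hge⟩ := centerThompsonA_isPFunctor.mem_of_stable hS hF (innerFusionSystem S) (lt_of_le_of_ne hTS hne) hT1
      big src (le_sup_of_le_left le_sup_right : (Cfsg.centerThompsonAOf T) ≤ (P ⊔ (Cfsg.centerThompsonAOf T)) ⊔ X) hDT hχ hchiT hchiW
    refine ⟨hPT, g, ⟨hg, ?_⟩, fun x => ?_⟩
    · have := H96.finite_of_le hX.1
      refine H94.mem_normalizer_of_forall_conj_mem fun r hr => ?_
      rw [← hge ⟨r, Subgroup.mem_sup_right hr⟩]
      exact h4.le ⟨_, hr, rfl⟩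
    · rw [← h1 x, ← h3 (Subgroup.inclusion le_sup_left x)]
      exact hge _

  have hQn : S ≤ Subgroup.normalizer (Q : Set Ω) :=
    (H93.Models.le_normalizerIn_self hQ).trans inf_le_right
  rcases proper_innerOnSystem_or F hQ.1 hQn with hproper | hAut
  · set R := Q ⊔ centralizerIn S Q with hRdef
    have hRS : R ≤ S := sup_le hQ.1 inf_le_left
    have hRn : S ≤ Subgroup.normalizer (R : Set Ω) := le_normalizer_sup_centralizerIn hQn
    have hTR : normalizerIn S R = S := le_antisymm inf_le_left (le_inf le_rfl hRn)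
    have hRfn : F.IsFullyNormalized R := ⟨hRS, fun R' _ => by
      rw [hTR]; exact Subgroup.card_le_of_le inf_le_left⟩
    have hNproper : ∃ (P : Subgroup Ω) (φ : P →* Ω), φ ∈ F.Hom P ∧ φ ∉ (H93.normalizerSystem F R hRS).Hom P := by
      refine (proper_normalizerSystem_or_isNormal F hRS).resolve_left fun h => hQc ?_
      have hCQ : centralizerIn S Q ≤ Q := le_sup_right.trans (le_sSup h : R ≤ F.core)
      exact ⟨hQ.1, fun Q' hQ' => by rw [H96.eq_of_isConj_normal hQ hQ']; exact hCQ⟩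
    exact le_of_frattini hS hF hQ _
      (fun P φ hφ => hsub _ (H93.normalizerSystem F R hRS) (fun P φ h => h.1) hTR
        (H93.IsNormalizerSystem.isSaturated hS hF hRfn fun P => rfl) hNproper P φ hφ)
      (fun P hQP φ hφ hfix => hsub _ (innerOnSystem F Q hQ.1 hQn) (fun P φ h => h.1) rfl
        (innerOnSystem_isSaturated hS hF hQ hQn) hproper P φ (mem_innerOnSystem_of_fix hQ.1 hQn hQP hφ hfix))
  · exfalso
    haveI : (Q.subgroupOf S).Normal := ⟨fun x hx g => Subgroup.mem_subgroupOf.2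
      ((Subgroup.mem_normalizer_iff.1 (hQn g.2) _).1 (Subgroup.mem_subgroupOf.1 hx))⟩
    set θ := QuotientGroup.mk' (Q.subgroupOf S) with hθdef
    have hQsc := H93.IsNormal.stronglyClosed hQ
    set S' := (⊤ : Subgroup (S ⧸ Q.subgroupOf S)) with hS'def
    obtain ⟨D, hD⟩ := H94.exists_factorSystem (S' := S') F Q hQsc θ
      (fun s => by simp [hθdef, Subgroup.mem_subgroupOf]) (QuotientGroup.range_mk' _)
    obtain ⟨-, hker, hrange, hiff⟩ := id hD
    have hDp : IsPGroup p S' :=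
      (hS.of_surjective _ (QuotientGroup.mk'_surjective (Q.subgroupOf S))).to_subgroup _
    have hS'1 : S' ≠ ⊥ := by
      intro h0
      refine hQc ⟨hQ.1, fun Q' hQ' => ?_⟩
      rw [H96.eq_of_isConj_normal hQ hQ']
      intro x hx
      have h1 : θ ⟨x, hx.1⟩ ∈ (⊥ : Subgroup (S ⧸ Q.subgroupOf S)) := h0 ▸ Subgroup.mem_top _
      exact Subgroup.mem_subgroupOf.1 ((QuotientGroup.eq_one_iff _).1 (Subgroup.mem_bot.1 h1))
    set W' := Cfsg.centerThompsonAOf S' with hW'def
    have hW'S : W' ≤ S' := le_top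
    have hW'n : S' ≤ Subgroup.normalizer (W' : Set (S ⧸ Q.subgroupOf S)) := centerThompsonA_isPFunctor.le_normalizer hDp
    have hW'1 : W' ≠ ⊥ := centerThompsonA_isPFunctor.ne_bot _ _ inferInstance hDp hS'1
    set Y := preimageAlong θ W' with hYdef
    have hYS : Y ≤ S := H94.preimageAlong_le
    have hQY : Q ≤ Y := H94.le_preimageAlong hQsc hker W'
    have hYn : S ≤ Subgroup.normalizer (Y : Set Ω) := by
      have key : ∀ s ∈ S, ∀ y ∈ Y, s * y * s⁻¹ ∈ Y := by
        intro s hs y hy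
        obtain ⟨hyS, hyW⟩ := H94.mem_preimageAlong.mp hy
        refine H94.mem_preimageAlong.mpr ⟨S.mul_mem (S.mul_mem hs hyS) (S.inv_mem hs), ?_⟩
        show θ (⟨s, hs⟩ * ⟨y, hyS⟩ * ⟨s, hs⟩⁻¹) ∈ W'
        rw [map_mul, map_mul, map_inv]
        exact (Subgroup.mem_normalizer_iff.1 (hW'n (Subgroup.mem_top _)) _).1 hyW
      intro s hs
      rw [Subgroup.mem_normalizer_iff]
      refine fun y => ⟨key s hs y, fun hy => ?_⟩
      simpa [mul_assoc] using key s⁻¹ (S.inv_mem hs) _ hy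
    have hTY : normalizerIn S Y = S := le_antisymm inf_le_left (le_inf le_rfl hYn)
    have hYfn : F.IsFullyNormalized Y := ⟨hYS, fun R' _ => by
      rw [hTY]; exact Subgroup.card_le_of_le inf_le_left⟩
    have hYproper : ∃ (P : Subgroup Ω) (φ : P →* Ω), φ ∈ F.Hom P ∧ φ ∉ (H93.normalizerSystem F Y hYS).Hom P := by
      refine (proper_normalizerSystem_or_isNormal F hYS).resolve_left fun h => hW'1 ?_
      refine eq_bot_iff.2 fun y hy => ?_
      obtain ⟨x, hxS, hxY, rfl⟩ := H94.exists_lift_preimageAlong hrange hW'S ⟨y, hy⟩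
      rw [Subgroup.mem_bot]
      exact (hker _).2 ((le_sSup h : Y ≤ F.core) hxY)
    have hDi : D ≤ innerFusionSystem S' := by
      refine le_inner_of_centerThompsonA hp2 hDp (H94.factor_isSaturated hS hF hQsc hD) ?_
      rintro P' φ' ⟨hφ', -, -, ψ', hψ', h1, h2⟩
      obtain ⟨-, ψ, hψ, hψdom, hψv, hψm, hind⟩ := (hiff _ ψ').mp hψ'
      have hYle : Y ≤ preimageAlong θ (P' ⊔ W') := Subgroup.map_mono (Subgroup.comap_mono le_sup_right)
      have hψN : ψ ∈ (H93.normalizerSystem F Y hYS).Hom (preimageAlong θ (P' ⊔ W')) := by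
        have hle : preimageAlong θ (P' ⊔ W') ⊔ Y ≤ preimageAlong θ (P' ⊔ W') := sup_le le_rfl hYle
        refine ⟨hψ, fun x hx => ⟨hψdom hx, hYn (hψdom hx)⟩, fun x => ⟨hψv x, hYn (hψv x)⟩,
          H96.res ψ hle, H96.res_mem F hψ hle, fun x => rfl, ?_⟩
        rw [H96.map_subgroupOf_eq_range _ le_sup_right]
        have := H96.finite_of_le hYS
        refine H96.range_eq_of_forall_mem F (H96.res_mem F (H96.res_mem F hψ hle) _) fun x => ?_
        obtain ⟨hxS, hxW⟩ := H94.mem_preimageAlong.mp x.2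
        refine H94.mem_preimageAlong.mpr ⟨hψv _, ?_⟩
        exact Eq.subst (motive := fun z => z ∈ W') (hind ⟨(x : Ω), hYle x.2⟩) (h2.le ⟨_, hxW, rfl⟩)
      obtain ⟨-, s, hs, hse⟩ := hsub _ (H93.normalizerSystem F Y hYS) (fun P φ h => h.1) hTY
        (H93.IsNormalizerSystem.isSaturated hS hF hYfn fun P => rfl) hYproper _ ψ hψN
      refine ⟨le_top, θ ⟨s, hs⟩, Subgroup.mem_top _, fun y => ?_⟩
      obtain ⟨x, hxS, hxP, hxy⟩ := H94.exists_lift_preimageAlong hrange (le_top : P' ≤ S') y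
      have hx' : x ∈ preimageAlong θ (P' ⊔ W') := Subgroup.map_mono (Subgroup.comap_mono le_sup_left) hxP
      rw [← h1 y, ← hxy, ← map_inv, ← map_mul, ← map_mul,
        show Subgroup.inclusion le_sup_left y = ⟨θ ⟨x, hψdom hx'⟩, hψm ⟨x, hx'⟩⟩ from Subtype.ext hxy.symm,
        hind ⟨x, hx'⟩]
      exact congrArg θ (Subtype.ext (hse ⟨x, hx'⟩))
    refine core_lt_contradiction hS hF hAut hD ⟨W', ⟨hW'S, fun P φ hφ => ?_⟩, hW'1⟩
    obtain ⟨-, g, hg, hge⟩ := hDi P hφ
    refine ⟨conjHom (P ⊔ W') g, D.conj_mem le_top hg, fun x => (hge x).symm, ?_⟩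
    exact map_conjHom_eq (hW'n hg)

end Cfsg.Agent.H95
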