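import Cfsg.Agent.H95.CenterControl
import Cfsg.Agent.H95.QdNormal
import Cfsg.Agent.H61.Weak

/-!
Functors controlling the centre: the local centre condition and the quadratic element condition.
-/
set_option autoImplicit false

namespace Cfsg.Agent.H95

open Cfsg Cfsg.FusionSystem

universe u

variable {p : ℕ} [Fact p.Prime]

/-- The centre of a subgroup inside the group. -/
theorem map_center_eq {G : Type u} [Group G] (P : Subgroup G) :
    (Subgroup.center P).map P.subtype = P ⊓ Subgroup.centralizer (P : Set G) := by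
  ext x
  constructor
  · rintro ⟨y, hy, rfl⟩
    exact ⟨y.2, Subgroup.mem_centralizer_iff.2 fun z hz =>
      congrArg Subtype.val (Subgroup.mem_center_iff.1 hy ⟨z, hz⟩)⟩
  · rintro ⟨hx, hc⟩
    exact ⟨⟨x, hx⟩, Subgroup.mem_center_iff.2 fun z =>
      Subtype.ext (Subgroup.mem_centralizer_iff.1 hc z z.2), rfl⟩

/-- A functor containing centres. -/
theorem typeFamily_center_le (W : ∀ (Q : Type u) [Group Q], Subgroup Q)
    (hWZ : ∀ (Q : Type u) [Group Q] [Finite Q], IsPGroup p Q → Subgroup.center Q ≤ W Q)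
    (G : Type u) [Group G] (P : Subgroup G) (hf : Finite P) (hP : IsPGroup p P) :
    P ⊓ Subgroup.centralizer (P : Set G) ≤ typeFamily W G P := by
  rw [← map_center_eq]
  exact Subgroup.map_mono (hWZ P hP)

variable {W : ∀ (G : Type u) [Group G], Subgroup G → Subgroup G} {Ω : Type u} [Group Ω] {S : Subgroup Ω}

/-- A central element of the normalizer system of `W(S)` lies in `Z(S)` and is fixed by its maps. -/
theorem center_normalizerSystem_spec [Finite S] (hW : IsPFunctor p W) (hS : IsPGroup p S) {F : FusionSystem S}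
    {N : FusionSystem (normalizerIn S (W Ω S))} (hN : F.IsNormalizerSystem (W Ω S) N) {z : Ω}
    (hz : z ∈ N.center) :
    z ∈ S ⊓ Subgroup.centralizer (S : Set Ω) ∧
      ∀ (D : Subgroup Ω) (φ : D →* Ω), φ ∈ F.normalizerHom (W Ω S) D → ∀ h : z ∈ D, φ ⟨z, h⟩ = z := by
  have hle : S ≤ normalizerIn S (W Ω S) := le_inf le_rfl (hW.le_normalizer hS)
  have := H96.finite_of_le (S := S) (P := normalizerIn S (W Ω S)) inf_le_left
  have h := H96.center_le N hz
  refine ⟨⟨h.1.1, Subgroup.centralizer_le (SetLike.coe_subset_coe.2 hle) h.2⟩, fun D φ hφ hzD => ?_⟩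
  rw [← hN D] at hφ
  exact H96.apply_center N hφ (x := ⟨z, hzD⟩) hz

/-- The centre of a system is central in the normalizer system of a subgroup normalized by `S`. -/
theorem center_le_center_normalizerSystem [Finite S] (hW : IsPFunctor p W) (hS : IsPGroup p S)
    {F : FusionSystem S} {N : FusionSystem (normalizerIn S (W Ω S))}
    (hN : F.IsNormalizerSystem (W Ω S) N) : F.center ≤ N.center := by
  have hWS : W Ω S ≤ S := hW.le Ω S inferInstance hS
  have hle : S ≤ normalizerIn S (W Ω S) := le_inf le_rfl (hW.le_normalizer hS)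
  have hZ := H96.isCentral_center F
  have hcen : N.IsCentral F.center := by
    refine ⟨hZ.1.trans hle, fun P φ hφ => ?_⟩
    rw [hN P] at hφ
    obtain ⟨-, hP, -, ψ, hψ, h1, h2⟩ := hφ
    obtain ⟨χ, hχ, h3, h4⟩ := hZ.2 _ ψ hψ
    have hle1 : P ⊔ F.center ≤ (P ⊔ W Ω S) ⊔ F.center := sup_le_sup_right le_sup_left _
    have hle2 : (P ⊔ F.center) ⊔ W Ω S ≤ (P ⊔ W Ω S) ⊔ F.center :=
      sup_le hle1 (le_sup_of_le_left le_sup_right)
    refine ⟨H96.res χ hle1, ?_, fun x => ?_, fun x => h4 x⟩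
    · rw [hN]
      refine ⟨H96.res_mem F hχ hle1, sup_le hP (hZ.1.trans hle), fun x => hle ((F.le_of_mem hχ).2 _),
        H96.res χ hle2, H96.res_mem F hχ hle2, fun x => rfl, ?_⟩
      rw [H96.map_subgroupOf_eq_range _ le_sup_right]
      have := H96.finite_of_le hWS
      refine H96.range_eq_of_forall_mem F (H96.res_mem F (H96.res_mem F hχ hle2) _) fun x => ?_
      show χ (Subgroup.inclusion le_sup_left (Subgroup.inclusion le_sup_right x)) ∈ W Ω S
      rw [h3]
      exact h2.le ⟨_, x.2, rfl⟩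
    · rw [← h1 x, ← h3]
      rfl
  exact le_sSup hcen

/-- The local centre condition gives control of the centre. -/
theorem center_eq_of_local (hW : IsPFunctor p W)
    (hWZ : ∀ (G : Type u) [Group G] (P : Subgroup G), Finite P → IsPGroup p P →
      P ⊓ Subgroup.centralizer (P : Set G) ≤ W G P)
    (hloc : ∀ (L : Type u) [Group L] [Finite L] (T : Sylow p L) (v : L),
      Subgroup.centralizer ((Cfsg.pCore p L : Subgroup L) : Set L) ≤ Cfsg.pCore p L →
      v ∈ Cfsg.pCore p L → v ∈ (T : Subgroup L) ⊓ Subgroup.centralizer ((T : Subgroup L) : Set L) →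
      (∀ g ∈ Subgroup.normalizer (W L (T : Subgroup L) : Set L), g * v * g⁻¹ = v) →
      ∀ g : L, g * v * g⁻¹ = v)
    [Finite S] (hS : IsPGroup p S) {F : FusionSystem S} (hF : F.IsSaturated p)
    {N : FusionSystem (normalizerIn S (W Ω S))} (hN : F.IsNormalizerSystem (W Ω S) N) :
    N.center = F.center := by
  refine le_antisymm (fun z hz => ?_) (center_le_center_normalizerSystem hW hS hN)
  obtain ⟨hzS, hfix⟩ := center_normalizerSystem_spec hW hS hN hz
  refine mem_center_of_fixed hS hF hzS ?_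
  have := hW.apply_eq_self hS hF hWZ hzS (k := 1)
    (fun L _ _ T v h1 h2 h3 h4 => by
      simp only [pow_one] at h4 ⊢
      exact hloc L T v h1 h2 h3 h4)
    (by simpa only [pow_one] using hfix)
  simpa only [pow_one] using this

/-- A closure of `p`-th powers of a central subgroup consists of `p`-th powers. -/
theorem exists_pow_of_mem_closure {G : Type u} [Group G] {Z : Subgroup G}
    (hZ : ∀ a ∈ Z, ∀ b ∈ Z, a * b = b * a) {k : ℕ} {z : G}
    (hz : z ∈ Subgroup.closure ((fun x => x ^ k) '' (Z : Set G))) : ∃ y ∈ Z, z = y ^ k := by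
  induction hz using Subgroup.closure_induction with
  | mem x hx =>
    obtain ⟨y, hy, rfl⟩ := hx
    exact ⟨y, hy, rfl⟩
  | one => exact ⟨1, Z.one_mem, (one_pow k).symm⟩
  | mul a b _ _ ha hb =>
    obtain ⟨y, hy, rfl⟩ := ha
    obtain ⟨w, hw, rfl⟩ := hb
    exact ⟨y * w, Z.mul_mem hy hw, ((show Commute y w from hZ y hy w hw).mul_pow k).symm⟩
  | inv a _ ha =>
    obtain ⟨y, hy, rfl⟩ := ha
    exact ⟨y⁻¹, Z.inv_mem hy, (inv_pow y k).symm⟩

/-- The quadratic element condition gives control of the `p`-th powers of `Z(S)`. -/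
theorem pow_center_le_of_quadratic (hW : IsPFunctor p W)
    (hWZ : ∀ (G : Type u) [Group G] (P : Subgroup G), Finite P → IsPGroup p P →
      P ⊓ Subgroup.centralizer (P : Set G) ≤ W G P)
    (hquad : ∀ (L : Type u) [Group L] [Finite L] (T : Sylow p L), ¬ (W L (T : Subgroup L)).Normal →
      ∃ g : L, g ∈ (T : Subgroup L) ∧ g ∉ Cfsg.pCore p L ∧
        ⁅⁅Cfsg.pCore p L ⊓ Subgroup.centralizer ((Cfsg.pCore p L : Subgroup L) : Set L),
          Subgroup.zpowers g⁆, Subgroup.zpowers g⁆ = ⊥)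
    [Finite S] (hS : IsPGroup p S) {F : FusionSystem S} (hF : F.IsSaturated p)
    {N : FusionSystem (normalizerIn S (W Ω S))} (hN : F.IsNormalizerSystem (W Ω S) N) :
    Subgroup.closure ((fun z => z ^ p) '' ((S ⊓ Subgroup.centralizer (S : Set Ω) : Subgroup Ω) : Set Ω)) ⊓
      N.center ≤ F.center := by
  rintro z ⟨hzc, hzN⟩
  obtain ⟨y, hy, rfl⟩ := exists_pow_of_mem_closure (Z := S ⊓ Subgroup.centralizer (S : Set Ω))
    (fun a ha b hb => (Subgroup.mem_centralizer_iff.1 hb.2 a ha.1)) hzc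
  obtain ⟨hzS, hfix⟩ := center_normalizerSystem_spec hW hS hN hzN
  refine mem_center_of_fixed hS hF hzS (hW.apply_eq_self hS hF hWZ hy ?_ hfix)
  intro L _ _ T v hc hvO hvT hfix' g
  have hOn : (Cfsg.pCore p L).Normal := H19.pCore_normal p L
  have hconj : IsConjugacyFunctor p (W L) := fun P hP =>
    ⟨hW.le L P inferInstance hP, hW.ne_bot L P inferInstance hP,
      fun x => (hW.map L L _ P inferInstance hP (MulAut.conj x).injective.injOn).symm⟩
  refine (H61.powers_weaklyClosed T hconj (fun P hP => hWZ L P inferInstance hP) ?_ rfl).1 (v ^ p)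
    ⟨Subgroup.subset_closure ⟨v, hvT, rfl⟩, Subgroup.mem_centralizer_iff.2 fun x hx => ?_⟩ g
    (H19.pCore_le_sylow T (hOn.conj_mem _ (Subgroup.pow_mem _ hvO p) g))
  · intro H P hPH hnot
    obtain ⟨hPle, hPp, hPidx⟩ := hPH
    have hP' : IsPGroup p (P.subgroupOf H) :=
      IsPGroup.of_equiv hPp (Subgroup.subgroupOfEquivOfLe hPle).symm
    set T' : Sylow p H := hP'.toSylow hPidx with hT'
    have hT'c : (T' : Subgroup H) = P.subgroupOf H := IsPGroup.toSylow_coe _ _
    have hWP : (W H (T' : Subgroup H)).map H.subtype = W L P := by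
      rw [hW.map H L _ _ inferInstance T'.isPGroup' Subtype.val_injective.injOn, hT'c,
        Subgroup.subgroupOf_map_subtype, inf_eq_left.2 hPle]
    have hnn : ¬ (W H (T' : Subgroup H)).Normal := by
      intro hn
      refine hnot ?_
      rw [← hWP]
      intro x hx
      rw [Subgroup.mem_normalizer_iff]
      intro w
      constructor
      · rintro ⟨a, ha, rfl⟩
        exact ⟨⟨x, hx⟩ * a * ⟨x, hx⟩⁻¹, hn.conj_mem a ha _, rfl⟩
      · rintro ⟨a, ha, hae⟩
        refine ⟨⟨x, hx⟩⁻¹ * a * ⟨x, hx⟩, by simpa using hn.conj_mem a ha ⟨x, hx⟩⁻¹, ?_⟩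
        show x⁻¹ * (a : L) * x = w
        rw [show (a : L) = x * w * x⁻¹ from hae]
        group
    obtain ⟨a, haP, haO, hcomm⟩ := hquad H T' hnn
    refine ⟨(a : L), ?_, fun ⟨b, hb, hba⟩ => haO (Subtype.ext hba ▸ hb), ?_⟩
    · rw [hT'c] at haP
      exact haP
    · have hO : Cfsg.pCoreOf p H ⊓ Subgroup.centralizer ((Cfsg.pCoreOf p H : Subgroup L) : Set L) =
          (Cfsg.pCore p H ⊓ Subgroup.centralizer ((Cfsg.pCore p H : Subgroup H) : Set H)).map H.subtype := by
        ext w
        constructor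
        · rintro ⟨⟨b, hb, rfl⟩, hw⟩
          exact ⟨b, ⟨hb, Subgroup.mem_centralizer_iff.2 fun c hc =>
            Subtype.ext (Subgroup.mem_centralizer_iff.1 hw c ⟨c, hc, rfl⟩)⟩, rfl⟩
        · rintro ⟨b, ⟨hb, hb'⟩, rfl⟩
          refine ⟨⟨b, hb, rfl⟩, Subgroup.mem_centralizer_iff.2 ?_⟩
          rintro _ ⟨c, hc, rfl⟩
          exact congrArg Subtype.val (Subgroup.mem_centralizer_iff.1 hb' c hc)
      have hzp : Subgroup.zpowers (a : L) = (Subgroup.zpowers a).map H.subtype :=
        (MonoidHom.map_zpowers H.subtype a).symm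
      rw [hO, hzp, ← Subgroup.map_commutator, ← Subgroup.map_commutator, hcomm, Subgroup.map_bot]
  · have := hfix' x hx
    rw [mul_inv_eq_iff_eq_mul] at this
    exact this

end Cfsg.Agent.H95
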