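import Cfsg.Agent.H95.CenterSquareBase

/-!
Saturated systems without normal subgroups over groups whose centre has index at most `p²`.
-/
set_option autoImplicit false

namespace Cfsg.Agent.H95

open Cfsg
open scoped commutatorElement

variable {Ω : Type*} [Group Ω] {S : Subgroup Ω} [Finite S] {p : ℕ} [Fact p.Prime] {F : FusionSystem S}

/-- No nontrivial normal subgroup. -/
theorem eq_bot_of_isNormal (hcore : F.core = ⊥) {N : Subgroup Ω} (hN : F.IsNormal N) : N = ⊥ :=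
  eq_bot_iff.2 ((le_sSup hN : N ≤ F.core).trans hcore.le)

/-- Automorphisms of `S` preserve the centre. -/
theorem aut_top_centre {δ : MulAut S} {w : S} (hw : (w : Ω) ∈ S ⊓ Subgroup.centralizer (S : Set Ω)) :
    ((δ w : S) : Ω) ∈ S ⊓ Subgroup.centralizer (S : Set Ω) := by
  refine mem_centre.2 ⟨(δ w).2, fun s hs => ?_⟩
  have h2 : δ.symm ⟨s, hs⟩ * w = w * δ.symm ⟨s, hs⟩ :=
    Subtype.ext ((mem_centre.1 hw).2 _ (δ.symm ⟨s, hs⟩).2)
  have h3 := congrArg δ h2
  rw [map_mul, map_mul, MulEquiv.apply_symm_apply] at h3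
  exact congrArg Subtype.val h3

/-- The data exist. -/
theorem exists_centerSq (hS : IsPGroup p S) (hF : F.IsSaturated p) (hS1 : S ≠ ⊥) (hcore : F.core = ⊥)
    (hZ : (Subgroup.center ↥S).index ≤ p ^ 2) : ∃ z, CenterSq S p z := by
  have hp : p.Prime := Fact.out
  have hna : ¬ ∀ a ∈ S, ∀ b ∈ S, a * b = b * a := fun h =>
    hS1 (eq_bot_of_isNormal hcore (H93.isNormal_of_stronglyClosed_abelian hS hF
      ⟨le_rfl, fun R _ φ hφ x => (F.le_of_mem hφ).2 x⟩ h))
  have hnc : ¬ IsCyclic (S ⧸ Subgroup.center S) := by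
    intro hc
    apply hna
    intro a ha b hb
    exact congrArg Subtype.val (commutative_of_cyclic_center_quotient (QuotientGroup.mk' (Subgroup.center S))
      (QuotientGroup.ker_mk' _).le (⟨a, ha⟩ : S) ⟨b, hb⟩)
  obtain ⟨k, hk⟩ := (hS.to_quotient (Subgroup.center S)).exists_card_eq
  rw [← Subgroup.index_eq_card] at hk
  have hk2 : k = 2 := by
    rw [hk, Nat.pow_le_pow_iff_right hp.one_lt] at hZ
    by_contra hne
    refine hnc (isCyclic_of_card_dvd_prime (p := p) ?_)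
    rw [← Subgroup.index_eq_card, hk]
    calc p ^ k ∣ p ^ 1 := Nat.pow_dvd_pow p (by omega)
      _ = p := pow_one p
  subst hk2
  have hpowZ : ∀ x : S, x ^ p ∈ Subgroup.center S := by
    intro x
    rw [← QuotientGroup.eq_one_iff, QuotientGroup.mk_pow]
    have hd : orderOf (x : S ⧸ Subgroup.center S) ∣ p ^ 2 := by
      rw [← hk, Subgroup.index_eq_card]; exact orderOf_dvd_natCard _
    obtain ⟨i, hi, hio⟩ := (Nat.dvd_prime_pow hp).1 hd
    rw [← orderOf_dvd_iff_pow_eq_one, hio]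
    rcases (show i ≤ 1 ∨ i = 2 by omega) with h | rfl
    · calc p ^ i ∣ p ^ 1 := Nat.pow_dvd_pow p h
        _ = p := pow_one p
    · exact absurd (isCyclic_of_orderOf_eq_card _ (hio.trans (by rw [← hk, Subgroup.index_eq_card]))) hnc
  push Not at hna
  obtain ⟨a, ha, b, hb, hab⟩ := hna
  set A : S := ⟨a, ha⟩
  set B : S := ⟨b, hb⟩
  have hab' : A * B ≠ B * A := fun h => hab (congrArg Subtype.val h)
  -- `S = Z⟨a, b⟩`
  set Zc := Subgroup.center S
  have hgen : Zc ⊔ Subgroup.zpowers A ⊔ Subgroup.zpowers B = ⊤ := by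
    have hA : A ∉ Zc := fun h => hab' ((Subgroup.mem_center_iff.1 h B).symm)
    have hB : B ∉ Zc ⊔ Subgroup.zpowers A := by
      intro h
      have hle : Zc ⊔ Subgroup.zpowers A ≤ Subgroup.centralizer ({A} : Set S) :=
        sup_le (fun w hw => Subgroup.mem_centralizer_singleton_iff.2 (Subgroup.mem_center_iff.1 hw A).symm)
          (Subgroup.zpowers_le.2 (Subgroup.mem_centralizer_singleton_iff.2 rfl))
      exact hab' ((Subgroup.mem_centralizer_singleton_iff.1 (hle h)).symm)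
    have h1 : Zc < Zc ⊔ Subgroup.zpowers A :=
      lt_of_le_of_ne le_sup_left fun e => hA (e.ge (Subgroup.mem_sup_right (Subgroup.mem_zpowers A)))
    have h2 : Zc ⊔ Subgroup.zpowers A < Zc ⊔ Subgroup.zpowers A ⊔ Subgroup.zpowers B :=
      lt_of_le_of_ne le_sup_left fun e => hB (e.ge (Subgroup.mem_sup_right (Subgroup.mem_zpowers B)))
    have step : ∀ H K : Subgroup S, H < K → ∃ i, 1 ≤ i ∧ K.index * p ^ i = H.index := by
      intro H K hHK
      have h3 := Subgroup.relIndex_mul_index hHK.le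
      obtain ⟨n, hn⟩ := hS.index H
      have hd : H.relIndex K ∣ p ^ n := hn ▸ ⟨_, h3.symm⟩
      obtain ⟨i, -, hi⟩ := (Nat.dvd_prime_pow hp).1 hd
      refine ⟨i, Nat.pos_of_ne_zero fun h0 => ?_, by rw [← hi, mul_comm]; exact h3⟩
      rw [h0, pow_zero, Subgroup.relIndex_eq_one] at hi
      exact hHK.not_ge hi
    obtain ⟨i, hi, hi'⟩ := step _ _ h1
    obtain ⟨j, hj, hj'⟩ := step _ _ h2
    rw [← hj', hk, mul_assoc, ← pow_add] at hi'
    rw [← Subgroup.index_eq_one]
    have hp2 : p ^ 2 ≤ p ^ (j + i) := Nat.pow_le_pow_right hp.pos (by omega)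
    have hpos : 0 < p ^ 2 := pow_pos hp.pos 2
    rcases Nat.eq_zero_or_pos (Zc ⊔ Subgroup.zpowers A ⊔ Subgroup.zpowers B).index with h0 | h0
    · rw [h0, zero_mul] at hi'; omega
    · by_contra hne
      have : 2 * p ^ (j + i) ≤ (Zc ⊔ Subgroup.zpowers A ⊔ Subgroup.zpowers B).index * p ^ (j + i) :=
        Nat.mul_le_mul_right _ (by omega)
      omega
  set c := ⁅A, B⁆ with hc
  have hcc : c ∈ Subgroup.center S := by
    rw [← QuotientGroup.eq_one_iff, ← QuotientGroup.mk'_apply, hc, map_commutatorElement,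
      commutatorElement_eq_one_iff_mul_comm]
    have hcard : Nat.card (S ⧸ Subgroup.center S) = p ^ 2 := by rw [← Subgroup.index_eq_card, hk]
    exact IsPGroup.commutative_of_card_eq_prime_sq hcard _ _
  haveI hcn : (Subgroup.zpowers c).Normal := ⟨fun x hx g => by
    have := Subgroup.zpowers_le.2 hcc hx
    rw [Subgroup.mem_center_iff.1 this g, mul_inv_cancel_right]
    exact hx⟩
  set q := QuotientGroup.mk' (Subgroup.zpowers c)
  have hqc : ∀ x y : S, q x * q y = q y * q x := by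
    have hAB : q A * q B = q B * q A := by
      rw [← commutatorElement_eq_one_iff_mul_comm, ← map_commutatorElement]
      exact (QuotientGroup.eq_one_iff _).2 (Subgroup.mem_zpowers c)
    have hK : ∀ y : S, (q A * q y = q y * q A ∧ q B * q y = q y * q B) → ∀ x : S, q x * q y = q y * q x := by
      intro y hy x
      have hle : Zc ⊔ Subgroup.zpowers A ⊔ Subgroup.zpowers B ≤
          (Subgroup.centralizer ({q y} : Set (S ⧸ Subgroup.zpowers c))).comap q :=
        sup_le (sup_le (fun w hw => Subgroup.mem_centralizer_singleton_iff.2 (by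
            rw [← map_mul, ← map_mul, Subgroup.mem_center_iff.1 hw y]))
          (Subgroup.zpowers_le.2 (Subgroup.mem_centralizer_singleton_iff.2 hy.1)))
          (Subgroup.zpowers_le.2 (Subgroup.mem_centralizer_singleton_iff.2 hy.2))
      exact Subgroup.mem_centralizer_singleton_iff.1 (hle (hgen.ge (Subgroup.mem_top x)))
    intro x y
    exact hK y ⟨(hK A ⟨rfl, hAB.symm⟩ y).symm, (hK B ⟨hAB, rfl⟩ y).symm⟩ x
  refine ⟨(c : Ω), mem_centre.2 ⟨c.2, fun s hs => congrArg Subtype.val (Subgroup.mem_center_iff.1 hcc ⟨s, hs⟩)⟩,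
    fun h => hab' ?_, ?_, fun x hx y hy => ?_, ?_⟩
  · exact commutatorElement_eq_one_iff_mul_comm.1 (Subtype.ext h : c = 1)
  · have key : ∀ n : ℕ, A ^ n * B * (A ^ n)⁻¹ = c ^ n * B := by
      intro n
      induction n with
      | zero => simp
      | succ n ih =>
        rw [pow_succ', show A * A ^ n * B * (A * A ^ n)⁻¹ = A * (A ^ n * B * (A ^ n)⁻¹) * A⁻¹ by group, ih,
          ← mul_assoc A, Subgroup.mem_center_iff.1 (pow_mem hcc n) A, pow_succ, hc, commutatorElement_def]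
        group
    have h1 := key p
    rw [← Subgroup.mem_center_iff.1 (hpowZ A) B, mul_inv_cancel_right] at h1
    exact congrArg Subtype.val (mul_eq_right.1 h1.symm)
  · have h1 : ⁅(⟨x, hx⟩ : S), ⟨y, hy⟩⁆ ∈ Subgroup.zpowers c := by
      rw [← QuotientGroup.eq_one_iff, ← QuotientGroup.mk'_apply, map_commutatorElement,
        commutatorElement_eq_one_iff_mul_comm]
      exact hqc _ _
    obtain ⟨i, hi⟩ := h1
    exact ⟨i, by rw [← Subgroup.coe_zpow]; exact (congrArg Subtype.val hi).symm⟩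
  · have h1 := (Subgroup.center S).index_mul_card
    rw [hk, ← Subgroup.card_map_of_injective (K := Subgroup.center S) S.subtype_injective] at h1
    rw [← h1, show (Subgroup.center S).map S.subtype = S ⊓ Subgroup.centralizer (S : Set Ω) from ?_]
    ext x
    simp only [Subgroup.mem_map, Subgroup.coe_subtype, Subgroup.mem_center_iff]
    constructor
    · rintro ⟨w, hw, rfl⟩
      exact mem_centre.2 ⟨w.2, fun s hs => congrArg Subtype.val (hw ⟨s, hs⟩)⟩
    · intro hx
      exact ⟨⟨x, (mem_centre.1 hx).1⟩, fun s => Subtype.ext ((mem_centre.1 hx).2 s s.2), rfl⟩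

/-- A proper centric radical fully normalized subgroup. -/
def IsPlaneSub (F : FusionSystem S) (p : ℕ) (U : Subgroup Ω) : Prop :=
  F.IsFullyNormalized U ∧ F.IsCentric U ∧ F.IsRadical p U ∧ U ≠ S

variable {z : Ω}

/-- A subgroup of the centre invariant in `S` and in all plane subgroups is normal. -/
theorem isNormal_of_invariant (h : CenterSq S p z) (hS : IsPGroup p S) (hF : F.IsSaturated p) {N : Subgroup Ω}
    (hN : N ≤ S ⊓ Subgroup.centralizer (S : Set Ω))
    (hT : ∀ δ ∈ F.autGroup S, ∀ w : S, (w : Ω) ∈ N → ((δ w : S) : Ω) ∈ N)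
    (hU : ∀ U, IsPlaneSub F p U → ∀ α ∈ F.autGroup U, ∀ x : U, (x : Ω) ∈ N → ((α x : U) : Ω) ∈ N) :
    F.IsNormal N := by
  refine H93.isNormal_of_centric_radical hS hF (hN.trans inf_le_left) fun U h1 h2 h3 => ?_
  by_cases e : U = S
  · subst e
    exact ⟨hN.trans inf_le_left, hT⟩
  · exact ⟨hN.trans (h.centric_spec hS h2 e).1, hU U ⟨h1, h2, h3, e⟩⟩

theorem IsPlaneSub.exists_data {U : Subgroup Ω} (hU : IsPlaneSub F p U) (h : CenterSq S p z)
    (hS : IsPGroup p S) (hF : F.IsSaturated p) :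
    ∃ (zu : U) (t : MulAut U), (zu : Ω) = z ∧ PlaneData F p U zu t := by
  obtain ⟨t, ht⟩ := h.planeData hS hF hU.1 hU.2.1 hU.2.2.1 hU.2.2.2
    (zu := ⟨z, (h.centric_spec hS hU.2.1 hU.2.2.2).1 h.mem⟩) rfl
  exact ⟨_, t, rfl, ht⟩

/-- The centre has exponent `p` when the core is trivial. -/
theorem CenterSq.pow_centre (h : CenterSq S p z) (hS : IsPGroup p S) (hF : F.IsSaturated p)
    (hcore : F.core = ⊥) : ∀ w ∈ S ⊓ Subgroup.centralizer (S : Set Ω), w ^ p = 1 := by
  set Z := S ⊓ Subgroup.centralizer (S : Set Ω) with hZ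
  have hcom : ∀ a ∈ Z, ∀ b ∈ Z, Commute a b := fun a ha b hb => ((mem_centre.1 hb).2 a ha.1)
  let N : Subgroup Ω :=
    { carrier := {x | ∃ w ∈ Z, w ^ p = x}
      one_mem' := ⟨1, Z.one_mem, one_pow p⟩
      mul_mem' := by
        rintro _ _ ⟨a, ha, rfl⟩ ⟨b, hb, rfl⟩
        exact ⟨a * b, Z.mul_mem ha hb, (hcom a ha b hb).mul_pow p⟩
      inv_mem' := by
        rintro _ ⟨a, ha, rfl⟩
        exact ⟨a⁻¹, Z.inv_mem ha, inv_pow a p⟩ }
  have hN : F.IsNormal N := by
    refine isNormal_of_invariant h hS hF (by rintro _ ⟨w, hw, rfl⟩; exact Z.pow_mem hw p) ?_ ?_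
    · rintro δ - w ⟨a, ha, hae⟩
      refine ⟨((δ ⟨a, ha.1⟩ : S) : Ω), aut_top_centre ha, ?_⟩
      rw [show w = (⟨a, ha.1⟩ : S) ^ p from Subtype.ext (by simpa using hae.symm), map_pow]
      simp
    · intro U hU α hα x ⟨a, ha, hae⟩
      obtain ⟨zu, t, hzu, d⟩ := hU.exists_data h hS hF
      obtain ⟨τ, hτA, hτ⟩ := d.moved
      have hUS := hU.2.1.1
      have haU : a ∈ U := (h.centric_spec hS hU.2.1 hU.2.2.2).1 ha
      obtain ⟨i, j, w, hw, hw1, hw2⟩ := d.decomp h hzu hUS hτA hτ (α ⟨a, haU⟩)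
      refine ⟨(w : Ω), (d.fix_centre hw1 hw2).1, ?_⟩
      letI : CommGroup U := { (inferInstance : Group U) with mul_comm := d.comm }
      have hzp : zu ^ p = 1 := Subtype.ext (by rw [SubmonoidClass.coe_pow, hzu, h.pow]; rfl)
      have hi : ∀ (y : U) (k : ℤ), y ^ p = 1 → (y ^ k) ^ p = 1 := fun y k hy => by
        rw [← zpow_natCast, ← zpow_mul, mul_comm, zpow_mul, zpow_natCast, hy, one_zpow]
      rw [show x = (⟨a, haU⟩ : U) ^ p from Subtype.ext (by simpa using hae.symm), map_pow, hw, mul_pow, mul_pow,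
        hi _ i hzp, hi _ j (by rw [← map_pow, hzp, map_one]), one_mul, one_mul, SubmonoidClass.coe_pow]
  have hN1 := eq_bot_of_isNormal hcore hN
  intro w hw
  exact Subgroup.mem_bot.1 (hN1.le ⟨w, hw, rfl⟩)

/-- Plane subgroups are elementary abelian. -/
theorem IsPlaneSub.pow {U : Subgroup Ω} (hU : IsPlaneSub F p U) (h : CenterSq S p z)
    (hS : IsPGroup p S) (hF : F.IsSaturated p) (hcore : F.core = ⊥) : ∀ x ∈ U, x ^ p = 1 := by
  intro x hx
  obtain ⟨zu, t, hzu, d⟩ := hU.exists_data h hS hF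
  obtain ⟨τ, hτA, hτ⟩ := d.moved
  obtain ⟨i, j, w, hw, hw1, hw2⟩ := d.decomp h hzu hU.2.1.1 hτA hτ ⟨x, hx⟩
  letI : CommGroup U := { (inferInstance : Group U) with mul_comm := d.comm }
  have hzp : zu ^ p = 1 := Subtype.ext (by rw [SubmonoidClass.coe_pow, hzu, h.pow]; rfl)
  have hi : ∀ (y : U) (k : ℤ), y ^ p = 1 → (y ^ k) ^ p = 1 := fun y k hy => by
    rw [← zpow_natCast, ← zpow_mul, mul_comm, zpow_mul, zpow_natCast, hy, one_zpow]
  have hwp : w ^ p = 1 := Subtype.ext (by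
    rw [SubmonoidClass.coe_pow]; exact h.pow_centre hS hF hcore _ (d.fix_centre hw1 hw2).1)
  have h1 : (⟨x, hx⟩ : U) ^ p = 1 := by
    rw [hw, mul_pow, mul_pow, hi _ i hzp, hi _ j (by rw [← map_pow, hzp, map_one]), hwp, one_mul, one_mul]
  simpa using congrArg Subtype.val h1

/-- An elementary abelian subgroup of index `p` above the centre. -/
def IsElemMax (S : Subgroup Ω) (p : ℕ) (U : Subgroup Ω) : Prop :=
  U ≤ S ∧ S ⊓ Subgroup.centralizer (S : Set Ω) ≤ U ∧ (∀ a ∈ U, ∀ b ∈ U, a * b = b * a) ∧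
    (∀ x ∈ U, x ^ p = 1) ∧ Nat.card U = p * Nat.card ↥(S ⊓ Subgroup.centralizer (S : Set Ω))

theorem IsPlaneSub.isElemMax {U : Subgroup Ω} (hU : IsPlaneSub F p U) (h : CenterSq S p z)
    (hS : IsPGroup p S) (hF : F.IsSaturated p) (hcore : F.core = ⊥) : IsElemMax S p U := by
  obtain ⟨h1, h2, h3⟩ := h.centric_spec hS hU.2.1 hU.2.2.2
  exact ⟨hU.2.1.1, h1, h2, hU.pow h hS hF hcore, h3⟩

/-- Two plane subgroups, or one and a conjugate of it under an automorphism of `S`. -/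
theorem exists_second (h : CenterSq S p z) (hS : IsPGroup p S) (hF : F.IsSaturated p) (hcore : F.core = ⊥) :
    ∃ U, IsPlaneSub F p U ∧ ((∃ V, IsPlaneSub F p V ∧ V ≠ U) ∨
      ∃ δ ∈ F.autGroup S, ∃ V, IsElemMax S p V ∧ V ≠ U ∧ ∀ w : S, (w : Ω) ∈ U → ((δ w : S) : Ω) ∈ V) := by
  have hS1 : S ≠ ⊥ := fun e => h.ne_one (Subgroup.mem_bot.1 (e ▸ h.mem_S))
  obtain ⟨U, hU⟩ : ∃ U, IsPlaneSub F p U := by
    by_contra hno
    push Not at hno
    refine hS1 (eq_bot_of_isNormal hcore (H93.isNormal_of_centric_radical hS hF le_rfl fun U h1 h2 h3 => ?_))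
    have e : U = S := by
      by_contra e
      exact hno U ⟨h1, h2, h3, e⟩
    subst e
    exact ⟨le_rfl, fun α _ x _ => (α x).2⟩
  refine ⟨U, hU, ?_⟩
  by_contra hno
  push Not at hno
  obtain ⟨hno1, hno2⟩ := hno
  obtain ⟨hUS, hUZ, hUc, hUp, hUcard⟩ := hU.isElemMax h hS hF hcore
  have hUne : U ≠ ⊥ := fun e => h.ne_one (Subgroup.mem_bot.1 (e ▸ hUZ h.mem))
  refine hUne (eq_bot_of_isNormal hcore (H93.isNormal_of_centric_radical hS hF hUS fun W h1 h2 h3 => ?_))
  by_cases e : W = S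
  · subst e
    refine ⟨hUS, fun δ hδ w hw => ?_⟩
    by_contra hout
    set V : Subgroup Ω := ((U.subgroupOf W).map δ.toMonoidHom).map W.subtype with hV
    have hmem : ∀ w : W, (w : Ω) ∈ U → ((δ w : W) : Ω) ∈ V := fun w hw => ⟨_, ⟨w, hw, rfl⟩, rfl⟩
    have hne : V ≠ U := fun hVU => hout (hVU ▸ hmem w hw)
    suffices hel : IsElemMax W p V by
      obtain ⟨w', hw', hw''⟩ := hno2 δ hδ V hel hne
      exact hw'' (hmem w' hw')
    refine ⟨Subgroup.map_subtype_le _, fun x hx => ?_, ?_, ?_, ?_⟩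
    · refine ⟨⟨x, hx.1⟩, ⟨δ⁻¹ ⟨x, hx.1⟩, hUZ (aut_top_centre hx), δ.apply_symm_apply _⟩, rfl⟩
    · rintro _ ⟨_, ⟨a, ha, rfl⟩, rfl⟩ _ ⟨_, ⟨b, hb, rfl⟩, rfl⟩
      rw [← map_mul, ← map_mul, ← map_mul, ← map_mul, show a * b = b * a from Subtype.ext (hUc a ha b hb)]
    · rintro _ ⟨_, ⟨a, ha, rfl⟩, rfl⟩
      rw [← map_pow, ← map_pow, show a ^ p = 1 from Subtype.ext (by simpa using hUp a ha), map_one, map_one]
    · rw [hV, Subgroup.card_map_of_injective W.subtype_injective, Subgroup.card_map_of_injective δ.injective,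
        Nat.card_congr (Subgroup.subgroupOfEquivOfLe hUS).toEquiv, hUcard]
  · have hWU : W = U := hno1 W ⟨h1, h2, h3, e⟩
    subst hWU
    exact ⟨le_rfl, fun α _ x _ => (α x).2⟩

/-- Two elementary abelian maximal subgroups meet in the centre. -/
theorem IsElemMax.inf_eq {U V : Subgroup Ω} (hU : IsElemMax S p U) (hV : IsElemMax S p V) (hne : V ≠ U) :
    U ⊓ V = S ⊓ Subgroup.centralizer (S : Set Ω) := by
  have hp : p.Prime := Fact.out
  set Z := S ⊓ Subgroup.centralizer (S : Set Ω)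
  have hle : Z ≤ U ⊓ V := le_inf hU.2.1 hV.2.1
  have := H96.finite_of_le hU.1
  have := H96.finite_of_le (inf_le_left.trans hU.1 : U ⊓ V ≤ S)
  refine (Subgroup.eq_of_le_of_card_ge hle ?_).symm
  have hd := Subgroup.card_dvd_of_le (inf_le_left : U ⊓ V ≤ U)
  obtain ⟨l, hl⟩ := Subgroup.card_dvd_of_le hle
  rw [hl, hU.2.2.2.2, mul_comm p] at hd
  have := H96.finite_of_le (inf_le_left : Z ≤ S)
  rcases (Nat.dvd_prime hp).1 (Nat.dvd_of_mul_dvd_mul_left Nat.card_pos hd) with rfl | hlp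
  · rw [hl, mul_one]
  · exfalso
    have h1 : U ⊓ V = U := Subgroup.eq_of_le_of_card_ge inf_le_left (by rw [hl, hlp, hU.2.2.2.2, mul_comm])
    have := H96.finite_of_le hV.1
    exact hne (Subgroup.eq_of_le_of_card_ge (inf_eq_left.1 h1) (by rw [hU.2.2.2.2, hV.2.2.2.2])).symm

/-- Two elementary abelian maximal subgroups generate `S`. -/
theorem IsElemMax.exists_mul (h : CenterSq S p z) {U V : Subgroup Ω} (hU : IsElemMax S p U)
    (hV : IsElemMax S p V) (hne : V ≠ U) {x : Ω} (hx : x ∈ S) : ∃ a ∈ U, ∃ b ∈ V, x = a * b := by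
  have hp : p.Prime := Fact.out
  have := H96.finite_of_le hV.1
  have hn : U ≤ Subgroup.normalizer (V : Set Ω) := fun a ha =>
    H94.mem_normalizer_of_forall_conj_mem (fun r hr => by
      obtain ⟨i, hi⟩ := h.comm a (hU.1 ha) r (hV.1 hr)
      rw [show a * r * a⁻¹ = (a * r * a⁻¹ * r⁻¹) * r by group, hi]
      exact V.mul_mem (hV.2.1 (h.zpow_central i)) hr)
  have hle : U ⊔ V ≤ S := sup_le hU.1 hV.1
  have := H96.finite_of_le hle
  have hlt : U < U ⊔ V := lt_of_le_of_ne le_sup_left fun e => hne (by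
    have := H96.finite_of_le hU.1
    exact Subgroup.eq_of_le_of_card_ge (e ▸ le_sup_right) (by rw [hU.2.2.2.2, hV.2.2.2.2]))
  have hd := Subgroup.card_dvd_of_le hle
  obtain ⟨l, hl⟩ := Subgroup.card_dvd_of_le hlt.le
  rw [hl, h.card, hU.2.2.2.2, mul_assoc, show p ^ 2 * Nat.card ↥(S ⊓ Subgroup.centralizer (S : Set Ω)) =
    p * (Nat.card ↥(S ⊓ Subgroup.centralizer (S : Set Ω)) * p) by ring] at hd
  have := H96.finite_of_le (inf_le_left : S ⊓ Subgroup.centralizer (S : Set Ω) ≤ S)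
  have heq : U ⊔ V = S := by
    refine Subgroup.eq_of_le_of_card_ge hle ?_
    rcases (Nat.dvd_prime hp).1 (Nat.dvd_of_mul_dvd_mul_left Nat.card_pos
      (Nat.dvd_of_mul_dvd_mul_left hp.pos hd)) with rfl | hlp
    · exact absurd (Subgroup.eq_of_le_of_card_ge hlt.le (by rw [hl, mul_one])) hlt.ne
    · rw [hl, hlp, h.card, hU.2.2.2.2]; exact le_of_eq (by ring)
  rw [← heq, ← SetLike.mem_coe, Subgroup.coe_mul_of_left_le_normalizer_right U V hn] at hx
  obtain ⟨a, ha, b, hb, hab⟩ := hx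
  exact ⟨a, ha, b, hb, hab.symm⟩

/-- The common fixed points of two conjugates of `t`. -/
theorem closure_fix {U : Subgroup Ω} {a b : MulAut U} {w : U} (ha : a w = w) (hb : b w = w) {γ : MulAut U}
    (hγ : γ ∈ Subgroup.closure ({a, b} : Set (MulAut U))) : γ w = w := by
  induction hγ using Subgroup.closure_induction with
  | mem x hx => rcases hx with rfl | rfl <;> assumption
  | one => rfl
  | mul x y _ _ h1 h2 => rw [MulAut.mul_apply, h2, h1]
  | inv x _ h1 => exact x.symm_apply_eq.2 h1.symm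

variable {U : Subgroup Ω} {zu : U} {t : MulAut U}

/-- An automorphism normalizing what `S` induces extends to `S`. -/
theorem PlaneData.exists_ext (d : PlaneData F p U zu t) (hS : IsPGroup p S) (hF : F.IsSaturated p)
    (h : CenterSq S p z) (hU : IsPlaneSub F p U) {β : MulAut U} (hβA : β ∈ F.autGroup U)
    (hβ : β * t * β⁻¹ ∈ autInducedBy S U) :
    ∃ δ ∈ F.autGroup S, ∀ v : U, ((δ ⟨v, hU.2.1.1 v.2⟩ : S) : Ω) = ((β v : U) : Ω) := by
  have hUS := hU.2.1.1
  obtain ⟨-, hrec⟩ := H94.fullyNormalized_spec hS hF hU.1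
  have := H96.finite_of_le hUS
  have hUn : S ≤ Subgroup.normalizer (U : Set Ω) := fun a ha =>
    H94.mem_normalizer_of_forall_conj_mem fun r hr => by
      obtain ⟨i, hi⟩ := h.comm a ha r (hUS hr)
      rw [show a * r * a⁻¹ = (a * r * a⁻¹ * r⁻¹) * r by group, hi]
      exact U.mul_mem ((h.centric_spec hS hU.2.1 hU.2.2.2).1 (h.zpow_central i)) hr
  have hβF := (H96.mem_autGroup F hUS).1 hβA
  obtain ⟨χ, hχ, hχe⟩ := hrec.2 U _ hβF (H96.range_eq_of_forall_mem F hβF fun x => (β x).2)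
  have hSE : S ≤ FusionSystem.extender S U (U.subtype.comp β.toMonoidHom) := by
    intro s hs
    obtain ⟨γ, hγ, hγe⟩ := H94.exists_autInducedBy hs (hUn hs)
    obtain ⟨k, rfl⟩ := d.gen γ hγ
    refine H94.mem_extender_of_conj hs (hUn hs) hγe ?_
    rw [← conj_zpow]
    exact zpow_mem hβ k
  obtain ⟨δ, hδ, hδe⟩ := H96.exists_autGroup_of_mem F (H96.res_mem F hχ hSE)
    (fun x => (F.le_of_mem hχ).2 _)
  refine ⟨δ, hδ, fun v => ?_⟩
  rw [hδe, H96.res_apply]
  exact hχe v v.2 (hSE (hUS v.2))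

end Cfsg.Agent.H95
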