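import Cfsg.Agent.H95.GenExtraNormal
import Cfsg.Agent.H93.Normal

/-!
Saturated systems over groups whose centre has index `p²`: the automizers of the proper centric radical subgroups are
generated by transvections of a common plane.
-/
set_option autoImplicit false

namespace Cfsg.Agent.H95

open Cfsg
open scoped commutatorElement

variable {Ω : Type*} [Group Ω] {S : Subgroup Ω} [Finite S] {p : ℕ} [Fact p.Prime]

/-- The data: a centre of index `p²` with the commutators among the powers of the element `z` of order `p`. -/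
structure CenterSq (S : Subgroup Ω) (p : ℕ) (z : Ω) : Prop where
  /-- `z` is central -/
  mem : z ∈ S ⊓ Subgroup.centralizer (S : Set Ω)
  /-- `z` is not trivial -/
  ne_one : z ≠ 1
  /-- `z` has order `p` -/
  pow : z ^ p = 1
  /-- commutators are powers of `z` -/
  comm : ∀ a ∈ S, ∀ b ∈ S, ∃ i : ℤ, a * b * a⁻¹ * b⁻¹ = z ^ i
  /-- the centre has index `p²` -/
  card : Nat.card S = p ^ 2 * Nat.card ↥(S ⊓ Subgroup.centralizer (S : Set Ω))

theorem mem_centre {x : Ω} : x ∈ S ⊓ Subgroup.centralizer (S : Set Ω) ↔ x ∈ S ∧ ∀ s ∈ S, s * x = x * s :=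
  ⟨fun h => ⟨h.1, fun s hs => Subgroup.mem_centralizer_iff.1 h.2 s hs⟩,
    fun h => ⟨h.1, Subgroup.mem_centralizer_iff.2 h.2⟩⟩

/-- Powers of an element of order `p` determined modulo `p`. -/
theorem zpow_eq_of_dvd {G : Type*} [Group G] {x : G} (hx : x ^ p = 1) {a b : ℤ} (h : (p : ℤ) ∣ a - b) :
    x ^ a = x ^ b := by
  obtain ⟨k, hk⟩ := h
  rw [show a = b + (p : ℤ) * k by omega, zpow_add, zpow_mul, zpow_natCast, hx, one_zpow, mul_one]

/-- A nontrivial power of an element of order `p` gives back any power. -/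
theorem exists_zpow_zpow_eq {G : Type*} [Group G] {x : G} (hx : x ^ p = 1) {a : ℤ} (ha : x ^ a ≠ 1) (b : ℤ) :
    ∃ j : ℤ, (x ^ a) ^ j = x ^ b := by
  have hpa : ¬ (p : ℤ) ∣ a := fun h => ha (by rw [zpow_eq_of_dvd hx (b := 0) (by simpa using h), zpow_zero])
  obtain ⟨c1, c2, hc⟩ := (Prime.coprime_iff_not_dvd (Nat.prime_iff_prime_int.1 (Fact.out : p.Prime))).2 hpa
  refine ⟨c2 * b, ?_⟩
  rw [← zpow_mul]
  exact zpow_eq_of_dvd hx ⟨-(c1 * b), by linear_combination b * hc⟩

/-- A map fixing both centres and acting as transvections with centre `c` fixes powers. -/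
theorem apply_zpow_fix {M : Type*} [Group M] {g : MulAut M} {c : M} (h : g c = c) (i : ℤ) :
    g (c ^ i) = c ^ i := by rw [map_zpow, h]

variable {z : Ω}

theorem CenterSq.mem_S (h : CenterSq S p z) : z ∈ S := h.mem.1

theorem CenterSq.commute (h : CenterSq S p z) {s : Ω} (hs : s ∈ S) : s * z = z * s :=
  (mem_centre.1 h.mem).2 s hs

theorem CenterSq.zpow_central (h : CenterSq S p z) (i : ℤ) :
    z ^ i ∈ S ⊓ Subgroup.centralizer (S : Set Ω) := zpow_mem h.mem i

/-- An element commuting with a set of generators of `S` is central. -/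
theorem mem_centre_of_commute {U : Subgroup Ω} (hU : U ≤ S) {g x : Ω} (hx : x ∈ S)
    (hgen : S ≤ U ⊔ Subgroup.zpowers g) (hUx : ∀ u ∈ U, u * x = x * u) (hgx : g * x = x * g) :
    x ∈ S ⊓ Subgroup.centralizer (S : Set Ω) := by
  refine mem_centre.2 ⟨hx, fun s hs => ?_⟩
  have hle : U ⊔ Subgroup.zpowers g ≤ Subgroup.centralizer ({x} : Set Ω) :=
    sup_le (fun u hu => Subgroup.mem_centralizer_singleton_iff.2 (hUx u hu))
      (Subgroup.zpowers_le.2 (Subgroup.mem_centralizer_singleton_iff.2 hgx))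
  exact Subgroup.mem_centralizer_singleton_iff.1 (hle (hgen hs))

/-- A proper centric subgroup contains the centre with index `p`, is abelian and has index `p`. -/
theorem CenterSq.centric_spec (h : CenterSq S p z) (hS : IsPGroup p S) {F : FusionSystem S} {U : Subgroup Ω}
    (hc : F.IsCentric U) (hne : U ≠ S) :
    S ⊓ Subgroup.centralizer (S : Set Ω) ≤ U ∧ (∀ a ∈ U, ∀ b ∈ U, a * b = b * a) ∧
      Nat.card U = p * Nat.card ↥(S ⊓ Subgroup.centralizer (S : Set Ω)) := by
  have hp : p.Prime := Fact.out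
  set Z := S ⊓ Subgroup.centralizer (S : Set Ω) with hZ
  have hUS := hc.1
  have := H96.finite_of_le hUS
  have hCU : FusionSystem.centralizerIn S U ≤ U := hc.2 U (H96.isConj_refl F hUS)
  have hZU : Z ≤ U := fun x hx => hCU ⟨hx.1, Subgroup.centralizer_le (SetLike.coe_subset_coe.2 hUS) hx.2⟩
  have := H96.finite_of_le (hZU.trans hUS)
  have hZne : Z ≠ U := by
    intro e
    refine hne (le_antisymm hUS fun s hs => hCU ⟨hs, Subgroup.mem_centralizer_iff.2 fun u hu => ?_⟩)
    rw [← e] at hu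
    exact ((mem_centre.1 hu).2 s hs).symm
  have hd1 := Subgroup.card_dvd_of_le hZU
  have hd2 := Subgroup.card_dvd_of_le hUS
  rw [h.card] at hd2
  obtain ⟨k, hk⟩ := hd1
  rw [hk, mul_comm (p ^ 2)] at hd2
  have hd3 : k ∣ p ^ 2 := Nat.dvd_of_mul_dvd_mul_left Nat.card_pos hd2
  obtain ⟨i, hi, rfl⟩ := (Nat.dvd_prime_pow hp).1 hd3
  rcases (show i = 0 ∨ i = 1 ∨ i = 2 by omega) with rfl | rfl | rfl
  · exact absurd (Subgroup.eq_of_le_of_card_ge hZU (by rw [hk, pow_zero, mul_one])) hZne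
  · rw [pow_one, mul_comm] at hk
    refine ⟨hZU, ?_, hk⟩
    -- `U` is generated by the centre and one element
    obtain ⟨x, hxU, hxZ⟩ := SetLike.exists_of_lt (lt_of_le_of_ne hZU hZne)
    have hle : Z ⊔ Subgroup.zpowers x ≤ U := sup_le hZU (Subgroup.zpowers_le.2 hxU)
    have := H96.finite_of_le (hle.trans hUS)
    have heq : Z ⊔ Subgroup.zpowers x = U := by
      refine Subgroup.eq_of_le_of_card_ge hle ?_
      have hd := Subgroup.card_dvd_of_le hle
      obtain ⟨l, hl⟩ := Subgroup.card_dvd_of_le (le_sup_left : Z ≤ Z ⊔ Subgroup.zpowers x)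
      rw [hl, hk, mul_comm p] at hd
      have hl' : l ∣ p := Nat.dvd_of_mul_dvd_mul_left Nat.card_pos hd
      rcases (Nat.dvd_prime hp).1 hl' with rfl | hlp
      · exact absurd (Subgroup.eq_of_le_of_card_ge le_sup_left (by rw [hl, mul_one])) (fun e =>
          hxZ (e.ge (Subgroup.mem_sup_right (Subgroup.mem_zpowers x))))
      · rw [hl, hlp, hk, mul_comm p]
    have hcen : U ≤ Subgroup.centralizer (U : Set Ω) := by
      conv_lhs => rw [← heq]
      refine sup_le (fun w hw => Subgroup.centralizer_le (SetLike.coe_subset_coe.2 hUS) hw.2)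
        (Subgroup.zpowers_le.2 (Subgroup.mem_centralizer_iff.2 fun y hy => ?_))
      have hgen : Z ⊔ Subgroup.zpowers x ≤ Subgroup.centralizer ({x} : Set Ω) :=
        sup_le (fun w hw => Subgroup.mem_centralizer_singleton_iff.2 ((mem_centre.1 hw).2 x (hUS hxU)).symm)
          (Subgroup.zpowers_le.2 (Subgroup.mem_centralizer_singleton_iff.2 rfl))
      exact Subgroup.mem_centralizer_singleton_iff.1 (hgen (heq.ge hy))
    exact fun a ha b hb => Subgroup.mem_centralizer_iff.1 (hcen hb) a ha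
  · exact absurd (Subgroup.eq_of_le_of_card_ge hUS (by rw [h.card, hk, mul_comm])) hne

/-- What the automizer of a proper centric radical subgroup `U` gives: a transvection `t` generating `Aut_S(U)`. -/
structure PlaneData (F : FusionSystem S) (p : ℕ) (U : Subgroup Ω) (zu : U) (t : MulAut U) : Prop where
  /-- `U` is abelian -/
  comm : ∀ a b : U, a * b = b * a
  /-- `t` is induced by `S` -/
  induced : t ∈ autInducedBy S U
  /-- `t` generates what `S` induces -/
  gen : ∀ γ ∈ autInducedBy S U, ∃ k : ℤ, γ = t ^ k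
  /-- `t` fixes exactly the centre -/
  fix_iff : ∀ v : U, t v = v ↔ (v : Ω) ∈ S ⊓ Subgroup.centralizer (S : Set Ω)
  /-- `t` is a transvection -/
  trans : ∀ v : U, ∃ i : ℤ, t v = v * zu ^ i
  /-- `t` is not fixed by the whole automizer -/
  moved : ∃ τ ∈ F.autGroup U, τ * t * τ⁻¹ ∉ autInducedBy S U
  /-- conjugates outside move the centre of `t` -/
  key : ∀ τ ∈ F.autGroup U, τ * t * τ⁻¹ ∉ autInducedBy S U → t (τ zu) ≠ τ zu
  /-- a `p`-group containing `t` is induced by `S` -/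
  small : ∀ L : Subgroup (MulAut U), L ≤ F.autGroup U → IsPGroup p L → t ∈ L → L ≤ autInducedBy S U

theorem CenterSq.planeData (h : CenterSq S p z) (hS : IsPGroup p S) {F : FusionSystem S} (hF : F.IsSaturated p)
    {U : Subgroup Ω} (hn : F.IsFullyNormalized U) (hc : F.IsCentric U) (hr : F.IsRadical p U) (hne : U ≠ S)
    {zu : U} (hzu : (zu : Ω) = z) : ∃ t, PlaneData F p U zu t := by
  have hp : p.Prime := Fact.out
  obtain ⟨hZU, hab, hcardU⟩ := h.centric_spec hS hc hne
  have hUS := hc.1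
  have := H96.finite_of_le hUS
  obtain ⟨hA, -⟩ := H94.fullyNormalized_spec hS hF hn
  have hzi : ∀ a ∈ S, ∀ b ∈ U, a * b * a⁻¹ ∈ U := by
    intro a ha b hb
    obtain ⟨i, hi⟩ := h.comm a ha b (hUS hb)
    rw [show a * b * a⁻¹ = (a * b * a⁻¹ * b⁻¹) * b by group, hi]
    exact U.mul_mem (hZU (h.zpow_central i)) hb
  have hUn : ∀ a ∈ S, a ∈ Subgroup.normalizer (U : Set Ω) := fun a ha =>
    H94.mem_normalizer_of_forall_conj_mem fun r hr' => hzi a ha r hr'
  obtain ⟨g, hgS, hgU⟩ := SetLike.exists_of_lt (lt_of_le_of_ne hUS hne)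
  have hgen : S ≤ U ⊔ Subgroup.zpowers g := by
    have hle : U ⊔ Subgroup.zpowers g ≤ S := sup_le hUS (Subgroup.zpowers_le.2 hgS)
    have := H96.finite_of_le hle
    refine (Subgroup.eq_of_le_of_card_ge hle ?_).ge
    have hd := Subgroup.card_dvd_of_le hle
    obtain ⟨l, hl⟩ := Subgroup.card_dvd_of_le (le_sup_left : U ≤ U ⊔ Subgroup.zpowers g)
    rw [hl, h.card, show p ^ 2 * Nat.card ↥(S ⊓ Subgroup.centralizer (S : Set Ω)) = Nat.card U * p by
      rw [hcardU]; ring] at hd
    rcases (Nat.dvd_prime hp).1 (Nat.dvd_of_mul_dvd_mul_left Nat.card_pos hd) with rfl | hlp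
    · exact absurd (Subgroup.eq_of_le_of_card_ge le_sup_left (by rw [hl, mul_one])) (fun e =>
        hgU (e.ge (Subgroup.mem_sup_right (Subgroup.mem_zpowers g))))
    · rw [hl, hlp, h.card, hcardU]
      exact le_of_eq (by ring)
  obtain ⟨t, ht, hte⟩ := H94.exists_autInducedBy hgS (hUn g hgS)
  have htA : t ∈ F.autGroup U := H96.autInducedBy_le_autGroup F hUS ht
  have hgenA : ∀ γ ∈ autInducedBy S U, ∃ k : ℤ, γ = t ^ k := by
    intro γ hγ
    obtain ⟨s, hs, hse⟩ := H96.mem_autInducedBy.1 hγ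
    let K : Subgroup Ω :=
      { carrier := {s | ∃ k : ℤ, ∀ x : U, (((t ^ k) x : U) : Ω) = s * x * s⁻¹}
        one_mem' := ⟨0, fun x => by simp⟩
        mul_mem' := by
          rintro a b ⟨k, hk⟩ ⟨l, hl⟩
          refine ⟨k + l, fun x => ?_⟩
          rw [zpow_add, MulAut.mul_apply, hk, hl]
          group
        inv_mem' := by
          rintro a ⟨k, hk⟩
          refine ⟨-k, fun x => ?_⟩
          have h1 := hk ((t ^ (-k)) x)
          rw [zpow_neg, show (t ^ k) ((t ^ k)⁻¹ x) = x from (t ^ k).apply_symm_apply x] at h1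
          rw [zpow_neg, h1]
          group }
    have hK : U ⊔ Subgroup.zpowers g ≤ K := sup_le (fun u hu => ⟨0, fun x => by
        rw [zpow_zero, MulAut.one_apply, hab u hu x x.2, mul_inv_cancel_right]⟩)
      (Subgroup.zpowers_le.2 ⟨1, fun x => by rw [zpow_one]; exact hte x⟩)
    obtain ⟨k, hk⟩ := hK (hgen hs)
    exact ⟨k, MulEquiv.ext fun x => Subtype.ext ((hse x).trans (hk x).symm)⟩
  have hfix : ∀ v : U, t v = v ↔ (v : Ω) ∈ S ⊓ Subgroup.centralizer (S : Set Ω) := by
    intro v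
    rw [Subtype.ext_iff, hte]
    constructor
    · intro e
      exact mem_centre_of_commute hUS (hUS v.2) hgen (fun u hu => hab u hu v v.2) (mul_inv_eq_iff_eq_mul.1 e)
    · intro e
      rw [(mem_centre.1 e).2 g hgS, mul_inv_cancel_right]
  have htrans : ∀ v : U, ∃ i : ℤ, t v = v * zu ^ i := by
    intro v
    obtain ⟨i, hi⟩ := h.comm g hgS v (hUS v.2)
    refine ⟨i, Subtype.ext ?_⟩
    rw [hte, Subgroup.coe_mul, Subgroup.coe_zpow, hzu, ← hi]
    have hc := (mem_centre.1 (h.zpow_central i)).2 v (hUS v.2)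
    rw [← hi] at hc
    rw [hc]
    group
  have hp_small : ∀ L : Subgroup (MulAut U), L ≤ F.autGroup U → IsPGroup p L → t ∈ L →
      L ≤ autInducedBy S U := by
    intro L hLA hL htL
    obtain ⟨Q, hQ⟩ := (IsPGroup.of_equiv hL (Subgroup.subgroupOfEquivOfLe hLA).symm).exists_le_sylow
    obtain ⟨R, hR⟩ := hA.2
    have hRle : autInducedBy S U ≤ L := fun γ hγ => by
      obtain ⟨k, rfl⟩ := hgenA γ hγ
      exact zpow_mem htL k
    have h1 : (R : Subgroup (F.autGroup U)) ≤ Q := fun x hx => hQ (hRle (by rw [hR] at hx; exact hx))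
    have h2 : (Q : Subgroup (F.autGroup U)) = R := R.is_maximal' Q.2 h1
    intro x hx
    have h3 : (⟨x, hLA hx⟩ : F.autGroup U) ∈ (R : Subgroup (F.autGroup U)) := h2 ▸ hQ hx
    rw [hR] at h3
    exact h3
  refine ⟨t, fun a b => Subtype.ext (hab a a.2 b b.2), ht, hgenA, hfix, htrans, ?_, ?_, hp_small⟩
  · by_contra hall
    push Not at hall
    refine hgU (mem_of_induced_of_normal_pGroup hc hr (K := autInducedBy S U)
      (H96.autInducedBy_le_autGroup F hUS) ?_ (H94.isPGroup_autInducedBy hS) hgS ht hte)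
    intro a ha k hk
    obtain ⟨i, rfl⟩ := hgenA k hk
    have h1 := (autInducedBy S U).zpow_mem (hall a ha) i
    rwa [conj_zpow] at h1
  · intro τ hτ hnot heq
    apply hnot
    set u := τ * t * τ⁻¹ with hu
    set cu := τ zu with hcu
    have hzf : t zu = zu := (hfix zu).2 (hzu ▸ h.mem)
    have hucu : u cu = cu := by
      rw [hu, hcu, MulAut.mul_apply, MulAut.mul_apply, show τ⁻¹ (τ zu) = zu from τ.symm_apply_apply zu, hzf]
    have hum : ∀ v : U, ∃ i : ℤ, u v = v * cu ^ i := by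
      intro v
      obtain ⟨i, hi⟩ := htrans (τ⁻¹ v)
      exact ⟨i, by rw [hu, MulAut.mul_apply, MulAut.mul_apply, hi, map_mul, map_zpow,
        show τ (τ⁻¹ v) = v from τ.apply_symm_apply v]⟩
    -- both stabilize a chain
    let W : ℕ → Subgroup U := fun i => if i = 0 then ⊥ else if i = 1 then Subgroup.zpowers cu
      else if i = 2 then Subgroup.zpowers cu ⊔ Subgroup.zpowers zu else ⊤
    have hsub : ∀ γ : MulAut U, γ cu = cu → (∃ i : ℤ, γ zu = zu * cu ^ i) →
        (∀ v : U, v⁻¹ * γ v ∈ Subgroup.zpowers cu ⊔ Subgroup.zpowers zu) →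
        γ ∈ chainStab W 3 := by
      intro γ hγc ⟨i₀, hγz⟩ hγv i hi x hx
      rcases (show i = 0 ∨ i = 1 ∨ i = 2 by omega) with rfl | rfl | rfl
      · simp only [W, zero_add, one_ne_zero, if_false, if_true] at hx ⊢
        obtain ⟨k, rfl⟩ := hx
        show _ ∧ γ (cu ^ k) ∈ _
        rw [apply_zpow_fix hγc]
        exact ⟨by simp, ⟨k, rfl⟩⟩
      · simp only [W, show ¬ (1 + 1 = 0) by omega, show ¬ (1 + 1 = 1) by omega, one_ne_zero, if_false,
          if_true] at hx ⊢
        have hd : ∀ x ∈ Subgroup.zpowers cu ⊔ Subgroup.zpowers zu, x⁻¹ * γ x ∈ Subgroup.zpowers cu := by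
          intro x hx
          letI : CommGroup U :=
            { (inferInstance : Group U) with mul_comm := fun a b => Subtype.ext (hab a a.2 b b.2) }
          rw [Subgroup.mem_sup] at hx
          obtain ⟨_, ⟨k, rfl⟩, _, ⟨l, rfl⟩, rfl⟩ := hx
          show (cu ^ k * zu ^ l)⁻¹ * γ (cu ^ k * zu ^ l) ∈ _
          rw [map_mul, map_zpow, map_zpow, hγc, hγz, mul_zpow, ← mul_assoc (cu ^ k), inv_mul_cancel_left, ← zpow_mul]
          exact Subgroup.zpow_mem_zpowers cu _
        refine ⟨hd x hx, ?_⟩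
        rw [show γ x = x * (x⁻¹ * γ x) by group]
        exact mul_mem hx (Subgroup.mem_sup_left (hd x hx))
      · simp only [W, show ¬ (2 + 1 = 0) by omega, show ¬ (2 + 1 = 1) by omega, show ¬ (2 + 1 = 2) by omega,
          show ¬ (2 = 0) by omega, show ¬ (2 = 1) by omega, if_false, if_true] at hx ⊢
        exact ⟨hγv x, trivial⟩
    have hL : Subgroup.closure ({t, u} : Set (MulAut U)) ≤ chainStab W 3 := by
      rw [Subgroup.closure_le]
      rintro γ (rfl | rfl)
      · refine hsub γ heq ⟨0, by rw [hzf]; simp⟩ fun v => ?_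
        obtain ⟨i, hi⟩ := htrans v
        rw [hi, inv_mul_cancel_left]
        exact Subgroup.mem_sup_right (Subgroup.zpow_mem_zpowers zu i)
      · refine hsub _ hucu (hum zu) fun v => ?_
        obtain ⟨i, hi⟩ := hum v
        rw [hi, inv_mul_cancel_left]
        exact Subgroup.mem_sup_left (Subgroup.zpow_mem_zpowers cu i)
    have hp' := (isPGroup_chainStab (hS.to_le hUS) (W := W) (m := 3) rfl rfl).to_le hL
    refine hp_small _ ((Subgroup.closure_le _).2 ?_) hp' (Subgroup.subset_closure (Set.mem_insert _ _))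
      (Subgroup.subset_closure (Set.mem_insert_of_mem _ rfl))
    rintro γ (rfl | rfl)
    · exact htA
    · exact mul_mem (mul_mem hτ htA) (inv_mem hτ)

variable {F : FusionSystem S} {U : Subgroup Ω} {zu : U} {t : MulAut U}

/-- Outside conjugation is symmetric. -/
theorem PlaneData.not_mem_inv (d : PlaneData F p U zu t) (h : CenterSq S p z) (hzu : (zu : Ω) = z)
    (hU : U ≤ S) {τ : MulAut U} (hτ : τ * t * τ⁻¹ ∉ autInducedBy S U) :
    τ⁻¹ * t * τ⁻¹⁻¹ ∉ autInducedBy S U := by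
  intro h1
  apply hτ
  obtain ⟨k, hk⟩ := d.gen _ h1
  rw [inv_inv] at hk
  have htp : t ^ p = 1 := by
    refine MulEquiv.ext fun v => ?_
    obtain ⟨i, hi⟩ := d.trans v
    have hzf : t (zu ^ i) = zu ^ i := apply_zpow_fix ((d.fix_iff zu).2 (hzu ▸ h.mem)) i
    letI : CommGroup U := { (inferInstance : Group U) with mul_comm := d.comm }
    have h2 := zpow_apply_of_fixed t hi hzf (p : ℤ)
    have hz' : (zu ^ i) ^ (p : ℤ) = 1 := by
      rw [← zpow_mul, mul_comm, zpow_mul, zpow_natCast,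
        show zu ^ p = 1 from Subtype.ext (by rw [SubmonoidClass.coe_pow, hzu, h.pow]; rfl), one_zpow]
    rw [hz', mul_one, zpow_natCast] at h2
    exact h2
  have hk1 : t ^ k ≠ 1 := by
    intro e
    rw [e] at hk
    have ht1 : t = 1 := by
      have := congrArg (fun x => τ * x * τ⁻¹) hk
      simpa [mul_assoc] using this
    exact hτ (by rw [ht1]; simpa using one_mem _)
  obtain ⟨j, hj⟩ := exists_zpow_zpow_eq htp hk1 1
  rw [zpow_one] at hj
  have : τ * t * τ⁻¹ = t ^ j := by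
    conv_lhs => rw [← hj, ← hk]
    have h9 := conj_zpow (i := j) (a := τ⁻¹) (b := t)
    rw [inv_inv] at h9
    rw [h9]
    simp [mul_assoc]
  rw [this]
  exact zpow_mem d.induced j

/-- `U` is the product of the plane and the common fixed points. -/
theorem PlaneData.decomp (d : PlaneData F p U zu t) (h : CenterSq S p z) (hzu : (zu : Ω) = z)
    (hU : U ≤ S) {τ : MulAut U} (hτA : τ ∈ F.autGroup U) (hτ : τ * t * τ⁻¹ ∉ autInducedBy S U) (v : U) :
    ∃ (i j : ℤ) (w : U), v = zu ^ i * (τ zu) ^ j * w ∧ t w = w ∧ (τ * t * τ⁻¹) w = w := by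
  letI : CommGroup U := { (inferInstance : Group U) with mul_comm := d.comm }
  have hzp : zu ^ p = 1 := Subtype.ext (by rw [SubmonoidClass.coe_pow, hzu, h.pow]; rfl)
  have hzf : t zu = zu := (d.fix_iff zu).2 (hzu ▸ h.mem)
  obtain ⟨a, ha⟩ := d.trans (τ zu)
  have ha1 : zu ^ a ≠ 1 := fun e => d.key τ hτA hτ (by rw [ha, e, mul_one])
  obtain ⟨b, hb⟩ := d.trans v
  obtain ⟨j, hj⟩ := exists_zpow_zpow_eq hzp ha1 b
  set x := v * ((τ zu) ^ j)⁻¹ with hx
  have hxf : t x = x := by
    rw [hx, map_mul, map_inv, map_zpow, hb, ha, mul_zpow, hj, _root_.mul_inv]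
    rw [mul_comm ((τ zu) ^ j)⁻¹ (zu ^ b)⁻¹, mul_assoc v (zu ^ b), mul_inv_cancel_left]
  set u := τ * t * τ⁻¹ with hu
  have hum : ∀ v : U, ∃ i : ℤ, u v = v * (τ zu) ^ i := by
    intro v
    obtain ⟨i, hi⟩ := d.trans (τ⁻¹ v)
    exact ⟨i, by rw [hu, MulAut.mul_apply, MulAut.mul_apply, hi, map_mul, map_zpow,
      show τ (τ⁻¹ v) = v from τ.apply_symm_apply v]⟩
  obtain ⟨a', ha'⟩ := hum zu
  have hcp : (τ zu) ^ p = 1 := by rw [← map_pow, hzp, map_one]
  have ha1' : (τ zu) ^ a' ≠ 1 := by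
    intro e
    refine d.key τ⁻¹ (inv_mem hτA) (d.not_mem_inv h hzu hU hτ) ?_
    apply τ.injective
    rw [show τ (τ⁻¹ zu) = zu from τ.apply_symm_apply zu]
    rw [e, mul_one, hu, MulAut.mul_apply, MulAut.mul_apply] at ha'
    exact ha'
  obtain ⟨b', hb'⟩ := hum x
  obtain ⟨i, hi⟩ := exists_zpow_zpow_eq hcp ha1' b'
  refine ⟨i, j, x * (zu ^ i)⁻¹, ?_, ?_, ?_⟩
  · rw [hx]; simp [mul_comm, mul_left_comm, mul_assoc]
  · rw [map_mul, map_inv, map_zpow, hxf, hzf]
  · rw [map_mul, map_inv, map_zpow, hb', ha', mul_zpow, hi, _root_.mul_inv]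
    rw [mul_comm (zu ^ i)⁻¹ ((τ zu) ^ b')⁻¹, mul_assoc x, mul_inv_cancel_left]

/-- The common fixed points are central and so are their preimages. -/
theorem PlaneData.fix_centre (d : PlaneData F p U zu t) {τ : MulAut U} {w : U}
    (hw : t w = w) (hw' : (τ * t * τ⁻¹) w = w) :
    (w : Ω) ∈ S ⊓ Subgroup.centralizer (S : Set Ω) ∧
      ((τ⁻¹ w : U) : Ω) ∈ S ⊓ Subgroup.centralizer (S : Set Ω) := by
  refine ⟨(d.fix_iff w).1 hw, (d.fix_iff _).1 (τ.injective ?_)⟩
  rw [show τ (τ⁻¹ w) = w from τ.apply_symm_apply w]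
  rw [MulAut.mul_apply, MulAut.mul_apply] at hw'
  exact hw'

end Cfsg.Agent.H95
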