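import Cfsg.Agent.H95.CenterSquare

/-!
Saturated systems without normal subgroups and with full hyperfocal subgroup over groups whose centre has index at
most `p²` live on extraspecial groups of order `p³`.
-/
set_option autoImplicit false

namespace Cfsg.Agent.H95

open Cfsg
open scoped commutatorElement

variable {Ω : Type*} [Group Ω] {S : Subgroup Ω} [Finite S] {p : ℕ} [Fact p.Prime] {F : FusionSystem S}
  {z : Ω}

/-- The `p`-part of an element of `Aut_F(S)` is induced by `S`: a power with exponent prime to `p` is inner. -/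
theorem exists_coprime_pow_inner (hS : IsPGroup p S) (hF : F.IsSaturated p) {δ : MulAut S}
    (hδ : δ ∈ F.autGroup S) : ∃ m : ℕ, ¬ p ∣ m ∧ δ ^ m ∈ autInducedBy S S := by
  have hp : p.Prime := Fact.out
  have hfn : F.IsFullyNormalized S := ⟨le_rfl, fun Q _ => by
    rw [show FusionSystem.normalizerIn S S = S from le_antisymm inf_le_left (le_inf le_rfl Subgroup.le_normalizer)]
    exact Subgroup.card_le_of_le (K := S) inf_le_left⟩
  set A := F.autGroup S with hA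
  set I := (autInducedBy S S).subgroupOf A with hI
  obtain ⟨R, hR⟩ := (H94.fullyNormalized_spec hS hF hfn).1.2
  haveI hIn : I.Normal := ⟨fun x hx a => by
    obtain ⟨g, hg, hge⟩ := H96.mem_autInducedBy.1 (Subgroup.mem_subgroupOf.1 hx)
    refine Subgroup.mem_subgroupOf.2 (H96.mem_autInducedBy.2 ⟨(((a : MulAut S) ⟨g, hg⟩ : S) : Ω),
      ((a : MulAut S) ⟨g, hg⟩).2, fun y => ?_⟩)
    have h1 : (x : MulAut S) ((a : MulAut S)⁻¹ y) = ⟨g, hg⟩ * (a : MulAut S)⁻¹ y * ⟨g, hg⟩⁻¹ :=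
      Subtype.ext (hge _)
    show (((a : MulAut S) ((x : MulAut S) ((a : MulAut S)⁻¹ y)) : S) : Ω) = _
    rw [h1, map_mul, map_mul, map_inv, show (a : MulAut S) ((a : MulAut S)⁻¹ y) = y from
      (a : MulAut S).apply_symm_apply y]
    rfl⟩
  obtain ⟨k, m, hm, hkm⟩ := Nat.exists_eq_pow_mul_and_not_dvd (orderOf_pos (⟨δ, hδ⟩ : A)).ne' p hp.ne_one
  refine ⟨m, hm, ?_⟩
  have hxp : IsPGroup p (Subgroup.zpowers ((⟨δ, hδ⟩ : A) ^ m)) := by
    rintro ⟨g, i, rfl⟩
    refine ⟨k, Subtype.ext ?_⟩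
    show (((⟨δ, hδ⟩ : A) ^ m) ^ i) ^ p ^ k = 1
    rw [← zpow_natCast, ← zpow_mul, mul_comm, zpow_mul, zpow_natCast, ← pow_mul, mul_comm m, ← hkm,
      pow_orderOf_eq_one, one_zpow]
  have hRI : (R : Subgroup A) = I := hR
  have hIp : IsPGroup p I := hRI ▸ R.2
  have hsup := IsPGroup.to_sup_of_normal_right hxp hIp
  have hle := R.is_maximal' hsup (hRI.le.trans le_sup_right)
  have hmem : (⟨δ, hδ⟩ : A) ^ m ∈ (R : Subgroup A) :=
    hle ▸ Subgroup.mem_sup_left (Subgroup.mem_zpowers _)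
  rw [hRI] at hmem
  simpa [hI, Subgroup.mem_subgroupOf] using hmem

/-- Inner automorphisms fix the centre. -/
theorem inner_fix {γ : MulAut S} (hγ : γ ∈ autInducedBy S S) {w : S}
    (hw : (w : Ω) ∈ S ⊓ Subgroup.centralizer (S : Set Ω)) : γ w = w := by
  obtain ⟨g, hg, hge⟩ := H96.mem_autInducedBy.1 hγ
  exact Subtype.ext (by rw [hge, (mem_centre.1 hw).2 g hg, mul_inv_cancel_right])

/-- An automorphism of `S` moving a central element by a fixed element of order `p` fixes it. -/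
theorem fix_of_shift (hS : IsPGroup p S) (hF : F.IsSaturated p) {δ : MulAut S} (hδ : δ ∈ F.autGroup S)
    {w d : S} (hd : δ d = d) (hdp : d ^ p = 1) (hwd : δ w = w * d) (K : Subgroup S)
    (hK : ∀ γ ∈ autInducedBy S S, w⁻¹ * γ w ∈ K) : d ∈ K := by
  have hp : p.Prime := Fact.out
  obtain ⟨m, hm, hin⟩ := exists_coprime_pow_inner hS hF hδ
  have hpow : ∀ n : ℕ, (δ ^ n) w = w * d ^ n := by
    intro n
    induction n with
    | zero => simp
    | succ n ih => rw [pow_succ', MulAut.mul_apply, ih, map_mul, map_pow, hd, hwd, pow_succ', mul_assoc]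
  have h1 := hK _ hin
  rw [hpow, inv_mul_cancel_left] at h1
  obtain ⟨c1, c2, hc⟩ := (Prime.coprime_iff_not_dvd (Nat.prime_iff_prime_int.1 hp)).2
    (fun h => hm (Int.natCast_dvd_natCast.1 h) : ¬ (p : ℤ) ∣ (m : ℤ))
  have h2 : d = (d ^ m) ^ c2 := by
    rw [← zpow_natCast, ← zpow_mul]
    conv_lhs => rw [← zpow_one d]
    exact zpow_eq_of_dvd hdp ⟨c1, by linear_combination -hc⟩
  rw [h2]
  exact zpow_mem h1 c2

/-- Automorphisms of `S` carry `z` to a power of it. -/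
theorem CenterSq.aut_z (h : CenterSq S p z) (δ : MulAut S) :
    ∃ k : ℤ, ((δ ⟨z, h.mem_S⟩ : S) : Ω) = z ^ k := by
  obtain ⟨a, ha, hac⟩ : ∃ a ∈ S, a ∉ S ⊓ Subgroup.centralizer (S : Set Ω) := by
    by_contra hall
    push Not at hall
    have h1 := h.card
    rw [show (S ⊓ Subgroup.centralizer (S : Set Ω)) = S from le_antisymm inf_le_left hall] at h1
    have hpos : 0 < Nat.card S := Nat.card_pos
    have : 1 < p ^ 2 := Nat.one_lt_pow two_ne_zero (Fact.out : p.Prime).one_lt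
    have h2 := Nat.mul_lt_mul_of_pos_right this hpos
    omega
  obtain ⟨b, hb, hab⟩ : ∃ b ∈ S, b * a ≠ a * b := by
    by_contra hall
    push Not at hall
    exact hac (mem_centre.2 ⟨ha, hall⟩)
  obtain ⟨i, hi⟩ := h.comm b hb a ha
  have hi1 : z ^ i ≠ 1 := fun e => hab (by
    rw [e, mul_inv_eq_one, mul_inv_eq_iff_eq_mul] at hi
    exact hi)
  obtain ⟨j, hj⟩ := exists_zpow_zpow_eq h.pow hi1 1
  rw [zpow_one] at hj
  obtain ⟨l, hl⟩ := h.comm _ (δ ⟨b, hb⟩).2 _ (δ ⟨a, ha⟩).2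
  refine ⟨l * j, ?_⟩
  have e : (⟨b, hb⟩ * ⟨a, ha⟩ * ⟨b, hb⟩⁻¹ * ⟨a, ha⟩⁻¹ : S) ^ j = ⟨z, h.mem_S⟩ :=
    Subtype.ext (by simp only [Subgroup.coe_zpow, Subgroup.coe_mul, InvMemClass.coe_inv]; rw [hi, hj])
  rw [← e, map_zpow, map_mul, map_mul, map_mul, map_inv, map_inv, Subgroup.coe_zpow, Subgroup.coe_mul,
    Subgroup.coe_mul, Subgroup.coe_mul, InvMemClass.coe_inv, InvMemClass.coe_inv, hl, zpow_mul]

section Plane

variable {U : Subgroup Ω} {zu : U} {t : MulAut U}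

theorem zu_pow (h : CenterSq S p z) (hzu : (zu : Ω) = z) : zu ^ p = 1 :=
  Subtype.ext (by rw [SubmonoidClass.coe_pow, hzu, h.pow]; rfl)

theorem PlaneData.conj_trans (d : PlaneData F p U zu t) (τ : MulAut U) (v : U) :
    ∃ i : ℤ, (τ * t * τ⁻¹) v = v * (τ zu) ^ i := by
  obtain ⟨i, hi⟩ := d.trans (τ⁻¹ v)
  exact ⟨i, by rw [MulAut.mul_apply, MulAut.mul_apply, hi, map_mul, map_zpow,
    show τ (τ⁻¹ v) = v from τ.apply_symm_apply v]⟩

/-- A central element is a power of `z` times a common fixed point. -/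
theorem PlaneData.decomp_centre (d : PlaneData F p U zu t) (h : CenterSq S p z) (hzu : (zu : Ω) = z)
    (hU : U ≤ S) {τ : MulAut U} (hτA : τ ∈ F.autGroup U) (hτ : τ * t * τ⁻¹ ∉ autInducedBy S U) {v : U}
    (hv : t v = v) : ∃ (i : ℤ) (w : U), v = zu ^ i * w ∧ t w = w ∧ (τ * t * τ⁻¹) w = w := by
  letI : CommGroup U := { (inferInstance : Group U) with mul_comm := d.comm }
  obtain ⟨i, j, w, hv', hw1, hw2⟩ := d.decomp h hzu hU hτA hτ v
  refine ⟨i, w, ?_, hw1, hw2⟩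
  suffices hj : (τ zu) ^ j = 1 by rw [hv', hj, mul_one]
  have hfix : t ((τ zu) ^ j) = (τ zu) ^ j := by
    have h2 := hv
    rw [hv', map_mul, map_mul, map_zpow, hw1, (d.fix_iff zu).2 (hzu ▸ h.mem), mul_left_inj, mul_right_inj] at h2
    exact h2
  by_contra hne
  have hcp : (τ zu) ^ p = 1 := by rw [← map_pow, zu_pow h hzu, map_one]
  obtain ⟨k, hk⟩ := exists_zpow_zpow_eq hcp hne 1
  rw [zpow_one] at hk
  refine d.key τ hτA hτ ?_
  rw [← hk, map_zpow, hfix]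

end Plane

/-! ### Odd primes -/

/-- An automorphism inverting `z` and trivial on the centre modulo `z`. -/
def IsReflection (F : FusionSystem S) (z : Ω) (hz : z ∈ S) (δ : MulAut S) : Prop :=
  δ ∈ F.autGroup S ∧ δ ⟨z, hz⟩ = ⟨z, hz⟩⁻¹ ∧
    ∀ w : S, (w : Ω) ∈ S ⊓ Subgroup.centralizer (S : Set Ω) → ∃ i : ℤ, δ w = w * ⟨z, hz⟩ ^ i

theorem IsReflection.agree (hS : IsPGroup p S) (hF : F.IsSaturated p) (h : CenterSq S p z) {δ δ' : MulAut S}
    (hδ : IsReflection F z h.mem_S δ) (hδ' : IsReflection F z h.mem_S δ') {w : S}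
    (hw : (w : Ω) ∈ S ⊓ Subgroup.centralizer (S : Set Ω)) : δ' w = δ w := by
  have key : ∀ {a b : MulAut S}, IsReflection F z h.mem_S a → IsReflection F z h.mem_S b →
      ∀ {w : S}, (w : Ω) ∈ S ⊓ Subgroup.centralizer (S : Set Ω) → (a * b) w = w := by
    intro a b ha hb w hw
    obtain ⟨i, hi⟩ := hb.2.2 w hw
    obtain ⟨j, hj⟩ := ha.2.2 w hw
    set zs : S := ⟨z, h.mem_S⟩
    have hz : (a * b) zs = zs := by rw [MulAut.mul_apply, hb.2.1, map_inv, ha.2.1, inv_inv]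
    have hzp : zs ^ p = 1 := Subtype.ext (by simpa [zs] using h.pow)
    have hab : (a * b) w = w * zs ^ (j - i) := by
      rw [MulAut.mul_apply, hi, map_mul, map_zpow, hj, ha.2.1, inv_zpow', mul_assoc, ← zpow_add]
      congr 2
    have hd := fix_of_shift hS hF (mul_mem ha.1 hb.1) (d := zs ^ (j - i))
      (by rw [map_zpow, hz]) (by rw [← zpow_natCast, ← zpow_mul, mul_comm, zpow_mul, zpow_natCast, hzp, one_zpow])
      hab ⊥ (fun γ hγ => by rw [inner_fix hγ hw, inv_mul_cancel]; exact one_mem _)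
    rw [hab, Subgroup.mem_bot.1 hd, mul_one]
  have h1 := key hδ' hδ hw
  have h2 := key hδ hδ hw
  rw [MulAut.mul_apply] at h1 h2
  calc δ' w = δ' (δ (δ w)) := by rw [h2]
    _ = δ w := key hδ' hδ (aut_top_centre hw)

/-- Every outside conjugate gives a reflection. -/
theorem exists_reflection (hp2 : p ≠ 2) (h : CenterSq S p z) (hS : IsPGroup p S) (hF : F.IsSaturated p)
    (hcore : F.core = ⊥) {U : Subgroup Ω} (hU : IsPlaneSub F p U) {zu : U} {t : MulAut U}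
    (hzu : (zu : Ω) = z) (d : PlaneData F p U zu t) {τ : MulAut U} (hτA : τ ∈ F.autGroup U)
    (hτ : τ * t * τ⁻¹ ∉ autInducedBy S U) :
    ∃ δ, IsReflection F z h.mem_S δ ∧ ∀ w : U, (w : Ω) ∈ S ⊓ Subgroup.centralizer (S : Set Ω) →
      (δ ⟨w, hU.2.1.1 w.2⟩ = ⟨w, hU.2.1.1 w.2⟩ ↔
        ((τ⁻¹ w : U) : Ω) ∈ S ⊓ Subgroup.centralizer (S : Set Ω)) := by
  have hp : p.Prime := Fact.out
  have hUS := hU.2.1.1
  letI : CommGroup U := { (inferInstance : Group U) with mul_comm := d.comm }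
  have := H96.finite_of_le hUS
  have hexp : ∀ v : U, v ^ p = 1 := fun v => Subtype.ext (by simpa using hU.pow h hS hF hcore v v.2)
  have hzf : t zu = zu := (d.fix_iff zu).2 (hzu ▸ h.mem)
  have hucu : (τ * t * τ⁻¹) (τ zu) = τ zu := by
    rw [MulAut.mul_apply, MulAut.mul_apply, show τ⁻¹ (τ zu) = zu from τ.symm_apply_apply zu, hzf]
  have htA : t ∈ F.autGroup U := H96.autInducedBy_le_autGroup F hUS d.induced
  have huA : τ * t * τ⁻¹ ∈ F.autGroup U := mul_mem (mul_mem hτA htA) (inv_mem hτA)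
  have hLA : Subgroup.closure ({t, τ * t * τ⁻¹} : Set (MulAut U)) ≤ F.autGroup U := by
    rw [Subgroup.closure_le]
    rintro x (rfl | rfl) <;> assumption
  rcases transvection_pair hexp hzf hucu d.trans (d.conj_trans τ) with hL | ⟨β, hβ, hβt, hβz⟩
  · exact absurd (d.small _ hLA hL (Subgroup.subset_closure (Set.mem_insert _ _))
      (Subgroup.subset_closure (Set.mem_insert_of_mem _ rfl))) hτ
  obtain ⟨δ, hδA, hδe⟩ := d.exists_ext hS hF h hU (hLA hβ)
    (by rw [hβt, mul_inv_cancel_right]; exact d.induced)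
  have hZU := (h.centric_spec hS hU.2.1 hU.2.2.2).1
  have hδz : δ ⟨z, h.mem_S⟩ = ⟨z, h.mem_S⟩⁻¹ := by
    apply Subtype.ext
    have h1 := hδe zu
    rw [hβz] at h1
    simp only [hzu, InvMemClass.coe_inv] at h1
    exact h1
  have hshift : ∀ w : U, (w : Ω) ∈ S ⊓ Subgroup.centralizer (S : Set Ω) →
      ∃ (i : ℤ) (w' : U), w = zu ^ i * w' ∧ β w' = w' ∧ ((τ⁻¹ w' : U) : Ω) ∈ S ⊓ Subgroup.centralizer (S : Set Ω) ∧
        β w = (zu ^ i)⁻¹ * w' := by
    intro w hw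
    obtain ⟨i, w', hw', h1, h2⟩ := d.decomp_centre h hzu hUS hτA hτ ((d.fix_iff w).2 hw)
    refine ⟨i, w', hw', closure_fix h1 h2 hβ, (d.fix_centre h1 h2).2, ?_⟩
    rw [hw', map_mul, map_zpow, hβz, closure_fix h1 h2 hβ, inv_zpow]
  refine ⟨δ, ⟨hδA, hδz, fun w hw => ?_⟩, fun w hw => ?_⟩
  · obtain ⟨i, w', hw', -, -, hβw⟩ := hshift ⟨w, hZU hw⟩ hw
    refine ⟨-2 * i, Subtype.ext ?_⟩
    have h1 := hδe ⟨w, hZU hw⟩
    rw [hβw] at h1
    rw [h1, show ((zu ^ i)⁻¹ * w' : U) = ⟨(w : Ω), hZU hw⟩ * zu ^ (-2 * i) by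
      rw [hw', mul_comm (zu ^ i) w', mul_assoc, ← zpow_add, ← zpow_neg, mul_comm w']
      congr 2
      ring, Subgroup.coe_mul, Subgroup.coe_mul, Subgroup.coe_zpow, Subgroup.coe_zpow, hzu]
  · obtain ⟨i, w', hw', hβw', hτw', hβw⟩ := hshift w hw
    have h1 := hδe w
    constructor
    · intro hfix
      rw [hfix] at h1
      have h2 : β w = w := Subtype.ext h1.symm
      rw [hβw, hw', mul_left_inj] at h2
      have h3 : (zu ^ i) ^ (2 : ℤ) = 1 := by
        rw [zpow_ofNat, pow_two]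
        conv_lhs => arg 1; rw [← h2]
        exact inv_mul_cancel _
      have h4 : zu ^ i = 1 := by
        by_contra hne
        obtain ⟨c1, c2, hc⟩ := (Prime.coprime_iff_not_dvd (Nat.prime_iff_prime_int.1 hp)).2
          (fun hd : (p : ℤ) ∣ 2 => hp2 ((Nat.prime_dvd_prime_iff_eq hp Nat.prime_two).1 (by exact_mod_cast hd)))
        apply hne
        rw [show zu ^ i = ((zu ^ i) ^ (2 : ℤ)) ^ c2 by
          rw [← zpow_mul, ← zpow_mul]
          exact zpow_eq_of_dvd (hexp zu) ⟨i * c1, by linear_combination -i * hc⟩, h3, one_zpow]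
      rw [hw', h4, one_mul]
      exact hτw'
    · intro hτw
      apply Subtype.ext
      rw [h1]
      refine congrArg Subtype.val (closure_fix ((d.fix_iff w).2 hw) ?_ hβ)
      rw [MulAut.mul_apply, MulAut.mul_apply, (d.fix_iff _).2 hτw]
      exact τ.apply_symm_apply w

/-- For odd `p` the centre has order `p`. -/
theorem CenterSq.centre_eq_odd (hp2 : p ≠ 2) (h : CenterSq S p z) (hS : IsPGroup p S) (hF : F.IsSaturated p)
    (hcore : F.core = ⊥) : S ⊓ Subgroup.centralizer (S : Set Ω) ≤ Subgroup.zpowers z := by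
  have hp : p.Prime := Fact.out
  set Z := S ⊓ Subgroup.centralizer (S : Set Ω) with hZ
  obtain ⟨U, hU, -⟩ := exists_second h hS hF hcore
  obtain ⟨zu, t, hzu, d⟩ := hU.exists_data h hS hF
  obtain ⟨τ, hτA, hτ⟩ := d.moved
  obtain ⟨δ₀, hδ₀, -⟩ := exists_reflection hp2 h hS hF hcore hU hzu d hτA hτ
  set zs : S := ⟨z, h.mem_S⟩
  let C : Subgroup Ω :=
    { carrier := {x | ∃ hx : x ∈ Z, δ₀ ⟨x, hx.1⟩ = ⟨x, hx.1⟩}
      one_mem' := ⟨Z.one_mem, map_one δ₀⟩
      mul_mem' := by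
        rintro a b ⟨ha, ha'⟩ ⟨hb, hb'⟩
        refine ⟨Z.mul_mem ha hb, ?_⟩
        rw [show (⟨a * b, (Z.mul_mem ha hb).1⟩ : S) = ⟨a, ha.1⟩ * ⟨b, hb.1⟩ from rfl, map_mul, ha', hb']
      inv_mem' := by
        rintro a ⟨ha, ha'⟩
        refine ⟨Z.inv_mem ha, ?_⟩
        rw [show (⟨a⁻¹, (Z.inv_mem ha).1⟩ : S) = ⟨a, ha.1⟩⁻¹ from rfl, map_inv, ha'] }
  have hT : ∀ δ ∈ F.autGroup S, ∀ w : S, (w : Ω) ∈ C → ((δ w : S) : Ω) ∈ C := by
    rintro δ hδ w ⟨hw, hw'⟩
    refine ⟨aut_top_centre hw, ?_⟩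
    have hrefl : IsReflection F z h.mem_S (δ⁻¹ * δ₀ * δ) := by
      obtain ⟨k, hk⟩ := h.aut_z δ
      have hk' : δ zs = zs ^ k := Subtype.ext (by rw [Subgroup.coe_zpow]; exact hk)
      refine ⟨mul_mem (mul_mem (inv_mem hδ) hδ₀.1) hδ, ?_, fun v hv => ?_⟩
      · rw [MulAut.mul_apply, MulAut.mul_apply, hk', map_zpow, hδ₀.2.1, inv_zpow, map_inv, ← hk']
        exact congrArg _ (δ.symm_apply_apply zs)
      · obtain ⟨i, hi⟩ := hδ₀.2.2 (δ v) (aut_top_centre hv)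
        obtain ⟨l, hl⟩ := h.aut_z δ⁻¹
        have hl' : δ⁻¹ zs = zs ^ l := Subtype.ext (by rw [Subgroup.coe_zpow]; exact hl)
        refine ⟨l * i, ?_⟩
        rw [MulAut.mul_apply, MulAut.mul_apply, hi, map_mul, map_zpow, hl', ← zpow_mul]
        exact congrArg (· * _) (δ.symm_apply_apply v)
    have h1 := IsReflection.agree hS hF h hδ₀ hrefl hw
    rw [show δ₀ w = w from hw', MulAut.mul_apply, MulAut.mul_apply] at h1
    exact (δ⁻¹ : MulAut S).injective (h1.trans (δ.symm_apply_apply w).symm)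
  have hCn : F.IsNormal C := by
    refine isNormal_of_invariant h hS hF (fun x ⟨hx, _⟩ => hx) hT ?_
    intro V hV x hxA w hwC
    obtain ⟨zv, s, hzv, dv⟩ := hV.exists_data h hS hF
    by_cases hx : x * s * x⁻¹ ∈ autInducedBy S V
    · obtain ⟨δ, hδ, hδe⟩ := dv.exists_ext hS hF h hV hxA hx
      rw [← hδe w]
      exact hT δ hδ _ hwC
    · obtain ⟨hwZ, hw'⟩ := hwC
      have hx' := dv.not_mem_inv h hzv hV.2.1.1 hx
      obtain ⟨r, hr, hr'⟩ := exists_reflection hp2 h hS hF hcore hV hzv dv hxA hx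
      obtain ⟨r', hr1, hr1'⟩ := exists_reflection hp2 h hS hF hcore hV hzv dv (inv_mem hxA) hx'
      have h1 : ((x w : V) : Ω) ∈ Z := by
        have h2 := (hr1' w hwZ).1 ((IsReflection.agree hS hF h hδ₀ hr1 hwZ).trans hw')
        rwa [inv_inv] at h2
      refine ⟨h1, ?_⟩
      rw [← IsReflection.agree hS hF h hδ₀ hr h1]
      refine (hr' (x w) h1).2 ?_
      rw [show x⁻¹ (x w) = w from x.symm_apply_apply w]
      exact hwZ
  have hC := eq_bot_of_isNormal hcore hCn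
  intro w hw
  obtain ⟨i, hi⟩ := hδ₀.2.2 ⟨w, hw.1⟩ hw
  obtain ⟨c1, c2, hc⟩ := (Prime.coprime_iff_not_dvd (Nat.prime_iff_prime_int.1 hp)).2
    (fun hd : (p : ℤ) ∣ 2 => hp2 ((Nat.prime_dvd_prime_iff_eq hp Nat.prime_two).1 (by exact_mod_cast hd)))
  have hzsp : zs ^ p = 1 := Subtype.ext (by simpa [zs] using h.pow)
  have hmem : w * z ^ (c2 * i) ∈ C := by
    refine ⟨Z.mul_mem hw (h.zpow_central _), ?_⟩
    have e : (⟨w * z ^ (c2 * i), (Z.mul_mem hw (h.zpow_central _)).1⟩ : S) = ⟨w, hw.1⟩ * zs ^ (c2 * i) :=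
      Subtype.ext (by simp [zs])
    rw [e, map_mul, map_zpow, hi, hδ₀.2.1, inv_zpow', mul_assoc, ← zpow_add]
    congr 1
    exact zpow_eq_of_dvd hzsp ⟨i * c1, by linear_combination -i * hc⟩
  rw [hC, Subgroup.mem_bot, mul_eq_one_iff_eq_inv, ← zpow_neg] at hmem
  rw [hmem]
  exact Subgroup.zpow_mem_zpowers z _

/-! ### `p = 2` -/

/-- For `p = 2` an element moved by a transvection is moved by its centre. -/
theorem eq_mul_of_ne {M : Type*} [Group M] {g : MulAut M} {v c : M} (hc : c ^ 2 = 1)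
    (h : ∃ i : ℤ, g v = v * c ^ i) (hne : g v ≠ v) : g v = v * c := by
  obtain ⟨i, hi⟩ := h
  rcases Int.even_or_odd i with ⟨k, hk⟩ | ⟨k, hk⟩
  · exact absurd (by rw [hi, hk, ← two_mul, zpow_mul, zpow_ofNat, hc, one_zpow, mul_one]) hne
  · rw [hi, hk, zpow_add, zpow_one, zpow_mul, zpow_ofNat, hc, one_zpow, one_mul]

variable {F₂ : FusionSystem S}

/-- A conjugate of `t` induced by `S` is `t`. -/
theorem conj_eq_of_induced {U : Subgroup Ω} {zu : U} {t : MulAut U} (h : CenterSq S 2 z) (hzu : (zu : Ω) = z)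
    (d : PlaneData F₂ 2 U zu t) {y : MulAut U} (hy : y * t * y⁻¹ ∈ autInducedBy S U) : y * t * y⁻¹ = t := by
  obtain ⟨k, hk⟩ := d.gen _ hy
  letI : CommGroup U := { (inferInstance : Group U) with mul_comm := d.comm }
  have htt : t ^ 2 = 1 := by
    refine MulEquiv.ext fun v => ?_
    obtain ⟨i, hi⟩ := d.trans v
    rw [pow_two, MulAut.mul_apply, hi, map_mul, map_zpow, hi, (d.fix_iff zu).2 (hzu ▸ h.mem), mul_assoc,
      ← mul_zpow, ← pow_two, zu_pow h hzu, one_zpow, mul_one]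
    rfl
  rcases Int.even_or_odd k with ⟨l, hl⟩ | ⟨l, hl⟩
  · rw [hl, ← two_mul, zpow_mul, zpow_ofNat, htt, one_zpow] at hk
    rw [show t = 1 by
      have := congrArg (fun x => y⁻¹ * x * y) hk
      simpa [mul_assoc] using this]
    group
  · rw [hk, hl, zpow_add, zpow_one, zpow_mul, zpow_ofNat, htt, one_zpow, one_mul]

section Two

variable {U : Subgroup Ω} {zu : U} {t : MulAut U}

/-- There are only three transvections. -/
theorem PlaneData.three [Fact (Nat.Prime 2)] (d : PlaneData F₂ 2 U zu t) (h : CenterSq S 2 z) (hzu : (zu : Ω) = z)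
    (hU : U ≤ S) {τ y : MulAut U} (hτA : τ ∈ F₂.autGroup U) (hτ : τ * t * τ⁻¹ ∉ autInducedBy S U)
    (hyA : y ∈ F₂.autGroup U) (hy : y * t * y⁻¹ ∉ autInducedBy S U) :
    y * t * y⁻¹ = τ * t * τ⁻¹ ∨ y * t * y⁻¹ = (τ * t * τ⁻¹) * t * (τ * t * τ⁻¹)⁻¹ := by
  letI : CommGroup U := { (inferInstance : Group U) with mul_comm := d.comm }
  have hzp := zu_pow h hzu
  have hcp : (τ zu) ^ 2 = 1 := by rw [← map_pow, hzp, map_one]
  have hdp : (y zu) ^ 2 = 1 := by rw [← map_pow, hzp, map_one]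
  set u := τ * t * τ⁻¹ with hu
  have htA : t ∈ F₂.autGroup U := H96.autInducedBy_le_autGroup F₂ hU d.induced
  have huA : u ∈ F₂.autGroup U := mul_mem (mul_mem hτA htA) (inv_mem hτA)
  -- distinct conjugates move each other's centres
  have hmove : ∀ a b : MulAut U, a ∈ F₂.autGroup U → b ∈ F₂.autGroup U → b * t * b⁻¹ ≠ a * t * a⁻¹ →
      (a * t * a⁻¹) (b zu) ≠ b zu := by
    intro a b ha hb hne heq
    refine d.key (a⁻¹ * b) (mul_mem (inv_mem ha) hb) (fun hin => hne ?_) ?_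
    · have := conj_eq_of_induced h hzu d hin
      calc b * t * b⁻¹ = a * ((a⁻¹ * b) * t * (a⁻¹ * b)⁻¹) * a⁻¹ := by group
        _ = a * t * a⁻¹ := by rw [this]
    · apply a.injective
      rw [MulAut.mul_apply, show a (a⁻¹ (b zu)) = b zu from a.apply_symm_apply _]
      rw [MulAut.mul_apply, MulAut.mul_apply] at heq
      exact heq
  by_contra hno
  push Not at hno
  obtain ⟨hno1, hno2⟩ := hno
  have e1 : t (τ zu) = τ zu * zu := eq_mul_of_ne hzp (d.trans _) (d.key τ hτA hτ)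
  have e2 : t (y zu) = y zu * zu := eq_mul_of_ne hzp (d.trans _) (d.key y hyA hy)
  have e3 : u (y zu) = y zu * τ zu := eq_mul_of_ne hcp (d.conj_trans τ _) (hmove τ y hτA hyA hno1)
  have e4 : u zu = zu * τ zu := by
    refine eq_mul_of_ne hcp (d.conj_trans τ _) ?_
    have := hmove τ 1 hτA (one_mem _) (by
      intro e
      rw [one_mul, inv_one, mul_one] at e
      exact hτ (by rw [hu, ← e]; exact d.induced))
    simpa [hu] using this
  have e5 : u (τ zu) = τ zu := by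
    rw [hu, MulAut.mul_apply, MulAut.mul_apply, show τ⁻¹ (τ zu) = zu from τ.symm_apply_apply zu,
      (d.fix_iff zu).2 (hzu ▸ h.mem)]
  refine hmove u y huA hyA hno2 ?_
  have e6 : u (y zu * τ zu) = y zu := by
    rw [map_mul, e3, e5, mul_assoc, ← pow_two, hcp, mul_one]
  have e7 : u⁻¹ (y zu) = y zu * τ zu := u.symm_apply_eq.2 e6.symm
  rw [MulAut.mul_apply, MulAut.mul_apply, e7, map_mul, e2, e1, mul_mul_mul_comm (y zu) zu (τ zu) zu, ← pow_two, hzp,
    mul_one, e6]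

/-- Every conjugate of `t` fixes the common fixed points. -/
theorem PlaneData.conj_fix [Fact (Nat.Prime 2)] (d : PlaneData F₂ 2 U zu t) (h : CenterSq S 2 z) (hzu : (zu : Ω) = z)
    (hU : U ≤ S) {τ y : MulAut U} (hτA : τ ∈ F₂.autGroup U) (hτ : τ * t * τ⁻¹ ∉ autInducedBy S U)
    (hyA : y ∈ F₂.autGroup U) {w : U} (h1 : t w = w) (h2 : (τ * t * τ⁻¹) w = w) :
    (y * t * y⁻¹) w = w := by
  by_cases hy : y * t * y⁻¹ ∈ autInducedBy S U
  · rw [conj_eq_of_induced h hzu d hy, h1]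
  · rcases d.three h hzu hU hτA hτ hyA hy with e | e <;> rw [e]
    · exact h2
    · rw [MulAut.mul_apply, MulAut.mul_apply, show (τ * t * τ⁻¹)⁻¹ w = w from (τ * t * τ⁻¹).symm_apply_eq.2 h2.symm, h1, h2]

/-- An automorphism moving `t` is a product of an element of `⟨t, u⟩` and one normalizing `t`. -/
theorem PlaneData.factor [Fact (Nat.Prime 2)] (d : PlaneData F₂ 2 U zu t) (h : CenterSq S 2 z) (hzu : (zu : Ω) = z)
    (hU : U ≤ S) {τ x : MulAut U} (hτA : τ ∈ F₂.autGroup U) (hτ : τ * t * τ⁻¹ ∉ autInducedBy S U)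
    (hxA : x ∈ F₂.autGroup U) :
    ∃ l ∈ Subgroup.closure ({t, τ * t * τ⁻¹} : Set (MulAut U)), l ∈ F₂.autGroup U ∧
      (l⁻¹ * x) * t * (l⁻¹ * x)⁻¹ ∈ autInducedBy S U := by
  by_cases hx : x * t * x⁻¹ ∈ autInducedBy S U
  · exact ⟨1, one_mem _, one_mem _, by simpa using hx⟩
  letI : CommGroup U := { (inferInstance : Group U) with mul_comm := d.comm }
  have htA : t ∈ F₂.autGroup U := H96.autInducedBy_le_autGroup F₂ hU d.induced
  set v := x * t * x⁻¹ with hv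
  have hvA : v ∈ F₂.autGroup U := mul_mem (mul_mem hxA htA) (inv_mem hxA)
  have hzf : t zu = zu := (d.fix_iff zu).2 (hzu ▸ h.mem)
  have hvz : v zu ≠ zu := by
    intro e
    refine d.key x⁻¹ (inv_mem hxA) (d.not_mem_inv h hzu hU hx) ?_
    apply x.injective
    rw [show x (x⁻¹ zu) = zu from x.apply_symm_apply zu]
    rw [hv, MulAut.mul_apply, MulAut.mul_apply] at e
    exact e
  -- `t v t = v t v`
  have hbraid : t * v * t⁻¹ = v * t * v⁻¹ := by
    have hout : (t * x) * t * (t * x)⁻¹ ∉ autInducedBy S U := fun hin => hx (by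
      have := mul_mem (mul_mem (inv_mem d.induced) hin) d.induced
      simpa [hv, mul_assoc] using this)
    have e : (t * x) * t * (t * x)⁻¹ = t * v * t⁻¹ := by rw [hv]; group
    rcases d.three h hzu hU hxA hx (mul_mem htA hxA) hout with e' | e'
    · exfalso
      rw [e] at e'
      have hcomm : t * v = v * t := mul_inv_eq_iff_eq_mul.1 e'
      have e1 : t (x zu) = x zu * zu := eq_mul_of_ne (zu_pow h hzu) (d.trans _) (d.key x hxA hx)
      have e2 : v (x zu) = x zu := by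
        rw [hv, MulAut.mul_apply, MulAut.mul_apply, show x⁻¹ (x zu) = zu from x.symm_apply_apply zu, hzf]
      apply hvz
      have e3 : t (v (x zu)) = v (t (x zu)) := DFunLike.congr_fun hcomm (x zu)
      rw [e2, e1, map_mul, e2, mul_right_inj] at e3
      exact e3.symm
    · rw [← e, e']
  have hvc : v ∈ Subgroup.closure ({t, τ * t * τ⁻¹} : Set (MulAut U)) := by
    have h1 : t ∈ Subgroup.closure ({t, τ * t * τ⁻¹} : Set (MulAut U)) :=
      Subgroup.subset_closure (Set.mem_insert _ _)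
    have h2 : τ * t * τ⁻¹ ∈ Subgroup.closure ({t, τ * t * τ⁻¹} : Set (MulAut U)) :=
      Subgroup.subset_closure (Set.mem_insert_of_mem _ rfl)
    rcases d.three h hzu hU hτA hτ hxA hx with e | e <;> rw [hv, e]
    · exact h2
    · exact mul_mem (mul_mem h2 h1) (inv_mem h2)
  refine ⟨t * v, mul_mem (Subgroup.subset_closure (Set.mem_insert _ _)) hvc, mul_mem htA hvA, ?_⟩
  have : ((t * v)⁻¹ * x) * t * ((t * v)⁻¹ * x)⁻¹ = t := by
    calc ((t * v)⁻¹ * x) * t * ((t * v)⁻¹ * x)⁻¹ = v⁻¹ * (t⁻¹ * v * t) * v := by rw [hv]; group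
      _ = t := by
        have h9 : t⁻¹ = t := by
          obtain ⟨k, hk⟩ := d.gen _ (inv_mem d.induced)
          refine inv_eq_of_mul_eq_one_right (MulEquiv.ext fun w => ?_)
          obtain ⟨i, hi⟩ := d.trans w
          rw [MulAut.mul_apply, hi, map_mul, map_zpow, hi, hzf, mul_assoc, ← mul_zpow, ← pow_two, zu_pow h hzu,
            one_zpow, mul_one]
          rfl
        rw [h9]
        nth_rewrite 2 [← h9]
        rw [hbraid]
        group
  rw [this]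
  exact d.induced

end Two

theorem IsElemMax.eq_or_eq (h : CenterSq S 2 z) [Fact (Nat.Prime 2)] {U₁ U₂ V : Subgroup Ω} (h1 : IsElemMax S 2 U₁)
    (h2 : IsElemMax S 2 U₂) (hne : U₂ ≠ U₁) (hV : IsElemMax S 2 V) : V = U₁ ∨ V = U₂ := by
  set Z := S ⊓ Subgroup.centralizer (S : Set Ω) with hZdef
  obtain ⟨x, hxV, hxZ⟩ : ∃ x ∈ V, x ∉ Z := by
    by_contra hall
    push Not at hall
    have := H96.finite_of_le (inf_le_left : Z ≤ S)
    have h3 := Subgroup.card_le_of_le (show V ≤ Z from hall)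
    rw [hV.2.2.2.2, ← hZdef] at h3
    have : 0 < Nat.card Z := Nat.card_pos
    omega
  obtain ⟨a, ha, b, hb, rfl⟩ := IsElemMax.exists_mul h h1 h2 hne (hV.1 hxV)
  by_contra hno
  push Not at hno
  have haZ : a ∉ Z := fun haZ => by
    have hbV : b ∈ V := by simpa using V.mul_mem (V.inv_mem (hV.2.1 haZ)) hxV
    exact hxZ (Z.mul_mem haZ ((IsElemMax.inf_eq h2 hV hno.2).le ⟨hb, hbV⟩))
  have hbZ : b ∉ Z := fun hbZ => by
    have haV : a ∈ V := by simpa using V.mul_mem hxV (V.inv_mem (hV.2.1 hbZ))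
    exact haZ ((IsElemMax.inf_eq h1 hV hno.1).le ⟨ha, haV⟩)
  apply haZ
  have hab : a * b = b * a := by
    have h3 : a * b * (a * b) = 1 := by rw [← pow_two]; exact hV.2.2.2.1 _ hxV
    have h4 : a * a = 1 := by rw [← pow_two]; exact h1.2.2.2.1 a ha
    have h5 : b * b = 1 := by rw [← pow_two]; exact h2.2.2.2.1 b hb
    calc a * b = (a * b)⁻¹ := eq_inv_of_mul_eq_one_left h3
      _ = b * a := by rw [mul_inv_rev, inv_eq_of_mul_eq_one_left h4, inv_eq_of_mul_eq_one_left h5]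
  -- `a` commutes with both
  refine mem_centre.2 ⟨h1.1 ha, fun s hs => ?_⟩
  obtain ⟨a', ha', b', hb', rfl⟩ := IsElemMax.exists_mul h h1 h2 hne hs
  have hbb : b' * a = a * b' := by
    -- `U₂` is generated by the centre and `b`
    have hle : Z ⊔ Subgroup.zpowers b ≤ U₂ := sup_le h2.2.1 (Subgroup.zpowers_le.2 hb)
    have := H96.finite_of_le h2.1
    have heq : Z ⊔ Subgroup.zpowers b = U₂ := by
      refine Subgroup.eq_of_le_of_card_ge hle ?_
      have hd := Subgroup.card_dvd_of_le hle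
      obtain ⟨l, hl⟩ := Subgroup.card_dvd_of_le (le_sup_left : Z ≤ Z ⊔ Subgroup.zpowers b)
      rw [hl, h2.2.2.2.2, mul_comm 2] at hd
      have := H96.finite_of_le (inf_le_left : Z ≤ S)
      rcases (Nat.dvd_prime Nat.prime_two).1 (Nat.dvd_of_mul_dvd_mul_left Nat.card_pos hd) with rfl | rfl
      · have := H96.finite_of_le (hle.trans h2.1)
        exact absurd (Subgroup.eq_of_le_of_card_ge le_sup_left (by rw [hl, mul_one]))
          (fun e => hbZ (e.ge (Subgroup.mem_sup_right (Subgroup.mem_zpowers b))))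
      · rw [hl, h2.2.2.2.2, mul_comm]
    have hgen : Z ⊔ Subgroup.zpowers b ≤ Subgroup.centralizer ({a} : Set Ω) :=
      sup_le (fun w hw => Subgroup.mem_centralizer_singleton_iff.2 ((mem_centre.1 hw).2 a (h1.1 ha)).symm)
        (Subgroup.zpowers_le.2 (Subgroup.mem_centralizer_singleton_iff.2 hab.symm))
    exact Subgroup.mem_centralizer_singleton_iff.1 (hgen (heq.ge hb'))
  rw [mul_assoc, hbb, ← mul_assoc, h1.2.2.1 a' ha' a ha, mul_assoc]

/-- Automorphisms of `S` fix both elementary abelian maximal subgroups. -/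
theorem IsElemMax.invariant [Fact (Nat.Prime 2)] (h : CenterSq S 2 z) (hS : IsPGroup 2 S) (hF : F.IsSaturated 2)
    {U₁ U₂ : Subgroup Ω} (h1 : IsElemMax S 2 U₁) (h2 : IsElemMax S 2 U₂) (hne : U₂ ≠ U₁) {δ : MulAut S}
    (hδ : δ ∈ F.autGroup S) {w : S} (hw : (w : Ω) ∈ U₁) : ((δ w : S) : Ω) ∈ U₁ := by
  set Z := S ⊓ Subgroup.centralizer (S : Set Ω) with hZdef
  have hmap : ∀ V, IsElemMax S 2 V →
      IsElemMax S 2 (((V.subgroupOf S).map δ.toMonoidHom).map S.subtype) := by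
    intro V hV
    refine ⟨Subgroup.map_subtype_le _, fun x hx => ?_, ?_, ?_, ?_⟩
    · exact ⟨⟨x, hx.1⟩, ⟨δ⁻¹ ⟨x, hx.1⟩, hV.2.1 (aut_top_centre hx), δ.apply_symm_apply _⟩, rfl⟩
    · rintro _ ⟨_, ⟨a, ha, rfl⟩, rfl⟩ _ ⟨_, ⟨b, hb, rfl⟩, rfl⟩
      rw [← map_mul, ← map_mul, ← map_mul, ← map_mul, show a * b = b * a from Subtype.ext (hV.2.2.1 a ha b hb)]
    · rintro _ ⟨_, ⟨a, ha, rfl⟩, rfl⟩
      rw [← map_pow, ← map_pow, show a ^ 2 = 1 from Subtype.ext (by simpa using hV.2.2.2.1 a ha), map_one, map_one]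
    · rw [Subgroup.card_map_of_injective S.subtype_injective, Subgroup.card_map_of_injective δ.injective,
        Nat.card_congr (Subgroup.subgroupOfEquivOfLe hV.1).toEquiv, hV.2.2.2.2]
  rcases IsElemMax.eq_or_eq h h1 h2 hne (hmap U₁ h1) with e | e
  · rw [← e]; exact ⟨_, ⟨w, hw, rfl⟩, rfl⟩
  exfalso
  have e2 : ((U₂.subgroupOf S).map δ.toMonoidHom).map S.subtype = U₁ := by
    refine (IsElemMax.eq_or_eq h h1 h2 hne (hmap U₂ h2)).resolve_right fun e' => hne ?_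
    have h3 := Subgroup.map_injective (f := δ.toMonoidHom) δ.injective
      (Subgroup.map_injective S.subtype_injective (e'.trans e.symm))
    rw [← Subgroup.map_subgroupOf_eq_of_le h2.1, h3, Subgroup.map_subgroupOf_eq_of_le h1.1]
  have hsw : ∀ n : ℕ, (Even n → ∀ v : S, (v : Ω) ∈ U₁ → (((δ ^ n) v : S) : Ω) ∈ U₁) ∧
      (¬ Even n → ∀ v : S, (v : Ω) ∈ U₁ → (((δ ^ n) v : S) : Ω) ∈ U₂) := by
    intro n
    induction n with
    | zero => exact ⟨fun _ v hv => hv, fun hn => absurd Even.zero hn⟩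
    | succ n ih =>
      refine ⟨fun hn v hv => ?_, fun hn v hv => ?_⟩
      · rw [pow_succ', MulAut.mul_apply, ← e2]
        exact ⟨_, ⟨(δ ^ n) v, ih.2 (Nat.even_add_one.1 hn) v hv, rfl⟩, rfl⟩
      · rw [pow_succ', MulAut.mul_apply, ← e]
        exact ⟨_, ⟨(δ ^ n) v, ih.1 (by simpa [Nat.even_add_one] using hn) v hv, rfl⟩, rfl⟩
  obtain ⟨m, hm, hin⟩ := exists_coprime_pow_inner hS hF hδ
  obtain ⟨g, hg, hge⟩ := H96.mem_autInducedBy.1 hin
  obtain ⟨x, hx, hxZ⟩ : ∃ x ∈ U₁, x ∉ Z := by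
    by_contra hall
    push Not at hall
    have := H96.finite_of_le (inf_le_left : Z ≤ S)
    have h3 := Subgroup.card_le_of_le (show U₁ ≤ Z from hall)
    rw [h1.2.2.2.2, ← hZdef] at h3
    have : 0 < Nat.card Z := Nat.card_pos
    omega
  have h5 : (((δ ^ m) ⟨x, h1.1 hx⟩ : S) : Ω) ∈ U₁ := by
    rw [hge]
    obtain ⟨i, hi⟩ := h.comm g hg x (h1.1 hx)
    show g * x * g⁻¹ ∈ U₁
    rw [show g * x * g⁻¹ = (g * x * g⁻¹ * x⁻¹) * x by group, hi]
    exact U₁.mul_mem (h1.2.1 (h.zpow_central i)) hx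
  have h6 := (hsw m).2 (fun he => hm (even_iff_two_dvd.1 he)) ⟨x, h1.1 hx⟩ hx
  have h7 : (δ ^ m) ⟨x, h1.1 hx⟩ ∈ Z.subgroupOf S := (IsElemMax.inf_eq h1 h2 hne).le ⟨h5, h6⟩
  have h8 := aut_top_centre (δ := (δ ^ m)⁻¹) h7
  rw [show ((δ ^ m)⁻¹ : MulAut S) ((δ ^ m) ⟨x, h1.1 hx⟩) = ⟨x, h1.1 hx⟩ from (δ ^ m).symm_apply_apply _] at h8
  exact hxZ h8

/-- The largest invariant part of the centre in a plane subgroup. -/
def planeFix (F : FusionSystem S) (U : Subgroup Ω) : Subgroup Ω where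
  carrier := {x | ∃ hx : x ∈ U, ∀ τ ∈ F.autGroup U,
    ((τ ⟨x, hx⟩ : U) : Ω) ∈ S ⊓ Subgroup.centralizer (S : Set Ω)}
  one_mem' := ⟨U.one_mem, fun τ _ => by rw [show (⟨1, U.one_mem⟩ : U) = 1 from rfl, map_one]; exact one_mem _⟩
  mul_mem' := by
    rintro a b ⟨ha, ha'⟩ ⟨hb, hb'⟩
    refine ⟨U.mul_mem ha hb, fun τ hτ => ?_⟩
    rw [show (⟨a * b, U.mul_mem ha hb⟩ : U) = ⟨a, ha⟩ * ⟨b, hb⟩ from rfl, map_mul]
    exact mul_mem (ha' τ hτ) (hb' τ hτ)
  inv_mem' := by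
    rintro a ⟨ha, ha'⟩
    refine ⟨U.inv_mem ha, fun τ hτ => ?_⟩
    rw [show (⟨a⁻¹, U.inv_mem ha⟩ : U) = ⟨a, ha⟩⁻¹ from rfl, map_inv]
    exact inv_mem (ha' τ hτ)

theorem planeFix_le {U : Subgroup Ω} : planeFix F U ≤ S ⊓ Subgroup.centralizer (S : Set Ω) := by
  rintro x ⟨hx, hx'⟩
  exact hx' 1 (one_mem _)

/-- The centre is `z` times the invariant part. -/
theorem planeFix_spec [Fact (Nat.Prime 2)] (h : CenterSq S 2 z) (hS : IsPGroup 2 S) (hF : F.IsSaturated 2)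
    {U : Subgroup Ω} (hU : IsPlaneSub F 2 U) {w : Ω} (hw : w ∈ S ⊓ Subgroup.centralizer (S : Set Ω)) :
    ∃ (i : ℤ) (c : Ω), c ∈ planeFix F U ∧ w = z ^ i * c := by
  obtain ⟨zu, t, hzu, d⟩ := hU.exists_data h hS hF
  obtain ⟨τ, hτA, hτ⟩ := d.moved
  have hwU := (h.centric_spec hS hU.2.1 hU.2.2.2).1 hw
  obtain ⟨i, w', hw', h1, h2⟩ := d.decomp_centre h hzu hU.2.1.1 hτA hτ ((d.fix_iff ⟨w, hwU⟩).2 hw)
  refine ⟨i, (w' : Ω), ⟨w'.2, fun y hy => (d.fix_iff _).1 ?_⟩, ?_⟩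
  · have h3 := d.conj_fix h hzu hU.2.1.1 hτA hτ (inv_mem hy) h1 h2
    rw [inv_inv, MulAut.mul_apply, MulAut.mul_apply] at h3
    exact (y⁻¹ : MulAut U).injective (h3.trans (y.symm_apply_apply w').symm)
  · have := congrArg Subtype.val hw'
    simpa [hzu] using this

/-- Automorphisms of `S` stabilizing `U` preserve its invariant part. -/
theorem planeFix_invariant {U : Subgroup Ω} (hUS : U ≤ S) {δ : MulAut S} (hδ : δ ∈ F.autGroup S)
    (hinv : ∀ w : S, (w : Ω) ∈ U → ((δ w : S) : Ω) ∈ U) {w : S} (hw : (w : Ω) ∈ planeFix F U) :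
    ((δ w : S) : Ω) ∈ planeFix F U := by
  obtain ⟨hwU, hw'⟩ := hw
  have hδF := (H96.mem_autGroup F le_rfl).1 hδ
  obtain ⟨α, hα, hαe⟩ := H96.exists_autGroup_of_mem F (H96.res_mem F hδF hUS)
    (fun x => hinv ⟨x, hUS x.2⟩ x.2)
  refine ⟨hinv w hwU, fun τ hτ => ?_⟩
  have h1 := hw' (τ * α) (mul_mem hτ hα)
  rw [MulAut.mul_apply] at h1
  rwa [show (⟨((δ w : S) : Ω), hinv w hwU⟩ : U) = α ⟨w, hwU⟩ from Subtype.ext (hαe ⟨w, hwU⟩).symm]

/-- For `p = 2` and full hyperfocal subgroup the centre has order two. -/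
theorem CenterSq.centre_eq_two [Fact (Nat.Prime 2)] (h : CenterSq S 2 z) (hS : IsPGroup 2 S)
    (hF : F.IsSaturated 2) (hcore : F.core = ⊥) (hhyp : F.hyperfocalSubgroup 2 = S) :
    S ⊓ Subgroup.centralizer (S : Set Ω) ≤ Subgroup.zpowers z := by
  set Z := S ⊓ Subgroup.centralizer (S : Set Ω) with hZ
  obtain ⟨U, hU, hsec⟩ := exists_second h hS hF hcore
  obtain ⟨V, hV, hVne⟩ : ∃ V, IsPlaneSub F 2 V ∧ V ≠ U := by
    rcases hsec with h' | ⟨δ, hδ, V, hVe, hVne, hmap⟩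
    · exact h'
    exfalso
    have hUe := hU.isElemMax h hS hF hcore
    obtain ⟨x, hx, hxZ⟩ : ∃ x ∈ U, x ∉ Z := by
      by_contra hall
      push Not at hall
      have := H96.finite_of_le (inf_le_left : Z ≤ S)
      have h3 := Subgroup.card_le_of_le (show U ≤ Z from hall)
      rw [hUe.2.2.2.2, ← hZ] at h3
      have : 0 < Nat.card Z := Nat.card_pos
      omega
    have h1 := IsElemMax.invariant h hS hF hUe hVe hVne hδ (w := ⟨x, hUe.1 hx⟩) hx
    have h2 := hmap ⟨x, hUe.1 hx⟩ hx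
    have h3 : δ ⟨x, hUe.1 hx⟩ ∈ Z.subgroupOf S := (IsElemMax.inf_eq hUe hVe hVne).le ⟨h1, h2⟩
    have h4 := aut_top_centre (δ := δ⁻¹) h3
    rw [show δ⁻¹ (δ ⟨x, hUe.1 hx⟩) = ⟨x, hUe.1 hx⟩ from δ.symm_apply_apply _] at h4
    exact hxZ h4
  have hUe := hU.isElemMax h hS hF hcore
  have hVe := hV.isElemMax h hS hF hcore
  set C := planeFix F U ⊓ planeFix F V with hC
  have hinvU : ∀ δ ∈ F.autGroup S, ∀ w : S, (w : Ω) ∈ U → ((δ w : S) : Ω) ∈ U :=
    fun δ hδ w hw => IsElemMax.invariant h hS hF hUe hVe hVne hδ hw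
  have hinvV : ∀ δ ∈ F.autGroup S, ∀ w : S, (w : Ω) ∈ V → ((δ w : S) : Ω) ∈ V :=
    fun δ hδ w hw => IsElemMax.invariant h hS hF hVe hUe hVne.symm hδ hw
  have hT : ∀ δ ∈ F.autGroup S, ∀ w : S, (w : Ω) ∈ C → ((δ w : S) : Ω) ∈ C := fun δ hδ w hw =>
    ⟨planeFix_invariant hUe.1 hδ (hinvU δ hδ) hw.1, planeFix_invariant hVe.1 hδ (hinvV δ hδ) hw.2⟩
  have hplane : ∀ W, IsPlaneSub F 2 W → W = U ∨ W = V := fun W hW =>
    IsElemMax.eq_or_eq h hUe hVe hVne (hW.isElemMax h hS hF hcore)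
  have hCn : F.IsNormal C := by
    refine isNormal_of_invariant h hS hF (inf_le_left.trans planeFix_le) hT fun W hW x hxA w hwC => ?_
    obtain ⟨zw, t, hzw, d⟩ := hW.exists_data h hS hF
    obtain ⟨τ, hτA, hτ⟩ := d.moved
    obtain ⟨l, hl, hlA, hn⟩ := d.factor h hzw hW.2.1.1 hτA hτ hxA
    obtain ⟨δ, hδ, hδe⟩ := d.exists_ext hS hF h hW (mul_mem (inv_mem hlA) hxA) hn
    have h1 := hT δ hδ ⟨w, hW.2.1.1 w.2⟩ hwC
    rw [hδe w, MulAut.mul_apply] at h1
    have hfix : l (l⁻¹ (x w)) = l⁻¹ (x w) := by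
      have h2 : ((l⁻¹ (x w) : W) : Ω) ∈ planeFix F W := by
        rcases hplane W hW with rfl | rfl
        · exact h1.1
        · exact h1.2
      obtain ⟨hm, hm'⟩ := h2
      refine closure_fix ((d.fix_iff ⟨_, hm⟩).2 (hm' 1 (one_mem _))) ?_ hl
      rw [MulAut.mul_apply, MulAut.mul_apply, (d.fix_iff _).2 (hm' τ⁻¹ (inv_mem hτA))]
      exact τ.apply_symm_apply _
    rw [show l (l⁻¹ (x w)) = x w from l.apply_symm_apply _] at hfix
    rw [hfix]
    exact h1
  have hC1 := eq_bot_of_isNormal hcore hCn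
  -- the invariant parts are small
  have hz2 : z * z = 1 := by rw [← pow_two]; exact h.pow
  have hzi : ∀ i : ℤ, z ^ i = 1 ∨ z ^ i = z := by
    intro i
    rcases Int.even_or_odd i with ⟨k, hk⟩ | ⟨k, hk⟩
    · left; rw [hk, ← two_mul, zpow_mul, zpow_ofNat, h.pow, one_zpow]
    · right; rw [hk, zpow_add, zpow_one, zpow_mul, zpow_ofNat, h.pow, one_zpow, one_mul]
  have hone : ∀ c ∈ planeFix F U, ∀ c' ∈ planeFix F U, c ≠ 1 → c' ≠ 1 → c = c' := by
    have hout : ∀ c ∈ planeFix F U, c ≠ 1 → ∃ e ∈ planeFix F V, c = z * e := by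
      intro c hc hc1
      obtain ⟨i, e, he, hce⟩ := planeFix_spec h hS hF hV (planeFix_le hc)
      rcases hzi i with e1 | e1
      · rw [e1, one_mul] at hce
        exact absurd (Subgroup.mem_bot.1 (hC1.le ⟨hc, hce ▸ he⟩)) hc1
      · exact ⟨e, he, by rw [hce, e1]⟩
    intro c hc c' hc' h1 h1'
    obtain ⟨e, he, rfl⟩ := hout c hc h1
    obtain ⟨e', he', rfl⟩ := hout c' hc' h1'
    have hze : e * z = z * e := h.commute (planeFix_le he).1
    have h2 : z * e * (z * e') = e * e' := by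
      rw [← mul_assoc, mul_assoc z e z, hze, ← mul_assoc z z, hz2, one_mul]
    have h3 : z * e * (z * e') ∈ C := ⟨mul_mem hc hc', h2 ▸ mul_mem he he'⟩
    rw [hC1, Subgroup.mem_bot] at h3
    have h4 : (z * e') * (z * e') = 1 := by
      rw [← pow_two]; exact h.pow_centre hS hF hcore _ (planeFix_le hc')
    exact mul_right_cancel (h3.trans h4.symm)
  by_contra hle
  obtain ⟨w₀, hw₀, hw₀z⟩ := SetLike.not_le_iff_exists.1 hle
  obtain ⟨i₀, c₁, hc₁, hwc⟩ := planeFix_spec h hS hF hU hw₀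
  have hc₁1 : c₁ ≠ 1 := fun e => hw₀z (by rw [hwc, e, mul_one]; exact Subgroup.zpow_mem_zpowers z i₀)
  have hZ4 : ∀ w ∈ Z, ∃ (i : ℤ) (j : ℕ), w = z ^ i * c₁ ^ j := by
    intro w hw
    obtain ⟨i, c, hc, hwc⟩ := planeFix_spec h hS hF hU hw
    by_cases hc1 : c = 1
    · exact ⟨i, 0, by rw [hwc, hc1, pow_zero]⟩
    · exact ⟨i, 1, by rw [hwc, pow_one, hone c hc c₁ hc₁ hc1 hc₁1]⟩
  have hZS : ∀ δ ∈ F.autGroup S, ∀ w : S, (w : Ω) ∈ Z → δ w = w := by
    intro δ hδ w hw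
    have hz' : δ ⟨z, h.mem_S⟩ = ⟨z, h.mem_S⟩ := by
      obtain ⟨k, hk⟩ := h.aut_z δ
      rcases hzi k with e | e
      · exfalso
        rw [e] at hk
        exact h.ne_one (congrArg Subtype.val ((map_eq_one_iff δ δ.injective).1 (Subtype.ext hk)))
      · exact Subtype.ext (hk.trans e)
    have hc' : δ ⟨c₁, (planeFix_le hc₁).1⟩ = ⟨c₁, (planeFix_le hc₁).1⟩ := by
      refine Subtype.ext (hone _ (planeFix_invariant hUe.1 hδ (hinvU δ hδ) hc₁) c₁ hc₁ (fun e => hc₁1 ?_) hc₁1)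
      exact congrArg Subtype.val ((map_eq_one_iff δ δ.injective).1 (Subtype.ext e :
        δ ⟨c₁, (planeFix_le hc₁).1⟩ = 1))
    obtain ⟨i, j, hij⟩ := hZ4 w hw
    rw [show w = (⟨z, h.mem_S⟩ : S) ^ i * (⟨c₁, (planeFix_le hc₁).1⟩ : S) ^ j from Subtype.ext (by simpa using hij),
      map_mul, map_zpow, map_pow, hz', hc']
  obtain ⟨zu, t, hzu, d⟩ := hU.exists_data h hS hF
  obtain ⟨τ, hτA, hτ⟩ := d.moved
  obtain ⟨zv, s, hzv, dv⟩ := hV.exists_data h hS hF
  obtain ⟨σ, hσA, hσ⟩ := dv.moved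
  set a : Ω := ((τ zu : U) : Ω) with ha
  set b : Ω := ((σ zv : V) : Ω) with hb
  set T := Subgroup.zpowers z ⊔ Subgroup.zpowers a ⊔ Subgroup.zpowers b with hTdef
  have hzT : Subgroup.zpowers z ≤ T := le_sup_left.trans le_sup_left
  -- automorphisms of `S` move elements only by powers of `z`
  have hmoveS : ∀ δ ∈ F.autGroup S, ∀ x : S, (x : Ω)⁻¹ * (δ x : S) ∈ Subgroup.zpowers z := by
    intro δ hδ
    have hone' : ∀ W, IsElemMax S 2 W → (∀ w : S, (w : Ω) ∈ W → ((δ w : S) : Ω) ∈ W) →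
        ∀ x : S, (x : Ω) ∈ W → (x : Ω)⁻¹ * (δ x : S) ∈ Subgroup.zpowers z := by
      intro W hW hWi x hx
      have hd : ((x⁻¹ * δ x : S) : Ω) ∈ Z := by
        by_cases hxZ : (x : Ω) ∈ Z
        · rw [hZS δ hδ x hxZ, inv_mul_cancel]; exact Z.one_mem
        have hidx : (Z.subgroupOf W).index = 2 := by
          have h1 := (Z.subgroupOf W).index_mul_card
          have := H96.finite_of_le hW.1
          rw [Nat.card_congr (Subgroup.subgroupOfEquivOfLe hW.2.1).toEquiv, hW.2.2.2.2] at h1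
          have := H96.finite_of_le (inf_le_left : Z ≤ S)
          exact Nat.eq_of_mul_eq_mul_right Nat.card_pos h1
        have hdx : ((δ x : S) : Ω) ∉ Z := fun hm => hxZ (by
          have := aut_top_centre (δ := δ⁻¹) hm
          rwa [show δ⁻¹ (δ x) = x from δ.symm_apply_apply x] at this)
        have h2 := (Subgroup.mul_mem_iff_of_index_two hidx (a := (⟨x, hx⟩ : W)⁻¹) (b := ⟨_, hWi x hx⟩)).2
          (by simp only [Subgroup.inv_mem_iff, Subgroup.mem_subgroupOf]; exact iff_of_false hxZ hdx)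
        exact h2
      have hfix := fix_of_shift hS hF hδ (hZS δ hδ _ hd)
        (Subtype.ext (by simpa using h.pow_centre hS hF hcore _ hd)) (show δ x = x * (x⁻¹ * δ x) by group)
        ((Subgroup.zpowers z).subgroupOf S) (fun γ hγ => by
          obtain ⟨g, hg, hge⟩ := H96.mem_autInducedBy.1 hγ
          obtain ⟨i, hi⟩ := h.comm g hg x x.2
          show (x : Ω)⁻¹ * (γ x : S) ∈ Subgroup.zpowers z
          have hc := (mem_centre.1 (h.zpow_central i)).2 x x.2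
          rw [hge, show g * (x : Ω) * g⁻¹ = (g * (x : Ω) * g⁻¹ * (x : Ω)⁻¹) * x by group, hi, ← hc,
            inv_mul_cancel_left]
          exact Subgroup.zpow_mem_zpowers z i)
      exact hfix
    intro x
    obtain ⟨u, hu, v, hv, huv⟩ := IsElemMax.exists_mul h hUe hVe hVne x.2
    obtain rfl : x = ⟨u, hUe.1 hu⟩ * ⟨v, hVe.1 hv⟩ := Subtype.ext huv
    have h1 := hone' U hUe (hinvU δ hδ) ⟨u, hUe.1 hu⟩ hu
    have h2 := hone' V hVe (hinvV δ hδ) ⟨v, hVe.1 hv⟩ hv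
    rw [map_mul, Subgroup.coe_mul, Subgroup.coe_mul]
    obtain ⟨k, hk⟩ := h1
    have e : (u * v)⁻¹ * (((δ ⟨u, hUe.1 hu⟩ : S) : Ω) * ((δ ⟨v, hVe.1 hv⟩ : S) : Ω)) =
        z ^ k * (v⁻¹ * ((δ ⟨v, hVe.1 hv⟩ : S) : Ω)) := by
      rw [← mul_assoc (z ^ k), ← (mem_centre.1 (h.zpow_central k)).2 v⁻¹ (S.inv_mem (hVe.1 hv)),
        show z ^ k = u⁻¹ * ((δ ⟨u, hUe.1 hu⟩ : S) : Ω) from hk]
      group
    rw [e]
    exact mul_mem (Subgroup.zpow_mem_zpowers z k) h2
  have hmove : ∀ (P : Subgroup Ω) (φ : P →* Ω), φ ∈ F.Hom P → ∀ x : P, (x : Ω)⁻¹ * φ x ∈ T := by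
    intro P φ hφ
    refine H94.alperin_induction hS hF (fun P φ => ∀ x : P, (x : Ω)⁻¹ * φ x ∈ T)
      (fun P R hle φ _ hC x => hC ⟨x, hle x.2⟩) (fun P R φ ψ _ _ h1 h2 hh x => ?_)
      (fun W hn hc hr α hα x => ?_) hφ
    · have := mul_mem (h1 x) (h2 ⟨φ x, hh x⟩)
      simpa [mul_assoc] using this
    show (x : Ω)⁻¹ * ((α x : W) : Ω) ∈ T
    by_cases hWS : W = S
    · subst hWS
      exact hzT (hmoveS α hα x)
    have hW : IsPlaneSub F 2 W := ⟨hn, hc, hr, hWS⟩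
    obtain ⟨r, zw, tw, ρ, hzw, dw, hρA, hρ, hr'⟩ : ∃ (r : Ω) (zw : W) (tw ρ : MulAut W),
        (zw : Ω) = z ∧ PlaneData F 2 W zw tw ∧ ρ ∈ F.autGroup W ∧ ρ * tw * ρ⁻¹ ∉ autInducedBy S W ∧
          ((ρ zw : W) : Ω) = r ∧ r ∈ T := by
      rcases hplane W hW with rfl | rfl
      · exact ⟨a, zu, t, τ, hzu, d, hτA, hτ, rfl, Subgroup.mem_sup_left (Subgroup.mem_sup_right (Subgroup.mem_zpowers a))⟩
      · exact ⟨b, zv, s, σ, hzv, dv, hσA, hσ, rfl, Subgroup.mem_sup_right (Subgroup.mem_zpowers b)⟩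
    obtain ⟨hr1, hrT⟩ := hr'
    obtain ⟨l, hl, hlA, hn'⟩ := dw.factor h hzw hW.2.1.1 hρA hρ hα
    obtain ⟨δ, hδ, hδe⟩ := dw.exists_ext hS hF h hW (mul_mem (inv_mem hlA) hα) hn'
    have hl' : ∀ g ∈ Subgroup.closure ({tw, ρ * tw * ρ⁻¹} : Set (MulAut W)),
        ∀ y : W, (y : Ω)⁻¹ * ((g y : W) : Ω) ∈ T := by
      intro g hg
      induction hg using Subgroup.closure_induction with
      | mem g hg =>
        intro y
        rcases hg with rfl | rfl
        · obtain ⟨i, hi⟩ := dw.trans y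
          rw [hi, Subgroup.coe_mul, inv_mul_cancel_left, Subgroup.coe_zpow, hzw]
          exact hzT (Subgroup.zpow_mem_zpowers z i)
        · obtain ⟨i, hi⟩ := dw.conj_trans ρ y
          rw [hi, Subgroup.coe_mul, inv_mul_cancel_left, Subgroup.coe_zpow, hr1]
          exact zpow_mem hrT i
      | one => intro y; simp
      | mul f g _ _ hf hg =>
        intro y
        have := mul_mem (hg y) (hf (g y))
        simpa [mul_assoc] using this
      | inv f _ hf =>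
        intro y
        have h1 := hf (f⁻¹ y)
        rw [show f (f⁻¹ y) = y from f.apply_symm_apply y] at h1
        have h2 := inv_mem h1
        simpa using h2
    have h1 := hzT (hmoveS δ hδ ⟨x, hW.2.1.1 x.2⟩)
    rw [hδe x, MulAut.mul_apply] at h1
    have h2 := hl' l hl (l⁻¹ (α x))
    rw [show l (l⁻¹ (α x)) = α x from l.apply_symm_apply _] at h2
    have := mul_mem h1 h2
    simpa [mul_assoc] using this
  -- `T` is too small
  have hST : S ≤ T := by
    rw [← hhyp]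
    refine (Subgroup.closure_le _).2 ?_
    rintro _ ⟨P, α, x, hP, -, rfl⟩
    exact hmove P _ ((H96.mem_autGroup F hP).1 α.2) x
  have haS : a ∈ S := hUe.1 (τ zu).2
  have hbS : b ∈ S := hVe.1 (σ zv).2
  have hstep : ∀ (X : Subgroup Ω) (e : Ω), X ≤ S → Subgroup.zpowers z ≤ X → e ∈ S → e ^ 2 = 1 →
      Nat.card ↥(X ⊔ Subgroup.zpowers e) ≤ Nat.card X * 2 := by
    intro X e hX hzX he he2
    have := H96.finite_of_le hX
    have hn : Subgroup.zpowers e ≤ Subgroup.normalizer (X : Set Ω) := Subgroup.zpowers_le.2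
      (H94.mem_normalizer_of_forall_conj_mem fun r hr => by
        obtain ⟨i, hi⟩ := h.comm e he r (hX hr)
        rw [show e * r * e⁻¹ = (e * r * e⁻¹ * r⁻¹) * r by group, hi]
        exact X.mul_mem (hzX (Subgroup.zpow_mem_zpowers z i)) hr)
    have := H96.finite_of_le (Subgroup.zpowers_le.2 he)
    have hd : orderOf e ∣ 2 := orderOf_dvd_of_pow_eq_one he2
    calc Nat.card ↥(X ⊔ Subgroup.zpowers e) ≤ Nat.card (X × Subgroup.zpowers e) := by
          refine Nat.card_le_card_of_surjective (fun q => ⟨(q.1 : Ω) * q.2,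
            Subgroup.mul_mem_sup q.1.2 q.2.2⟩) ?_
          rintro ⟨x, hx⟩
          rw [← SetLike.mem_coe, Subgroup.coe_mul_of_right_le_normalizer_left _ _ hn] at hx
          obtain ⟨u, hu, v, hv, huv⟩ := hx
          exact ⟨(⟨u, hu⟩, ⟨v, hv⟩), Subtype.ext huv⟩
      _ ≤ Nat.card X * 2 := by
          rw [Nat.card_prod, Nat.card_zpowers]
          exact Nat.mul_le_mul_left _ (Nat.le_of_dvd two_pos hd)
  have hza : Subgroup.zpowers z ⊔ Subgroup.zpowers a ≤ S :=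
    sup_le (Subgroup.zpowers_le.2 h.mem_S) (Subgroup.zpowers_le.2 haS)
  have := H96.finite_of_le hza
  have := H96.finite_of_le (sup_le hza (Subgroup.zpowers_le.2 hbS) : T ≤ S)
  have := H96.finite_of_le (Subgroup.zpowers_le.2 h.mem_S)
  have hb1 := hstep _ b hza le_sup_left hbS (hV.pow h hS hF hcore b (σ zv).2)
  have hb2 := hstep _ a (Subgroup.zpowers_le.2 h.mem_S) le_rfl haS (hU.pow h hS hF hcore a (τ zu).2)
  have hb3 : Nat.card (Subgroup.zpowers z) = 2 := by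
    rw [Nat.card_zpowers]
    exact orderOf_eq_prime h.pow h.ne_one
  have hb4 := Subgroup.card_le_of_le hST
  have hZlt : 2 < Nat.card Z := by
    have := H96.finite_of_le (inf_le_left : Z ≤ S)
    rw [← hb3]
    refine lt_of_le_of_ne (Subgroup.card_le_of_le (Subgroup.zpowers_le.2 h.mem)) fun e => hle ?_
    exact (Subgroup.eq_of_le_of_card_ge (Subgroup.zpowers_le.2 h.mem) e.ge).ge
  have hc := h.card
  rw [← hZ] at hc
  rw [← hTdef] at hb1
  omega

/-- The structure of `S`. -/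
theorem isExtraspecial_of_centre_index (hS : IsPGroup p S) (hF : F.IsSaturated p) (hS1 : S ≠ ⊥)
    (hcore : F.core = ⊥) (hhyp : F.hyperfocalSubgroup p = S) (hZ : (Subgroup.center ↥S).index ≤ p ^ 2) :
    Cfsg.IsExtraspecial p ↥S ∧ Nat.card S = p ^ 3 ∧ (p ≠ 2 → Monoid.exponent ↥S = p) ∧
      (p = 2 → Nonempty (↥S ≃* DihedralGroup 4)) := by
  have hp : p.Prime := Fact.out
  obtain ⟨z, h⟩ := exists_centerSq hS hF hS1 hcore hZ
  set Z := S ⊓ Subgroup.centralizer (S : Set Ω) with hZdef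
  have hZz : Z ≤ Subgroup.zpowers z := by
    by_cases hp2 : p = 2
    · subst hp2
      exact h.centre_eq_two hS hF hcore hhyp
    · exact h.centre_eq_odd hp2 hS hF hcore
  have hzord : orderOf z = p := orderOf_eq_prime h.pow h.ne_one
  have hZeq : Z = Subgroup.zpowers z := le_antisymm hZz (Subgroup.zpowers_le.2 h.mem)
  have hcardZ : Nat.card Z = p := by rw [hZeq, Nat.card_zpowers, hzord]
  have hcardS : Nat.card S = p ^ 3 := by rw [h.card, ← hZdef, hcardZ]; ring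
  obtain ⟨U, hU, hsec⟩ := exists_second h hS hF hcore
  have hUe := hU.isElemMax h hS hF hcore
  obtain ⟨V, hVe, hne⟩ : ∃ V, IsElemMax S p V ∧ V ≠ U := by
    rcases hsec with ⟨V, hV, hne⟩ | ⟨-, -, V, hV, hne, -⟩
    · exact ⟨V, hV.isElemMax h hS hF hcore, hne⟩
    · exact ⟨V, hV, hne⟩
  have hcenter : ∀ x : S, x ∈ Subgroup.center S ↔ (x : Ω) ∈ Z := fun x => by
    rw [Subgroup.mem_center_iff]
    exact ⟨fun hx => mem_centre.2 ⟨x.2, fun s hs => congrArg Subtype.val (hx ⟨s, hs⟩)⟩,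
      fun hx g => Subtype.ext ((mem_centre.1 hx).2 g g.2)⟩
  have hcardc : Nat.card (Subgroup.center S) = p := by
    rw [← hcardZ, ← Subgroup.card_map_of_injective (K := Subgroup.center S) S.subtype_injective]
    congr
    ext x
    exact ⟨fun ⟨y, hy, he⟩ => he ▸ (hcenter y).1 hy, fun hx => ⟨⟨x, hx.1⟩, (hcenter _).2 hx, rfl⟩⟩
  have hcomm_le : commutator S ≤ Subgroup.center S := by
    rw [_root_.commutator_def, Subgroup.commutator_le]
    intro a _ b _
    obtain ⟨i, hi⟩ := h.comm a a.2 b b.2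
    refine (hcenter _).2 ?_
    show (a : Ω) * b * (a : Ω)⁻¹ * (b : Ω)⁻¹ ∈ Z
    rw [hi]
    exact h.zpow_central i
  have hcomm : commutator S = Subgroup.center S := by
    refine Subgroup.eq_of_le_of_card_ge hcomm_le ?_
    have hd := Subgroup.card_dvd_of_le hcomm_le
    rw [hcardc] at hd ⊢
    rcases (Nat.dvd_prime hp).1 hd with e | e
    · exfalso
      have hab : ∀ a b : S, a * b = b * a := fun a b => by
        rw [← commutatorElement_eq_one_iff_mul_comm, ← Subgroup.mem_bot, ← Subgroup.card_eq_one.1 e]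
        exact comm_mem_commutator a b
      refine hS1 (eq_bot_of_isNormal hcore (H93.isNormal_of_stronglyClosed_abelian hS hF
        ⟨le_rfl, fun R _ φ hφ x => (F.le_of_mem hφ).2 x⟩ fun a ha b hb =>
          congrArg Subtype.val (hab ⟨a, ha⟩ ⟨b, hb⟩)))
    · exact e.ge
  have hcoatom : ∀ W, IsElemMax S p W → (W.subgroupOf S).index = p ∧ IsCoatom (W.subgroupOf S) := by
    intro W hW
    have h1 := (W.subgroupOf S).index_mul_card
    rw [Nat.card_congr (Subgroup.subgroupOfEquivOfLe hW.1).toEquiv, hW.2.2.2.2, hcardS, ← hZdef, hcardZ] at h1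
    have h2 : (W.subgroupOf S).index = p :=
      Nat.eq_of_mul_eq_mul_right (Nat.mul_pos hp.pos hp.pos) (h1.trans (by ring))
    exact ⟨h2, isCoatom_of_index_prime h2⟩
  have hfr : frattini S = Subgroup.center S := by
    refine le_antisymm (fun x hx => (hcenter x).2 ?_) (hcomm ▸ H24.commutator_le_frattini hS)
    exact (IsElemMax.inf_eq hUe hVe hne).le ⟨frattini_le_coatom (hcoatom U hUe).2 hx, frattini_le_coatom (hcoatom V hVe).2 hx⟩
  refine ⟨⟨⟨hS, hfr, hcomm⟩, hcardc⟩, hcardS, fun hp2 => ?_, fun hp2 => ?_⟩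
  · have hall : ∀ x : S, x ^ p = 1 := by
      intro x
      obtain ⟨a, ha, b, hb, hab⟩ := IsElemMax.exists_mul h hUe hVe hne x.2
      obtain ⟨i, hi⟩ := h.comm b (hVe.1 hb) a (hUe.1 ha)
      have hpc : (⁅(⟨b, hVe.1 hb⟩ : S), (⟨a, hUe.1 ha⟩ : S)⁆) ^ p = 1 := by
        apply Subtype.ext
        rw [SubmonoidClass.coe_pow]
        show (b * a * b⁻¹ * a⁻¹) ^ p = 1
        rw [hi, ← zpow_natCast, ← zpow_mul, mul_comm, zpow_mul, zpow_natCast, h.pow, one_zpow]
      have ha' : (⟨a, hUe.1 ha⟩ : S) ^ p = 1 := Subtype.ext (by simpa using hUe.2.2.2.1 a ha)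
      have hb' : (⟨b, hVe.1 hb⟩ : S) ^ p = 1 := Subtype.ext (by simpa using hVe.2.2.2.1 b hb)
      rw [show x = ⟨a, hUe.1 ha⟩ * ⟨b, hVe.1 hb⟩ from Subtype.ext hab,
        H24.mul_pow_prime_of_class_two hp hp2 (hcomm_le (comm_mem_commutator _ _)) hpc, ha', hb', one_mul]
    rcases (Nat.dvd_prime hp).1 (Monoid.exponent_dvd_of_forall_pow_eq_one hall) with e | e
    · exfalso
      have := Monoid.exp_eq_one_iff.1 e
      have : Nat.card S = 1 := Nat.card_of_subsingleton 1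
      rw [hcardS] at this
      exact absurd this (Nat.one_lt_pow (by norm_num) hp.one_lt).ne'
    · exact e
  · subst hp2
    have hnc : ∃ a ∈ U.subgroupOf S, a ∉ Subgroup.center S := by
      by_contra hall
      push Not at hall
      have h3 := Subgroup.card_le_of_le (show U.subgroupOf S ≤ Subgroup.center S from hall)
      rw [Nat.card_congr (Subgroup.subgroupOfEquivOfLe hUe.1).toEquiv, hUe.2.2.2.2, ← hZdef, hcardZ, hcardc] at h3
      omega
    obtain ⟨a, haU, ha⟩ := hnc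
    obtain ⟨A, _, hA, ⟨e⟩⟩ := iso_dihedral_prod hS (hfr.trans hcomm.symm) (by rw [hcomm, hcardc])
      (M := U.subgroupOf S) (fun x hx y hy => Subtype.ext (hUe.2.2.1 x hx y hy))
      (fun x hx => Subtype.ext (by simpa using hUe.2.2.2.1 x hx)) (hcoatom U hUe).1 haU ha
    have hc8 := Nat.card_congr e.toEquiv
    rw [hcardS, Nat.card_prod, DihedralGroup.nat_card] at hc8
    have hA1 : Nat.card A = 1 := by omega
    haveI : Subsingleton A := (Nat.card_eq_one_iff_unique.1 hA1).1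
    haveI : Unique A := uniqueOfSubsingleton 1
    exact ⟨e.trans MulEquiv.prodUnique⟩

end Cfsg.Agent.H95
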