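import Cfsg.Agent.H95.CenterSquareMain

/-!
Saturated systems with trivial core over groups with derived subgroup of order `p`.
-/
set_option autoImplicit false

namespace Cfsg.Agent.H95

open Cfsg
open scoped commutatorElement

variable {Ω : Type*} [Group Ω] {S : Subgroup Ω} [Finite S] {p : ℕ} [Fact p.Prime] {F : FusionSystem S} {z : Ω}

/-- The centralizer of an element has index at most `p` in a subgroup. -/
theorem card_le_mul_centralizer (hz : z ∈ S ⊓ Subgroup.centralizer (S : Set Ω)) (hzp : z ^ p = 1)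
    (hcomm : ∀ a ∈ S, ∀ b ∈ S, ∃ i : ℤ, a * b * a⁻¹ * b⁻¹ = z ^ i) {W : Subgroup Ω} (hW : W ≤ S) {x : Ω}
    (hx : x ∈ S) : Nat.card W ≤ p * Nat.card ↥(W ⊓ Subgroup.centralizer ({x} : Set Ω)) := by
  have hp : p.Prime := Fact.out
  have hmem : ∀ w : W, (w : Ω) * x * (w : Ω)⁻¹ * x⁻¹ ∈ Subgroup.zpowers z := fun w => by
    obtain ⟨i, hi⟩ := hcomm w (hW w.2) x hx
    rw [hi]; exact Subgroup.zpow_mem_zpowers z i
  let f : W →* Subgroup.zpowers z := MonoidHom.mk' (fun w => ⟨_, hmem w⟩) fun a b => Subtype.ext (by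
    show ((a : Ω) * b) * x * ((a : Ω) * b)⁻¹ * x⁻¹ =
      ((a : Ω) * x * (a : Ω)⁻¹ * x⁻¹) * ((b : Ω) * x * (b : Ω)⁻¹ * x⁻¹)
    obtain ⟨i, hi⟩ := hcomm b (hW b.2) x hx
    have hc : ∀ y ∈ S, y * z ^ i = z ^ i * y := fun y hy => (mem_centre.1 (zpow_mem hz i)).2 y hy
    rw [show ((a : Ω) * b) * x * ((a : Ω) * b)⁻¹ * x⁻¹ =
      (a : Ω) * ((b : Ω) * x * (b : Ω)⁻¹ * x⁻¹) * x * (a : Ω)⁻¹ * x⁻¹ by group, hi, hc _ (hW a.2),
      hc _ (S.mul_mem (S.mul_mem (S.mul_mem (hW a.2) hx) (S.inv_mem (hW a.2))) (S.inv_mem hx))]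
    group)
  have hker : Nat.card f.ker = Nat.card ↥(W ⊓ Subgroup.centralizer ({x} : Set Ω)) := by
    rw [← Subgroup.card_map_of_injective (K := f.ker) W.subtype_injective]
    congr 2
    ext y
    constructor
    · rintro ⟨w, hw, rfl⟩
      refine ⟨w.2, Subgroup.mem_centralizer_singleton_iff.2 ?_⟩
      have h1 : (w : Ω) * x * (w : Ω)⁻¹ * x⁻¹ = 1 := congrArg Subtype.val hw
      exact mul_inv_eq_iff_eq_mul.1 (mul_inv_eq_one.1 h1)
    · rintro ⟨hyW, hyc⟩
      refine ⟨⟨y, hyW⟩, Subtype.ext ?_, rfl⟩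
      show y * x * y⁻¹ * x⁻¹ = 1
      rw [Subgroup.mem_centralizer_singleton_iff.1 hyc]
      group
  rw [← hker, ← Subgroup.card_mul_index f.ker, Subgroup.index_ker, mul_comm]
  refine Nat.mul_le_mul_right _ ?_
  haveI : Finite (Subgroup.zpowers z) := H96.finite_of_le (Subgroup.zpowers_le.2 hz.1)
  refine (Subgroup.card_le_card_group _).trans ?_
  rw [Nat.card_zpowers]
  exact Nat.le_of_dvd hp.pos (orderOf_dvd_of_pow_eq_one hzp)

/-- A proper centric radical fully normalized subgroup is abelian of index `p` over a centre of index `p`. -/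
theorem centerSq_of_radical (hS : IsPGroup p S) (hF : F.IsSaturated p)
    (hz : z ∈ S ⊓ Subgroup.centralizer (S : Set Ω)) (hz1 : z ≠ 1) (hzp : z ^ p = 1)
    (hcomm : ∀ a ∈ S, ∀ b ∈ S, ∃ i : ℤ, a * b * a⁻¹ * b⁻¹ = z ^ i) {U : Subgroup Ω}
    (hn : F.IsFullyNormalized U) (hc : F.IsCentric U) (hr : F.IsRadical p U) (hne : U ≠ S) :
    CenterSq S p z := by
  have hp : p.Prime := Fact.out
  have hUS := hc.1
  have := H96.finite_of_le hUS
  set A := F.autGroup U
  have hCU : FusionSystem.centralizerIn S U ≤ U := hc.2 U (H96.isConj_refl F hUS)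
  have hzU : z ∈ U := hCU ⟨hz.1, Subgroup.centralizer_le (SetLike.coe_subset_coe.2 hUS) hz.2⟩
  set zu : U := ⟨z, hzU⟩
  have hzup : zu ^ p = 1 := Subtype.ext (by simpa [zu] using hzp)
  have hnorm : ∀ g ∈ S, g ∈ Subgroup.normalizer (U : Set Ω) := fun g hg =>
    H94.mem_normalizer_of_forall_conj_mem fun b hb => by
      obtain ⟨i, hi⟩ := hcomm g hg b (hUS hb)
      rw [show g * b * g⁻¹ = (g * b * g⁻¹ * b⁻¹) * b by group, hi]
      exact U.mul_mem (zpow_mem hzU i) hb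
  have hdisp : ∀ γ ∈ autInducedBy S U, (∀ v : U, ∃ i : ℤ, γ v = v * zu ^ i) ∧ γ zu = zu := by
    intro γ hγ
    obtain ⟨g, hg, hge⟩ := H96.mem_autInducedBy.1 hγ
    refine ⟨fun v => ?_, Subtype.ext (by rw [hge, (mem_centre.1 hz).2 g hg, mul_inv_cancel_right])⟩
    obtain ⟨i, hi⟩ := hcomm g hg v (hUS v.2)
    refine ⟨i, Subtype.ext ?_⟩
    rw [hge, Subgroup.coe_mul, Subgroup.coe_zpow, (mem_centre.1 (zpow_mem hz i)).2 v (hUS v.2), ← hi]
    group
  -- the line through `z` is not invariant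
  have hline : ¬ ∀ a ∈ A, a zu ∈ Subgroup.zpowers zu := by
    intro hall
    obtain ⟨g, hgS, hgU⟩ := SetLike.exists_of_lt (lt_of_le_of_ne hUS hne)
    obtain ⟨t, ht, hte⟩ := H94.exists_autInducedBy hgS (hnorm g hgS)
    let W : ℕ → Subgroup U := fun i => if i = 0 then ⊥ else if i = 1 then Subgroup.zpowers zu else ⊤
    have hW : ∀ a ∈ A, ∀ i ≤ 2, ∀ x : U, x ∈ W i → a x ∈ W i := by
      intro a ha i hi x hx
      rcases (show i = 0 ∨ i = 1 ∨ i = 2 by omega) with rfl | rfl | rfl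
      · simp only [W, if_true, Subgroup.mem_bot] at hx ⊢
        rw [hx, map_one]
      · simp only [W, one_ne_zero, if_false, if_true] at hx ⊢
        obtain ⟨k, rfl⟩ := hx
        show a (zu ^ k) ∈ _
        rw [map_zpow]
        exact zpow_mem (hall a ha) k
      · simp [W]
    refine hgU (mem_of_induced_of_normal_pGroup hc hr (K := A ⊓ chainStab W 2) inf_le_left (fun a ha k hk => ?_)
      ((isPGroup_chainStab (hS.to_le hUS) (W := W) (m := 2) rfl rfl).to_le inf_le_right) hgS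
      (α := t) ⟨H96.autInducedBy_le_autGroup F hUS ht, ?_⟩ hte)
    · refine ⟨A.mul_mem (A.mul_mem ha hk.1) (A.inv_mem ha), fun i hi x hx => ?_⟩
      have h1 := hk.2 i hi (a⁻¹ x) (hW _ (inv_mem ha) (i + 1) (by omega) x hx)
      refine ⟨?_, hW a ha (i + 1) (by omega) _ h1.2⟩
      have h2 := hW a ha i (by omega) _ h1.1
      rw [map_mul, map_inv, show a (a⁻¹ x) = x from a.apply_symm_apply x] at h2
      exact h2
    · obtain ⟨htr, hzf⟩ := hdisp t ht
      intro i hi x hx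
      rcases (show i = 0 ∨ i = 1 by omega) with rfl | rfl
      · simp only [W, zero_add, one_ne_zero, if_false, if_true] at hx ⊢
        obtain ⟨k, rfl⟩ := hx
        show _ ∧ t (zu ^ k) ∈ _
        rw [apply_zpow_fix hzf]
        exact ⟨by simp, ⟨k, rfl⟩⟩
      · simp only [W, show ¬ (1 + 1 = 0) by omega, show ¬ (1 + 1 = 1) by omega, one_ne_zero, if_false, if_true]
          at hx ⊢
        obtain ⟨k, hk⟩ := htr x
        rw [hk, inv_mul_cancel_left]
        exact ⟨Subgroup.zpow_mem_zpowers zu k, trivial⟩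
  push Not at hline
  obtain ⟨τ, hτA, hτ⟩ := hline
  have hab : ∀ a b : U, a * b = b * a := by
    intro a b
    by_contra hab
    obtain ⟨i, hi⟩ := hcomm a (hUS a.2) b (hUS b.2)
    have hi1 : zu ^ i ≠ 1 := fun e => hab (mul_inv_eq_iff_eq_mul.1 (mul_inv_eq_one.1 (Subtype.ext (by
      rw [Subgroup.coe_mul, Subgroup.coe_mul, Subgroup.coe_mul, InvMemClass.coe_inv, InvMemClass.coe_inv, hi]
      simpa [zu] using congrArg Subtype.val e) : a * b * a⁻¹ * b⁻¹ = 1)))
    obtain ⟨j, hj⟩ := exists_zpow_zpow_eq hzup hi1 1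
    obtain ⟨k, hk⟩ := hcomm _ (hUS (τ a).2) _ (hUS (τ b).2)
    apply hτ
    rw [show τ zu = τ (zu ^ i) ^ j by rw [← map_zpow, hj, zpow_one]]
    refine zpow_mem (Subgroup.mem_zpowers_iff.2 ⟨k, ?_⟩) j
    show zu ^ k = τ (zu ^ i)
    rw [show zu ^ i = a * b * a⁻¹ * b⁻¹ from Subtype.ext (by simp [zu, hi]), map_mul, map_mul, map_mul, map_inv,
      map_inv]
    exact Subtype.ext (by simp [zu, hk])
  -- otherwise two commuting transvections with different centres
  have hbig : Nat.card S ≤ p * Nat.card U := by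
    by_contra hlt
    push Not at hlt
    have hout : ∀ x : U, ∃ g ∈ S, g ∉ U ∧ g * (x : Ω) = x * g := by
      intro x
      by_contra hno
      push Not at hno
      have h1 := card_le_mul_centralizer hz hzp hcomm le_rfl (hUS x.2)
      have hle : S ⊓ Subgroup.centralizer ({(x : Ω)} : Set Ω) ≤ U := fun g hg => by
        by_contra hgU
        exact hno g hg.1 hgU (Subgroup.mem_centralizer_singleton_iff.1 hg.2)
      have h2 := Nat.mul_le_mul_left p (Subgroup.card_le_of_le hle)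
      omega
    obtain ⟨g, hgS, hgU, hgc⟩ := hout (τ zu)
    obtain ⟨h, hhS, hhU, hhc⟩ := hout (τ⁻¹ zu)
    obtain ⟨t, ht, hte⟩ := H94.exists_autInducedBy hgS (hnorm g hgS)
    obtain ⟨t', ht', ht'e⟩ := H94.exists_autInducedBy hhS (hnorm h hhS)
    set u := τ * t' * τ⁻¹ with hu
    have htA : t ∈ A := H96.autInducedBy_le_autGroup F hUS ht
    have huA : u ∈ A := mul_mem (mul_mem hτA (H96.autInducedBy_le_autGroup F hUS ht')) (inv_mem hτA)
    obtain ⟨htr, hzf⟩ := hdisp t ht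
    obtain ⟨htr', -⟩ := hdisp t' ht'
    letI : CommGroup U := { (inferInstance : Group U) with mul_comm := hab }
    have hutr : ∀ v : U, ∃ i : ℤ, u v = v * (τ zu) ^ i := by
      intro v
      obtain ⟨i, hi⟩ := htr' (τ⁻¹ v)
      exact ⟨i, by rw [hu, MulAut.mul_apply, MulAut.mul_apply, hi, map_mul, map_zpow,
        show τ (τ⁻¹ v) = v from τ.apply_symm_apply v]⟩
    have htτ : t (τ zu) = τ zu := Subtype.ext (by rw [hte, hgc, mul_inv_cancel_right])
    have huz : u zu = zu := by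
      rw [hu, MulAut.mul_apply, MulAut.mul_apply,
        show t' (τ⁻¹ zu) = τ⁻¹ zu from Subtype.ext (by rw [ht'e, hhc, mul_inv_cancel_right])]
      exact τ.apply_symm_apply zu
    have hcomm' : t * u = u * t := MulEquiv.ext fun v => by
      obtain ⟨i, hi⟩ := htr v
      obtain ⟨j, hj⟩ := hutr v
      show t (u v) = u (t v)
      rw [hi, hj, map_mul, map_mul, map_zpow, map_zpow, htτ, huz, hi, hj, mul_right_comm]
    have hind := H94.isPGroup_autInducedBy (P := U) hS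
    have hzpg : ∀ {γ : MulAut U} (k : ℕ), γ ^ p ^ k = 1 → IsPGroup p (Subgroup.zpowers γ) := by
      rintro γ k hγ ⟨_, i, rfl⟩
      exact ⟨k, Subtype.ext (show (γ ^ i) ^ p ^ k = 1 by
        rw [← zpow_natCast, ← zpow_mul, mul_comm, zpow_mul, zpow_natCast, hγ, one_zpow])⟩
    obtain ⟨k, hk⟩ := hind ⟨t, ht⟩
    obtain ⟨k', hk'⟩ := hind ⟨t', ht'⟩
    have htk : t ^ p ^ k = 1 := congrArg Subtype.val hk
    have huk : u ^ p ^ k' = 1 := by
      rw [hu, conj_pow, show t' ^ p ^ k' = 1 from congrArg Subtype.val hk', mul_one, mul_inv_cancel]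
    have hnl : Subgroup.zpowers t ≤ Subgroup.normalizer (Subgroup.zpowers u : Set (MulAut U)) :=
      Subgroup.zpowers_le.2 (H94.mem_normalizer_of_forall_conj_mem fun r hr' => by
        obtain ⟨l, rfl⟩ := Subgroup.mem_zpowers_iff.1 hr'
        rw [((show Commute t u from hcomm').zpow_right l).eq, mul_inv_cancel_right]
        exact Subgroup.zpow_mem_zpowers u l)
    set L := Subgroup.zpowers t ⊔ Subgroup.zpowers u
    have hL : IsPGroup p L := (hzpg k htk).to_sup_of_normal_right' (hzpg k' huk) hnl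
    have hLA : L ≤ A := sup_le (Subgroup.zpowers_le.2 htA) (Subgroup.zpowers_le.2 huA)
    obtain ⟨Q, hQ⟩ := (IsPGroup.of_equiv hL (Subgroup.subgroupOfEquivOfLe hLA).symm).exists_le_sylow
    obtain ⟨R, hR⟩ := (H94.fullyNormalized_spec hS hF hn).1.2
    obtain ⟨σ, hσ⟩ := MulAction.exists_smul_eq A Q R
    have hconjR : ∀ x ∈ L, (σ : MulAut U) * x * (σ : MulAut U)⁻¹ ∈ autInducedBy S U := by
      intro x hx
      have h1 : σ * ⟨x, hLA hx⟩ * σ⁻¹ ∈ (R : Subgroup A) := by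
        rw [← hσ, Sylow.coe_subgroup_smul]
        exact Subgroup.smul_mem_pointwise_smul _ (MulAut.conj σ) _ (hQ (show (⟨x, hLA hx⟩ : A) ∈ L.subgroupOf A from hx))
      rw [hR, Subgroup.mem_subgroupOf] at h1
      exact h1
    have hcentre : ∀ (x : MulAut U) (c : U), x ∈ L → c ^ p = 1 → (∀ v, ∃ i : ℤ, x v = v * c ^ i) → x ≠ 1 →
        (σ : MulAut U) c ∈ Subgroup.zpowers zu := by
      intro x c hx hc1 htrx hx1
      obtain ⟨v, hv⟩ : ∃ v, x v ≠ v := by
        by_contra hno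
        push Not at hno
        exact hx1 (MulEquiv.ext hno)
      obtain ⟨i, hi⟩ := htrx v
      have hi1 : c ^ i ≠ 1 := fun e => hv (by rw [hi, e, mul_one])
      obtain ⟨j, hj⟩ := (hdisp _ (hconjR x hx)).1 ((σ : MulAut U) v)
      rw [MulAut.mul_apply, MulAut.mul_apply, show (σ : MulAut U)⁻¹ ((σ : MulAut U) v) = v from
        (σ : MulAut U).symm_apply_apply v, hi, map_mul, mul_right_inj] at hj
      obtain ⟨l, hl⟩ := exists_zpow_zpow_eq hc1 hi1 1
      rw [zpow_one] at hl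
      rw [← hl, map_zpow, hj]
      exact zpow_mem (Subgroup.zpow_mem_zpowers zu j) l
    have hne_t : ∀ {γ : MulAut U} {y : Ω}, y ∈ S → y ∉ U → (∀ v : U, ((γ v : U) : Ω) = y * v * y⁻¹) → γ ≠ 1 := by
      intro γ y hy hyU hγ e
      refine hyU (hCU ⟨hy, Subgroup.mem_centralizer_iff.2 fun v hv => ?_⟩)
      have h1 := hγ ⟨v, hv⟩
      rw [e, MulAut.one_apply] at h1
      exact (mul_inv_eq_iff_eq_mul.1 h1.symm).symm
    have h1 := hcentre t zu (Subgroup.mem_sup_left (Subgroup.mem_zpowers t)) hzup htr (hne_t hgS hgU hte)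
    have h2 := hcentre u (τ zu) (Subgroup.mem_sup_right (Subgroup.mem_zpowers u))
      (by rw [← map_pow, hzup, map_one]) hutr (fun e => hne_t hhS hhU ht'e (by
        have := congrArg (fun γ => τ⁻¹ * γ * τ) e
        simpa [hu, mul_assoc] using this))
    obtain ⟨a, ha⟩ := h1
    obtain ⟨b, hb⟩ := h2
    apply hτ
    have ha1 : zu ^ a ≠ 1 := fun e => hz1 (congrArg Subtype.val
      ((σ : MulAut U).injective (show (σ : MulAut U) zu = (σ : MulAut U) 1 by rw [map_one, ← e]; exact ha.symm)))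
    obtain ⟨l, hl⟩ := exists_zpow_zpow_eq hzup ha1 b
    refine ⟨l, (σ : MulAut U).injective ?_⟩
    show (σ : MulAut U) (zu ^ l) = _
    rw [map_zpow, ← ha, ← hb]
    exact hl
  -- the orders
  set Z := S ⊓ Subgroup.centralizer (S : Set Ω) with hZdef
  have hZU : Z ≤ U := fun x hx => hCU ⟨hx.1, Subgroup.centralizer_le (SetLike.coe_subset_coe.2 hUS) hx.2⟩
  have hcardS : Nat.card S = p * Nat.card U := by
    obtain ⟨m, hm⟩ := Subgroup.card_dvd_of_le hUS
    have hm1 : m ≠ 1 := fun e => hne (Subgroup.eq_of_le_of_card_ge hUS (by rw [hm, e, mul_one]))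
    have hm2 : m ≤ p := by
      rw [hm, mul_comm p] at hbig
      exact Nat.le_of_mul_le_mul_left hbig Nat.card_pos
    obtain ⟨n, hn'⟩ := IsPGroup.iff_card.1 hS
    obtain ⟨i, -, rfl⟩ := (Nat.dvd_prime_pow hp).1 (show m ∣ p ^ n from hn' ▸ ⟨Nat.card U, by rw [hm, mul_comm]⟩)
    have hi0 : i ≠ 0 := fun e => hm1 (by rw [e, pow_zero])
    have hi1 : i ≤ 1 := (Nat.pow_le_pow_iff_right hp.one_lt).1 (by rwa [pow_one])
    rw [hm, show i = 1 by omega, pow_one, mul_comm]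
  obtain ⟨g, hgS, hgU⟩ := SetLike.exists_of_lt (lt_of_le_of_ne hUS hne)
  have hle : U ⊔ Subgroup.zpowers g ≤ S := sup_le hUS (Subgroup.zpowers_le.2 hgS)
  have := H96.finite_of_le hle
  have hgen : S ≤ U ⊔ Subgroup.zpowers g := by
    refine (Subgroup.eq_of_le_of_card_ge hle ?_).ge
    have hd := Subgroup.card_dvd_of_le hle
    obtain ⟨l, hl⟩ := Subgroup.card_dvd_of_le (le_sup_left : U ≤ U ⊔ Subgroup.zpowers g)
    rw [hl, hcardS, mul_comm p] at hd
    rcases (Nat.dvd_prime hp).1 (Nat.dvd_of_mul_dvd_mul_left Nat.card_pos hd) with rfl | hlp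
    · exact absurd (Subgroup.eq_of_le_of_card_ge le_sup_left (by rw [hl, mul_one])) (fun e =>
        hgU (e.ge (Subgroup.mem_sup_right (Subgroup.mem_zpowers g))))
    · rw [hl, hlp, hcardS, mul_comm]
  have hZeq : U ⊓ Subgroup.centralizer ({g} : Set Ω) ≤ Z := fun x hx =>
    mem_centre_of_commute hUS (hUS hx.1) hgen (fun v hv => congrArg Subtype.val (hab ⟨v, hv⟩ ⟨x, hx.1⟩))
      (Subgroup.mem_centralizer_singleton_iff.1 hx.2).symm
  have hZne : Z ≠ U := by
    intro e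
    refine hgU (hCU ⟨hgS, Subgroup.mem_centralizer_iff.2 fun v hv => ?_⟩)
    exact ((mem_centre.1 (e.ge hv)).2 g hgS).symm
  have := H96.finite_of_le (hZU.trans hUS)
  have hcardU : Nat.card U = p * Nat.card Z := by
    obtain ⟨m, hm⟩ := Subgroup.card_dvd_of_le hZU
    have hm1 : m ≠ 1 := fun e => hZne (Subgroup.eq_of_le_of_card_ge hZU (by rw [hm, e, mul_one]))
    have hm2 : m ≤ p := by
      have h1 := (card_le_mul_centralizer hz hzp hcomm hUS hgS).trans
        (Nat.mul_le_mul_left p (Subgroup.card_le_of_le hZeq))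
      rw [hm, mul_comm p] at h1
      exact Nat.le_of_mul_le_mul_left h1 Nat.card_pos
    obtain ⟨n, hn'⟩ := IsPGroup.iff_card.1 (hS.to_le hUS)
    obtain ⟨i, -, rfl⟩ := (Nat.dvd_prime_pow hp).1 (show m ∣ p ^ n from hn' ▸ ⟨Nat.card Z, by rw [hm, mul_comm]⟩)
    have hi0 : i ≠ 0 := fun e => hm1 (by rw [e, pow_zero])
    have hi1 : i ≤ 1 := (Nat.pow_le_pow_iff_right hp.one_lt).1 (by rwa [pow_one])
    rw [hm, show i = 1 by omega, pow_one, mul_comm]
  exact ⟨hz, hz1, hzp, hcomm, by rw [hcardS, hcardU]; ring⟩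

/-- With trivial core and derived subgroup in a central subgroup of order `p`, `p` odd, the centre has order `p`. -/
theorem centre_le_zpowers (hp2 : p ≠ 2) (hS : IsPGroup p S) (hF : F.IsSaturated p) (hcore : F.core = ⊥)
    (hz : z ∈ S ⊓ Subgroup.centralizer (S : Set Ω)) (hz1 : z ≠ 1) (hzp : z ^ p = 1)
    (hcomm : ∀ a ∈ S, ∀ b ∈ S, ∃ i : ℤ, a * b * a⁻¹ * b⁻¹ = z ^ i) :
    S ⊓ Subgroup.centralizer (S : Set Ω) ≤ Subgroup.zpowers z := by
  by_cases hex : ∃ U, F.IsFullyNormalized U ∧ F.IsCentric U ∧ F.IsRadical p U ∧ U ≠ S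
  · obtain ⟨U, hn, hc, hr, hne⟩ := hex
    exact (centerSq_of_radical hS hF hz hz1 hzp hcomm hn hc hr hne).centre_eq_odd hp2 hS hF hcore
  · exfalso
    push Not at hex
    have hN : F.IsNormal (S ⊓ Subgroup.centralizer (S : Set Ω)) := by
      refine H93.isNormal_of_centric_radical hS hF inf_le_left fun U h1 h2 h3 => ?_
      obtain rfl := hex U h1 h2 h3
      exact ⟨inf_le_left, fun α _ x hx => aut_top_centre hx⟩
    exact hz1 (Subgroup.mem_bot.1 ((eq_bot_of_isNormal hcore hN).le hz))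

/-- The centre of a group with an extraspecial subgroup of index `p`. -/
theorem centre_eq_of_extraspecial_index (hp : Odd p) (hS : IsPGroup p S) {Q : Subgroup Ω} (hQS : Q ≤ S)
    (hQ : Cfsg.IsExtraspecial p ↥Q) (hQi : (Q.subgroupOf S).index = p) (hF : F.IsSaturated p)
    (hcore : F.core = ⊥) : S ⊓ Subgroup.centralizer (S : Set Ω) = Q ⊓ Subgroup.centralizer (Q : Set Ω) := by
  have hpp : p.Prime := Fact.out
  have hp2 : p ≠ 2 := fun e => by rw [e] at hp; exact absurd hp (by decide)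
  have := H96.finite_of_le hQS
  obtain ⟨⟨-, -, hder⟩, hcz⟩ := hQ
  haveI : Nontrivial (Subgroup.center Q) := Finite.one_lt_card_iff_nontrivial.1 (hcz.symm ▸ hpp.one_lt)
  obtain ⟨⟨zq, hzq⟩, hzq1⟩ := exists_ne (1 : Subgroup.center Q)
  have hzp : zq ^ p = 1 := by
    have := pow_card_eq_one' (x := (⟨zq, hzq⟩ : Subgroup.center Q))
    rw [hcz] at this
    exact congrArg Subtype.val this
  have hzq1' : zq ≠ 1 := fun e => hzq1 (Subtype.ext e)
  have hgenc : ∀ c ∈ Subgroup.center Q, ∃ i : ℤ, c = zq ^ i := by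
    intro c hc
    have h := Subgroup.eq_of_le_of_card_ge (Subgroup.zpowers_le.2 hzq) (by
      rw [hcz, Nat.card_zpowers, orderOf_eq_prime hzp hzq1'])
    obtain ⟨i, hi⟩ := Subgroup.mem_zpowers_iff.1 (h.ge hc)
    exact ⟨i, hi.symm⟩
  haveI hQn : (Q.subgroupOf S).Normal := by
    refine (Subgroup.normal_subgroupOf_iff_le_normalizer hQS).2 ?_
    by_contra hno
    have hlt : Q < S := lt_of_le_of_ne hQS fun e => hno (e ▸ Subgroup.le_normalizer)
    have h1 := H93.lt_normalizerIn hS hlt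
    refine hno ((?_ : S ≤ FusionSystem.normalizerIn S Q).trans inf_le_right)
    have hco := isCoatom_of_index_prime hQi
    have hlt' : Q.subgroupOf S < (FusionSystem.normalizerIn S Q).subgroupOf S := by
      obtain ⟨y, hy, hyQ⟩ := SetLike.exists_of_lt h1
      exact lt_of_le_not_ge (Subgroup.comap_mono h1.le) fun e => hyQ (e (show (⟨y, hy.1⟩ : S) ∈ _ from hy))
    exact Subgroup.subgroupOf_eq_top.1 (hco.2 _ hlt')
  have hQn' : S ≤ Subgroup.normalizer (Q : Set Ω) := (Subgroup.normal_subgroupOf_iff_le_normalizer hQS).1 hQn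
  have hzc : (zq : Ω) ∈ S ⊓ Subgroup.centralizer (S : Set Ω) := by
    refine mem_centre.2 ⟨hQS zq.2, fun s hs => ?_⟩
    haveI : (((Subgroup.center Q).map Q.subtype).subgroupOf S).Normal := by
      refine ⟨fun n hn g => ?_⟩
      obtain ⟨w, hw, hwn⟩ := Subgroup.mem_subgroupOf.1 hn
      refine Subgroup.mem_subgroupOf.2 ⟨⟨(g : Ω) * w * (g : Ω)⁻¹, (Subgroup.mem_normalizer_iff.1 (hQn' g.2) w).1 w.2⟩,
        Subgroup.mem_center_iff.2 fun q => Subtype.ext ?_, ?_⟩
      · have hq' := (Subgroup.mem_normalizer_iff.1 (hQn' (S.inv_mem g.2)) q).1 q.2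
        have h1 : ((g : Ω)⁻¹ * q * (g : Ω)⁻¹⁻¹) * w = w * ((g : Ω)⁻¹ * q * (g : Ω)⁻¹⁻¹) :=
          congrArg Subtype.val (Subgroup.mem_center_iff.1 hw ⟨_, hq'⟩)
        show (q : Ω) * ((g : Ω) * w * (g : Ω)⁻¹) = (g : Ω) * w * (g : Ω)⁻¹ * q
        calc (q : Ω) * ((g : Ω) * w * (g : Ω)⁻¹) = g * (((g : Ω)⁻¹ * q * (g : Ω)⁻¹⁻¹) * w) * (g : Ω)⁻¹ := by group
          _ = _ := by rw [h1]; group
      · show (g : Ω) * w * (g : Ω)⁻¹ = _
        rw [show (w : Ω) = (n : Ω) from hwn]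
        rfl
    have h := le_center_of_card_prime hS (N := ((Subgroup.center Q).map Q.subtype).subgroupOf S) (by
      rw [Nat.card_congr (Subgroup.subgroupOfEquivOfLe ((Subgroup.map_subtype_le _).trans hQS)).toEquiv,
        Subgroup.card_map_of_injective Q.subtype_injective, hcz])
      (show (⟨(zq : Ω), hQS zq.2⟩ : S) ∈ _ from Subgroup.mem_subgroupOf.2 ⟨zq, hzq, rfl⟩)
    exact congrArg Subtype.val (Subgroup.mem_center_iff.1 h ⟨s, hs⟩)
  apply le_antisymm
  · intro w hw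
    by_cases hwQ : w ∈ Q
    · exact ⟨hwQ, Subgroup.centralizer_le (SetLike.coe_subset_coe.2 hQS) hw.2⟩
    exfalso
    have hco := isCoatom_of_index_prime hQi
    have hgen : ∀ s ∈ S, ∃ q ∈ Q, ∃ i : ℤ, s = q * w ^ i := by
      intro s hs
      obtain ⟨m, hm, k, hk⟩ := exists_eq_mul_zpow hS hco (b := (⟨w, hw.1⟩ : S)) hwQ ⟨s, hs⟩
      exact ⟨(m : Ω), hm, k, by simpa using congrArg Subtype.val hk⟩
    have hcomm : ∀ a ∈ S, ∀ b ∈ S, ∃ i : ℤ, a * b * a⁻¹ * b⁻¹ = (zq : Ω) ^ i := by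
      intro a ha b hb
      obtain ⟨q, hq, i, rfl⟩ := hgen a ha
      obtain ⟨r, hr, j, rfl⟩ := hgen b hb
      have hcw : ∀ (k : ℤ), ∀ y ∈ S, Commute (w ^ k) y := fun k y hy =>
        ((mem_centre.1 (zpow_mem hw k)).2 y hy).symm
      obtain ⟨l, hl⟩ := hgenc ⁅(⟨q, hq⟩ : Q), (⟨r, hr⟩ : Q)⁆ (hder ▸ comm_mem_commutator _ _)
      refine ⟨l, ?_⟩
      have hl' : q * r * q⁻¹ * r⁻¹ = (zq : Ω) ^ l := by
        simpa [commutatorElement_def] using congrArg Subtype.val hl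
      rw [← hl', mul_inv_rev, mul_inv_rev]
      have e1 := (hcw i (r * w ^ j) (S.mul_mem (hQS hr) (S.zpow_mem hw.1 j))).eq
      have e2 := (hcw j q⁻¹ (S.inv_mem (hQS hq))).eq
      calc q * w ^ i * (r * w ^ j) * ((w ^ i)⁻¹ * q⁻¹) * ((w ^ j)⁻¹ * r⁻¹)
          = q * (w ^ i * (r * w ^ j)) * (w ^ i)⁻¹ * q⁻¹ * (w ^ j)⁻¹ * r⁻¹ := by group
        _ = q * r * (w ^ j * q⁻¹) * (w ^ j)⁻¹ * r⁻¹ := by rw [e1]; group
        _ = _ := by rw [e2]; group
    have h1 := centre_le_zpowers hp2 hS hF hcore hzc (fun e => hzq1' (Subtype.ext e))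
      (by simpa using congrArg Subtype.val hzp) hcomm hw
    exact hwQ ((Subgroup.zpowers_le.2 zq.2) h1)
  · intro x hx
    obtain ⟨i, hi⟩ := hgenc ⟨x, hx.1⟩ (Subgroup.mem_center_iff.2 fun q => Subtype.ext (hx.2 q q.2))
    rw [show x = (zq : Ω) ^ i by simpa using congrArg Subtype.val hi]
    exact zpow_mem hzc i

end Cfsg.Agent.H95
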