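import Cfsg.Agent.H94.NormalizerModel
import Cfsg.Agent.H93.Normal
import Cfsg.Agent.S5090

/-!
Saturated systems in which some normal subgroup lies between the derived and the Frattini subgroup of `S`: they are
inner as soon as the automorphisms of `S` are.
-/
set_option autoImplicit false

namespace Cfsg.Agent.H95

open Cfsg Cfsg.FusionSystem
open scoped commutatorElement

section Group

variable {L : Type*} [Group L] [Finite L] {p : ℕ} [Fact p.Prime]

/-- A group with a self-centralizing normal `p`-subgroup and a self-normalizing Sylow subgroup is a `p`-group when a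
normal subgroup lies between the derived and the Frattini subgroup of the Sylow subgroup. -/
theorem le_sylow_of_derived_frattini (T : Sylow p L) {Q R : Subgroup L} [Q.Normal] [R.Normal]
    (hRT : R ≤ T) (hQT : Q ≤ T) (hC : Subgroup.centralizer (R : Set L) ≤ R)
    (hN : Subgroup.normalizer ((T : Subgroup L) : Set L) ≤ T)
    (hcomm : ∀ a ∈ (T : Subgroup L), ∀ b ∈ (T : Subgroup L), ⁅a, b⁆ ∈ Q)
    (hΦ : ∀ K : Subgroup L, K ≤ T → (T : Subgroup L) ≤ Q ⊔ K → (T : Subgroup L) ≤ K) :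
    ⊤ ≤ (T : Subgroup L) := by
  set π := QuotientGroup.mk' Q with hπ
  have hπs : Function.Surjective π := QuotientGroup.mk'_surjective Q
  set P := T.mapSurjective hπs with hP
  have hPc : (P : Subgroup (L ⧸ Q)) = (T : Subgroup L).map π := Sylow.coe_mapSurjective hπs T
  have hback : ∀ {x : L}, π x ∈ (P : Subgroup (L ⧸ Q)) → x ∈ (T : Subgroup L) := by
    intro x hx
    rw [hPc] at hx
    obtain ⟨t, ht, he⟩ := hx
    have hq : t⁻¹ * x ∈ Q := (QuotientGroup.eq).1 he
    simpa using (T : Subgroup L).mul_mem ht (hQT hq)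
  have hburn : Subgroup.normalizer ((P : Subgroup (L ⧸ Q)) : Set (L ⧸ Q)) ≤
      Subgroup.centralizer ((P : Subgroup (L ⧸ Q)) : Set (L ⧸ Q)) := by
    intro y hy
    obtain ⟨g, rfl⟩ := hπs y
    have hgT : g ∈ (T : Subgroup L) := by
      refine hN (Subgroup.mem_normalizer_iff.2 fun t => ?_)
      have h := Subgroup.mem_normalizer_iff.1 hy (π t)
      constructor
      · intro ht
        refine hback ?_
        rw [map_mul, map_mul, map_inv]
        exact h.1 (hPc ▸ ⟨t, ht, rfl⟩)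
      · intro ht
        refine hback (h.2 ?_)
        rw [← map_inv, ← map_mul, ← map_mul]
        exact hPc ▸ ⟨_, ht, rfl⟩
    refine Subgroup.mem_centralizer_iff_commutator_eq_one.2 fun z hz => ?_
    rw [SetLike.mem_coe, hPc] at hz
    obtain ⟨t, ht, rfl⟩ := hz
    rw [← map_commutatorElement]
    exact (QuotientGroup.eq_one_iff _).2 (hcomm t ht g hgT)
  set K := (MonoidHom.ker (MonoidHom.transferSylow P hburn)).comap π with hK
  haveI hKn : K.Normal := inferInstanceAs ((MonoidHom.ker (MonoidHom.transferSylow P hburn)).comap π).Normal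
  have hcompl := MonoidHom.ker_transferSylow_isComplement' P hburn
  have hKT : ∀ x ∈ K, x ∈ (T : Subgroup L) → x ∈ Q := by
    intro x hx hxT
    refine (QuotientGroup.eq_one_iff x).1 ?_
    exact Subgroup.mem_bot.1 (hcompl.disjoint.le_bot ⟨hx, hPc ▸ ⟨x, hxT, rfl⟩⟩)
  have hgen : ∀ g : L, ∃ k ∈ K, ∃ t ∈ (T : Subgroup L), g = k * t := by
    intro g
    obtain ⟨⟨a, b⟩, hab, -⟩ := hcompl.existsUnique (π g)
    obtain ⟨t, ht, htb⟩ : (b : L ⧸ Q) ∈ (T : Subgroup L).map π := hPc ▸ b.2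
    refine ⟨g * t⁻¹, ?_, t, ht, by group⟩
    show π (g * t⁻¹) ∈ MonoidHom.ker (MonoidHom.transferSylow P hburn)
    rw [map_mul, map_inv, htb, ← hab]
    simpa [mul_assoc] using a.2
  -- no prime other than `p` divides the order of `K`
  have hKp : IsPGroup p K := by
    refine IsPGroup.of_card (n := (Nat.card K).primeFactorsList.length) ?_
    refine Nat.eq_prime_pow_of_unique_prime_dvd Nat.card_pos.ne' fun {q} hq hqd => ?_
    by_contra hqp
    haveI : Fact q.Prime := ⟨hq⟩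
    let Q₁ : Sylow q K := default
    set M := (Q₁ : Subgroup K).map K.subtype with hM
    have hMK : M ≤ K := Subgroup.map_subtype_le _
    have hMq : IsPGroup q M := Q₁.isPGroup'.map K.subtype
    have hM1 : M ≠ ⊥ := by
      intro h
      refine Q₁.ne_bot_of_dvd_card hqd ?_
      rw [hM, ← Subgroup.map_bot K.subtype] at h
      exact Subgroup.map_injective K.subtype_injective h
    set N := Subgroup.normalizer (M : Set L) with hNdef
    have hfr : N ⊔ K = ⊤ := Q₁.normalizer_sup_eq_top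
    obtain ⟨U⟩ : Nonempty (Sylow p N) := inferInstance
    obtain ⟨V, hV⟩ := (U.isPGroup'.map N.subtype).exists_le_sylow
    obtain ⟨c, hc⟩ := MulAction.exists_smul_eq L V T
    -- the Sylow subgroup of the normalizer lies in the conjugate of `T`
    have hUT : ∀ u ∈ (U : Subgroup N), c * (u : L) * c⁻¹ ∈ (T : Subgroup L) := by
      intro u hu
      rw [← hc]
      exact ⟨u, hV ⟨u, hu, rfl⟩, rfl⟩
    set cM := M.map (MulAut.conj c).toMonoidHom with hcM
    set U' := ((U : Subgroup N).map N.subtype).map (MulAut.conj c).toMonoidHom with hU'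
    have hU'T : U' ≤ T := by
      rintro _ ⟨_, ⟨u, hu, rfl⟩, rfl⟩
      exact hUT u hu
    have hU'N : U' ≤ Subgroup.normalizer (cM : Set L) := by
      refine (Subgroup.map_mono (Subgroup.map_subtype_le _)).trans ?_
      exact Subgroup.le_normalizer_map _
    have hfull : (T : Subgroup L) ≤ Q ⊔ U' := by
      -- `U` maps onto a Sylow subgroup of the quotient by `K`
      set ρ := QuotientGroup.mk' K with hρ
      have hρN : Function.Surjective (ρ.comp N.subtype) := by
        intro y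
        obtain ⟨g, rfl⟩ := QuotientGroup.mk'_surjective K y
        obtain ⟨n, hn, k, hk, rfl⟩ :=
          Subgroup.mem_sup_of_normal_right.1 (hfr.ge (Subgroup.mem_top g))
        refine ⟨⟨n, hn⟩, ?_⟩
        show ρ n = ρ (n * k)
        rw [map_mul, show ρ k = 1 from (QuotientGroup.eq_one_iff k).2 hk, mul_one]
      have htop : (T : Subgroup L).map ρ = ⊤ := by
        refine eq_top_iff.2 fun y _ => ?_
        obtain ⟨g, rfl⟩ := QuotientGroup.mk'_surjective K y
        obtain ⟨k, hk, t, ht, rfl⟩ := hgen g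
        exact ⟨t, ht, by rw [map_mul, show ρ k = 1 from (QuotientGroup.eq_one_iff k).2 hk, one_mul]⟩
      have hpq : IsPGroup p (⊤ : Subgroup (L ⧸ K)) := htop ▸ T.isPGroup'.map ρ
      have hUtop : (U : Subgroup N).map (ρ.comp N.subtype) = ⊤ := by
        rw [← Sylow.coe_mapSurjective hρN U]
        exact ((U.mapSurjective hρN).is_maximal' hpq le_top).symm
      intro t ht
      obtain ⟨u, hu, hue⟩ := hUtop.ge (Subgroup.mem_top (ρ (c⁻¹ * t * c)))
      have hk : (u : L)⁻¹ * (c⁻¹ * t * c) ∈ K := (QuotientGroup.eq).1 hue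
      set u' := c * (u : L) * c⁻¹ with hu'
      have hu'U : u' ∈ U' := ⟨u, ⟨u, hu, rfl⟩, rfl⟩
      have hk' : u'⁻¹ * t ∈ K := by
        have := hKn.conj_mem _ hk c
        convert this using 1
        rw [hu']
        group
      have hQ' := hKT _ hk' ((T : Subgroup L).mul_mem (inv_mem (hU'T hu'U)) ht)
      have := Subgroup.mul_mem_sup hQ' (inv_mem hu'U)
      rw [show t = u' * (u'⁻¹ * t) by group]
      exact mul_mem (Subgroup.mem_sup_right hu'U) (Subgroup.mem_sup_left hQ')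
    have hTN : (T : Subgroup L) ≤ Subgroup.normalizer (cM : Set L) := (hΦ U' hU'T hfull).trans hU'N
    have hcMR : ∀ x ∈ cM, x ∈ R := by
      intro x hx
      refine hC (Subgroup.mem_centralizer_iff_commutator_eq_one.2 fun r hr => ?_)
      have h1 : r * x * r⁻¹ * x⁻¹ ∈ R := by
        have := R.mul_mem hr (Subgroup.Normal.conj_mem ‹_› r⁻¹ (R.inv_mem hr) x)
        simpa [mul_assoc] using this
      have h2 : r * x * r⁻¹ * x⁻¹ ∈ cM :=
        cM.mul_mem ((Subgroup.mem_normalizer_iff.1 (hTN (hRT hr)) x).1 hx) (cM.inv_mem hx)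
      have hd : Disjoint R cM := IsPGroup.disjoint_of_ne p q (fun h => hqp h.symm) _ _
        (T.isPGroup'.to_le hRT) (hMq.map _)
      exact Subgroup.mem_bot.1 (hd.le_bot ⟨h1, h2⟩)
    apply hM1
    have hd : Disjoint R cM := IsPGroup.disjoint_of_ne p q (fun h => hqp h.symm) _ _
      (T.isPGroup'.to_le hRT) (hMq.map _)
    refine Subgroup.map_injective (MulAut.conj c).injective (f := (MulAut.conj c).toMonoidHom) ?_
    rw [Subgroup.map_bot]
    exact eq_bot_iff.2 fun x hx => hd.le_bot ⟨hcMR x hx, hx⟩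
  have hKle : K ≤ T := by
    obtain ⟨V, hV⟩ := hKp.exists_le_sylow
    obtain ⟨c, hc⟩ := MulAction.exists_smul_eq L V T
    intro k hk
    rw [← hc]
    exact ⟨c⁻¹ * k * c, hV (by simpa using hKn.conj_mem k hk c⁻¹), by simp [MulAut.smul_def, mul_assoc]⟩
  intro g _
  obtain ⟨k, hk, t, ht, rfl⟩ := hgen g
  exact (T : Subgroup L).mul_mem (hKle hk) ht

end Group

section System

universe u

variable {Ω : Type u} [Group Ω] {T : Subgroup Ω} {p : ℕ} [Fact p.Prime]

/-- A saturated system with a normal subgroup between the derived and the Frattini subgroup of `T`, in which the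
automorphisms of `T` are inner, is inner. -/
theorem le_inner_of_derived_frattini [Finite T] (hT : IsPGroup p T) {E : FusionSystem T}
    (hE : E.IsSaturated p) {Q : Subgroup Ω} (hQ : E.IsNormal Q)
    (hcomm : ∀ a ∈ T, ∀ b ∈ T, ⁅a, b⁆ ∈ Q)
    (hΦ : ∀ K : Subgroup Ω, K ≤ T → T ≤ Q ⊔ K → T ≤ K)
    (haut : ∀ φ ∈ E.Hom T, ∃ g ∈ T, ∀ x : T, φ x = g * (x : Ω) * g⁻¹) : E ≤ innerFusionSystem T := by
  refine H94.alperin_le hT hE _ fun R hR hc hr α hα => ?_
  have hRT : R ≤ T := hR.1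
  have hQR : Q ≤ R := H93.IsNormal.le_centric_radical hT hQ hc hr
  have hTn : T ≤ Subgroup.normalizer (R : Set Ω) := by
    intro t ht
    have key : ∀ s ∈ T, ∀ r ∈ R, s * r * s⁻¹ ∈ R := by
      intro s hs r hr'
      have := R.mul_mem (hQR (hcomm s hs r (hRT hr'))) hr'
      simpa [commutatorElement_def, mul_assoc] using this
    refine Subgroup.mem_normalizer_iff.2 fun r => ⟨key t ht r, fun h => ?_⟩
    simpa [mul_assoc] using key t⁻¹ (inv_mem ht) _ h
  set M := normalizerIn T R with hM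
  have hMT : M = T := le_antisymm inf_le_left (le_inf le_rfl hTn)
  have hRM : R ≤ M := le_inf hRT Subgroup.le_normalizer
  haveI : Finite M := H96.finite_of_le (S := T) inf_le_left
  have hMp : IsPGroup p M := hT.to_le inf_le_left
  have hN : E.IsNormalizerSystem R (H93.normalizerSystem E R hRT) := fun P => rfl
  obtain ⟨L, hL, ι, hm⟩ := S5090.result p hMp _ (H94.isConstrained_normalizerSystem hT hE hR hc hN)
  have hcore := H94.pCore_model_eq hR hc hr hN hm
  obtain ⟨hfin, ⟨hinj, hreal⟩, ⟨Tl, hTl⟩, hC⟩ := hm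
  haveI := hfin
  haveI hOn : (Cfsg.pCore p L : Subgroup L).Normal := H19.pCore_normal p L
  set Q' := (Q.subgroupOf M).map ι with hQ'
  have hQ'n : Q'.Normal := by
    refine ⟨?_⟩
    rintro _ ⟨q, hq, rfl⟩ g
    have hex : ∀ x : R, ∃ y : R, ι ⟨y, hRM y.2⟩ = g * ι ⟨x, hRM x.2⟩ * g⁻¹ := by
      intro x
      obtain ⟨y, hy, hye⟩ : g * ι ⟨x, hRM x.2⟩ * g⁻¹ ∈ (R.subgroupOf M).map ι := by
        rw [← hcore]
        exact hOn.conj_mem _ (hcore ▸ ⟨⟨x, hRM x.2⟩, x.2, rfl⟩) g
      exact ⟨⟨y, hy⟩, hye⟩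
    choose f hf using hex
    let φ : R →* Ω := R.subtype.comp (MonoidHom.mk' f fun a b => Subtype.ext (congrArg
      (Subtype.val : M → Ω) (a₁ := ⟨_, hRM (f (a * b)).2⟩)
      (a₂ := ⟨f a, hRM (f a).2⟩ * ⟨f b, hRM (f b).2⟩) (hinj (by
        rw [map_mul, hf, hf, hf, show (⟨((a * b : R) : Ω), hRM (a * b).2⟩ : M) =
          ⟨a, hRM a.2⟩ * ⟨b, hRM b.2⟩ from rfl, map_mul]
        group))))
    have hφ := ((hreal R hRM φ fun x => hRM (f x).2).2 ⟨g, fun x => hf x⟩).1
    have hqR : (q : Ω) ∈ R := hQR hq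
    have := H93.StronglyClosed.apply_mem (H93.IsNormal.stronglyClosed hQ) hφ ⟨q, hqR⟩ hq
    exact ⟨⟨_, hRM (f ⟨q, hqR⟩).2⟩, this, hf ⟨q, hqR⟩⟩
  have hNT : Subgroup.normalizer ((Tl : Subgroup L) : Set L) ≤ Tl := by
    rw [hTl]
    intro g hg
    have hex : ∀ x : M, ∃ y : M, ι y = g * ι x * g⁻¹ := fun x =>
      (Subgroup.mem_normalizer_iff.1 hg _).1 ⟨x, rfl⟩
    choose f hf using hex
    let φ : M →* Ω := M.subtype.comp (MonoidHom.mk' f fun a b => hinj (by
      rw [map_mul, hf, hf, hf, map_mul]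
      group))
    have hφ := ((hreal M le_rfl φ fun x => (f x).2).2 ⟨g, fun x => hf x⟩).1
    obtain ⟨t, ht, hte⟩ := haut _ (H96.res_mem E hφ hMT.ge)
    have hcen : (ι ⟨t, hMT.ge ht⟩)⁻¹ * g ∈
        Subgroup.centralizer ((Cfsg.pCore p L : Subgroup L) : Set L) := by
      refine Subgroup.mem_centralizer_iff.2 fun z hz => ?_
      rw [SetLike.mem_coe, hcore] at hz
      obtain ⟨y, -, rfl⟩ := hz
      have h5 : f y = ⟨t, hMT.ge ht⟩ * y * ⟨t, hMT.ge ht⟩⁻¹ := Subtype.ext (hte ⟨y, hMT.le y.2⟩)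
      have h6 := hf y
      rw [h5, map_mul, map_mul, map_inv] at h6
      calc ι y * ((ι ⟨t, hMT.ge ht⟩)⁻¹ * g)
          = (ι ⟨t, hMT.ge ht⟩)⁻¹ * (ι ⟨t, hMT.ge ht⟩ * ι y * (ι ⟨t, hMT.ge ht⟩)⁻¹) * g := by group
        _ = (ι ⟨t, hMT.ge ht⟩)⁻¹ * g * ι y := by rw [h6]; group
    obtain ⟨y, hy⟩ : (ι ⟨t, hMT.ge ht⟩)⁻¹ * g ∈ ι.range := hTl ▸ H19.pCore_le_sylow Tl (hC hcen)
    exact ⟨⟨t, hMT.ge ht⟩ * y, by rw [map_mul, hy]; group⟩
  have htop := le_sylow_of_derived_frattini Tl (Q := Q') (R := Cfsg.pCore p L)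
    (H19.pCore_le_sylow Tl) (hTl ▸ Subgroup.map_le_range ι _) hC hNT ?_ ?_
  · have hαM := H94.autGroup_normalizerSystem hRT hN hα
    obtain ⟨g, hg⟩ := (hreal R hRM _ fun x => hRM (α x).2).1 hαM
    obtain ⟨t, ht⟩ : g ∈ ι.range := hTl ▸ htop (Subgroup.mem_top g)
    rw [H96.mem_autGroup _ hRT]
    refine ⟨hRT, (t : Ω), hMT.le t.2, fun x => ?_⟩
    have h7 := hg x
    rw [← ht, ← map_inv, ← map_mul, ← map_mul] at h7
    exact congrArg Subtype.val (hinj h7)
  · rw [hTl]
    rintro _ ⟨a, rfl⟩ _ ⟨b, rfl⟩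
    rw [← map_commutatorElement]
    exact ⟨_, hcomm a (hMT.le a.2) b (hMT.le b.2), rfl⟩
  · rw [hTl]
    intro K hK hsup
    rintro _ ⟨a, rfl⟩
    have h1 : T ≤ Q ⊔ (K.comap ι).map M.subtype := by
      intro x hx
      have h2 := hsup ⟨⟨x, hMT.ge hx⟩, rfl⟩
      rw [hQ', ← Subgroup.map_comap_eq_self hK, ← Subgroup.map_sup] at h2
      obtain ⟨y, hy, hye⟩ := h2
      rw [hinj hye] at hy
      have := Subgroup.mem_map_of_mem M.subtype hy
      rw [Subgroup.map_sup] at this
      have hQm : (Q.subgroupOf M).map M.subtype ≤ Q := by rintro _ ⟨z, hz, rfl⟩; exact hz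
      exact (sup_le_sup_right hQm _ : _ ≤ Q ⊔ (K.comap ι).map M.subtype) this
    obtain ⟨y, hy, hye⟩ := hΦ _ ((Subgroup.map_subtype_le _).trans inf_le_left) h1 (hMT.le a.2)
    rwa [show a = y from Subtype.ext hye.symm]

end System

end Cfsg.Agent.H95
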