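import Cfsg.Agent.H95.CentralDerived
import Cfsg.Agent.H93.Essential

/-!
Essential subgroups properly inside a subgroup whose commutators lie in a central line.
-/
set_option autoImplicit false

namespace Cfsg.Agent.H95

open Cfsg
open scoped commutatorElement

variable {Ω : Type*} [Group Ω] {S : Subgroup Ω} [Finite S] {p : ℕ} [Fact p.Prime] {F : FusionSystem S} {z : Ω}

/-- The automorphisms of `U` fixing `zu` with displacements in its powers, inside a group preserving the line,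
make every inducing element lie in `U`. -/
theorem exists_moves_line (hS : IsPGroup p S) {U : Subgroup Ω} (hc : F.IsCentric U) (hr : F.IsRadical p U)
    {zu : U} {g : Ω} (hgS : g ∈ S) (hgU : g ∉ U) {t : MulAut U} (ht : t ∈ F.autGroup U)
    (hte : ∀ x : U, ((t x : U) : Ω) = g * (x : Ω) * g⁻¹) (hzf : t zu = zu)
    (htr : ∀ v : U, ∃ i : ℤ, t v = v * zu ^ i) : ∃ a ∈ F.autGroup U, a zu ∉ Subgroup.zpowers zu := by
  by_contra hall
  push Not at hall
  have hUS := hc.1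
  have := H96.finite_of_le hUS
  let W : ℕ → Subgroup U := fun i => if i = 0 then ⊥ else if i = 1 then Subgroup.zpowers zu else ⊤
  have hW : ∀ a ∈ F.autGroup U, ∀ i ≤ 2, ∀ x : U, x ∈ W i → a x ∈ W i := by
    intro a ha i hi x hx
    rcases (show i = 0 ∨ i = 1 ∨ i = 2 by omega) with rfl | rfl | rfl
    · simp only [W, if_true, Subgroup.mem_bot] at hx ⊢
      rw [hx, map_one]
    · simp only [W, one_ne_zero, if_false, if_true] at hx ⊢
      obtain ⟨k, rfl⟩ := hx
      show a (zu ^ k) ∈ _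
      rw [map_zpow]
      exact zpow_mem (hall a ha) k
    · simp [W]
  refine hgU (mem_of_induced_of_normal_pGroup hc hr (K := F.autGroup U ⊓ chainStab W 2) inf_le_left
    (fun a ha k hk => ?_)
    ((isPGroup_chainStab (hS.to_le hUS) (W := W) (m := 2) rfl rfl).to_le inf_le_right) hgS
    (α := t) ⟨ht, ?_⟩ hte)
  · refine ⟨(F.autGroup U).mul_mem ((F.autGroup U).mul_mem ha hk.1) ((F.autGroup U).inv_mem ha), fun i hi x hx => ?_⟩
    have h1 := hk.2 i hi (a⁻¹ x) (hW _ (inv_mem ha) (i + 1) (by omega) x hx)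
    refine ⟨?_, hW a ha (i + 1) (by omega) _ h1.2⟩
    have h2 := hW a ha i (by omega) _ h1.1
    rw [map_mul, map_inv, show a (a⁻¹ x) = x from a.apply_symm_apply x] at h2
    exact h2
  · intro i hi x hx
    rcases (show i = 0 ∨ i = 1 by omega) with rfl | rfl
    · simp only [W, zero_add, one_ne_zero, if_false, if_true] at hx ⊢
      obtain ⟨k, rfl⟩ := hx
      show _ ∧ t (zu ^ k) ∈ _
      rw [apply_zpow_fix hzf]
      exact ⟨by simp, ⟨k, rfl⟩⟩
    · simp only [W, show ¬ (1 + 1 = 0) by omega, show ¬ (1 + 1 = 1) by omega, one_ne_zero, if_false, if_true]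
        at hx ⊢
      obtain ⟨k, hk⟩ := htr x
      rw [hk, inv_mul_cancel_left]
      exact ⟨Subgroup.zpow_mem_zpowers zu k, trivial⟩

/-- An essential subgroup below a subgroup `Q` with commutators in a central line of `Q` is abelian of index at
most `p` in `Q`. -/
theorem essential_below (hS : IsPGroup p S) (hF : F.IsSaturated p) {Q : Subgroup Ω} (hQS : Q ≤ S)
    (hz : z ∈ Q ⊓ Subgroup.centralizer (Q : Set Ω)) (hzS : z ∈ S ⊓ Subgroup.centralizer (S : Set Ω))
    (hzp : z ^ p = 1) (hcomm : ∀ a ∈ Q, ∀ b ∈ Q, ∃ i : ℤ, a * b * a⁻¹ * b⁻¹ = z ^ i)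
    {U : Subgroup Ω} (hUQ : U ≤ Q) (hne : U ≠ Q) (hess : F.IsEssential p U) :
    (∀ a ∈ U, ∀ b ∈ U, a * b = b * a) ∧ Nat.card Q ≤ p * Nat.card U := by
  have hp : p.Prime := Fact.out
  have hr := H93.IsEssential.isRadical hS hess
  obtain ⟨hc, hn, hnor, Y, hY⟩ := hess
  have hUS := hc.1
  have := H96.finite_of_le hUS
  have := H96.finite_of_le hQS
  have hfin := H93.finite_mulAut hUS
  set A := F.autGroup U with hA
  have hCU : FusionSystem.centralizerIn S U ≤ U := hc.2 U (H96.isConj_refl F hUS)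
  have hzU : z ∈ U := hCU ⟨hzS.1, Subgroup.centralizer_le (SetLike.coe_subset_coe.2 hUS) hzS.2⟩
  set zu : U := ⟨z, hzU⟩
  have hzup : zu ^ p = 1 := Subtype.ext (by simpa [zu] using hzp)
  have hnorm : ∀ g ∈ Q, g ∈ Subgroup.normalizer (U : Set Ω) := fun g hg =>
    H94.mem_normalizer_of_forall_conj_mem fun b hb => by
      obtain ⟨i, hi⟩ := hcomm g hg b (hUQ hb)
      rw [show g * b * g⁻¹ = (g * b * g⁻¹ * b⁻¹) * b by group, hi]
      exact U.mul_mem (zpow_mem hzU i) hb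
  -- transvections induced by `Q`
  have hdisp : ∀ {γ : MulAut U} {g : Ω}, g ∈ Q → (∀ x : U, ((γ x : U) : Ω) = g * (x : Ω) * g⁻¹) →
      (∀ v : U, ∃ i : ℤ, γ v = v * zu ^ i) ∧ γ zu = zu := by
    intro γ g hg hge
    refine ⟨fun v => ?_, Subtype.ext (by rw [hge, (mem_centre.1 hzS).2 g (hQS hg), mul_inv_cancel_right])⟩
    obtain ⟨i, hi⟩ := hcomm g hg v (hUQ v.2)
    refine ⟨i, Subtype.ext ?_⟩
    rw [hge, Subgroup.coe_mul, Subgroup.coe_zpow, (mem_centre.1 (zpow_mem hzS i)).2 v (hUS v.2), ← hi]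
    group
  obtain ⟨g₀, hg₀Q, hg₀U⟩ := SetLike.exists_of_lt (lt_of_le_of_ne hUQ hne)
  obtain ⟨t₀, ht₀, ht₀e⟩ := H94.exists_autInducedBy (hQS hg₀Q) (hnorm g₀ hg₀Q)
  obtain ⟨ht₀r, ht₀f⟩ := hdisp hg₀Q ht₀e
  obtain ⟨τ₀, hτ₀A, hτ₀⟩ := exists_moves_line hS hc hr (hQS hg₀Q) hg₀U
    (H96.autInducedBy_le_autGroup F hUS ht₀) ht₀e ht₀f ht₀r
  have hab : ∀ a b : U, a * b = b * a := by
    intro a b
    by_contra hab
    obtain ⟨i, hi⟩ := hcomm a (hUQ a.2) b (hUQ b.2)
    have hi1 : zu ^ i ≠ 1 := fun e => hab (mul_inv_eq_iff_eq_mul.1 (mul_inv_eq_one.1 (Subtype.ext (by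
      rw [Subgroup.coe_mul, Subgroup.coe_mul, Subgroup.coe_mul, InvMemClass.coe_inv, InvMemClass.coe_inv, hi]
      simpa [zu] using congrArg Subtype.val e) : a * b * a⁻¹ * b⁻¹ = 1)))
    obtain ⟨j, hj⟩ := exists_zpow_zpow_eq hzup hi1 1
    obtain ⟨k, hk⟩ := hcomm _ (hUQ (τ₀ a).2) _ (hUQ (τ₀ b).2)
    apply hτ₀
    rw [show τ₀ zu = τ₀ (zu ^ i) ^ j by rw [← map_zpow, hj, zpow_one]]
    refine zpow_mem (Subgroup.mem_zpowers_iff.2 ⟨k, ?_⟩) j
    show zu ^ k = τ₀ (zu ^ i)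
    rw [show zu ^ i = a * b * a⁻¹ * b⁻¹ from Subtype.ext (by simp [zu, hi]), map_mul, map_mul, map_mul, map_inv,
      map_inv]
    exact Subtype.ext (by simp [zu, hk])
  refine ⟨fun a ha b hb => congrArg Subtype.val (hab ⟨a, ha⟩ ⟨b, hb⟩), ?_⟩
  by_contra hlt
  push Not at hlt
  have hout : ∀ x : U, ∃ g ∈ Q, g ∉ U ∧ g * (x : Ω) = x * g := by
    intro x
    by_contra hno
    push Not at hno
    have h1 := card_le_mul_centralizer (S := Q) hz hzp hcomm le_rfl (hUQ x.2)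
    have hle : Q ⊓ Subgroup.centralizer ({(x : Ω)} : Set Ω) ≤ U := fun g hg => by
      by_contra hgU
      exact hno g hg.1 hgU (Subgroup.mem_centralizer_singleton_iff.1 hg.2)
    have h2 := Nat.mul_le_mul_left p (Subgroup.card_le_of_le hle)
    omega
  letI : CommGroup U := { (inferInstance : Group U) with mul_comm := hab }
  obtain ⟨R, hR⟩ := (H94.fullyNormalized_spec hS hF hn).1.2
  set I := (Inn U).subgroupOf A with hI
  set q := QuotientGroup.mk' I with hq
  have hqs : Function.Surjective q := QuotientGroup.mk'_surjective I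
  have hq1 : Function.Injective q := by
    rw [injective_iff_map_eq_one]
    intro a ha
    obtain ⟨u, hu⟩ := Subgroup.mem_subgroupOf.1 ((QuotientGroup.eq_one_iff a).1 ha)
    refine Subtype.ext (hu.symm.trans (MulEquiv.ext fun v => ?_))
    rw [MulAut.conj_apply, mul_comm u v, mul_inv_cancel_right]
    rfl
  obtain ⟨-, hYne, P0, hcore⟩ := hY
  obtain ⟨c₀, hc₀⟩ := MulAction.exists_smul_eq (A ⧸ I) (R.mapSurjective hqs) P0
  let c : A →* A ⧸ I := (MulAut.conj c₀).toMonoidHom.comp q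
  have hc1 : Function.Injective c := (MulAut.conj c₀).injective.comp hq1
  have hc2 : Function.Surjective c := (MulAut.conj c₀).surjective.comp hqs
  have hcR : ∀ a : A, (a : MulAut U) ∈ autInducedBy S U → c a ∈ (P0 : Subgroup (A ⧸ I)) := by
    intro a ha
    rw [← hc₀, Sylow.coe_subgroup_smul]
    exact Subgroup.smul_mem_pointwise_smul (q a) (MulAut.conj c₀) _
      (show q a ∈ (R : Subgroup A).map q from ⟨a, by rw [hR]; exact ha, rfl⟩)
  have hmove : ∀ (σ γ : A), (γ : MulAut U) ∈ autInducedBy S U → γ ≠ 1 →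
      ((σ * γ * σ⁻¹ : A) : MulAut U) ∈ autInducedBy S U → c σ ∈ Y := by
    intro σ γ hγ hγ1 hσγ
    refine H93.mem_of_kGeneratedCore_le P0 hcore (T := Subgroup.zpowers (c γ))
      (Subgroup.zpowers_le.2 (hcR γ hγ)) (fun e => hγ1 (hc1 (by rw [map_one]; exact Subgroup.zpowers_eq_bot.1 e))) ?_
    rw [MonoidHom.map_zpowers, Subgroup.zpowers_le]
    show c σ * c γ * (c σ)⁻¹ ∈ _
    rw [← map_inv, ← map_mul, ← map_mul]
    exact hcR _ hσγ
  -- elements moving the line lie in `Y`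
  have hlink : ∀ τ : A, (τ : MulAut U) zu ∉ Subgroup.zpowers zu → c τ ∈ Y := by
    intro τ hτ
    obtain ⟨g, hgQ, hgU, hgc⟩ := hout ((τ : MulAut U) zu)
    obtain ⟨h, hhQ, hhU, hhc⟩ := hout ((τ : MulAut U)⁻¹ zu)
    obtain ⟨t, ht, hte⟩ := H94.exists_autInducedBy (hQS hgQ) (hnorm g hgQ)
    obtain ⟨t', ht', ht'e⟩ := H94.exists_autInducedBy (hQS hhQ) (hnorm h hhQ)
    set τm : MulAut U := (τ : MulAut U)
    set u := τm * t' * τm⁻¹ with hu
    have htA : t ∈ A := H96.autInducedBy_le_autGroup F hUS ht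
    have ht'A : t' ∈ A := H96.autInducedBy_le_autGroup F hUS ht'
    have huA : u ∈ A := mul_mem (mul_mem τ.2 ht'A) (inv_mem τ.2)
    obtain ⟨htr, hzf⟩ := hdisp hgQ hte
    obtain ⟨htr', -⟩ := hdisp hhQ ht'e
    have hutr : ∀ v : U, ∃ i : ℤ, u v = v * (τm zu) ^ i := by
      intro v
      obtain ⟨i, hi⟩ := htr' (τm⁻¹ v)
      exact ⟨i, by rw [hu, MulAut.mul_apply, MulAut.mul_apply, hi, map_mul, map_zpow,
        show τm (τm⁻¹ v) = v from τm.apply_symm_apply v]⟩
    have htτ : t (τm zu) = τm zu := Subtype.ext (by rw [hte, hgc, mul_inv_cancel_right])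
    have huz : u zu = zu := by
      rw [hu, MulAut.mul_apply, MulAut.mul_apply,
        show t' (τm⁻¹ zu) = τm⁻¹ zu from Subtype.ext (by rw [ht'e, hhc, mul_inv_cancel_right])]
      exact τm.apply_symm_apply zu
    have hcomm' : t * u = u * t := MulEquiv.ext fun v => by
      obtain ⟨i, hi⟩ := htr v
      obtain ⟨j, hj⟩ := hutr v
      show t (u v) = u (t v)
      rw [hi, hj, map_mul, map_mul, map_zpow, map_zpow, htτ, huz, hi, hj, mul_right_comm]
    have hind := H94.isPGroup_autInducedBy (P := U) hS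
    have hzpg : ∀ {γ : MulAut U} (k : ℕ), γ ^ p ^ k = 1 → IsPGroup p (Subgroup.zpowers γ) := by
      rintro γ k hγ ⟨_, i, rfl⟩
      exact ⟨k, Subtype.ext (show (γ ^ i) ^ p ^ k = 1 by
        rw [← zpow_natCast, ← zpow_mul, mul_comm, zpow_mul, zpow_natCast, hγ, one_zpow])⟩
    obtain ⟨k, hk⟩ := hind ⟨t, ht⟩
    obtain ⟨k', hk'⟩ := hind ⟨t', ht'⟩
    have htk : t ^ p ^ k = 1 := congrArg Subtype.val hk
    have huk : u ^ p ^ k' = 1 := by
      rw [hu, conj_pow, show t' ^ p ^ k' = 1 from congrArg Subtype.val hk', mul_one, mul_inv_cancel]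
    have hnl : Subgroup.zpowers t ≤ Subgroup.normalizer (Subgroup.zpowers u : Set (MulAut U)) :=
      Subgroup.zpowers_le.2 (H94.mem_normalizer_of_forall_conj_mem fun r hr' => by
        obtain ⟨l, rfl⟩ := Subgroup.mem_zpowers_iff.1 hr'
        rw [((show Commute t u from hcomm').zpow_right l).eq, mul_inv_cancel_right]
        exact Subgroup.zpow_mem_zpowers u l)
    set L := Subgroup.zpowers t ⊔ Subgroup.zpowers u
    have hL : IsPGroup p L := (hzpg k htk).to_sup_of_normal_right' (hzpg k' huk) hnl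
    have hLA : L ≤ A := sup_le (Subgroup.zpowers_le.2 htA) (Subgroup.zpowers_le.2 huA)
    obtain ⟨P, hP⟩ := (IsPGroup.of_equiv hL (Subgroup.subgroupOfEquivOfLe hLA).symm).exists_le_sylow
    obtain ⟨σ, hσ⟩ := MulAction.exists_smul_eq A P R
    have hconjR : ∀ x : A, (x : MulAut U) ∈ L → ((σ * x * σ⁻¹ : A) : MulAut U) ∈ autInducedBy S U := by
      intro x hx
      have h1 : σ * x * σ⁻¹ ∈ (R : Subgroup A) := by
        rw [← hσ, Sylow.coe_subgroup_smul]
        exact Subgroup.smul_mem_pointwise_smul _ (MulAut.conj σ) _ (hP (show x ∈ L.subgroupOf A from hx))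
      rw [hR, Subgroup.mem_subgroupOf] at h1
      exact h1
    have hne_t : ∀ {γ : MulAut U} {y : Ω}, y ∈ Q → y ∉ U → (∀ v : U, ((γ v : U) : Ω) = y * v * y⁻¹) → γ ≠ 1 := by
      intro γ y hy hyU hγ e
      refine hyU (hCU ⟨hQS hy, Subgroup.mem_centralizer_iff.2 fun v hv => ?_⟩)
      have h1 := hγ ⟨v, hv⟩
      rw [e, MulAut.one_apply] at h1
      exact (mul_inv_eq_iff_eq_mul.1 h1.symm).symm
    have h1 : c σ ∈ Y := hmove σ ⟨t, htA⟩ ht (fun e => hne_t hgQ hgU hte (congrArg Subtype.val e))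
      (hconjR ⟨t, htA⟩ (Subgroup.mem_sup_left (Subgroup.mem_zpowers t)))
    have h2 : c (σ * τ) ∈ Y := hmove (σ * τ) ⟨t', ht'A⟩ ht' (fun e => hne_t hhQ hhU ht'e (congrArg Subtype.val e))
      (by
        have := hconjR ⟨u, huA⟩ (Subgroup.mem_sup_right (Subgroup.mem_zpowers u))
        have e : σ * τ * (⟨t', ht'A⟩ : A) * (σ * τ)⁻¹ = σ * ⟨u, huA⟩ * σ⁻¹ := by
          rw [show (⟨u, huA⟩ : A) = τ * ⟨t', ht'A⟩ * τ⁻¹ from Subtype.ext rfl]
          group
        rw [e]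
        exact this)
    rw [map_mul] at h2
    have := Y.mul_mem (Y.inv_mem h1) h2
    rwa [inv_mul_cancel_left] at this
  refine hYne (top_le_iff.1 fun x _ => ?_)
  obtain ⟨τ, rfl⟩ := hc2 x
  by_cases hτ : (τ : MulAut U) zu ∈ Subgroup.zpowers zu
  · have h1 := hlink ⟨τ₀, hτ₀A⟩ hτ₀
    have h2 : c (⟨τ₀, hτ₀A⟩ * τ) ∈ Y := hlink _ fun hmem => hτ₀ (by
      -- the line is the image of the line
      have hmem' : τ₀ ((τ : MulAut U) zu) ∈ Subgroup.zpowers zu := hmem
      obtain ⟨a, ha⟩ := hτ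
      have ha' : zu ^ a = (τ : MulAut U) zu := ha
      by_cases ha1 : zu ^ a = 1
      · have : zu = 1 := (τ : MulAut U).injective (by rw [← ha', ha1, map_one])
        rw [this, map_one]
        exact one_mem _
      obtain ⟨l, hl⟩ := exists_zpow_zpow_eq hzup ha1 1
      rw [← ha', map_zpow] at hmem'
      have h3 := zpow_mem hmem' l
      rw [← map_zpow, ← map_zpow, hl, zpow_one] at h3
      exact h3)
    rw [map_mul] at h2
    have := Y.mul_mem (Y.inv_mem h1) h2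
    rwa [inv_mul_cancel_left] at this
  · exact hlink τ hτ

/-- For `p` odd, `|S| ≥ p ^ 6` and an extraspecial subgroup `Q` of index `p`, no proper subgroup of `Q` is essential. -/
theorem essential_eq_of_extraspecial_index (hp : Odd p) (hS : IsPGroup p S) {Q : Subgroup Ω} (hQS : Q ≤ S)
    (hQ : Cfsg.IsExtraspecial p ↥Q) (hQi : (Q.subgroupOf S).index = p) (h6 : p ^ 6 ≤ Nat.card S)
    (hF : F.IsSaturated p) (hcore : F.core = ⊥) {U : Subgroup Ω} (hUQ : U ≤ Q) (hess : F.IsEssential p U) :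
    U = Q := by
  by_contra hne
  have hpp : p.Prime := Fact.out
  have hcentre := centre_eq_of_extraspecial_index hp hS hQS hQ hQi hF hcore
  have := H96.finite_of_le hQS
  have := H96.finite_of_le (hUQ.trans hQS)
  obtain ⟨⟨-, -, hder⟩, hcz⟩ := hQ
  set ZQ := Q ⊓ Subgroup.centralizer (Q : Set Ω) with hZQ
  have hZQc : Nat.card ZQ = p := by
    rw [← hcz, ← Subgroup.card_map_of_injective (K := Subgroup.center Q) Q.subtype_injective]
    congr 2
    ext x
    constructor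
    · rintro ⟨hx, hxc⟩
      exact ⟨⟨x, hx⟩, Subgroup.mem_center_iff.2 fun q => Subtype.ext (hxc q q.2), rfl⟩
    · rintro ⟨w, hw, rfl⟩
      exact ⟨w.2, Subgroup.mem_centralizer_iff.2 fun q hq =>
        congrArg Subtype.val (Subgroup.mem_center_iff.1 hw ⟨q, hq⟩)⟩
  have := H96.finite_of_le (inf_le_left.trans hQS : ZQ ≤ S)
  haveI : Nontrivial ZQ := Finite.one_lt_card_iff_nontrivial.1 (hZQc.symm ▸ hpp.one_lt)
  obtain ⟨⟨z, hz⟩, hz1⟩ := exists_ne (1 : ZQ)
  have hzp : z ^ p = 1 := by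
    have := pow_card_eq_one' (x := (⟨z, hz⟩ : ZQ))
    rw [hZQc] at this
    simpa using congrArg Subtype.val this
  have hgen : ∀ x ∈ ZQ, ∃ i : ℤ, x = z ^ i := by
    intro x hx
    have h := Subgroup.eq_of_le_of_card_ge (Subgroup.zpowers_le.2 hz) (by
      rw [hZQc, Nat.card_zpowers, orderOf_eq_prime hzp (fun e => hz1 (Subtype.ext e))])
    obtain ⟨i, hi⟩ := Subgroup.mem_zpowers_iff.1 (h.ge hx)
    exact ⟨i, hi.symm⟩
  have hcomm : ∀ a ∈ Q, ∀ b ∈ Q, ∃ i : ℤ, a * b * a⁻¹ * b⁻¹ = z ^ i := by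
    intro a ha b hb
    refine hgen _ ⟨Q.mul_mem (Q.mul_mem (Q.mul_mem ha hb) (Q.inv_mem ha)) (Q.inv_mem hb), ?_⟩
    have h1 : ⁅(⟨a, ha⟩ : Q), (⟨b, hb⟩ : Q)⁆ ∈ Subgroup.center Q := hder ▸ comm_mem_commutator _ _
    exact Subgroup.mem_centralizer_iff.2 fun q hq =>
      congrArg Subtype.val (Subgroup.mem_center_iff.1 h1 ⟨q, hq⟩)
  obtain ⟨hab, hbig⟩ := essential_below hS hF hQS hz (hcentre.ge hz) hzp hcomm hUQ hne hess
  obtain ⟨g, hgQ, hgU⟩ := SetLike.exists_of_lt (lt_of_le_of_ne hUQ hne)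
  have hQgen : Q ≤ U ⊔ Subgroup.zpowers g := by
    have hle : U ⊔ Subgroup.zpowers g ≤ Q := sup_le hUQ (Subgroup.zpowers_le.2 hgQ)
    have := H96.finite_of_le (hle.trans hQS)
    refine (Subgroup.eq_of_le_of_card_ge hle ?_).ge
    obtain ⟨l, hl⟩ := Subgroup.card_dvd_of_le (le_sup_left : U ≤ U ⊔ Subgroup.zpowers g)
    obtain ⟨i, hi⟩ := IsPGroup.iff_card.1 (hS.to_le (hle.trans hQS))
    have hl1 : l ≠ 1 := fun e => hgU ((Subgroup.eq_of_le_of_card_ge (le_sup_left : U ≤ U ⊔ Subgroup.zpowers g)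
      (by rw [hl, e, mul_one])).ge (Subgroup.mem_sup_right (Subgroup.mem_zpowers g)))
    obtain ⟨m, -, rfl⟩ := (Nat.dvd_prime_pow hpp).1 (show l ∣ p ^ i from hi ▸ ⟨Nat.card U, by rw [hl, mul_comm]⟩)
    rw [hl]
    refine hbig.trans ?_
    rw [mul_comm p]
    refine Nat.mul_le_mul_left _ (Nat.le_self_pow (fun e => hl1 (by rw [e, pow_zero])) p)
  have hcent : U ⊓ Subgroup.centralizer ({g} : Set Ω) ≤ ZQ := fun x hx =>
    mem_centre_of_commute hUQ (hUQ hx.1) hQgen (fun v hv => hab v hv x hx.1)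
      (Subgroup.mem_centralizer_singleton_iff.1 hx.2).symm
  have h1 := card_le_mul_centralizer (S := Q) hz hzp hcomm hUQ hgQ
  have h2 : Nat.card ↥(U ⊓ Subgroup.centralizer ({g} : Set Ω)) ≤ p := hZQc ▸ Subgroup.card_le_of_le hcent
  have hQc : Nat.card S = p * Nat.card Q := by
    have h := (Q.subgroupOf S).index_mul_card
    rw [hQi, Nat.card_congr (Subgroup.subgroupOfEquivOfLe hQS).toEquiv] at h
    exact h.symm
  have h3 : Nat.card U ≤ p * p := h1.trans (Nat.mul_le_mul_left p h2)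
  have h4 : Nat.card S ≤ p ^ 4 := by
    rw [hQc]
    calc p * Nat.card Q ≤ p * (p * (p * p)) := Nat.mul_le_mul_left p (hbig.trans (Nat.mul_le_mul_left p h3))
      _ = p ^ 4 := by ring
  have h5 : p ^ 4 < p ^ 6 := Nat.pow_lt_pow_right hpp.one_lt (by norm_num)
  omega

end Cfsg.Agent.H95
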