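import Cfsg.Agent.H94.SatBasic

/-!
Extension of maps in a saturated system to centralizers and normalizers, in element form.
-/
set_option autoImplicit false

namespace Cfsg.Agent.H95

open Cfsg

variable {Ω : Type*} [Group Ω] {S : Subgroup Ω} [Finite S] {p : ℕ} [Fact p.Prime]

/-- A map sending `a` to a central element of `S` extends to `C_S(a)`. -/
theorem exists_ext_centralizer (hS : IsPGroup p S) {F : FusionSystem S} (hF : F.IsSaturated p) {D : Subgroup Ω}
    {φ : D →* Ω} (hφ : φ ∈ F.Hom D) {a : Ω} (ha : a ∈ D)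
    (hz : ∀ s ∈ S, s * φ ⟨a, ha⟩ = φ ⟨a, ha⟩ * s) :
    ∃ ψ ∈ F.Hom (FusionSystem.centralizerIn S (Subgroup.zpowers a)),
      ∀ h, ψ ⟨a, h⟩ = φ ⟨a, ha⟩ := by
  have hle : Subgroup.zpowers a ≤ D := Subgroup.zpowers_le.2 ha
  set σ := H96.res φ hle
  have hσ : σ ∈ F.Hom _ := H96.res_mem F hφ hle
  have hQS : σ.range ≤ S := by rintro _ ⟨x, rfl⟩; exact (F.le_of_mem hσ).2 x
  have hcentral : ∀ s ∈ S, ∀ y ∈ σ.range, s * y = y * s := by
    rintro s hs _ ⟨⟨y, hy⟩, rfl⟩
    obtain ⟨i, rfl⟩ := Subgroup.mem_zpowers_iff.1 hy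
    have e : (⟨a ^ i, hy⟩ : Subgroup.zpowers a) = (⟨a, Subgroup.mem_zpowers a⟩ : Subgroup.zpowers a) ^ i :=
      Subtype.ext (by simp)
    show s * σ _ = σ _ * s
    rw [e, map_zpow]
    exact (Commute.zpow_right (hz s hs) i).eq
  have hfn : F.IsFullyNormalized σ.range := by
    refine ⟨hQS, fun Q _ => ?_⟩
    have hall : S ≤ FusionSystem.normalizerIn S σ.range := fun s hs => by
      refine Subgroup.mem_inf.2 ⟨hs, ?_⟩
      apply Subgroup.centralizer_le_normalizer
      exact Subgroup.mem_centralizer_iff.2 fun y hy => (hcentral s hs y hy).symm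
    have h2 : FusionSystem.normalizerIn S σ.range = S := le_antisymm inf_le_left hall
    rw [h2]
    exact Subgroup.card_le_of_le inf_le_left
  obtain ⟨ψ, hψ, hag⟩ := (H94.fullyNormalized_spec hS hF hfn).2.2 _ σ hσ rfl
  have hE : FusionSystem.centralizerIn S (Subgroup.zpowers a) ≤
      FusionSystem.extender S (Subgroup.zpowers a) σ := by
    intro c hc
    refine H96.mem_extender.2 ⟨(Subgroup.mem_inf.1 hc).1,
      Subgroup.centralizer_le_normalizer _ (Subgroup.mem_inf.1 hc).2, 1, S.one_mem, fun x hx => ?_⟩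
    simp only [one_mul, inv_one, mul_one]
    congr 1
    apply Subtype.ext
    show c * (x : Ω) * c⁻¹ = x
    rw [← Subgroup.mem_centralizer_iff.1 (Subgroup.mem_inf.1 hc).2 x x.2, mul_inv_cancel_right]
  exact ⟨H96.res ψ hE, H96.res_mem F hψ hE, fun h => hag a (Subgroup.mem_zpowers a) (hE h)⟩

/-- An automorphism of a receptive subgroup extends over an element whose action it carries to that of an
element of `S`. -/
theorem exists_ext_aut {F : FusionSystem S} {M : Subgroup Ω} (hrec : F.IsReceptive M) {g : MulAut M}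
    (hg : g ∈ F.autGroup M) {b h : Ω} (hb : b ∈ S) (hbN : b ∈ Subgroup.normalizer (M : Set Ω)) (hh : h ∈ S)
    (hconj : ∀ (x : M) (hx : b * (x : Ω) * b⁻¹ ∈ M), ((g ⟨_, hx⟩ : M) : Ω) = h * (g x : M) * h⁻¹) :
    ∃ ψ ∈ F.Hom (M ⊔ Subgroup.zpowers b), ∀ x : M,
      ψ (Subgroup.inclusion le_sup_left x) = ((g x : M) : Ω) := by
  have hMS := hrec.1
  have hgF := (H96.mem_autGroup F hMS).1 hg
  have hr : (M.subtype.comp g.toMonoidHom).range = M := H96.range_eq_of_forall_mem F hgF fun x => (g x).2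
  obtain ⟨ψ, hψ, hag⟩ := hrec.2 M _ hgF hr
  have hE : M ⊔ Subgroup.zpowers b ≤ FusionSystem.extender S M (M.subtype.comp g.toMonoidHom) := by
    refine sup_le (fun m hm => H96.mem_extender.2 ⟨hMS hm, Subgroup.le_normalizer hm, _,
      hMS (g ⟨m, hm⟩).2, fun x hx => ?_⟩) (Subgroup.zpowers_le.2
      (H96.mem_extender.2 ⟨hb, hbN, h, hh, hconj⟩))
    rw [show (⟨m * (x : Ω) * m⁻¹, hx⟩ : M) = ⟨m, hm⟩ * x * ⟨m, hm⟩⁻¹ from rfl]
    simp
  exact ⟨H96.res ψ hE, H96.res_mem F hψ hE, fun x => hag x x.2 (hE (Subgroup.mem_sup_left x.2))⟩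

end Cfsg.Agent.H95
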