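import Cfsg.Agent.S5090
import Cfsg.Agent.H93.Realized
import Cfsg.Agent.H93.LocalSaturated
import Cfsg.Agent.H94.SatBasic
import Cfsg.Agent.H94.PPowerIndex
import Cfsg.Agent.H95.LocalInduction

/-!
Extremely sparse fusion systems: every saturated proper subsystem is inner.
-/
set_option autoImplicit false

namespace Cfsg.Agent.H95

open Cfsg Cfsg.FusionSystem
open H93 (apply_mem)

universe u

variable {Ω : Type u} [Group Ω] {S : Subgroup Ω} {p : ℕ} {F : FusionSystem S} {G : Type u} [Group G] {ι : S →* G}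

/-- Every saturated subsystem is the whole system or inner. -/
def IsSparse (F : FusionSystem S) (p : ℕ) : Prop :=
  ∀ (T : Subgroup Ω) (E : FusionSystem T), E.IsSaturated p → E.IsSubsystemOf F →
    (T = S ∧ ∀ P : Subgroup Ω, E.Hom P = F.Hom P) ∨
      (∀ P : Subgroup Ω, E.Hom P = (innerFusionSystem T).Hom P)

/-- Only automorphisms induced by `S` on the critical subgroups gives the inner system. -/
theorem le_inner_of_autGroup [Finite S] [Fact p.Prime] (hS : IsPGroup p S) (hF : F.IsSaturated p)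
    (h : ∀ U, F.IsFullyNormalized U → F.IsCentric U → F.IsRadical p U → F.autGroup U ≤ autInducedBy S U) :
    F ≤ innerFusionSystem S := by
  intro P φ hφ
  refine H94.alperin_induction hS hF (fun P φ => φ ∈ (innerFusionSystem S).Hom P)
    (fun P R hle φ _ hC => H96.res_mem _ hC hle)
    (fun P Q φ ψ _ _ h1 h2 hh => (innerFusionSystem S).comp_mem h1 h2 hh)
    (fun U hU hc hr α hα => ?_) hφ
  obtain ⟨g, hg, hge⟩ := H96.mem_autInducedBy.1 (h U hU hc hr hα)
  exact ⟨hU.1, g, hg, hge⟩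

/-- A non-inner sparse system is constrained on a normal centric subgroup. -/
theorem IsSparse.isConstrained [Finite S] [Fact p.Prime] (hS : IsPGroup p S) (hF : F.IsSaturated p)
    (hne : ¬ F ≤ innerFusionSystem S) (hs : IsSparse F p) : F.IsConstrained p := by
  obtain ⟨U, hU, hc, hr, hUne⟩ : ∃ U, F.IsFullyNormalized U ∧ F.IsCentric U ∧ F.IsRadical p U ∧
      ¬ F.autGroup U ≤ autInducedBy S U := by
    by_contra hno
    push Not at hno
    exact hne (le_inner_of_autGroup hS hF hno)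
  refine ⟨hF, U, ⟨hU.1, fun P φ hφ => ?_⟩, hc⟩
  have hsat : (H93.normalizerSystem F U hU.1).IsSaturated p :=
    H93.IsNormalizerSystem.isSaturated hS hF hU fun _ => rfl
  rcases hs _ (H93.normalizerSystem F U hU.1) hsat (fun P φ h => h.1) with ⟨-, he⟩ | he
  · exact ((he P).ge hφ).2.2.2
  · refine absurd (fun α hα => ?_) hUne
    have h1 := aut_mem_normalizerSystem hU.1 hα
    rw [he] at h1
    obtain ⟨-, g, hg, hge⟩ := h1
    exact H96.mem_autInducedBy.2 ⟨g, hg.1, hge⟩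

/-- The maps on `T` given by conjugation by elements of `X`. -/
def xSystem (hi : F.IsRealizedBy ι) (T : Subgroup Ω) (hT : T ≤ S) (X : Subgroup G)
    (hX : (T.subgroupOf S).map ι ≤ X) : FusionSystem T where
  Hom P := {φ | φ ∈ F.Hom P ∧ P ≤ T ∧ (∀ x : P, φ x ∈ T) ∧ ∃ g ∈ X, ∀ (x : P) (h1 : φ x ∈ S) (h2 : (x : Ω) ∈ S),
    ι ⟨φ x, h1⟩ = g * ι ⟨x, h2⟩ * g⁻¹}
  le_of_mem h := ⟨h.2.1, h.2.2.1⟩
  injective_of_mem h := F.injective_of_mem h.1
  conj_mem := by
    intro P g hP hg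
    refine ⟨F.conj_mem (hP.trans hT) (hT hg), hP, fun x => T.mul_mem (T.mul_mem hg (hP x.2)) (T.inv_mem hg),
      ι ⟨g, hT hg⟩, hX ⟨⟨g, hT hg⟩, hg, rfl⟩, fun x h1 h2 => ?_⟩
    rw [← map_inv, ← map_mul, ← map_mul]
    rfl
  comp_mem := by
    rintro P Q φ ψ ⟨hφ, hP, hv, g, hgX, hg⟩ ⟨hψ, hQ, hw, k, hkX, hk⟩ h
    refine ⟨F.comp_mem hφ hψ h, hP, fun x => hw _, k * g, mul_mem hkX hgX, fun x h1 h2 => ?_⟩
    refine (hk ⟨φ x, h x⟩ h1 (hT (hv x))).trans ?_
    rw [hg x (hT (hv x)) h2]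
    group
  inv_mem := by
    rintro P φ ⟨hφ, hP, hv, g, hgX, hg⟩
    obtain ⟨ψ, hψ, hψe⟩ := F.inv_mem hφ
    refine ⟨ψ, ⟨hψ, ?_, ?_, g⁻¹, inv_mem hgX, ?_⟩, hψe⟩
    · rintro _ ⟨x, rfl⟩
      exact hv x
    · rintro ⟨_, x, rfl⟩
      rw [hψe]
      exact hP x.2
    · rintro ⟨_, x, rfl⟩ h1 h2
      rw [show (⟨ψ ⟨φ x, _⟩, h1⟩ : S) = ⟨x, hT (hP x.2)⟩ from Subtype.ext (hψe x), hg x h2 (hT (hP x.2))]
      group

variable [Finite S] [Fact p.Prime] [Finite G]

/-- A non-trivially acting element of prime order normalizing a subgroup of `S` gives everything. -/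
theorem IsSparse.eq_of_element (hS : IsPGroup p S) (hi : F.IsRealizedBy ι) (hs : IsSparse F p)
    {T : Subgroup Ω} (hT : T ≤ S) {x : G} {q : ℕ} (hq : q.Prime) (hqp : q ≠ p) (hx : orderOf x = q)
    (hn : x ∈ Subgroup.normalizer ((T.subgroupOf S).map ι : Set G))
    (hout : ¬ ∃ t : S, (t : Ω) ∈ T ∧ ∀ y : S, (y : Ω) ∈ T → x * ι y * x⁻¹ = ι t * ι y * (ι t)⁻¹) :
    T = S ∧ ∀ (P : Subgroup Ω) (φ : P →* Ω), φ ∈ F.Hom P → ∃ s : S, ∃ i : ℕ,
      ∀ (y : P) (h1 : φ y ∈ S) (h2 : (y : Ω) ∈ S), ι ⟨φ y, h1⟩ = ι s * x ^ i * ι ⟨y, h2⟩ * (ι s * x ^ i)⁻¹ := by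
  have hp : p.Prime := Fact.out
  set U : Subgroup G := (T.subgroupOf S).map ι with hU
  set X : Subgroup G := U ⊔ Subgroup.zpowers x with hXdef
  have hUX : U ≤ X := le_sup_left
  have hxX : x ∈ X := Subgroup.mem_sup_right (Subgroup.mem_zpowers x)
  have hzn : Subgroup.zpowers x ≤ Subgroup.normalizer (U : Set G) := Subgroup.zpowers_le.2 hn
  have hXn : X ≤ Subgroup.normalizer (U : Set G) := sup_le Subgroup.le_normalizer hzn
  haveI : (U.subgroupOf X).Normal := (Subgroup.normal_subgroupOf_iff_le_normalizer hUX).2 hXn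
  have hmem : ∀ g ∈ X, ∃ (s : S) (i : ℕ), (s : Ω) ∈ T ∧ g = ι s * x ^ i := by
    intro g hg
    rw [← SetLike.mem_coe, hXdef, Subgroup.coe_mul_of_right_le_normalizer_left _ _ hzn] at hg
    obtain ⟨u, ⟨s, hs', rfl⟩, v, hv, rfl⟩ := hg
    obtain ⟨i, rfl⟩ := (isOfFinOrder_of_finite x).mem_powers_iff_mem_zpowers.2 hv
    exact ⟨s, i, hs', rfl⟩
  have hUp : IsPGroup p U := (hS.to_subgroup _).map ι
  -- the index of `U` in `X`
  have hidx : ¬ p ∣ (U.subgroupOf X).index := by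
    intro hdvd
    have hgen : ∀ g : X ⧸ U.subgroupOf X, g ∈ Subgroup.zpowers (QuotientGroup.mk ⟨x, hxX⟩ : X ⧸ U.subgroupOf X) := by
      intro g
      obtain ⟨⟨g, hg⟩, rfl⟩ := QuotientGroup.mk_surjective g
      obtain ⟨s, i, hs', rfl⟩ := hmem g hg
      refine ⟨(i : ℤ), ?_⟩
      have h1 : (⟨ι s * x ^ i, hg⟩ : X) = ⟨ι s, hUX ⟨s, hs', rfl⟩⟩ * ⟨x, hxX⟩ ^ i := Subtype.ext (by simp)
      show QuotientGroup.mk' (U.subgroupOf X) ⟨x, hxX⟩ ^ (i : ℤ) = QuotientGroup.mk' _ _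
      rw [h1, map_mul, show QuotientGroup.mk' (U.subgroupOf X) (⟨ι s, hUX ⟨s, hs', rfl⟩⟩ : X) = 1 from
        (QuotientGroup.eq_one_iff _).2 ⟨s, hs', rfl⟩, one_mul, map_pow, zpow_natCast]
    have hd : (U.subgroupOf X).index ∣ q := by
      rw [Subgroup.index, ← orderOf_eq_card_of_forall_mem_zpowers hgen]
      refine (orderOf_map_dvd (QuotientGroup.mk' (U.subgroupOf X)) ⟨x, hxX⟩).trans ?_
      rw [← hx, Subgroup.orderOf_mk]
    exact hqp ((Nat.prime_dvd_prime_iff_eq hp hq).1 (hdvd.trans hd)).symm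
  set ι' : T →* X := (ι.comp (Subgroup.inclusion hT)).codRestrict X fun t => hUX ⟨_, t.2, rfl⟩ with hι'
  have hr : (xSystem hi T hT X hUX).IsRealizedBy ι' := by
    refine ⟨fun a b hab => Subgroup.inclusion_injective hT (hi.1 (congrArg Subtype.val hab)),
      fun P hP φ hφ => ⟨?_, ?_⟩⟩
    · rintro ⟨-, -, -, g, hgX, hg⟩
      exact ⟨⟨g, hgX⟩, fun y => Subtype.ext (hg y _ _)⟩
    · rintro ⟨g, hg⟩
      exact ⟨(hi.2 P (hP.trans hT) φ fun y => hT (hφ y)).2 ⟨g, fun y => congrArg Subtype.val (hg y)⟩, hP, hφ,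
        g, g.2, fun y h1 h2 => congrArg Subtype.val (hg y)⟩
  have hrange : ι'.range = U.subgroupOf X := by
    ext g
    constructor
    · rintro ⟨t, rfl⟩
      exact ⟨_, t.2, rfl⟩
    · rintro ⟨s, hs', hse⟩
      exact ⟨⟨s, hs'⟩, Subtype.ext hse⟩
  have hsat : (xSystem hi T hT X hUX).IsSaturated p :=
    H93.IsRealizedBy.isSaturated hr
      ⟨IsPGroup.toSylow (hUp.comap_of_injective X.subtype X.subtype_injective) hidx, hrange.symm⟩
  rcases hs T _ hsat (fun P φ h => h.1) with ⟨hTS, he⟩ | he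
  · refine ⟨hTS, fun P φ hφ => ?_⟩
    obtain ⟨-, -, -, g, hgX, hg⟩ := (he P).ge hφ
    obtain ⟨s, i, -, rfl⟩ := hmem g hgX
    exact ⟨s, i, hg⟩
  · exfalso
    let f : T →* G := (MulAut.conj x).toMonoidHom.comp (ι.comp (Subgroup.inclusion hT))
    have hf : ∀ t, f t ∈ ι'.range.map X.subtype := fun t => by
      rw [hrange, Subgroup.subgroupOf_map_subtype, inf_of_le_left hUX]
      exact (Subgroup.mem_normalizer_iff.1 hn _).1 ⟨_, t.2, rfl⟩
    have hinj : Function.Injective (ι.comp (Subgroup.inclusion hT)) :=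
      hi.1.comp (Subgroup.inclusion_injective hT)
    have hf' : ∀ t, f t ∈ (ι.comp (Subgroup.inclusion hT)).range := fun t => by
      obtain ⟨_, ⟨w, rfl⟩, hw⟩ := hf t
      exact ⟨w, hw⟩
    let φ : T →* Ω := T.subtype.comp ((MonoidHom.ofInjective hinj).symm.toMonoidHom.comp (f.codRestrict _ hf'))
    have hφe : ∀ t, ι ⟨φ t, hT (Subtype.coe_prop _)⟩ = x * ι (Subgroup.inclusion hT t) * x⁻¹ := fun t =>
      congrArg Subtype.val ((MonoidHom.ofInjective hinj).apply_symm_apply ⟨f t, hf' t⟩)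
    have hφm : φ ∈ (xSystem hi T hT X hUX).Hom T :=
      ⟨(hi.2 T hT φ fun t => hT (Subtype.coe_prop _)).2 ⟨x, fun t => hφe t⟩, le_rfl,
        fun t => Subtype.coe_prop _, x, hxX, fun t _ _ => hφe t⟩
    rw [he] at hφm
    obtain ⟨-, g, hg, hge⟩ := hφm
    refine hout ⟨⟨g, hT hg⟩, hg, fun y hy => ?_⟩
    refine (hφe ⟨y, hy⟩).symm.trans ?_
    rw [← map_inv, ← map_mul, ← map_mul]
    exact congrArg ι (Subtype.ext (hge ⟨y, hy⟩))

/-- The structure of extremely sparse systems. -/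
theorem sparse_structure (hS : IsPGroup p S) (hF : F.IsSaturated p)
    (hne : ¬ ∀ P : Subgroup Ω, F.Hom P = (innerFusionSystem S).Hom P) (hs : IsSparse F p) :
    F.IsNormal S ∧ F.focalSubgroup = S ∧ F.hyperfocalSubgroup p = S ∧ ∃ (q : ℕ) (β : MulAut ↥S),
      q.Prime ∧ q ≠ p ∧ β ∈ F.autGroup S ∧ orderOf β = q ∧
        (F.autGroup S : Subgroup (MulAut ↥S)) = Inn ↥S ⊔ Subgroup.zpowers β := by
  have hp : p.Prime := Fact.out
  have hne' : ¬ F ≤ innerFusionSystem S := fun h => hne fun P => Set.Subset.antisymm (h P) (by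
    rintro φ ⟨hP, g, hg, hge⟩
    rw [show φ = conjHom P g from MonoidHom.ext hge]
    exact F.conj_mem hP hg)
  obtain ⟨G, _, ι, hG⟩ := S5090.result p hS F (IsSparse.isConstrained hS hF hne' hs)
  obtain ⟨hfin, hi, ⟨R, hR⟩, hC⟩ := hG
  haveI := hfin
  have hRp : IsPGroup p ι.range := hR ▸ R.2
  -- an element of prime order different from `p`
  obtain ⟨x, q, hq, hqp, hx⟩ : ∃ (x : G) (q : ℕ), q.Prime ∧ q ≠ p ∧ orderOf x = q := by
    by_cases hG' : IsPGroup p G
    · exfalso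
      have htop : ι.range = ⊤ :=
        hR ▸ (R.is_maximal' (hG'.to_subgroup ⊤) le_top).symm
      refine hne' fun P φ hφ => ?_
      obtain ⟨g, hg⟩ := (hi.2 P (F.le_of_mem hφ).1 φ (fun y => apply_mem hφ y)).1 hφ
      obtain ⟨s, rfl⟩ : g ∈ ι.range := htop ▸ Subgroup.mem_top g
      refine ⟨(F.le_of_mem hφ).1, s, s.2, fun y => ?_⟩
      have h1 := hg y
      rw [← map_inv, ← map_mul, ← map_mul] at h1
      exact congrArg Subtype.val (hi.1 h1)
    · obtain ⟨q, hq, hqd, hqp⟩ : ∃ q : ℕ, q.Prime ∧ q ∣ Nat.card G ∧ q ≠ p := by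
        by_contra hno
        push Not at hno
        exact hG' (IsPGroup.of_card (Nat.eq_prime_pow_of_unique_prime_dvd Nat.card_pos.ne'
          fun {d} hd hdd => hno d hd hdd))
      haveI : Fact q.Prime := ⟨hq⟩
      obtain ⟨x, hx⟩ := exists_prime_orderOf_dvd_card' q hqd
      exact ⟨x, q, hq, hqp, hx⟩
  have hxp : ∀ {y : G}, y ^ q = 1 → ∀ k : ℕ, y ^ p ^ k = 1 → y = 1 := by
    intro y h1 k h2
    have h3 := Nat.dvd_gcd (orderOf_dvd_of_pow_eq_one h1) (orderOf_dvd_of_pow_eq_one h2)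
    rw [((Nat.coprime_primes hq hp).2 hqp).pow_right k, Nat.dvd_one, orderOf_eq_one_iff] at h3
    exact h3
  have hxq : x ^ q = 1 := hx ▸ pow_orderOf_eq_one x
  -- first the core
  have hcore := H93.pCore_le_range (p := p) ⟨R, hR⟩
  haveI := H19.pCore_normal p G
  set T₀ : Subgroup Ω := H93.modelCore p ι
  have hU₀ : (T₀.subgroupOf S).map ι = pCore p G := by
    ext g
    constructor
    · rintro ⟨s, hs', rfl⟩
      exact (H93.mem_modelCore.1 hs').2
    · intro hg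
      obtain ⟨s, rfl⟩ := hcore hg
      exact ⟨s, H93.mem_modelCore.2 ⟨s.2, hg⟩, rfl⟩
  obtain ⟨hT₀, hgen⟩ := IsSparse.eq_of_element hS hi hs H93.modelCore_le hq hqp hx
    (by rw [hU₀, Subgroup.normalizer_eq_top]; exact Subgroup.mem_top x) (by
      rintro ⟨t, ht, hte⟩
      have h1 : (ι t)⁻¹ * x ∈ Subgroup.centralizer ((pCore p G : Subgroup G) : Set G) := by
        refine Subgroup.mem_centralizer_iff.2 fun y hy => ?_
        rw [SetLike.mem_coe, ← hU₀] at hy
        obtain ⟨s, hs', rfl⟩ := hy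
        have h2 := hte s hs'
        calc ι s * ((ι t)⁻¹ * x) = (ι t)⁻¹ * (ι t * ι s * (ι t)⁻¹) * x := by group
          _ = (ι t)⁻¹ * x * ι s := by rw [← h2]; group
      have h3 := hC h1
      obtain ⟨k, hk⟩ := hRp ⟨x, by
        have := Subgroup.mul_mem _ (⟨t, rfl⟩ : ι t ∈ ι.range) (hcore h3)
        rwa [mul_inv_cancel_left] at this⟩
      have hx1 := hxp hxq k (congrArg Subtype.val hk)
      rw [hx1, orderOf_one] at hx
      exact hq.one_lt.ne hx)
  have hrn : ι.range.Normal := by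
    have e : ι.range = pCore p G := by
      rw [← hU₀, show T₀ = S from hT₀, Subgroup.subgroupOf_self, ← MonoidHom.range_eq_map]
    rw [e]; infer_instance
  -- the automorphism
  have hconj : ∀ s : S, x * ι s * x⁻¹ ∈ ι.range := fun s => hrn.conj_mem _ ⟨s, rfl⟩ x
  let f : S →* Ω := (H93.realizedInv hi.1).comp
    (((MulAut.conj x).toMonoidHom.comp ι).codRestrict ι.range hconj)
  have hfS : ∀ s, f s ∈ S := fun s => H93.realizedInv_mem hi.1 _
  have hfe : ∀ s, ι ⟨f s, hfS s⟩ = x * ι s * x⁻¹ := fun s => H93.apply_realizedInv hi.1 _ _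
  have hfF : f ∈ F.Hom S := (hi.2 S le_rfl f hfS).2 ⟨x, fun s => hfe s⟩
  obtain ⟨β, hβ, hβe⟩ := H96.exists_autGroup_of_mem F hfF hfS
  have hβx : ∀ (i : ℕ) (s : S), ι ((β ^ i) s) = x ^ i * ι s * (x ^ i)⁻¹ := by
    intro i
    induction i with
    | zero => intro s; simp
    | succ i ih =>
      intro s
      rw [pow_succ' β, MulAut.mul_apply, show β ((β ^ i) s) = ⟨f ((β ^ i) s), hfS _⟩ from Subtype.ext (hβe _),
        hfe, ih, pow_succ' x]
      group
  have hβq : β ^ q = 1 := MulEquiv.ext fun s => hi.1 (by rw [hβx, hxq]; simp)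
  have hβ1 : β ≠ 1 := by
    intro e
    refine hne' fun P φ hφ => ?_
    obtain ⟨s, i, hsi⟩ := hgen P φ hφ
    refine ⟨(F.le_of_mem hφ).1, s, s.2, fun y => ?_⟩
    have h1 := hsi y (apply_mem hφ y) ((F.le_of_mem hφ).1 y.2)
    have h2 := hβx i ⟨y, (F.le_of_mem hφ).1 y.2⟩
    rw [e, one_pow, MulAut.one_apply] at h2
    rw [mul_inv_rev, show ι s * x ^ i * ι ⟨y, (F.le_of_mem hφ).1 y.2⟩ * ((x ^ i)⁻¹ * (ι s)⁻¹) =
      ι s * (x ^ i * ι ⟨y, (F.le_of_mem hφ).1 y.2⟩ * (x ^ i)⁻¹) * (ι s)⁻¹ by group, ← h2, ← map_inv, ← map_mul,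
      ← map_mul] at h1
    exact congrArg Subtype.val (hi.1 h1)
  have hβord : orderOf β = q := by
    haveI : Fact q.Prime := ⟨hq⟩
    exact orderOf_eq_prime hβq hβ1
  -- every map extends to `S`
  have hnormal : F.IsNormal S := by
    refine H96.isNormal_of_mapsTo F le_rfl fun P φ hφ => ?_
    obtain ⟨g, hg⟩ := (hi.2 P (F.le_of_mem hφ).1 φ (fun y => apply_mem hφ y)).1 hφ
    have hPS : P ⊔ S ≤ S := sup_le (F.le_of_mem hφ).1 le_rfl
    let ψ : ↥(P ⊔ S) →* Ω := (H93.realizedInv hi.1).comp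
      ((((MulAut.conj g).toMonoidHom.comp ι).comp (Subgroup.inclusion hPS)).codRestrict ι.range
        fun y => hrn.conj_mem _ ⟨_, rfl⟩ g)
    have hψS : ∀ y, ψ y ∈ S := fun y => H93.realizedInv_mem hi.1 _
    have hψe : ∀ y, ι ⟨ψ y, hψS y⟩ = g * ι (Subgroup.inclusion hPS y) * g⁻¹ := fun y =>
      H93.apply_realizedInv hi.1 _ _
    refine ⟨ψ, (hi.2 _ hPS ψ hψS).2 ⟨g, fun y => hψe y⟩, fun y => ?_, fun y => hψS _⟩
    exact congrArg Subtype.val (hi.1 ((hψe (Subgroup.inclusion le_sup_left y)).trans (hg y).symm))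
  -- the commutator with the automorphism
  set R₁ : Subgroup S := Subgroup.closure (Set.range fun s : S => s⁻¹ * β s) with hR₁
  have hR₁g : ∀ s : S, s⁻¹ * β s ∈ R₁ := fun s => Subgroup.subset_closure ⟨s, rfl⟩
  have hR₁x : ∀ r ∈ R₁, β r ∈ R₁ := by
    intro r hr
    have : R₁ ≤ R₁.comap β.toMonoidHom := (Subgroup.closure_le _).2 (by
      rintro _ ⟨s, rfl⟩
      show β (s⁻¹ * β s) ∈ R₁
      rw [map_mul, map_inv]
      exact hR₁g (β s))
    exact this hr
  have hR₁n : ∀ r ∈ R₁, ∀ i : ℕ, (β ^ i) r ∈ R₁ := by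
    intro r hr i
    induction i with
    | zero => simpa using hr
    | succ i ih => rw [pow_succ', MulAut.mul_apply]; exact hR₁x _ ih
  have hT₁ : R₁.map S.subtype ≤ S := Subgroup.map_subtype_le _
  have hU₁ : ((R₁.map S.subtype).subgroupOf S).map ι = R₁.map ι := by
    rw [show (R₁.map S.subtype).subgroupOf S = R₁ from Subgroup.comap_map_eq_self_of_injective S.subtype_injective _]
  have hnx : x ∈ Subgroup.normalizer (((R₁.map S.subtype).subgroupOf S).map ι : Set G) := by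
    rw [hU₁]
    refine H94.mem_normalizer_of_forall_conj_mem ?_
    rintro _ ⟨r, hr, rfl⟩
    exact ⟨β r, hR₁x r hr, by simpa using hβx 1 r⟩
  have hR₁top : R₁.map S.subtype = S := by
    refine (IsSparse.eq_of_element hS hi hs hT₁ hq hqp hx hnx ?_).1
    rintro ⟨t, ⟨r₀, hr₀, htr⟩, hte⟩
    obtain rfl : r₀ = t := Subtype.ext htr
    -- the restriction to `R₁` would be inner, hence trivial
    obtain ⟨k, hk⟩ := hS r₀
    have hfix : ∀ r ∈ R₁, β r = r := by
      have hc : ∀ r ∈ R₁, β r = r₀ * r * r₀⁻¹ := fun r hr => hi.1 (by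
        rw [map_mul, map_mul, map_inv, ← hte r ⟨r, hr, rfl⟩]
        simpa using hβx 1 r)
      have hpow : ∀ (i : ℕ), ∀ r ∈ R₁, (β ^ i) r = r₀ ^ i * r * (r₀ ^ i)⁻¹ := by
        intro i
        induction i with
        | zero => intro r _; simp
        | succ i ih =>
          intro r hr
          rw [pow_succ', MulAut.mul_apply, hc _ (hR₁n r hr i), ih r hr, pow_succ']
          group
      intro r hr
      obtain ⟨c1, c2, hcd⟩ := (Nat.isCoprime_iff_coprime.2 (((Nat.coprime_primes hq hp).2 hqp).pow_right k))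
      have hmem : β ^ (p ^ k) ∈ MulAction.stabilizer (MulAut S) r := by
        rw [MulAction.mem_stabilizer_iff]
        show (β ^ (p ^ k)) r = r
        rw [hpow _ r hr, hk, one_mul, inv_one, mul_one]
      have h1 : β ∈ MulAction.stabilizer (MulAut S) r := by
        have e : β = (β ^ (p ^ k)) ^ c2 := by
          calc β = β ^ (c1 * (q : ℤ) + c2 * ((p ^ k : ℕ) : ℤ)) := by rw [hcd, zpow_one]
            _ = (β ^ (p ^ k)) ^ c2 := by
              rw [zpow_add, mul_comm c1, zpow_mul, zpow_natCast, hβq, one_zpow, one_mul, mul_comm c2, zpow_mul,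
                zpow_natCast]
        rw [e]
        exact zpow_mem hmem c2
      exact h1
    refine hβ1 (MulEquiv.ext fun s => ?_)
    have hd := hfix _ (hR₁g s)
    have hit : ∀ i : ℕ, (β ^ i) s = s * (s⁻¹ * β s) ^ i := by
      intro i
      induction i with
      | zero => simp
      | succ i ih =>
        rw [pow_succ', MulAut.mul_apply, ih, map_mul, map_pow, hd, pow_succ' (s⁻¹ * β s), mul_assoc,
          mul_inv_cancel_left]
    have h1 := hit q
    rw [hβq, MulAut.one_apply, left_eq_mul] at h1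
    obtain ⟨j, hj⟩ := hS (s⁻¹ * β s)
    have h3 := Nat.dvd_gcd (orderOf_dvd_of_pow_eq_one h1) (orderOf_dvd_of_pow_eq_one hj)
    rw [((Nat.coprime_primes hq hp).2 hqp).pow_right j, Nat.dvd_one, orderOf_eq_one_iff, inv_mul_eq_one] at h3
    exact h3.symm
  have hhyp : F.hyperfocalSubgroup p = S := by
    refine le_antisymm (H94.hyperfocal_le F p) ?_
    conv_lhs => rw [← hR₁top]
    rw [Subgroup.map_le_iff_le_comap, hR₁, Subgroup.closure_le]
    rintro _ ⟨s, rfl⟩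
    exact Subgroup.subset_closure ⟨S, ⟨β, hβ⟩, s, le_rfl, Subgroup.subset_closure (by
      show Nat.Coprime (orderOf (⟨β, hβ⟩ : F.autGroup S)) p
      rw [Subgroup.orderOf_mk, hβord]
      exact (Nat.coprime_primes hq hp).2 hqp), rfl⟩
  have hfoc : F.focalSubgroup = S := by
    refine le_antisymm ((Subgroup.closure_le _).2 ?_) ?_
    · rintro _ ⟨P, φ, y, hφ, rfl⟩
      exact S.mul_mem (S.inv_mem ((F.le_of_mem hφ).1 y.2)) (apply_mem hφ y)
    · conv_lhs => rw [← hhyp]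
      refine (Subgroup.closure_le _).2 ?_
      rintro _ ⟨P, α, y, hP, -, rfl⟩
      exact Subgroup.subset_closure ⟨P, _, y, (H96.mem_autGroup F hP).1 α.2, rfl⟩
  refine ⟨hnormal, hfoc, hhyp, q, β, hq, hqp, hβ, hβord, le_antisymm (fun α hα => ?_) (sup_le ?_ ?_)⟩
  · obtain ⟨s, i, hsi⟩ := hgen S _ ((H96.mem_autGroup F le_rfl).1 hα)
    have : α = MulAut.conj s * β ^ i := MulEquiv.ext fun y => hi.1 (by
      refine (hsi y (α y).2 y.2).trans ?_
      rw [MulAut.mul_apply, MulAut.conj_apply, map_mul, map_mul, map_inv, hβx]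
      group)
    rw [this]
    exact Subgroup.mul_mem_sup ⟨s, rfl⟩ (Subgroup.pow_mem _ (Subgroup.mem_zpowers β) i)
  · rintro _ ⟨s, rfl⟩
    exact H96.autInducedBy_le_autGroup F le_rfl (H96.mem_autInducedBy.2 ⟨s, s.2, fun y => rfl⟩)
  · exact Subgroup.zpowers_le.2 hβ

end Cfsg.Agent.H95
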