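import Cfsg.Agent.H95.RankThreeTransvection

/-!
The action of automorphisms of a subgroup on its Frattini quotient.
-/
set_option autoImplicit false

namespace Cfsg.Agent.H95

open Subgroup
open scoped commutatorElement

/-- The action of the automorphisms on the Frattini quotient. -/
noncomputable def frattiniAct (P : Type*) [Group P] : MulAut P →* MulAut (P ⧸ frattini P) where
  toFun β := QuotientGroup.congr (frattini P) (frattini P) β
    (Subgroup.characteristic_iff_map_eq.mp inferInstance β)
  map_one' := by ext q; induction q using QuotientGroup.induction_on; rfl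
  map_mul' a b := by ext q; induction q using QuotientGroup.induction_on; rfl

theorem frattiniAct_apply {P : Type*} [Group P] (β : MulAut P) (v : P) :
    frattiniAct P β (H24.frq P v) = H24.frq P (β v) := rfl

variable {p : ℕ} [Fact p.Prime]

/-- The Frattini quotient of a finite `p`-group is commutative. -/
abbrev frattiniCommGroup {P : Type*} [Group P] [Finite P] (hP : IsPGroup p P) : CommGroup (P ⧸ frattini P) :=
  { (inferInstance : Group (P ⧸ frattini P)) with
    mul_comm := fun a b => by
      obtain ⟨a, rfl⟩ := QuotientGroup.mk'_surjective _ a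
      obtain ⟨b, rfl⟩ := QuotientGroup.mk'_surjective _ b
      exact (H24.frq_comm hP a b).eq }

theorem frattiniAct_ker {P : Type*} [Group P] [Finite P] (hP : IsPGroup p P) :
    IsPGroup p (frattiniAct P).ker := by
  refine H24.isPGroup_of_line hP (frattini P) le_rfl _ (fun γ hγ x => ?_) (fun γ hγ x _ => ?_)
  all_goals
    rw [← H24.frq_eq_one, map_mul, map_inv, mul_inv_eq_one, ← frattiniAct_apply, MonoidHom.mem_ker.1 hγ]
    rfl

theorem frattiniAct_conj {P : Type*} [Group P] [Finite P] (hP : IsPGroup p P) (a : P) :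
    frattiniAct P (MulAut.conj a) = 1 := by
  ext q
  obtain ⟨v, rfl⟩ := QuotientGroup.mk'_surjective _ q
  show H24.frq P (a * v * a⁻¹) = H24.frq P v
  rw [map_mul, map_mul, map_inv, (H24.frq_comm hP a v).eq, mul_inv_cancel_right]

variable {G : Type*} [Group G] [Finite G] {E : Subgroup G}

theorem map_nextP_top_eq : (nextP p (⊤ : Subgroup E) ⊤).map E.subtype = nextP p E E := by
  rw [map_nextP, ← MonoidHom.range_eq_map, E.range_subtype]

theorem map_frattini_eq (hE : IsPGroup p E) : (frattini E).map E.subtype = nextP p E E := by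
  rw [frattini_eq_nextP hE, map_nextP_top_eq]

theorem frq_eq_one_iff (hE : IsPGroup p E) {v : E} : H24.frq E v = 1 ↔ (v : G) ∈ nextP p E E := by
  rw [H24.frq_eq_one, ← map_frattini_eq hE]
  exact (Subgroup.mem_map_iff_mem E.subtype_injective).symm

theorem frq_eq_iff (hE : IsPGroup p E) {v v' : E} :
    H24.frq E v = H24.frq E v' ↔ (v : G)⁻¹ * v' ∈ nextP p E E := by
  rw [← inv_mul_eq_one, ← map_inv, ← map_mul, frq_eq_one_iff hE]
  rfl

theorem mem_closure_frq_iff (hE : IsPGroup p E) (s : Set E) {v : E} :
    H24.frq E v ∈ closure (H24.frq E '' s) ↔ (v : G) ∈ closure (E.subtype '' s) ⊔ nextP p E E := by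
  rw [← MonoidHom.map_closure, ← MonoidHom.map_closure, ← map_frattini_eq hE, ← Subgroup.map_sup,
    ← Subgroup.mem_comap, comap_map_eq, QuotientGroup.ker_mk']
  exact (Subgroup.mem_map_iff_mem E.subtype_injective).symm

theorem le_closure_of_frq_top (hE : IsPGroup p E) (s : Set E) (hs : closure (H24.frq E '' s) = ⊤) :
    E ≤ closure (E.subtype '' s) ⊔ nextP p E E := fun v hv =>
  (mem_closure_frq_iff hE s (v := ⟨v, hv⟩)).1 (hs.ge (mem_top _))

variable [E.Normal]

theorem frattiniAct_conjNormal_mem (hE : IsPGroup p E) {a : G} (ha : a ∈ E) :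
    frattiniAct E (MulAut.conjNormal a) = 1 := by
  rw [show (MulAut.conjNormal a : MulAut E) = MulAut.conj (⟨a, ha⟩ : E) from
    MulEquiv.ext fun v => Subtype.ext rfl]
  exact frattiniAct_conj hE _

theorem disp_conjNormal (hE : IsPGroup p E) (g : G) (v : E) (h : ⁅g, (v : G)⁆ ∈ E) :
    (H24.frq E v)⁻¹ * frattiniAct E (MulAut.conjNormal g) (H24.frq E v) = H24.frq E ⟨⁅g, (v : G)⁆, h⟩ := by
  rw [frattiniAct_apply, show (⟨⁅g, (v : G)⁆, h⟩ : E) = MulAut.conjNormal g v * v⁻¹ from Subtype.ext rfl, map_mul,
    map_inv]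
  exact (H24.frq_comm hE v (MulAut.conjNormal g v)).inv_left.eq

end Cfsg.Agent.H95
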