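import Cfsg.Prelude.Def_Transfer
import Cfsg.Agent.H24.Power
import Cfsg.Agent.H24.PGroupBasic
import Cfsg.Agent.H28.Dihedral
import Mathlib.Logic.Small.Defs
import Mathlib.GroupTheory.NoncommPiCoprod

/-!
Splitting of a `p`-group with `Φ = P'` of order `p` over an elementary abelian maximal subgroup:
`P = E × A` with `E` nonabelian of order `p³` and `A` elementary abelian.
-/
set_option autoImplicit false

namespace Cfsg.Agent.H95

open Subgroup
open scoped commutatorElement

variable {P : Type*} [Group P] {p : ℕ} [Fact p.Prime]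

/-- An integer power lying in a subgroup containing the `p`-th power forces `p ∣ k`. -/
theorem dvd_of_zpow_mem {M : Subgroup P} {b : P} (hb : b ∉ M) (hbp : b ^ p ∈ M) {k : ℤ}
    (hk : b ^ k ∈ M) : (p : ℤ) ∣ k := by
  by_contra hndvd
  have hcop : IsCoprime (p : ℤ) k :=
    (Prime.coprime_iff_not_dvd (Nat.prime_iff_prime_int.1 Fact.out)).2 hndvd
  obtain ⟨u, v, huv⟩ := hcop
  refine hb ?_
  have h : b = (b ^ (p : ℤ)) ^ u * (b ^ k) ^ v := by
    rw [← zpow_mul, ← zpow_mul, ← zpow_add]
    conv_lhs => rw [← zpow_one b, ← huv]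
    congr 1
    ring
  rw [h]
  exact mul_mem (zpow_mem (by rw [zpow_natCast]; exact hbp) u) (zpow_mem hk v)

/-- In an elementary abelian subgroup every subgroup has a complement. -/
theorem exists_complement_of_elementary [Finite P] {C Z : Subgroup P} (hC : C ≤ center P)
    (hexp : ∀ x ∈ C, x ^ p = 1) (hZ : Z ≤ C) :
    ∃ A : Subgroup P, A ≤ C ∧ A ⊓ Z = ⊥ ∧ A ⊔ Z = C := by
  obtain ⟨A, ⟨hAC, hAZ⟩, hmax⟩ := Set.exists_max_image {A : Subgroup P | A ≤ C ∧ A ⊓ Z = ⊥}
    (fun A => Nat.card A) (Set.toFinite _) ⟨⊥, bot_le, bot_inf_eq _⟩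
  refine ⟨A, hAC, hAZ, le_antisymm (sup_le hAC hZ) fun x hx => ?_⟩
  by_contra hxn
  have hAn : A.Normal := H24.normal_of_le_center (hAC.trans hC)
  set A' := A ⊔ Subgroup.zpowers x with hA'
  have hA'C : A' ≤ C := sup_le hAC (zpowers_le.2 hx)
  have hint : A' ⊓ Z = ⊥ := by
    rw [eq_bot_iff]
    rintro y ⟨hy, hyZ⟩
    obtain ⟨a, ha, w, ⟨i, rfl⟩, rfl⟩ := Subgroup.mem_sup_of_normal_left.1 hy
    by_cases hi : (p : ℤ) ∣ i
    · obtain ⟨j, rfl⟩ := hi
      have : x ^ ((p : ℤ) * j) = 1 := by rw [zpow_mul, zpow_natCast, hexp x hx, one_zpow]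
      simp only [this, mul_one] at hyZ ⊢
      exact (hAZ.le ⟨ha, hyZ⟩)
    · exfalso
      refine hi (dvd_of_zpow_mem (M := A ⊔ Z) hxn (by rw [hexp x hx]; exact one_mem _) ?_)
      have : x ^ i = a⁻¹ * (a * x ^ i) := by group
      rw [this]
      exact mul_mem (inv_mem (mem_sup_left ha)) (mem_sup_right hyZ)
  have h1 := hmax A' ⟨hA'C, hint⟩
  have h2 : A = A' := Subgroup.eq_of_le_of_card_ge le_sup_left h1
  exact hxn (mem_sup_left (h2.symm ▸ mem_sup_right (mem_zpowers x)))

/-- A subgroup of order `p` that is normal in a finite `p`-group is central. -/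
theorem le_center_of_card_prime [Finite P] (hP : IsPGroup p P) {N : Subgroup P} [N.Normal]
    (hN : Nat.card N = p) : N ≤ center P := by
  have hp : p.Prime := Fact.out
  have hne : N ⊓ center P ≠ ⊥ := H24.inf_center_ne_bot hP fun h => by
    rw [h, card_bot] at hN; exact hp.ne_one hN.symm
  have hd := card_dvd_of_le (inf_le_left : N ⊓ center P ≤ N)
  rw [hN] at hd
  rcases (Nat.dvd_prime hp).1 hd with h | h
  · exact absurd (card_eq_one.1 h) hne
  · exact inf_eq_left.1 (eq_of_le_of_card_ge inf_le_left (by rw [h, hN]))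

/-- Commutators lie in the derived subgroup. -/
theorem comm_mem_commutator (u v : P) : ⁅u, v⁆ ∈ commutator P := by
  rw [_root_.commutator_def]; exact commutator_mem_commutator (mem_top _) (mem_top _)

/-- A subgroup of prime index is maximal. -/
theorem isCoatom_of_index_prime {M : Subgroup P} (hidx : M.index = p) : IsCoatom M := by
  have hp : p.Prime := Fact.out
  refine ⟨fun h => hp.ne_one (by rw [← hidx, h, index_top]), fun K hK => ?_⟩
  by_contra hne
  have h1 := relIndex_mul_index hK.le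
  rw [hidx] at h1
  rcases (Nat.dvd_prime hp).1 (Dvd.intro_left _ h1) with h2 | h2
  · exact hne (index_eq_one.1 h2)
  · rw [h2, mul_eq_right₀ hp.ne_zero] at h1
    exact not_le_of_gt hK (relIndex_eq_one.1 h1)

/-- Every element is `m * b ^ k` for a maximal subgroup `M` and `b ∉ M`. -/
theorem exists_eq_mul_zpow [Finite P] (hP : IsPGroup p P) {M : Subgroup P} (hM : IsCoatom M)
    {b : P} (hb : b ∉ M) (g : P) : ∃ m ∈ M, ∃ k : ℤ, g = m * b ^ k := by
  have hMn : M.Normal := (H24.coatom_spec hP hM).1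
  have htop : M ⊔ Subgroup.zpowers b = ⊤ := hM.2 _ (lt_of_le_of_ne le_sup_left fun h =>
    hb (h ▸ mem_sup_right (mem_zpowers b)))
  have : g ∈ M ⊔ Subgroup.zpowers b := htop ▸ mem_top g
  obtain ⟨m, hm, w, ⟨k, rfl⟩, rfl⟩ := Subgroup.mem_sup_of_normal_left.1 this
  exact ⟨m, hm, k, rfl⟩

/-- Elements of an abelian maximal subgroup commuting with an outside element are central. -/
theorem mem_center_of_commute [Finite P] (hP : IsPGroup p P) {M : Subgroup P} (hM : IsCoatom M)
    (hMcomm : ∀ x ∈ M, ∀ y ∈ M, x * y = y * x) {b : P} (hb : b ∉ M) {m : P} (hm : m ∈ M)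
    (h : m * b = b * m) : m ∈ center P := by
  rw [mem_center_iff]
  intro g
  obtain ⟨m', hm', k, rfl⟩ := exists_eq_mul_zpow hP hM hb g
  have h1 : m * b ^ k = b ^ k * m := (Commute.zpow_right h k).eq
  rw [mul_assoc, ← h1, ← mul_assoc, hMcomm m' hm' m hm, mul_assoc]

/-- The result of the splitting. -/
structure Splitting (p : ℕ) (a b : P) (E A : Subgroup P) : Prop where
  card_E : Nat.card E = p ^ 3
  a_mem : a ∈ E
  b_mem : b ∈ E
  commutator_le : commutator P ≤ E
  center_E : ∀ x : P, x ∈ E → (∀ y ∈ E, y * x = x * y) → x ∈ commutator P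
  A_central : A ≤ center P
  A_exp : ∀ x ∈ A, x ^ p = 1
  equiv : Nonempty (P ≃* E × A)

/-- `P = E × A` over an elementary abelian maximal subgroup `M`, for any `a ∈ M` noncentral, `b ∉ M`. -/
theorem exists_splitting [Finite P] (hP : IsPGroup p P) (hΦ : frattini P = commutator P)
    (hc : Nat.card (commutator P) = p) {M : Subgroup P} (hMcomm : ∀ x ∈ M, ∀ y ∈ M, x * y = y * x)
    (hMexp : ∀ x ∈ M, x ^ p = 1) (hidx : M.index = p) {a b : P} (haM : a ∈ M) (ha : a ∉ center P)
    (hb : b ∉ M) : ∃ E A, Splitting p a b E A := by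
  have hp : p.Prime := Fact.out
  set Z := commutator P
  have hMco : IsCoatom M := isCoatom_of_index_prime hidx
  have hZM : Z ≤ M := hΦ ▸ frattini_le_coatom hMco
  have hMn : M.Normal := (H24.coatom_spec hP hMco).1
  have hbp : b ^ p ∈ M := hZM (hΦ ▸ H24.pow_mem_frattini hP b)
  have hZc : Z ≤ center P := le_center_of_card_prime hP hc
  have hgen := exists_eq_mul_zpow hP hMco hb
  have hcomm : ∀ m ∈ M, m * b = b * m → m ∈ center P := fun m hm h =>
    mem_center_of_commute hP hMco hMcomm hb hm h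
  have hab : a * b ≠ b * a := fun h => ha (hcomm a haM h)
  have hcenM : center P ≤ M := by
    intro z hz
    by_contra hzM
    refine ha (mem_center_iff.2 fun g => ?_)
    obtain ⟨m, hm, k, rfl⟩ := exists_eq_mul_zpow hP hMco hzM g
    have h1 := mem_center_iff.1 (zpow_mem hz k) a
    rw [mul_assoc, ← h1, ← mul_assoc, ← mul_assoc, hMcomm m hm a haM]
  obtain ⟨A, hAC, hAZ, hAZC⟩ := exists_complement_of_elementary (p := p) (C := center P) (Z := Z)
    le_rfl (fun x hx => hMexp x (hcenM hx)) hZc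
  set Za := Z ⊔ Subgroup.zpowers a
  have hZaM : Za ≤ M := sup_le hZM (zpowers_le.2 haM)
  have hZan : Za.Normal := Subgroup.Normal.of_commutator_le P (show commutator P ≤ Za from le_sup_left)
  set E := Za ⊔ Subgroup.zpowers b
  have hEA : E ⊓ center P ≤ Z := by
    intro x hx0
    obtain ⟨hx, hxc⟩ := Subgroup.mem_inf.1 hx0
    obtain ⟨m, hm, w, ⟨k, rfl⟩, rfl⟩ := Subgroup.mem_sup_of_normal_left.1 hx
    have hbk : b ^ k ∈ M := by
      have := mul_mem (inv_mem (hZaM hm)) (hcenM (show m * b ^ k ∈ center P from hxc))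
      simpa using this
    obtain ⟨j, rfl⟩ := dvd_of_zpow_mem hb hbp hbk
    have hbZ : b ^ ((p : ℤ) * j) ∈ Z := by
      rw [zpow_mul, zpow_natCast]
      exact zpow_mem (hΦ ▸ H24.pow_mem_frattini hP b) j
    refine mul_mem ?_ hbZ
    have hmc : m ∈ center P := by
      have := mul_mem hxc (inv_mem (hZc hbZ))
      simpa using this
    have hZn : Z.Normal := inferInstance
    obtain ⟨z, hz, w', ⟨i, rfl⟩, rfl⟩ := Subgroup.mem_sup_of_normal_left.1 hm
    refine mul_mem hz ?_
    by_cases hi : (p : ℤ) ∣ i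
    · obtain ⟨l, rfl⟩ := hi
      show a ^ ((p : ℤ) * l) ∈ Z
      rw [zpow_mul, zpow_natCast, hMexp a haM, one_zpow]
      exact one_mem Z
    · exfalso
      refine hi (dvd_of_zpow_mem ha (by rw [hMexp a haM]; exact one_mem _) ?_)
      have := mul_mem (inv_mem (hZc hz)) hmc
      simpa using this
  have hdisj : E ⊓ A = ⊥ := by
    rw [eq_bot_iff]
    intro x hx
    exact hAZ.le ⟨(Subgroup.mem_inf.1 hx).2, hEA (Subgroup.mem_inf.2 ⟨(Subgroup.mem_inf.1 hx).1, hAC (Subgroup.mem_inf.1 hx).2⟩)⟩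
  -- orders
  obtain ⟨f, hf⟩ : ∃ f : M →* Z, ∀ m : M, (f m : P) = ⁅b, (m : P)⁆ := by
    refine ⟨MonoidHom.mk' (fun m => ⟨⁅b, (m : P)⁆, ?_⟩) (fun m n => Subtype.ext ?_), fun m => rfl⟩
    · show ⁅b, (m : P)⁆ ∈ commutator P
      rw [_root_.commutator_def]
      exact commutator_mem_commutator (mem_top _) (mem_top _)
    · show ⁅b, (m : P) * n⁆ = ⁅b, (m : P)⁆ * ⁅b, (n : P)⁆
      have h1 : ⁅b, (n : P)⁆ ∈ center P := hZc (by
        show ⁅b, (n : P)⁆ ∈ commutator P
        rw [_root_.commutator_def]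
        exact commutator_mem_commutator (mem_top _) (mem_top _))
      calc ⁅b, (m : P) * n⁆ = ⁅b, (m : P)⁆ * ((m : P) * ⁅b, (n : P)⁆ * (m : P)⁻¹) := by
            simp only [commutatorElement_def]; group
        _ = ⁅b, (m : P)⁆ * ⁅b, (n : P)⁆ := by
            rw [mem_center_iff.1 h1 (m : P)]; simp [mul_assoc]
  have hfs : Function.Surjective f := by
    rw [← MonoidHom.range_eq_top]
    have hdvd := Subgroup.card_subgroup_dvd_card f.range
    rw [hc] at hdvd
    rcases (Nat.dvd_prime hp).1 hdvd with h | h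
    · exfalso
      have h1 : f ⟨a, haM⟩ = 1 := by
        have h2 : f ⟨a, haM⟩ ∈ f.range := ⟨_, rfl⟩
        rwa [card_eq_one.1 h, mem_bot] at h2
      have h2 : ⁅b, a⁆ = 1 := by rw [← hf ⟨a, haM⟩, h1]; rfl
      exact hab (commutatorElement_eq_one_iff_mul_comm.1 h2).symm
    · exact Subgroup.eq_top_of_card_eq _ (h.trans hc.symm)
  have hker : f.ker = (center P).subgroupOf M := by
    ext m
    rw [MonoidHom.mem_ker, mem_subgroupOf, ← OneMemClass.coe_eq_one, hf,
      commutatorElement_eq_one_iff_mul_comm]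
    exact ⟨fun h => hcomm m m.2 h.symm, fun h => mem_center_iff.1 h b⟩
  have hcardM : Nat.card M = p * Nat.card (center P) := by
    rw [← f.ker.index_mul_card, index_ker, MonoidHom.range_eq_top.2 hfs, card_top, hc, hker,
      Nat.card_congr (subgroupOfEquivOfLe hcenM).toEquiv]
  have hcardC : Nat.card (center P) = p * Nat.card A := by
    have hAn : A.Normal := H24.normal_of_le_center hAC
    have h1 := relIndex_mul_relIndex (⊥ : Subgroup P) A (A ⊔ Z) bot_le le_sup_left
    rw [relIndex_bot_left, relIndex_bot_left, hAZC] at h1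
    have h2 : A.relIndex (center P) = p := by
      rw [← hAZC, relIndex_sup_left, ← inf_relIndex_right, hAZ, relIndex_bot_left, hc]
    rw [← h1, h2, mul_comm]
  have hcardP : Nat.card P = p ^ 3 * Nat.card A := by
    rw [← M.index_mul_card, hidx, hcardM, hcardC]; ring
  have hsup : E ⊔ A = ⊤ := by
    rw [eq_top_iff]
    intro g _
    obtain ⟨m, hm, k, rfl⟩ := hgen g
    refine mul_mem ?_ (mem_sup_left (mem_sup_right (zpow_mem (mem_zpowers b) k)))
    -- `M = ⟨a⟩ Z(P)`
    by_contra hmn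
    set B := (E ⊔ A) ⊓ M
    have hCB : center P ≤ B := le_inf (by
      rw [← hAZC]
      exact sup_le le_sup_right ((le_sup_left.trans le_sup_left).trans le_sup_left)) hcenM
    have haB : a ∈ B := ⟨mem_sup_left (mem_sup_left (mem_sup_right (mem_zpowers a))), haM⟩
    have hlt : center P < B := lt_of_le_of_ne hCB fun h => ha (h ▸ haB)
    have hpi : p ≤ (center P).relIndex B := H24.le_relIndex_of_lt hP (not_le_of_gt hlt)
    have h1 := relIndex_mul_relIndex (center P) B M hCB inf_le_right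
    have h2 : (center P).relIndex M = p := by
      have := relIndex_mul_relIndex (⊥ : Subgroup P) (center P) M bot_le hcenM
      rw [relIndex_bot_left, relIndex_bot_left, hcardM, mul_comm p] at this
      exact Nat.eq_of_mul_eq_mul_left Nat.card_pos this
    rw [h2] at h1
    have h3 : B.relIndex M = 1 := by
      rcases Nat.eq_zero_or_pos (B.relIndex M) with h | h
      · rw [h, mul_zero] at h1; exact absurd h1.symm hp.ne_zero
      · refine le_antisymm ?_ h
        by_contra h4
        have h5 : (center P).relIndex B * 2 ≤ (center P).relIndex B * B.relIndex M :=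
          Nat.mul_le_mul_left _ (by omega)
        have := hp.pos
        omega
    exact hmn (inf_le_left (a := E ⊔ A) (b := M) (relIndex_eq_one.1 h3 hm))
  have hcommEA : ∀ (e : E) (x : A), Commute (e : P) (x : P) := fun e x =>
    (mem_center_iff.1 (hAC x.2) (e : P))
  let F : E × A →* P := MonoidHom.noncommCoprod E.subtype A.subtype hcommEA
  have hFinj : Function.Injective F := by
    rw [injective_iff_map_eq_one]
    rintro ⟨e, x⟩ hex
    have h1 : (e : P) = (x : P)⁻¹ := eq_inv_of_mul_eq_one_left hex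
    have h2 : (e : P) ∈ E ⊓ A := Subgroup.mem_inf.2 ⟨e.2, by rw [h1]; exact inv_mem x.2⟩
    rw [hdisj, mem_bot] at h2
    refine Prod.ext (Subtype.ext h2) (Subtype.ext ?_)
    rw [h2, eq_comm, inv_eq_one] at h1
    exact h1
  have hFsur : Function.Surjective F := by
    intro g
    have hAn : A.Normal := H24.normal_of_le_center hAC
    have : g ∈ E ⊔ A := hsup ▸ mem_top g
    obtain ⟨e, he, x, hx, rfl⟩ := Subgroup.mem_sup_of_normal_right.1 this
    exact ⟨(⟨e, he⟩, ⟨x, hx⟩), rfl⟩
  have hcardE : Nat.card E = p ^ 3 := by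
    have h := Nat.card_congr (MulEquiv.ofBijective F ⟨hFinj, hFsur⟩).toEquiv
    rw [Nat.card_prod, hcardP] at h
    exact Nat.eq_of_mul_eq_mul_right Nat.card_pos h
  refine ⟨E, A, hcardE, mem_sup_left (mem_sup_right (mem_zpowers a)), mem_sup_right (mem_zpowers b),
    le_sup_left.trans le_sup_left, fun x hx hxc => hEA (Subgroup.mem_inf.2 ⟨hx, ?_⟩), hAC,
    fun x hx => hMexp x (hcenM (hAC hx)), ⟨(MulEquiv.ofBijective F ⟨hFinj, hFsur⟩).symm⟩⟩
  rw [mem_center_iff]
  intro g
  obtain ⟨⟨e, y⟩, rfl⟩ := hFsur g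
  show (e : P) * y * x = x * ((e : P) * y)
  rw [mul_assoc, ← mem_center_iff.1 (hAC y.2) x, ← mul_assoc, hxc e e.2, mul_assoc]

/-- A small copy of a finite elementary abelian subgroup. -/
theorem exists_type_elementary [Finite P] {A : Subgroup P} (hA : A ≤ center P) (hexp : ∀ x ∈ A, x ^ p = 1) :
    ∃ (A₀ : Type) (_ : CommGroup A₀), (∀ a : A₀, a ^ p = 1) ∧ Nonempty (A ≃* A₀) := by
  let e : Shrink.{0} A ≃* A := Shrink.mulEquiv
  refine ⟨Shrink.{0} A,
    { (inferInstance : Group (Shrink.{0} A)) with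
      mul_comm := fun x y => e.injective (by
        rw [map_mul, map_mul]
        exact Subtype.ext (mem_center_iff.1 (hA (e y).2) (e x : P))) }, fun a => e.injective ?_, ⟨e.symm⟩⟩
  show e (a ^ p) = e 1
  rw [map_pow, map_one]
  exact Subtype.ext (hexp _ (e a).2)

/-- For `p = 2` the group is `D₈ × A`. -/
theorem iso_dihedral_prod [Finite P] (hP : IsPGroup 2 P) (hΦ : frattini P = commutator P)
    (hc : Nat.card (commutator P) = 2) {M : Subgroup P} (hMcomm : ∀ x ∈ M, ∀ y ∈ M, x * y = y * x)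
    (hMexp : ∀ x ∈ M, x ^ 2 = 1) (hidx : M.index = 2) {a : P} (haM : a ∈ M) (ha : a ∉ center P) :
    ∃ (A : Type) (_ : CommGroup A), (∀ x : A, x ^ 2 = 1) ∧ Nonempty (P ≃* DihedralGroup 4 × A) := by
  obtain ⟨b, hb⟩ : ∃ b, b ∉ M := by
    by_contra h
    push_neg at h
    rw [(eq_top_iff' M).2 h, index_top] at hidx
    omega
  obtain ⟨E, A, hs⟩ := exists_splitting hP hΦ hc hMcomm hMexp hidx haM ha hb
  have hZc : ∀ u v : P, ⁅u, v⁆ ∈ center P := fun u v =>
    le_center_of_card_prime hP hc (comm_mem_commutator u v)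
  have hab : a * b ≠ b * a := fun h =>
    ha (mem_center_of_commute hP (isCoatom_of_index_prime hidx) hMcomm hb haM h)
  have hsq : ∀ x : P, x ^ 2 ∈ commutator P := fun x => hΦ ▸ H24.pow_mem_frattini hP x
  have htwo : ∀ x ∈ commutator P, x ≠ 1 → ∀ y ∈ commutator P, y ≠ 1 → x = y := by
    intro x hx hx1 y hy hy1
    obtain ⟨z, -, huniq⟩ := Nat.card_eq_two_iff' (1 : commutator P) |>.1 hc
    have hxe := huniq ⟨x, hx⟩ (fun h => hx1 (congrArg Subtype.val h))
    have hye := huniq ⟨y, hy⟩ (fun h => hy1 (congrArg Subtype.val h))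
    exact congrArg Subtype.val (hxe.trans hye.symm)
  have hmem : ∀ u v : P, ⁅u, v⁆ ∈ commutator P := comm_mem_commutator
  have hsq2 : ∀ u ∈ commutator P, u ^ 2 = 1 := fun u hu => by
    have h : (⟨u, hu⟩ : commutator P) ^ Nat.card (commutator P) = 1 := pow_card_eq_one'
    rw [hc] at h
    exact congrArg Subtype.val h
  have ha2 : a ^ 2 = 1 := hMexp a haM
  have hba : ⁅b, a⁆ ≠ 1 := fun h => hab (commutatorElement_eq_one_iff_mul_comm.1 h).symm
  -- an involution `y ∈ E` outside `M`
  obtain ⟨y, hyE, hy2, hyc⟩ : ∃ y ∈ E, y ^ 2 = 1 ∧ a * y ≠ y * a := by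
    by_cases hb2 : b ^ 2 = 1
    · exact ⟨b, hs.b_mem, hb2, hab⟩
    · refine ⟨a * b, mul_mem hs.a_mem hs.b_mem, ?_, fun h => hab ?_⟩
      · have hz : (⁅b, a⁆ : P) = b ^ 2 := htwo _ (hmem b a) hba _ (hsq b) hb2
        rw [H24.mul_pow_of_class_two (hZc b a), ha2, one_mul, show Nat.choose 2 2 = 1 from rfl,
          pow_one, hz, ← pow_two]
        exact hsq2 _ (hsq b)
      · rw [mul_assoc a b a] at h
        exact mul_left_cancel h
  have hay : a * y * (a * y) ≠ 1 := by
    intro h
    apply hyc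
    have ha' : a⁻¹ = a := inv_eq_of_mul_eq_one_right (by rw [← pow_two]; exact ha2)
    have hy' : y⁻¹ = y := inv_eq_of_mul_eq_one_right (by rw [← pow_two]; exact hy2)
    have := inv_eq_of_mul_eq_one_right h
    rw [mul_inv_rev, ha', hy'] at this
    exact this.symm
  have h4 : (a * y) ^ 4 = 1 := by
    rw [show (4 : ℕ) = 2 * 2 from rfl, pow_mul]
    exact hsq2 _ (hsq (a * y))
  have hord : orderOf (a * y) = 4 := by
    have : Fact (Nat.Prime 2) := ⟨Nat.prime_two⟩
    exact orderOf_eq_prime_pow (p := 2) (n := 1) (by rwa [pow_one, pow_two]) h4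
  have ha1 : a ≠ 1 := fun h => ha (h ▸ one_mem _)
  have hy1 : y ≠ 1 := fun h => hyc (by simp [h])
  obtain ⟨φ⟩ := H28.closure_pair_dihedral (x := a) (y := y) (by rw [← pow_two]; exact ha2)
    (by rw [← pow_two]; exact hy2) ha1 hy1
  rw [hord] at φ
  have hEeq : Subgroup.closure ({a, y} : Set P) = E := by
    apply eq_of_le_of_card_ge
    · rw [closure_le]
      rintro x (rfl | rfl)
      exacts [hs.a_mem, hyE]
    · rw [hs.card_E, Nat.card_congr φ.toEquiv, DihedralGroup.nat_card]
      norm_num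
  obtain ⟨A₀, _, hA₀, ⟨eA⟩⟩ := exists_type_elementary hs.A_central hs.A_exp
  obtain ⟨e⟩ := hs.equiv
  exact ⟨A₀, inferInstance, hA₀,
    ⟨e.trans (MulEquiv.prodCongr ((MulEquiv.subgroupCongr hEeq).symm.trans φ) eA)⟩⟩

/-- For `p` odd and `P` of exponent `p` the group is (extraspecial of order `p³`, exponent `p`) × `A`. -/
theorem iso_extraspecial_prod [Finite P] (hP : IsPGroup p P) (hΦ : frattini P = commutator P)
    (hc : Nat.card (commutator P) = p) {M : Subgroup P} (hMcomm : ∀ x ∈ M, ∀ y ∈ M, x * y = y * x)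
    (hMexp : ∀ x ∈ M, x ^ p = 1) (hidx : M.index = p) {a : P} (haM : a ∈ M) (ha : a ∉ center P)
    (hexp : ∀ x : P, x ^ p = 1) :
    ∃ (E : Type) (_ : Group E) (A : Type) (_ : CommGroup A), Cfsg.IsExtraspecial p E ∧
      Nat.card E = p ^ 3 ∧ Monoid.exponent E = p ∧ (∀ x : A, x ^ p = 1) ∧ Nonempty (P ≃* E × A) := by
  have hp : p.Prime := Fact.out
  obtain ⟨b, hb⟩ : ∃ b, b ∉ M := by
    by_contra h
    push_neg at h
    rw [(eq_top_iff' M).2 h, index_top] at hidx
    exact hp.ne_one hidx.symm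
  obtain ⟨E, A, hs⟩ := exists_splitting hP hΦ hc hMcomm hMexp hidx haM ha hb
  obtain ⟨A₀, _, hA₀, ⟨eA⟩⟩ := exists_type_elementary hs.A_central hs.A_exp
  obtain ⟨e⟩ := hs.equiv
  let eE : Shrink.{0} E ≃* E := Shrink.mulEquiv
  have hEp : IsPGroup p (Shrink.{0} E) := IsPGroup.of_equiv (hP.to_subgroup E) eE.symm
  have hcardE : Nat.card (Shrink.{0} E) = p ^ 3 := (Nat.card_congr eE.toEquiv).trans hs.card_E
  -- the centre of `E` is `P'`
  have hcen : center E = (commutator P).subgroupOf E := by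
    ext x
    refine ⟨fun hx => hs.center_E x x.2 fun y hy =>
      congrArg Subtype.val (mem_center_iff.1 hx ⟨y, hy⟩), fun hx => ?_⟩
    have hx' : (x : P) ∈ center P := le_center_of_card_prime hP hc hx
    exact mem_center_iff.2 fun y => Subtype.ext (mem_center_iff.1 hx' y)
  have hcardC : Nat.card (center E) = p := by
    rw [hcen, Nat.card_congr (subgroupOfEquivOfLe hs.commutator_le).toEquiv, hc]
  have hcomE : commutator E = center E := by
    apply eq_of_le_of_card_ge
    · rw [hcen, _root_.commutator_def, commutator_le]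
      intro u _ v _
      show ((⁅u, v⁆ : E) : P) ∈ commutator P
      rw [_root_.commutator_def]
      exact commutator_mem_commutator (mem_top (u : P)) (mem_top (v : P))
    · have hne : commutator E ≠ ⊥ := by
        intro h
        have h1 : ⁅(⟨a, hs.a_mem⟩ : E), (⟨b, hs.b_mem⟩ : E)⁆ = (1 : E) := by
          rw [← mem_bot, ← h, _root_.commutator_def]
          exact commutator_mem_commutator (mem_top _) (mem_top _)
        have h2 : a * b = b * a :=
          commutatorElement_eq_one_iff_mul_comm.1 (congrArg Subtype.val h1)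
        have h3 : a ∈ commutator P := hs.center_E a hs.a_mem (by
          intro y hy
          obtain ⟨m, hm, k, rfl⟩ := exists_eq_mul_zpow hP (isCoatom_of_index_prime hidx) hb y
          rw [mul_assoc, ← (Commute.zpow_right (h2 : Commute a b) k).eq, ← mul_assoc, hMcomm m hm a haM,
            mul_assoc])
        exact ha (le_center_of_card_prime hP hc h3)
      obtain ⟨k, hk⟩ := H24.exists_card_pow (hP.to_subgroup E) (commutator E)
      have hk0 : k ≠ 0 := fun h => hne (card_eq_one.1 (by rw [hk, h, pow_zero]))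
      rw [hcardC, hk]
      exact Nat.le_self_pow hk0 p
  have hexpE : ∀ x : E, x ^ p = 1 := fun x => Subtype.ext (hexp x)
  have hexp' : ∀ x : Shrink.{0} E, x ^ p = 1 := fun x => eE.injective (by rw [map_pow, map_one]; exact hexpE _)
  have hcen' : center (Shrink.{0} E) = (center E).comap eE.toMonoidHom := by
    ext x
    simp only [mem_center_iff, Subgroup.mem_comap, MulEquiv.coe_toMonoidHom]
    rw [eE.surjective.forall]
    exact forall_congr' fun y => by rw [← map_mul, ← map_mul, eE.injective.eq_iff]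
  have hcom' : commutator (Shrink.{0} E) = (commutator E).comap eE.toMonoidHom := by
    have : (commutator (Shrink.{0} E)).map eE.toMonoidHom = commutator E := by
      rw [map_commutator_eq, MonoidHom.range_eq_top.2 eE.surjective, ← _root_.commutator_def]
    rw [← this, comap_map_eq_self_of_injective eE.injective]
  have hcom_eq : commutator (Shrink.{0} E) = center (Shrink.{0} E) := by rw [hcom', hcen', hcomE]
  have hphi' : frattini (Shrink.{0} E) = center (Shrink.{0} E) := by
    refine le_antisymm (H24.frattini_le_of (p := p) _ hcom_eq.le fun x => ?_) ?_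
    · rw [hexp']; exact one_mem _
    · rw [← hcom_eq]; exact H24.commutator_le_frattini hEp
  refine ⟨Shrink.{0} E, inferInstance, A₀, inferInstance,
    ⟨⟨hEp, hphi', hcom_eq⟩, ?_⟩, hcardE, ?_, hA₀, ⟨e.trans (MulEquiv.prodCongr eE.symm eA)⟩⟩
  · rw [← hcardC]
    exact Nat.card_congr (Subgroup.centerCongr eE).toEquiv
  · refine Nat.dvd_antisymm (Monoid.exponent_dvd_of_forall_pow_eq_one hexp') ?_
    · obtain ⟨g, hg⟩ := exists_prime_orderOf_dvd_card' p (G := Shrink.{0} E)
        (hcardE ▸ dvd_pow_self p (by omega))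
      exact hg ▸ Monoid.order_dvd_exponent g

end Cfsg.Agent.H95
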