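import Cfsg.Agent.H95.NormalCriteria
import Cfsg.Agent.H95.GenExtraspecial

/-!
Two transvection-like automorphisms of an elementary abelian `p`-group: either they generate a `p`-group, or
their group holds an automorphism commuting with the first and inverting its centre.
-/
set_option autoImplicit false

namespace Cfsg.Agent.H95

open Cfsg

/-- The case in which one centre is fixed by the other transvection. -/
theorem transvection_pGroup {M : Type*} [CommGroup M] [Finite M] {p : ℕ} [Fact p.Prime]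
    (hexp : ∀ m : M, m ^ p = 1) (t u : MulAut M) (z c : M) (htz : t z = z) (huc : u c = c)
    (ht : ∀ m, ∃ i : ℤ, t m = m * z ^ i) (hu : ∀ m, ∃ i : ℤ, u m = m * c ^ i) (htc : t c = c) :
    IsPGroup p (Subgroup.closure ({t, u} : Set (MulAut M))) := by
  classical
  have hMp : IsPGroup p M := fun m => ⟨1, by rw [pow_one]; exact hexp m⟩
  let W : ℕ → Subgroup M := fun i =>
    if i = 0 then ⊥ else if i = 1 then Subgroup.zpowers c
    else if i = 2 then Subgroup.zpowers c ⊔ Subgroup.zpowers z else ⊤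
  refine (isPGroup_chainStab hMp (W := W) (m := 3) (by simp [W]) (by simp [W])).to_le ?_
  rw [Subgroup.closure_le]
  have hfixc : ∀ (g : MulAut M), g c = c → ∀ y ∈ Subgroup.zpowers c, g y = y := by
    rintro g hg _ ⟨i, rfl⟩; simp [hg]
  intro g hg i hi x hx
  have hcases : i = 0 ∨ i = 1 ∨ i = 2 := by omega
  rcases hg with rfl | rfl <;> rcases hcases with rfl | rfl | rfl <;> simp [W] at hx ⊢
  · obtain ⟨j, rfl⟩ := hx
    simp [htc]
  · obtain ⟨y, hy, w, ⟨j, rfl⟩, rfl⟩ := Subgroup.mem_sup.1 hx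
    have e : g (y * z ^ j) = y * z ^ j := by rw [map_mul, map_zpow, htz, hfixc g htc y hy]
    simp only [e, inv_mul_cancel, one_mem, true_and]
    exact hx
  · obtain ⟨j, hj⟩ := ht x
    rw [hj, inv_mul_cancel_left]
    exact Subgroup.mem_sup_right (Subgroup.zpow_mem_zpowers z j)
  · obtain ⟨j, rfl⟩ := hx
    simp [huc]
  · obtain ⟨j, hj⟩ := hu x
    rw [hj, inv_mul_cancel_left]
    exact ⟨Subgroup.zpow_mem_zpowers c j,
      mul_mem hx (Subgroup.mem_sup_left (Subgroup.zpow_mem_zpowers c j))⟩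
  · obtain ⟨j, hj⟩ := hu x
    rw [hj, inv_mul_cancel_left]
    exact Subgroup.mem_sup_left (Subgroup.zpow_mem_zpowers c j)

/-- Iterates of an automorphism moving `m` by a fixed element. -/
theorem zpow_apply_of_fixed {M : Type*} [CommGroup M] (g : MulAut M) {m d : M} (hd : g m = m * d)
    (hgd : g d = d) : ∀ k : ℤ, (g ^ k) m = m * d ^ k := by
  have hgd' : g⁻¹ d = d := g.symm_apply_eq.2 hgd.symm
  have hgm' : g⁻¹ m = m * d⁻¹ := by
    have h : g (m * d⁻¹) = m := by rw [map_mul, map_inv, hd, hgd, mul_inv_cancel_right]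
    exact g.symm_apply_eq.2 h.symm
  intro k
  induction k with
  | zero => simp
  | succ n ih =>
    rw [zpow_add_one, zpow_add_one, MulAut.mul_apply, hd, map_mul, ih]
    have : (g ^ (n : ℤ)) d = d := by
      rw [zpow_natCast]
      clear ih
      induction n with
      | zero => simp
      | succ n ih2 => rw [pow_succ, MulAut.mul_apply, hgd, ih2]
    rw [this, mul_assoc]
  | pred n ih =>
    rw [zpow_sub_one, zpow_sub_one, MulAut.mul_apply, hgm', map_mul, map_inv, ih]
    have : (g ^ (-(n : ℤ))) d = d := by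
      rw [zpow_neg, zpow_natCast, ← inv_pow]
      clear ih
      induction n with
      | zero => simp
      | succ n ih2 => rw [pow_succ, MulAut.mul_apply, hgd', ih2]
    rw [this, mul_assoc]

/-- Two transvections with centres `z` and `c`. -/
theorem transvection_pair {M : Type*} [CommGroup M] [Finite M] {p : ℕ} [Fact p.Prime]
    (hexp : ∀ m : M, m ^ p = 1) {t u : MulAut M} {z c : M} (htz : t z = z) (huc : u c = c)
    (ht : ∀ m, ∃ i : ℤ, t m = m * z ^ i) (hu : ∀ m, ∃ i : ℤ, u m = m * c ^ i) :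
    IsPGroup p (Subgroup.closure ({t, u} : Set (MulAut M))) ∨
      ∃ β ∈ Subgroup.closure ({t, u} : Set (MulAut M)), β * t = t * β ∧ β z = z⁻¹ := by
  classical
  set L := Subgroup.closure ({t, u} : Set (MulAut M))
  have hMp : IsPGroup p M := fun m => ⟨1, by rw [pow_one]; exact hexp m⟩
  by_cases htc : t c = c
  · exact Or.inl (transvection_pGroup hexp t u z c htz huc ht hu htc)
  by_cases huz : u z = z
  · refine Or.inl ?_
    have := transvection_pGroup hexp u t c z huc htz hu ht huz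
    rwa [Set.pair_comm] at this
  refine Or.inr ?_
  have hiter : ∀ (g : MulAut M) (w : M), g w = w → ∀ m d, g m = m * d → d ∈ Subgroup.zpowers w →
      ∀ k : ℤ, (g ^ k) m = m * d ^ k := by
    intro g w hgw m d hd hdw
    exact zpow_apply_of_fixed g hd (by obtain ⟨i, rfl⟩ := hdw; rw [map_zpow, hgw])
  have hzpow : ∀ (y : M) (i : ℤ), (p : ℤ) ∣ i → y ^ i = 1 := by
    rintro y _ ⟨k, rfl⟩; rw [zpow_mul, zpow_natCast, hexp, one_zpow]
  -- normalize `t c = c z` and `u z = z c⁻¹`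
  obtain ⟨α, hα⟩ := ht c
  obtain ⟨γ, hγ⟩ := hu z
  have hpr := Nat.prime_iff_prime_int.1 (Fact.out : p.Prime)
  obtain ⟨a1, a2, ha⟩ := (Prime.coprime_iff_not_dvd hpr).2 (fun h =>
    htc (by rw [hα, hzpow z α h, mul_one]) : ¬ (p : ℤ) ∣ α)
  obtain ⟨b1, b2, hb⟩ := (Prime.coprime_iff_not_dvd hpr).2 (fun h =>
    huz (by rw [hγ, hzpow c γ h, mul_one]) : ¬ (p : ℤ) ∣ γ)
  obtain ⟨T, hT⟩ : ∃ T, T = t ^ a2 := ⟨_, rfl⟩
  obtain ⟨U, hU⟩ : ∃ U, U = u ^ (-b2) := ⟨_, rfl⟩
  have hTz : T z = z := by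
    have h := hiter t z htz z 1 (by rw [htz, mul_one]) (one_mem _) a2
    rw [one_zpow, mul_one, ← hT] at h
    exact h
  have hUc : U c = c := by
    have h := hiter u c huc c 1 (by rw [huc, mul_one]) (one_mem _) (-b2)
    rw [one_zpow, mul_one, ← hU] at h
    exact h
  have hTc : T c = c * z := by
    rw [hT, hiter t z htz c _ hα (Subgroup.zpow_mem_zpowers z α) a2, ← zpow_mul]
    congr 1
    have e : α * a2 = 1 - (p : ℤ) * a1 := by linear_combination ha
    rw [e, zpow_sub, zpow_one, hzpow z _ (dvd_mul_right _ _), inv_one, mul_one]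
  have hUz : U z = z * c⁻¹ := by
    rw [hU, hiter u c huc z _ hγ (Subgroup.zpow_mem_zpowers c γ) (-b2), ← zpow_mul]
    congr 1
    have e : γ * -b2 = (p : ℤ) * b1 - 1 := by linear_combination -hb
    rw [e, zpow_sub, zpow_one, hzpow c _ (dvd_mul_right _ _), one_mul]
  obtain ⟨w, hw⟩ : ∃ w, w = T * U * T := ⟨_, rfl⟩
  have hwz : w z = c⁻¹ := by
    rw [hw, MulAut.mul_apply, MulAut.mul_apply, hTz, hUz, map_mul, map_inv, hTz, hTc, _root_.mul_inv_rev,
      mul_inv_cancel_left]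
  have hwc : w c = z := by
    rw [hw, MulAut.mul_apply, MulAut.mul_apply, hTc, map_mul, hUc, hUz, mul_comm z, mul_inv_cancel_left, hTz]
  obtain ⟨β, hβ⟩ : ∃ β, β = w * w := ⟨_, rfl⟩
  have hβz : β z = z⁻¹ := by rw [hβ, MulAut.mul_apply, hwz, map_inv, hwc]
  have hβc : β c = c⁻¹ := by rw [hβ, MulAut.mul_apply, hwc, hwz]
  have hTL : T ∈ L := hT ▸ zpow_mem (Subgroup.subset_closure (show t ∈ ({t, u} : Set (MulAut M)) from Set.mem_insert t _)) _
  have hUL : U ∈ L := hU ▸ zpow_mem (Subgroup.subset_closure (show u ∈ ({t, u} : Set (MulAut M)) from Set.mem_insert_of_mem _ rfl)) _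
  have hwL : w ∈ L := hw ▸ mul_mem (mul_mem hTL hUL) hTL
  refine ⟨β, hβ ▸ mul_mem hwL hwL, ?_, hβz⟩
  apply MulEquiv.ext
  intro m
  -- split `m` into the plane and the common fixed points
  obtain ⟨A, hA⟩ := ht m
  obtain ⟨B, hB⟩ := hu m
  obtain ⟨A', hA'⟩ : ∃ A' : ℤ, T m = m * z ^ A' :=
    ⟨A * a2, by rw [hT, hiter t z htz m _ hA (Subgroup.zpow_mem_zpowers z A) a2, zpow_mul]⟩
  obtain ⟨B', hB'⟩ : ∃ B' : ℤ, U m = m * c ^ B' :=
    ⟨B * -b2, by rw [hU, hiter u c huc m _ hB (Subgroup.zpow_mem_zpowers c B) (-b2), zpow_mul]⟩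
  obtain ⟨v, hv⟩ : ∃ v, v = c ^ A' * z ^ (-B') := ⟨_, rfl⟩
  obtain ⟨w0, hw0⟩ : ∃ w0, w0 = m * v⁻¹ := ⟨_, rfl⟩
  have hTv : T v = v * z ^ A' := by
    rw [hv, map_mul, map_zpow, map_zpow, hTc, hTz, mul_zpow]
    exact mul_right_comm _ _ _
  have hUv : U v = v * c ^ B' := by
    rw [hv, map_mul, map_zpow, map_zpow, hUc, hUz, mul_zpow, inv_zpow', neg_neg, ← mul_assoc]
  have hTw : T w0 = w0 := by
    rw [hw0, map_mul, map_inv, hA', hTv, _root_.mul_inv_rev, ← mul_assoc, mul_inv_cancel_right]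
  have hUw : U w0 = w0 := by
    rw [hw0, map_mul, map_inv, hB', hUv, _root_.mul_inv_rev, ← mul_assoc, mul_inv_cancel_right]
  have hβw : β w0 = w0 := by
    rw [hβ, hw]; simp only [MulAut.mul_apply, hTw, hUw]
  have htw : t w0 = w0 := by
    -- `t` is a power of `T` modulo `p`
    have h := hiter T z hTz w0 1 (by rw [hTw, mul_one]) (one_mem _) α
    rw [one_zpow, mul_one, hT, ← zpow_mul, show a2 * α = 1 + -(a1 * p) by linear_combination ha, zpow_add,
      zpow_one, MulAut.mul_apply] at h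
    obtain ⟨i, hi⟩ := ht w0
    have h2 := hiter t z htz w0 _ hi (Subgroup.zpow_mem_zpowers z i) (-(a1 * p))
    rw [← zpow_mul, hzpow z _ ⟨-(i * a1), by ring⟩, mul_one] at h2
    rw [h2] at h
    exact h
  have hm : m = v * w0 := by rw [hw0, mul_comm m, mul_inv_cancel_left]
  have e1 : β (t c) = t (β c) := by
    rw [hα, map_mul, map_zpow, hβc, hβz, map_inv, hα, _root_.mul_inv, inv_zpow]
  have e2 : β (t z) = t (β z) := by rw [htz, hβz, map_inv, htz]
  rw [MulAut.mul_apply, MulAut.mul_apply, hm, hv]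
  simp only [map_mul, map_zpow, e1, e2, hβw, htw]

end Cfsg.Agent.H95
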