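import Cfsg.Agent.H95.ExtCentralizer
import Cfsg.Agent.H95.NormalCriteria
import Cfsg.Agent.H95.Transvection

/-!
A strongly closed generalized extraspecial subgroup, other than `D₈ × A` or `p^{1+2}_+ × A`, is normal.
-/
set_option autoImplicit false

namespace Cfsg.Agent.H95

open Cfsg
open scoped commutatorElement

/-- What a map of the centralizer of a noncentral element into the derived subgroup forces. -/
theorem structure_of_centralizer_map {P : Type*} [Group P] [Finite P] {p : ℕ} [Fact p.Prime]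
    (hP : IsPGroup p P) (hΦ : frattini P = commutator P) (hc : Nat.card (commutator P) = p)
    {a z : P} (hz : z ∈ commutator P) (ha : a ∉ commutator P)
    (f : Subgroup.centralizer ({a} : Set P) →* P) (hf : Function.Injective f)
    (hfa : ∀ h : a ∈ Subgroup.centralizer ({a} : Set P), f ⟨a, h⟩ = z) :
    a ∉ Subgroup.center P ∧ (Subgroup.centralizer ({a} : Set P)).index = p ∧
      (∀ x ∈ Subgroup.centralizer ({a} : Set P), ∀ y ∈ Subgroup.centralizer ({a} : Set P), x * y = y * x) ∧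
      (∀ x ∈ Subgroup.centralizer ({a} : Set P), x ^ p = 1) := by
  have hp : p.Prime := Fact.out
  have haa : a ∈ Subgroup.centralizer ({a} : Set P) :=
    Subgroup.mem_centralizer_singleton_iff.2 rfl
  have hgen : ∀ w ∈ commutator P, w ≠ 1 → Subgroup.zpowers w = commutator P := by
    intro w hw hw1
    refine Subgroup.eq_of_le_of_card_ge (Subgroup.zpowers_le.2 hw) ?_
    have hd := Subgroup.card_dvd_of_le (Subgroup.zpowers_le.2 hw)
    rw [hc] at hd ⊢
    rcases (Nat.dvd_prime hp).1 hd with h | h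
    · exact absurd (Subgroup.zpowers_eq_bot.1 (Subgroup.card_eq_one.1 h)) hw1
    · exact h.ge
  -- an element of `P'` inside `C(a)` with image in `P'` is trivial
  have key : ∀ w : Subgroup.centralizer ({a} : Set P), (w : P) ∈ commutator P → f w ∈ commutator P → w = 1 := by
    intro w hw hfw
    by_contra hw1
    have hfw1 : f w ≠ 1 := fun h => hw1 (hf (by rw [h, map_one]))
    rw [← hgen _ hfw hfw1] at hz
    obtain ⟨k, hk⟩ := hz
    have hk' : f (w ^ k) = f ⟨a, haa⟩ := by rw [map_zpow, hfa]; exact hk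
    have : a = (w : P) ^ k := by
      have := congrArg Subtype.val (hf hk')
      simpa using this.symm
    exact ha (this ▸ zpow_mem hw k)
  have hab : ∀ x ∈ Subgroup.centralizer ({a} : Set P), ∀ y ∈ Subgroup.centralizer ({a} : Set P),
      x * y = y * x := by
    intro x hx y hy
    have h := key ⁅(⟨x, hx⟩ : Subgroup.centralizer ({a} : Set P)), (⟨y, hy⟩ : Subgroup.centralizer ({a} : Set P))⁆ (comm_mem_commutator x y)
      (by rw [map_commutatorElement]; exact comm_mem_commutator _ _)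
    exact commutatorElement_eq_one_iff_mul_comm.1 (congrArg Subtype.val h)
  have hexp : ∀ x ∈ Subgroup.centralizer ({a} : Set P), x ^ p = 1 := by
    intro x hx
    have h := key (⟨x, hx⟩ ^ p) (hΦ ▸ H24.pow_mem_frattini hP x)
      (by rw [map_pow]; exact hΦ ▸ H24.pow_mem_frattini hP _)
    exact congrArg Subtype.val h
  have hna : a ∉ Subgroup.center P := by
    intro hac
    have htop : Subgroup.centralizer ({a} : Set P) = ⊤ := by
      rw [eq_top_iff]
      intro x _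
      exact Subgroup.mem_centralizer_singleton_iff.2 (Subgroup.mem_center_iff.1 hac x)
    have h1 : commutator P = ⊥ := by
      rw [_root_.commutator_def, eq_bot_iff, Subgroup.commutator_le]
      intro x _ y _
      rw [Subgroup.mem_bot, commutatorElement_eq_one_iff_mul_comm]
      exact hab x (htop ▸ Subgroup.mem_top x) y (htop ▸ Subgroup.mem_top y)
    rw [h1, Subgroup.card_bot] at hc
    exact hp.ne_one hc.symm
  refine ⟨hna, ?_, hab, hexp⟩
  have hcen : commutator P ≤ Subgroup.center P := le_center_of_card_prime hP hc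
  let g : P →* commutator P := MonoidHom.mk' (fun x => ⟨⁅a, x⁆, comm_mem_commutator a x⟩)
    (fun x y => Subtype.ext (by
      show ⁅a, x * y⁆ = ⁅a, x⁆ * ⁅a, y⁆
      have h1 := hcen (comm_mem_commutator a y)
      calc ⁅a, x * y⁆ = ⁅a, x⁆ * (x * ⁅a, y⁆ * x⁻¹) := by simp only [commutatorElement_def]; group
        _ = ⁅a, x⁆ * ⁅a, y⁆ := by rw [Subgroup.mem_center_iff.1 h1 x]; simp [mul_assoc]))
  have hker : g.ker = Subgroup.centralizer ({a} : Set P) := by
    ext x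
    rw [MonoidHom.mem_ker, ← OneMemClass.coe_eq_one]
    show ⁅a, x⁆ = 1 ↔ _
    rw [commutatorElement_eq_one_iff_mul_comm, Subgroup.mem_centralizer_singleton_iff, eq_comm]
  rw [← hker, Subgroup.index_ker]
  have hd := Subgroup.card_subgroup_dvd_card g.range
  rw [hc] at hd
  rcases (Nat.dvd_prime hp).1 hd with h | h
  · exfalso
    refine hna (Subgroup.mem_center_iff.2 fun x => ?_)
    have h1 : g x ∈ g.range := ⟨x, rfl⟩
    rw [Subgroup.card_eq_one.1 h, Subgroup.mem_bot] at h1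
    exact (commutatorElement_eq_one_iff_mul_comm.1 (congrArg Subtype.val h1)).symm
  · exact h

variable {Ω : Type*} [Group Ω] {S : Subgroup Ω} [Finite S] {p : ℕ} [Fact p.Prime]

/-- A strongly closed `P` with `Φ(P) = P'` of order `p`, not `D₈ × A` or `p^{1+2}_+ × A`, is normal. -/
theorem isNormal_of_genExtraspecial (hS : IsPGroup p S) {F : FusionSystem S} (hF : F.IsSaturated p)
    {P : Subgroup Ω} (hP : F.StronglyClosed P) (hΦ : frattini ↥P = commutator ↥P)
    (hc : Nat.card ↥(commutator ↥P) = p)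
    (h2 : p = 2 → ¬ ∃ (A : Type) (_ : CommGroup A), (∀ a : A, a ^ 2 = 1) ∧ Nonempty (↥P ≃* DihedralGroup 4 × A))
    (hodd : p ≠ 2 → ¬ ∃ (E : Type) (_ : Group E) (A : Type) (_ : CommGroup A), Cfsg.IsExtraspecial p E ∧
      Nat.card E = p ^ 3 ∧ Monoid.exponent E = p ∧ (∀ a : A, a ^ p = 1) ∧ Nonempty (↥P ≃* E × A)) :
    F.IsNormal P := by
  have hp : p.Prime := Fact.out
  have hPS := hP.1
  have := H96.finite_of_le hPS
  have hPp : IsPGroup p P := hS.to_le hPS
  obtain ⟨Z, hZ⟩ : ∃ Z, Z = (commutator ↥P).map P.subtype := ⟨_, rfl⟩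
  have hZP : Z ≤ P := hZ ▸ Subgroup.map_subtype_le _
  have hZS : Z ≤ S := hZP.trans hPS
  have hcardZ : Nat.card Z = p := by
    rw [hZ, Subgroup.card_map_of_injective Subtype.val_injective, hc]
  -- automorphisms of `P` preserve `Z`
  have hautZ : ∀ (θ : MulAut P) (x : P), (x : Ω) ∈ Z → ((θ x : P) : Ω) ∈ Z := by
    intro θ x hx
    rw [hZ] at hx ⊢
    obtain ⟨y, hy, hyx⟩ := hx
    obtain rfl : y = x := Subtype.ext hyx
    refine ⟨θ y, ?_, rfl⟩
    have := Subgroup.characteristic_iff_map_le.1 (inferInstance : (commutator ↥P).Characteristic) θ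
    exact this ⟨y, hy, rfl⟩
  have hnormP : ∀ s ∈ S, ∀ x ∈ P, s * x * s⁻¹ ∈ P := fun s hs x hx =>
    H96.conj_mem_of_stronglyClosed hP hs hx
  have hZn : ∀ s ∈ S, ∀ x ∈ Z, s * x * s⁻¹ ∈ Z := by
    intro s hs x hx
    obtain ⟨α, -, hα⟩ := H96.exists_autGroup_of_mem F (F.conj_mem hPS hs) fun y => hnormP s hs y y.2
    have := hautZ α ⟨x, hZP hx⟩ hx
    rw [hα] at this
    exact this
  have hZcen : ∀ s ∈ S, ∀ x ∈ Z, s * x = x * s := by
    intro s hs x hx
    haveI : (Z.subgroupOf S).Normal :=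
      ⟨fun n hn g => Subgroup.mem_subgroupOf.2 (hZn g g.2 n (Subgroup.mem_subgroupOf.1 hn))⟩
    have h := le_center_of_card_prime hS (N := Z.subgroupOf S)
      (by rw [Nat.card_congr (Subgroup.subgroupOfEquivOfLe hZS).toEquiv, hcardZ])
      (show (⟨x, hZS hx⟩ : S) ∈ Z.subgroupOf S from hx)
    exact congrArg Subtype.val (Subgroup.mem_center_iff.1 h ⟨s, hs⟩)
  -- it suffices that `Z` is weakly closed
  suffices hw : F.WeaklyClosed Z by
    refine isNormal_of_central_series hS hF hP 2 (fun i => if i = 0 then ⊥ else if i = 1 then Z else P)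
      (by simp) (by simp) (fun i hi => ?_) (fun i hi => ?_) (fun i hi => ?_)
    · rcases (show i = 0 ∨ i = 1 ∨ i = 2 by omega) with rfl | rfl | rfl <;> simp [hZP]
    · rcases (show i = 0 ∨ i = 1 by omega) with rfl | rfl
      · simp only [zero_add, if_true, if_neg one_ne_zero]
        rw [le_bot_iff, Subgroup.commutator_eq_bot_iff_le_centralizer]
        exact fun x hx => Subgroup.mem_centralizer_iff.2 fun y hy => hZcen y (hPS hy) x hx
      · simp only [show ¬ (1 + 1 = 0) by omega, show ¬ (1 + 1 = 1) by omega, if_false, if_true,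
          if_neg one_ne_zero]
        rw [hZ]
        refine Subgroup.commutator_le.2 fun x hx y hy => ⟨⁅(⟨x, hx⟩ : P), (⟨y, hy⟩ : P)⁆, ?_, rfl⟩
        exact comm_mem_commutator _ _
    · rcases (show i = 0 ∨ i = 1 by omega) with rfl | rfl
      · exact ⟨bot_le, fun φ hφ => H96.range_eq_of_stronglyClosed (H96.stronglyClosed_bot F) hφ⟩
      · simpa using hw
  refine ⟨hZS, fun φ hφ => ?_⟩
  by_contra hne
  have := H96.finite_of_le hZS
  obtain ⟨⟨z₀, hz₀Z⟩, hz1⟩ : ∃ z : Z, z ≠ 1 := by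
    have : Nontrivial Z := Finite.one_lt_card_iff_nontrivial.1 (by rw [hcardZ]; exact hp.one_lt)
    exact exists_ne 1
  have hgen : Z = Subgroup.zpowers z₀ := by
    have := H96.finite_of_le hZS
    refine (Subgroup.eq_of_le_of_card_ge (Subgroup.zpowers_le.2 hz₀Z) ?_).symm
    have hd := Subgroup.card_dvd_of_le (Subgroup.zpowers_le.2 hz₀Z)
    rw [hcardZ] at hd ⊢
    rcases (Nat.dvd_prime hp).1 hd with h | h
    · exact absurd (Subtype.ext (Subgroup.zpowers_eq_bot.1 (Subgroup.card_eq_one.1 h))) hz1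
    · exact h.ge
  have hgenZ : ∀ y ∈ Z, ∃ i : ℤ, y = z₀ ^ i := fun y hy => by
    rw [hgen] at hy; obtain ⟨i, rfl⟩ := hy; exact ⟨i, rfl⟩
  obtain ⟨a₀, ha₀⟩ : ∃ a, a = φ ⟨z₀, hz₀Z⟩ := ⟨_, rfl⟩
  have haP : a₀ ∈ P := ha₀ ▸ hP.2 Z hZP φ hφ _
  have haZ : a₀ ∉ Z := by
    intro haZ
    refine hne (H96.range_eq_of_forall_mem F hφ fun x => ?_)
    obtain ⟨i, hi⟩ := hgenZ x x.2
    rw [show x = (⟨z₀, hz₀Z⟩ : Z) ^ i from Subtype.ext (by simpa using hi), map_zpow, ← ha₀]
    exact zpow_mem haZ i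
  obtain ⟨σ, hσ, -, hσinv⟩ := H96.exists_inv F hφ rfl
  have haR : a₀ ∈ φ.range := ⟨_, ha₀.symm⟩
  have hσa : σ ⟨a₀, haR⟩ = z₀ := by
    have h := hσinv ⟨z₀, hz₀Z⟩ ⟨_, rfl⟩
    simp only [← ha₀] at h
    exact h
  obtain ⟨ψ, hψ, hψa⟩ := exists_ext_centralizer hS hF hσ haR
    (fun s hs => by rw [hσa]; exact hZcen s hs z₀ hz₀Z)
  -- transfer to the group `P`
  obtain ⟨aP, haPdef⟩ : ∃ aP : P, (aP : Ω) = a₀ := ⟨⟨a₀, haP⟩, rfl⟩
  have haPc : aP ∉ commutator ↥P := fun h => haZ (haPdef ▸ hZ ▸ ⟨aP, h, rfl⟩)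
  obtain ⟨zP, hzP, hzPe⟩ : ∃ zP : P, zP ∈ commutator ↥P ∧ (zP : Ω) = z₀ := by
    have := hz₀Z
    rw [hZ] at this
    obtain ⟨y, hy, hye⟩ := this
    exact ⟨y, hy, hye⟩
  set Mp := Subgroup.centralizer ({aP} : Set P)
  have hMC : ∀ x : Mp, ((x : P) : Ω) ∈ FusionSystem.centralizerIn S (Subgroup.zpowers a₀) := by
    intro x
    refine Subgroup.mem_inf.2 ⟨hPS (x : P).2, Subgroup.mem_centralizer_iff.2 ?_⟩
    rintro _ ⟨i, rfl⟩
    have h1 : Commute ((x : P) : Ω) (aP : Ω) :=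
      congrArg Subtype.val (Subgroup.mem_centralizer_singleton_iff.1 x.2)
    rw [haPdef] at h1
    exact ((h1.zpow_right i).eq).symm
  let incl : Mp →* FusionSystem.centralizerIn S (Subgroup.zpowers a₀) :=
    (P.subtype.comp Mp.subtype).codRestrict _ hMC
  let f : Mp →* P := (ψ.comp incl).codRestrict P fun x =>
    H94.apply_mem_of_stronglyClosed hP hψ (x : P).2
  have hf : Function.Injective f := fun x y hxy => by
    have h := F.injective_of_mem hψ (congrArg Subtype.val hxy)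
    exact Subtype.ext (Subtype.ext (congrArg Subtype.val h :))
  have hfa : ∀ h, f ⟨aP, h⟩ = zP := fun h => Subtype.ext (by
    show ψ ⟨(aP : Ω), _⟩ = (zP : Ω)
    simp only [haPdef, hzPe]
    rw [hψa, hσa])
  obtain ⟨hna, hidx, hMcomm, hMexp⟩ := structure_of_centralizer_map hPp hΦ hc hzP haPc f hf hfa
  have haM : aP ∈ Mp := Subgroup.mem_centralizer_singleton_iff.2 rfl
  by_cases hp2 : p = 2
  · subst hp2
    exact h2 rfl (iso_dihedral_prod hPp hΦ hc hMcomm hMexp hidx haM hna)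
  by_cases hexp : ∀ x : P, x ^ p = 1
  · exact hodd hp2 (iso_extraspecial_prod hPp hΦ hc hMcomm hMexp hidx haM hna hexp)
  push_neg at hexp
  obtain ⟨b, hbp⟩ := hexp
  have hbM : b ∉ Mp := fun h => hbp (hMexp b h)
  have hMco : IsCoatom Mp := isCoatom_of_index_prime hidx
  have hcen : commutator ↥P ≤ Subgroup.center P := le_center_of_card_prime hPp hc
  have hcomp : ∀ u ∈ commutator ↥P, u ^ p = 1 := fun u hu => by
    have h : (⟨u, hu⟩ : commutator ↥P) ^ Nat.card (commutator ↥P) = 1 := pow_card_eq_one'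
    rw [hc] at h
    exact congrArg Subtype.val h
  have hpowmul : ∀ x y : P, (x * y) ^ p = x ^ p * y ^ p := fun x y =>
    H24.mul_pow_prime_of_class_two hp hp2 (hcen (comm_mem_commutator y x)) (hcomp _ (comm_mem_commutator y x))
  -- `M` is the set of elements of order dividing `p`
  have hMset : ∀ x : P, x ∈ Mp ↔ x ^ p = 1 := by
    refine fun x => ⟨hMexp x, fun hx => ?_⟩
    obtain ⟨m, hm, k, rfl⟩ := exists_eq_mul_zpow hPp hMco hbM x
    refine mul_mem hm ?_
    by_cases hk : (p : ℤ) ∣ k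
    · obtain ⟨j, rfl⟩ := hk
      rw [zpow_mul, zpow_natCast]
      have hZM : commutator ↥P ≤ Mp := fun u hu =>
        Subgroup.mem_centralizer_singleton_iff.2 (Subgroup.mem_center_iff.1 (hcen hu) aP).symm
      exact zpow_mem (hZM (hΦ ▸ H24.pow_mem_frattini hPp b)) j
    · exfalso
      rw [hpowmul, hMexp m hm, one_mul, ← zpow_natCast, ← zpow_mul, mul_comm, zpow_mul, zpow_natCast] at hx
      exact hk (dvd_of_zpow_mem (M := (⊥ : Subgroup P)) (b := b ^ p) (by simpa using hbp)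
        (by rw [← pow_mul]; exact Subgroup.mem_bot.2 (by
          rw [pow_mul]; exact hcomp _ (hΦ ▸ H24.pow_mem_frattini hPp b)))
        (Subgroup.mem_bot.2 hx))
  obtain ⟨M, hM⟩ : ∃ M, M = Mp.map P.subtype := ⟨_, rfl⟩
  have hMP : M ≤ P := hM ▸ Subgroup.map_subtype_le _
  have hMS : M ≤ S := hMP.trans hPS
  have := H96.finite_of_le hMS
  have hMmem : ∀ x : P, (x : Ω) ∈ M ↔ x ∈ Mp := fun x => by
    rw [hM]
    exact ⟨fun ⟨y, hy, he⟩ => (Subtype.ext he : y = x) ▸ hy, fun h => ⟨x, h, rfl⟩⟩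
  have hMpow : ∀ x : Ω, x ∈ P → (x ∈ M ↔ x ^ p = 1) := fun x hx => by
    rw [show x = ((⟨x, hx⟩ : P) : Ω) from rfl, hMmem, hMset, ← Subgroup.coe_pow, OneMemClass.coe_eq_one]
  have hMsc : F.StronglyClosed M := by
    refine ⟨hMS, fun R hR χ hχ x => ?_⟩
    refine (hMpow _ (hP.2 R (hR.trans hMP) χ hχ x)).2 ?_
    have hx1 : (x : Ω) ^ p = 1 := (hMpow _ (hMP (hR x.2))).1 (hR x.2)
    rw [← map_pow, show x ^ p = 1 from Subtype.ext (by simpa using hx1), map_one]
  have hMrec : F.IsFullyAutomized p M ∧ F.IsReceptive M := by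
    refine H94.fullyNormalized_spec hS hF ⟨hMS, fun Q hQ => ?_⟩
    obtain ⟨χ, hχ, rfl⟩ := hQ
    rw [H96.range_eq_of_stronglyClosed hMsc hχ]
  letI : CommGroup M :=
    { (inferInstance : Group M) with
      mul_comm := fun x y => Subtype.ext (congrArg Subtype.val
        (hMcomm ⟨x, hMP x.2⟩ ((hMmem _).1 x.2) ⟨y, hMP y.2⟩ ((hMmem _).1 y.2)) :) }
  have hMexp' : ∀ m : M, m ^ p = 1 := fun m =>
    Subtype.ext ((hMpow _ (hMP m.2)).1 m.2)
  -- the two automorphisms
  have hMleC : M ≤ FusionSystem.centralizerIn S (Subgroup.zpowers a₀) := fun x hx =>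
    hMC ⟨⟨x, hMP hx⟩, (hMmem _).1 hx⟩
  obtain ⟨τ, hτ, hτe⟩ := H96.exists_autGroup_of_mem F (H96.res_mem F hψ hMleC)
    (fun x => hMsc.2 M le_rfl _ (H96.res_mem F hψ hMleC) x)
  have hbP : (b : Ω) ∈ P := b.2
  have hbN : (b : Ω) ∈ Subgroup.normalizer (M : Set Ω) :=
    H94.le_normalizer_of_stronglyClosed hMsc (hPS hbP)
  obtain ⟨t, ht, hte⟩ := H96.exists_autGroup_of_mem F (F.conj_mem hMS (hPS hbP))
    (fun x => H96.conj_mem_of_stronglyClosed hMsc (hPS hbP) x.2)
  have hZM : Z ≤ M := fun x hx => (hMmem ⟨x, hZP hx⟩).2 (by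
    refine (hMset _).2 (hcomp _ ?_)
    rw [hZ] at hx
    obtain ⟨y, hy, hye⟩ := hx
    rwa [← show y = ⟨x, _⟩ from Subtype.ext hye])
  obtain ⟨zm, hzm⟩ : ∃ zm : M, (zm : Ω) = z₀ := ⟨⟨z₀, hZM hz₀Z⟩, rfl⟩
  have htz : t zm = zm := Subtype.ext (by
    rw [hte]
    show (b : Ω) * zm * (b : Ω)⁻¹ = zm
    rw [hzm, hZcen _ (hPS hbP) z₀ hz₀Z, mul_inv_cancel_right])
  have htm : ∀ m : M, ∃ i : ℤ, t m = m * zm ^ i := by
    intro m
    have h : (m : Ω)⁻¹ * ((b : Ω) * m * (b : Ω)⁻¹) ∈ Z := by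
      rw [hZ]
      exact ⟨⁅(⟨m, hMP m.2⟩ : P)⁻¹, b⁆, comm_mem_commutator _ _, by simp [commutatorElement_def, mul_assoc]⟩
    obtain ⟨i, hi⟩ := hgenZ _ h
    refine ⟨i, Subtype.ext ?_⟩
    rw [hte]
    show (b : Ω) * m * (b : Ω)⁻¹ = (m : Ω) * ((zm ^ i : M) : Ω)
    rw [Subgroup.coe_zpow, hzm, ← hi, mul_inv_cancel_left]
  have hum : ∀ m : M, ∃ i : ℤ, (τ * t * τ⁻¹) m = m * (τ zm) ^ i := by
    intro m
    obtain ⟨i, hi⟩ := htm (τ⁻¹ m)
    refine ⟨i, ?_⟩
    rw [MulAut.mul_apply, MulAut.mul_apply, hi, map_mul, map_zpow]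
    rw [show τ (τ⁻¹ m) = m from τ.apply_symm_apply m]
  have huc : (τ * t * τ⁻¹) (τ zm) = τ zm := by
    rw [MulAut.mul_apply, MulAut.mul_apply, show τ⁻¹ (τ zm) = zm from τ.symm_apply_apply zm, htz]
  -- extending automorphisms to `P`
  have hjoin : P ≤ M ⊔ Subgroup.zpowers (b : Ω) := by
    intro x hx
    obtain ⟨m, hm, k, hmk⟩ := exists_eq_mul_zpow hPp hMco hbM (⟨x, hx⟩ : P)
    rw [show x = (m : Ω) * (b : Ω) ^ k by simpa using congrArg Subtype.val hmk]
    exact mul_mem (Subgroup.mem_sup_left ((hMmem m).2 hm))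
      (Subgroup.mem_sup_right (Subgroup.zpow_mem_zpowers (b : Ω) k))
  have hext : ∀ g ∈ F.autGroup M, ∀ h ∈ S, (∀ (x : M) (hx : (b : Ω) * (x : Ω) * (b : Ω)⁻¹ ∈ M),
      ((g ⟨_, hx⟩ : M) : Ω) = h * (g x : M) * h⁻¹) →
      ∃ θ : MulAut P, ∀ x : M, ((θ ⟨x, hMP x.2⟩ : P) : Ω) = ((g x : M) : Ω) := by
    intro g hg h hh hconj
    obtain ⟨χ, hχ, hχe⟩ := exists_ext_aut hMrec.2 hg (hPS hbP) hbN hh hconj
    obtain ⟨θ, -, hθ⟩ := H96.exists_autGroup_of_mem F (H96.res_mem F hχ hjoin)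
      (fun x => H94.apply_mem_of_stronglyClosed hP hχ x.2)
    refine ⟨θ, fun x => ?_⟩
    rw [hθ, ← hχe x]
    rfl
  have hclosed : ∀ g ∈ F.autGroup M, g * t * g⁻¹ ∈ autInducedBy S M → ((g zm : M) : Ω) ∈ Z := by
    intro g hg hgt
    obtain ⟨h, hh, hhe⟩ := H96.mem_autInducedBy.1 hgt
    obtain ⟨θ, hθ⟩ := hext g hg h hh (fun x hx => by
      have h1 := hhe (g x)
      rw [show (g * t * g⁻¹) (g x) = g (t x) by simp] at h1
      rw [← h1]
      congr 2
      exact Subtype.ext (hte x).symm)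
    rw [← hθ]
    exact hautZ θ _ (show (zm : Ω) ∈ Z by rw [hzm]; exact hz₀Z)
  rcases transvection_pair hMexp' htz huc htm hum with hL | ⟨β, hβ, hβt, hβz⟩
  · -- a Sylow conjugate of `L` gives a contradiction
    set A := F.autGroup M
    set L := Subgroup.closure ({t, τ * t * τ⁻¹} : Set (MulAut M))
    have hu : τ * t * τ⁻¹ ∈ A := mul_mem (mul_mem hτ ht) (inv_mem hτ)
    have hLA : L ≤ A := by
      rw [Subgroup.closure_le]
      rintro x (rfl | rfl) <;> assumption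
    obtain ⟨Q, hQ⟩ := (IsPGroup.of_equiv hL (Subgroup.subgroupOfEquivOfLe hLA).symm).exists_le_sylow
    obtain ⟨R, hR⟩ := hMrec.1.2
    obtain ⟨h, hh⟩ := MulAction.exists_smul_eq A Q R
    have hconjR : ∀ x ∈ L, (h : MulAut M) * x * (h : MulAut M)⁻¹ ∈ autInducedBy S M := by
      intro x hx
      have h1 : h * ⟨x, hLA hx⟩ * h⁻¹ ∈ (R : Subgroup A) := by
        rw [← hh, Sylow.coe_subgroup_smul]
        exact Subgroup.smul_mem_pointwise_smul _ (MulAut.conj h) _ (hQ (show (⟨x, hLA hx⟩ : A) ∈ L.subgroupOf A from hx))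
      rw [hR, Subgroup.mem_subgroupOf] at h1
      exact h1
    have h1 := hclosed h h.2 (hconjR t (Subgroup.subset_closure (show t ∈ ({t, τ * t * τ⁻¹} : Set (MulAut M))
      from Set.mem_insert _ _)))
    have h3 := hclosed ((h : MulAut M) * τ) (mul_mem h.2 hτ) (by
      have := hconjR (τ * t * τ⁻¹) (Subgroup.subset_closure
        (show τ * t * τ⁻¹ ∈ ({t, τ * t * τ⁻¹} : Set (MulAut M)) from Set.mem_insert_of_mem _ rfl))
      simpa [mul_assoc] using this)
    have hgen1 : ∀ w : M, (w : Ω) ∈ Z → w ≠ 1 → ∀ v : M, (v : Ω) ∈ Z → ∃ i : ℤ, v = w ^ i := by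
      intro w hw hw1 v hv
      have hz : Subgroup.zpowers (w : Ω) = Z := by
        have := H96.finite_of_le hZS
        refine Subgroup.eq_of_le_of_card_ge (Subgroup.zpowers_le.2 hw) ?_
        have hd := Subgroup.card_dvd_of_le (Subgroup.zpowers_le.2 hw)
        rw [hcardZ] at hd ⊢
        rcases (Nat.dvd_prime hp).1 hd with h' | h'
        · exact absurd (Subtype.ext (Subgroup.zpowers_eq_bot.1 (Subgroup.card_eq_one.1 h'))) hw1
        · exact h'.ge
      rw [← hz] at hv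
      obtain ⟨i, hi⟩ := hv
      exact ⟨i, Subtype.ext (by simpa using hi.symm)⟩
    have hzm1 : zm ≠ 1 := fun h' => hz1 (Subtype.ext (show z₀ = ((1 : Z) : Ω) by rw [← hzm, h']; rfl))
    obtain ⟨i, hi⟩ := hgen1 _ h1 (fun h' => hzm1 ((h : MulAut M).injective (by rw [h', map_one]))) _ h3
    rw [MulAut.mul_apply, ← map_zpow] at hi
    have hτz : τ zm = zm ^ i := (h : MulAut M).injective hi
    obtain ⟨am, ham⟩ : ∃ am : M, (am : Ω) = a₀ := ⟨⟨a₀, by rw [← haPdef]; exact (hMmem aP).2 haM⟩, rfl⟩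
    have hτa : τ am = zm := Subtype.ext (by
      rw [hτe]; simp only [H96.res_apply, ham]; rw [hψa, hσa, hzm])
    obtain ⟨j, hj⟩ := hgen1 (τ zm)
      (by rw [hτz, Subgroup.coe_zpow, hzm]; exact zpow_mem hz₀Z i)
      (fun h' => hzm1 (τ.injective (by rw [h', map_one]))) zm (by rw [hzm]; exact hz₀Z)
    have : am = zm ^ j := τ.injective (by rw [hτa, map_zpow]; exact hj)
    exact haZ (by rw [← ham, this, Subgroup.coe_zpow, hzm]; exact zpow_mem hz₀Z j)
  · -- the inverting automorphism extends to `P`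
    have hβA : β ∈ F.autGroup M := by
      refine (Subgroup.closure_le _).2 ?_ hβ
      rintro x (rfl | rfl)
      exacts [ht, mul_mem (mul_mem hτ ht) (inv_mem hτ)]
    obtain ⟨θ, hθ⟩ := hext β hβA b (hPS hbP) (fun x hx => by
      have h1 := hte (β x)
      have h4 : β (t x) = t (β x) := DFunLike.congr_fun hβt x
      rw [← h4] at h1
      refine Eq.trans ?_ h1
      congr 2
      exact Subtype.ext (hte x).symm)
    -- `θ b ∈ b M`
    have hact : b⁻¹ * θ b ∈ Mp := by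
      have haPM : (aP : Ω) ∈ M := (hMmem aP).2 haM
      obtain ⟨x, hx⟩ := β.surjective ⟨aP, haPM⟩
      have hbx : (b : Ω) * x * (b : Ω)⁻¹ ∈ M := H96.conj_mem_of_stronglyClosed hMsc (hPS hbP) x.2
      have h1 : θ (b * ⟨x, hMP x.2⟩ * b⁻¹) = b * θ ⟨x, hMP x.2⟩ * b⁻¹ := by
        apply Subtype.ext
        have e : (b * ⟨x, hMP x.2⟩ * b⁻¹ : P) = ⟨((⟨_, hbx⟩ : M) : Ω), hMP hbx⟩ := rfl
        rw [e, hθ]
        have h2 : t x = ⟨_, hbx⟩ := Subtype.ext (hte x)
        rw [← h2, show β (t x) = t (β x) from DFunLike.congr_fun hβt x, hte]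
        show (b : Ω) * (β x : M) * (b : Ω)⁻¹ = (b : Ω) * (θ ⟨x, _⟩ : P) * (b : Ω)⁻¹
        rw [hθ]
      have hθx : θ ⟨x, hMP x.2⟩ = aP := Subtype.ext (by rw [hθ, hx])
      rw [map_mul, map_mul, map_inv, hθx] at h1
      refine Subgroup.mem_centralizer_singleton_iff.2 ?_
      calc b⁻¹ * θ b * aP = b⁻¹ * (θ b * aP * (θ b)⁻¹) * θ b := by group
        _ = aP * (b⁻¹ * θ b) := by rw [h1]; group
    have hθp : (θ b) ^ p = b ^ p := by
      rw [show θ b = b * (b⁻¹ * θ b) by group, hpowmul, hMexp _ hact, mul_one]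
    have hbpZ : ((b ^ p : P) : Ω) ∈ Z := hZ ▸ ⟨b ^ p, hΦ ▸ H24.pow_mem_frattini hPp b, rfl⟩
    obtain ⟨k, hk⟩ := hgenZ _ hbpZ
    have hbpm : (b ^ p : P) = ⟨((zm ^ k : M) : Ω), hMP (zm ^ k).2⟩ := Subtype.ext (by
      rw [Subgroup.coe_zpow, hzm]; exact hk)
    have h5 : zm ^ k = (zm ^ k)⁻¹ := by
      apply Subtype.ext
      calc ((zm ^ k : M) : Ω) = ((θ (b ^ p) : P) : Ω) := by rw [map_pow, hθp, hbpm]
        _ = _ := by rw [hbpm, hθ, map_zpow, hβz, inv_zpow]
    have h6 : zm ^ k = 1 := by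
      rw [← orderOf_eq_one_iff]
      refine Nat.eq_one_of_dvd_coprimes ((Nat.coprime_primes Nat.prime_two hp).2 (Ne.symm hp2))
        (orderOf_dvd_of_pow_eq_one ?_) (orderOf_dvd_of_pow_eq_one (hMexp' _))
      rw [pow_two]
      exact eq_inv_iff_mul_eq_one.1 h5
    exact hbp (by rw [hbpm]; exact Subtype.ext (by rw [h6]; rfl))

end Cfsg.Agent.H95
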