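import Cfsg.Agent.H94.FactorSaturated
import Cfsg.Agent.H94.PPowerIndex
import Cfsg.Agent.H96.Basic

/-!
The hyperfocal subgroup of a factor system.
-/
set_option autoImplicit false

namespace Cfsg.Agent.H95

open Cfsg Cfsg.FusionSystem
open H94 (mem_preimageAlong preimageAlong_le mem_imageAlong)

variable {Ω : Type*} [Group Ω] {S : Subgroup Ω} {p : ℕ}

/-- The hyperfocal subgroup is generated by displacements of automorphisms of order prime to `p`. -/
theorem hyperfocal_le_of_coprime {F : FusionSystem S} {X : Subgroup Ω}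
    (h : ∀ (P : Subgroup Ω) (α : F.autGroup P) (x : P), P ≤ S → (orderOf α).Coprime p →
      (x : Ω)⁻¹ * ((α : MulAut P) x : P) ∈ X) : F.hyperfocalSubgroup p ≤ X := by
  refine (Subgroup.closure_le _).2 ?_
  rintro _ ⟨P, α, x, hP, hα, rfl⟩
  revert x
  induction hα using Subgroup.closure_induction with
  | mem g hg => exact fun x => h P g x hP hg
  | one => intro x; simp
  | mul a b _ _ ha hb =>
    intro x
    have := X.mul_mem (hb x) (ha ((b : MulAut P) x))
    rw [mul_assoc, mul_inv_cancel_left] at this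
    exact this
  | inv a _ ha =>
    intro x
    have := X.inv_mem (ha ((a : MulAut P)⁻¹ x))
    rw [mul_inv_rev, inv_inv, MulAut.apply_inv_self] at this
    exact this

/-- The hyperfocal subgroup of a factor system is the image of the hyperfocal subgroup. -/
theorem hyperfocal_factor [Finite S] [Fact p.Prime] (hS : IsPGroup p S) {F : FusionSystem S}
    (hF : F.IsSaturated p) {T : Subgroup Ω} (hT : F.StronglyClosed T) {Ω' : Type*} [Group Ω']
    {S' : Subgroup Ω'} {θ : S →* Ω'} {E : FusionSystem S'} (hE : F.IsFactorSystem T θ E) :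
    E.hyperfocalSubgroup p = ((F.hyperfocalSubgroup p).subgroupOf S).map θ := by
  have hp : p.Prime := Fact.out
  have hsurj := H94.factor_isSurjectiveMorphism hS hF hT hE
  obtain ⟨⟨hθS, hmor⟩, hrange, hlift⟩ := hsurj
  haveI : Finite S' := by
    rw [← hrange]
    exact (Set.finite_range θ).to_subtype
  refine le_antisymm (hyperfocal_le_of_coprime fun P' β y hP' hβ => ?_) ?_
  · have hβE := (H96.mem_autGroup E hP').1 β.2
    obtain ⟨φ, hφ, hP₁, hφS, hm, hind⟩ := hlift P' hP' _ hβE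
    obtain ⟨α, hα, hαe⟩ := H96.exists_autGroup_of_mem F hφ fun x =>
      mem_preimageAlong.2 ⟨hφS x, by rw [← hind x]; exact ((β : MulAut P') _).2⟩
    have hpre : preimageAlong θ P' ≤ S := preimageAlong_le
    have hpow : ∀ (n : ℕ) (x : preimageAlong θ P'),
        θ ⟨(((α ^ n) x : preimageAlong θ P') : Ω), hpre ((α ^ n) x).2⟩ =
          ((((β : MulAut P') ^ n) ⟨_, hm x⟩ : P') : Ω') := by
      intro n
      induction n with
      | zero => intro x; rfl
      | succ n ih =>
        intro x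
        have e1 : (⟨((α ((α ^ n) x) : preimageAlong θ P') : Ω), hpre (α ((α ^ n) x)).2⟩ : S) =
            ⟨φ ((α ^ n) x), hφS _⟩ := Subtype.ext (hαe _)
        simp only [pow_succ', MulAut.mul_apply]
        rw [e1, ← hind]
        show (((β : MulAut P') _ : P') : Ω') = _
        congr 2
        exact Subtype.ext (ih x)
    have hfin := H96.finite_of_le hpre
    obtain ⟨k, m, hm', hkm⟩ := Nat.exists_eq_pow_mul_and_not_dvd (orderOf_pos α).ne' p hp.ne_one
    have hβ' : (orderOf (β : MulAut P')).Coprime p := by rwa [Subgroup.orderOf_coe]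
    obtain ⟨j, hj⟩ := exists_pow_eq_self_of_coprime ((hβ'.pow_right k).symm)
    have hco : (orderOf (α ^ (p ^ k * j))).Coprime p := by
      refine Nat.Coprime.coprime_dvd_left ?_ ((hp.coprime_iff_not_dvd.2 hm').symm)
      refine orderOf_dvd_of_pow_eq_one ?_
      rw [← pow_mul, show p ^ k * j * m = p ^ k * m * j by ring, ← hkm, pow_mul, pow_orderOf_eq_one, one_pow]
    obtain ⟨⟨x, hx⟩, hxy⟩ : (y : Ω') ∈ θ.range := hrange.symm ▸ hP' y.2
    have hxm : x ∈ preimageAlong θ P' := mem_preimageAlong.2 ⟨hx, by rw [hxy]; exact y.2⟩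
    have h1 := hpow (p ^ k * j) ⟨x, hxm⟩
    rw [pow_mul (β : MulAut P'), hj, show (⟨_, hm ⟨x, hxm⟩⟩ : P') = y from Subtype.ext hxy] at h1
    refine ⟨⟨x, hx⟩⁻¹ * ⟨(((α ^ (p ^ k * j)) ⟨x, hxm⟩ : preimageAlong θ P') : Ω), hpre (Subtype.coe_prop _)⟩,
      ?_, ?_⟩
    · refine Subgroup.subset_closure ⟨_, ⟨α ^ (p ^ k * j), pow_mem hα _⟩, ⟨x, hxm⟩, hpre,
        Subgroup.subset_closure ?_, rfl⟩
      show Nat.Coprime (orderOf (⟨α ^ (p ^ k * j), _⟩ : F.autGroup _)) p
      rwa [Subgroup.orderOf_mk]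
    · rw [map_mul, map_inv, h1, hxy]
  · rw [Subgroup.map_le_iff_le_comap, Subgroup.subgroupOf, ← Subgroup.map_le_map_iff_of_injective S.subtype_injective,
      Subgroup.map_comap_eq, Subgroup.range_subtype]
    refine inf_le_right.trans (hyperfocal_le_of_coprime fun P α x hP hα => ?_)
    have hαF := (H96.mem_autGroup F hP).1 α.2
    obtain ⟨φ', hφ', hP₁, hφS, hm, hind⟩ := hmor P _ hαF
    have hmap : ∀ y, φ' y ∈ imageAlong θ P := by
      intro y
      obtain ⟨u, hu, huy⟩ := mem_imageAlong.1 y.2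
      have h1 := hind ⟨u, hu⟩
      rw [show (⟨θ ⟨u, _⟩, hm ⟨u, hu⟩⟩ : imageAlong θ P) = y from Subtype.ext huy] at h1
      rw [h1]
      exact mem_imageAlong.2 ⟨⟨_, hφS ⟨u, hu⟩⟩, ((α : MulAut P) ⟨u, hu⟩).2, rfl⟩
    obtain ⟨β, hβ, hβe⟩ := H96.exists_autGroup_of_mem E hφ' hmap
    have himS : imageAlong θ P ≤ S' := (E.le_of_mem hφ').1
    have hpow : ∀ (n : ℕ) (u : P),
        (((β ^ n) ⟨_, hm u⟩ : imageAlong θ P) : Ω') =
          θ ⟨((((α : MulAut P) ^ n) u : P) : Ω), hP (((α : MulAut P) ^ n) u).2⟩ := by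
      intro n
      induction n with
      | zero => intro u; rfl
      | succ n ih =>
        intro u
        rw [pow_succ', MulAut.mul_apply, hβe, show (β ^ n) ⟨_, hm u⟩ = ⟨_, hm (((α : MulAut P) ^ n) u)⟩ from
          Subtype.ext (ih u), hind]
        congr 1
        apply Subtype.ext
        show (((α : MulAut P) (((α : MulAut P) ^ n) u) : P) : Ω) = _
        rw [pow_succ', MulAut.mul_apply]
    have hord : orderOf β ∣ orderOf α := by
      refine orderOf_dvd_of_pow_eq_one (MulEquiv.ext fun y => Subtype.ext ?_)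
      obtain ⟨u, hu, huy⟩ := mem_imageAlong.1 y.2
      obtain rfl : (⟨_, hm ⟨u, hu⟩⟩ : imageAlong θ P) = y := Subtype.ext huy
      rw [hpow]
      refine congrArg θ (Subtype.ext ?_)
      show ((((α : MulAut P) ^ orderOf α) ⟨u, hu⟩ : P) : Ω) = u
      rw [← SubmonoidClass.coe_pow, pow_orderOf_eq_one]
      rfl
    refine ⟨(⟨x, hP x.2⟩ : S)⁻¹ * ⟨(((α : MulAut P) x : P) : Ω), hP ((α : MulAut P) x).2⟩, ?_, rfl⟩
    show θ _ ∈ E.hyperfocalSubgroup p
    have h1 := hpow 1 x
    simp only [pow_one] at h1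
    rw [map_mul, map_inv, ← h1]
    refine Subgroup.subset_closure ⟨_, ⟨β, hβ⟩, ⟨_, hm x⟩, himS, Subgroup.subset_closure ?_, rfl⟩
    show Nat.Coprime (orderOf (⟨β, hβ⟩ : E.autGroup _)) p
    rw [Subgroup.orderOf_mk]
    exact hα.coprime_dvd_left hord

end Cfsg.Agent.H95
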