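import Cfsg.Agent.H95.Transvection

/-!
Automorphism groups of an elementary abelian group of order `p³` with a Sylow subgroup meeting no conjugate
of itself suitably: the Sylow subgroup has order at most `p`, and the torus of a pair of transvections.
-/
set_option autoImplicit false

namespace Cfsg.Agent.H95

open Subgroup

variable {M : Type*} [CommGroup M] [Finite M] {p : ℕ} [Fact p.Prime]

theorem zpow_congr_of_exp {y : M} (hy : y ^ p = 1) {a b : ℤ} (h : (p : ℤ) ∣ a - b) : y ^ a = y ^ b := by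
  obtain ⟨k, hk⟩ := h
  rw [show a = b + (p : ℤ) * k by omega, zpow_add, zpow_mul, zpow_natCast, hy, one_zpow, mul_one]

/-- A `p`-group of automorphisms has a fixed point over every invariant proper subgroup. -/
theorem exists_fixed_over (hM : IsPGroup p M) {R : Subgroup (MulAut M)} (hR : IsPGroup p R) {K : Subgroup M}
    (hK : ∀ r ∈ R, ∀ k ∈ K, r k ∈ K) (hne : K ≠ ⊤) : ∃ m, m ∉ K ∧ ∀ r ∈ R, m⁻¹ * r m ∈ K := by
  let f : R → (M ⧸ K →* M ⧸ K) := fun r =>
    QuotientGroup.map K K (r : MulAut M).toMonoidHom fun k hk => hK r r.2 k hk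
  letI : MulAction R (M ⧸ K) :=
    { smul := fun r x => f r x
      one_smul := fun x => by induction x using QuotientGroup.induction_on; rfl
      mul_smul := fun a b x => by induction x using QuotientGroup.induction_on; rfl }
  have hfix : (1 : M ⧸ K) ∈ MulAction.fixedPoints R (M ⧸ K) := fun r => map_one (f r)
  have hdvd : p ∣ Nat.card (M ⧸ K) := by
    obtain ⟨n, hn⟩ := (hM.to_quotient K).exists_card_eq
    rw [hn]
    refine dvd_pow_self p fun h => hne ?_
    rw [h, pow_zero, ← Subgroup.index_eq_card] at hn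
    exact Subgroup.index_eq_one.1 hn
  obtain ⟨x, hx, hxne⟩ := hR.exists_fixed_point_of_prime_dvd_card_of_fixed_point (M ⧸ K) hdvd hfix
  obtain ⟨m, rfl⟩ := QuotientGroup.mk_surjective x
  refine ⟨m, fun h => hxne ((QuotientGroup.eq_one_iff m).2 h).symm, fun r hr => ?_⟩
  have h1 : ((r m : M) : M ⧸ K) = (m : M ⧸ K) := hx ⟨r, hr⟩
  exact QuotientGroup.eq.1 h1.symm

theorem apply_zpow_apply {g : MulAut M} {m : M} (h : g m = m) : ∀ k : ℤ, (g ^ k) m = m := by
  intro k
  have := zpow_apply_of_fixed g (m := m) (d := 1) (by rw [h, mul_one]) (map_one g) k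
  rwa [one_zpow, mul_one] at this

/-- The swap built from two transvections that do not fix each other's centres. -/
theorem exists_swap (hexp : ∀ m : M, m ^ p = 1) {t u : MulAut M} {z c : M} (htz : t z = z) (huc : u c = c)
    {α γ : ℤ} (hα : t c = c * z ^ α) (hγ : u z = z * c ^ γ) (hαp : ¬ (p : ℤ) ∣ α) (hγp : ¬ (p : ℤ) ∣ γ)
    {A B : ℤ} (hAB : (p : ℤ) ∣ A * B + 1) :
    ∃ w ∈ closure ({t, u} : Set (MulAut M)), w z = c ^ B ∧ w c = z ^ A := by
  have hpr := Nat.prime_iff_prime_int.1 (Fact.out : p.Prime)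
  obtain ⟨a1, a2, ha⟩ := (Prime.coprime_iff_not_dvd hpr).2 hαp
  obtain ⟨b1, b2, hb⟩ := (Prime.coprime_iff_not_dvd hpr).2 hγp
  obtain ⟨s, hs⟩ := hAB
  obtain ⟨w, hw⟩ : ∃ w, w = t ^ (A * a2) * u ^ (B * b2) * t ^ (A * a2) := ⟨_, rfl⟩
  have e1 : (p : ℤ) ∣ α * (A * a2) - A := ⟨-(A * a1), by linear_combination A * ha⟩
  have e2 : (p : ℤ) ∣ γ * (B * b2) - B := ⟨-(B * b1), by linear_combination B * hb⟩
  have hT : ∀ k : ℤ, (t ^ k) c = c * (z ^ α) ^ k := fun k => zpow_apply_of_fixed t hα (by rw [map_zpow, htz]) k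
  have hU : ∀ k : ℤ, (u ^ k) z = z * (c ^ γ) ^ k := fun k => zpow_apply_of_fixed u hγ (by rw [map_zpow, huc]) k
  have hTc : (t ^ (A * a2)) c = c * z ^ A := by rw [hT, ← zpow_mul, zpow_congr_of_exp (hexp z) e1]
  have hUz : (u ^ (B * b2)) z = z * c ^ B := by rw [hU, ← zpow_mul, zpow_congr_of_exp (hexp c) e2]
  refine ⟨w, hw ▸ mul_mem (mul_mem (zpow_mem (subset_closure (Set.mem_insert t _)) _)
    (zpow_mem (subset_closure (show u ∈ ({t, u} : Set (MulAut M)) from Set.mem_insert_of_mem _ rfl)) _)) (zpow_mem (subset_closure (Set.mem_insert t _)) _), ?_, ?_⟩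
  · rw [hw, MulAut.mul_apply, MulAut.mul_apply, apply_zpow_apply htz, hUz, map_mul, map_zpow, hTc,
      apply_zpow_apply htz, mul_zpow, ← zpow_mul, mul_left_comm, ← zpow_one_add,
      zpow_congr_of_exp (hexp z) (a := 1 + A * B) (b := 0) ⟨s, by linear_combination hs⟩, zpow_zero, mul_one]
  · have h2 : (u ^ (B * b2)) (c * z ^ A) = z ^ A := by
      rw [map_mul, map_zpow, apply_zpow_apply huc, hUz, mul_zpow, ← zpow_mul, mul_left_comm, ← zpow_one_add,
        zpow_congr_of_exp (hexp c) (a := 1 + B * A) (b := 0) ⟨s, by linear_combination hs⟩, zpow_zero, mul_one]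
    rw [hw, MulAut.mul_apply, MulAut.mul_apply, hTc, h2, map_zpow, apply_zpow_apply htz]

/-- The torus of a pair of transvections. -/
theorem exists_torus (hexp : ∀ m : M, m ^ p = 1) {t u : MulAut M} {z c : M} (htz : t z = z) (huc : u c = c)
    (ht : ∀ m, ∃ i : ℤ, t m = m * z ^ i) (hu : ∀ m, ∃ i : ℤ, u m = m * c ^ i)
    (hnp : ¬ IsPGroup p (closure ({t, u} : Set (MulAut M)))) {i j : ℤ} (hij : (p : ℤ) ∣ i * j - 1) :
    t c ≠ c ∧ ∃ β ∈ closure ({t, u} : Set (MulAut M)), β z = z ^ i ∧ β c = c ^ j ∧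
      ∀ m, t m = m → u m = m → β m = m := by
  have htc : t c ≠ c := fun h => hnp (transvection_pGroup hexp t u z c htz huc ht hu h)
  have huz : u z ≠ z := fun h => hnp (by
    have := transvection_pGroup hexp u t c z huc htz hu ht h
    rwa [Set.pair_comm] at this)
  obtain ⟨α, hα⟩ := ht c
  obtain ⟨γ, hγ⟩ := hu z
  have hαp : ¬ (p : ℤ) ∣ α := fun h => htc (by
    rw [hα, zpow_congr_of_exp (hexp z) (b := 0) (by rwa [sub_zero]), zpow_zero, mul_one])
  have hγp : ¬ (p : ℤ) ∣ γ := fun h => huz (by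
    rw [hγ, zpow_congr_of_exp (hexp c) (b := 0) (by rwa [sub_zero]), zpow_zero, mul_one])
  obtain ⟨k, hk⟩ := hij
  obtain ⟨w1, hw1, hw1z, hw1c⟩ := exists_swap hexp htz huc hα hγ hαp hγp (A := i) (B := -j)
    ⟨-k, by linear_combination -hk⟩
  obtain ⟨w2, hw2, hw2z, hw2c⟩ := exists_swap hexp htz huc hα hγ hαp hγp (A := -1) (B := 1) ⟨0, by ring⟩
  refine ⟨htc, w1 * w2, mul_mem hw1 hw2, ?_, ?_, fun m h1 h2 => ?_⟩
  · rw [MulAut.mul_apply, hw2z, map_zpow, hw1c, zpow_one]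
  · rw [MulAut.mul_apply, hw2c, map_zpow, hw1z, ← zpow_mul, mul_neg_one, neg_neg]
  · have : closure ({t, u} : Set (MulAut M)) ≤
        MulAction.stabilizer (MulAut M) m := (closure_le _).2 (by
      rintro _ (rfl | rfl)
      exacts [h1, h2])
    exact this (mul_mem hw1 hw2)

variable {X R : Subgroup (MulAut M)}

/-- The Sylow subgroup of a suitable group of automorphisms of a group of order `p³` has order at most `p`. -/
theorem card_sylow_le (hexp : ∀ m : M, m ^ p = 1) (hcard : Nat.card M = p ^ 3) (hRX : R ≤ X) (hR : IsPGroup p R)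
    (hconj : ∀ L ≤ X, IsPGroup p L → ∃ σ ∈ X, ∀ l ∈ L, σ * l * σ⁻¹ ∈ R)
    (hY : ∃ g ∈ X, ∀ a ∈ R, ∀ b ∈ R, a ≠ 1 → b ≠ 1 →
      ¬ IsPGroup p (closure ({a, g * b * g⁻¹} : Set (MulAut M)))) : Nat.card R ≤ p := by
  by_contra hbig
  push Not at hbig
  have hp : p.Prime := Fact.out
  have hMp : IsPGroup p M := fun m => ⟨1, by rw [pow_one]; exact hexp m⟩
  obtain ⟨g, hgX, hg⟩ := hY
  -- the flag
  have hbot : (⊥ : Subgroup M) ≠ ⊤ := fun h => by
    rw [← Subgroup.card_top (G := M), ← h, Subgroup.card_bot] at hcard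
    exact (Nat.one_lt_pow (by norm_num) hp.one_lt).ne hcard
  obtain ⟨k1, hk1, hk1f⟩ := exists_fixed_over hMp hR (K := ⊥)
    (fun r _ k hk => by rw [mem_bot] at hk ⊢; rw [hk, map_one]) hbot
  rw [mem_bot] at hk1
  simp only [mem_bot, inv_mul_eq_one] at hk1f
  set K0 := zpowers k1 with hK0
  have hK0c : Nat.card K0 = p := by rw [hK0, Nat.card_zpowers, orderOf_eq_prime (hexp k1) hk1]
  have hfix0 : ∀ r ∈ R, ∀ k ∈ K0, r k = k := by
    rintro r hr _ ⟨i, rfl⟩; simp [(hk1f r hr).symm]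
  have hK0top : K0 ≠ ⊤ := fun h => by
    rw [h, card_top, hcard] at hK0c
    exact absurd (Nat.pow_right_injective hp.two_le (hK0c.trans (pow_one p).symm)) (by norm_num)
  obtain ⟨k2, hk2, hk2f⟩ := exists_fixed_over hMp hR (K := K0) (fun r hr k hk => by rwa [hfix0 r hr k hk]) hK0top
  set H := K0 ⊔ zpowers k2 with hH
  have hk1H : k1 ∈ H := mem_sup_left (mem_zpowers k1)
  have hk2H : k2 ∈ H := mem_sup_right (mem_zpowers k2)
  have hd1 : ∀ r ∈ R, ∀ h ∈ H, h⁻¹ * r h ∈ K0 := by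
    intro r hr h hh
    obtain ⟨a, ha, _, ⟨i, rfl⟩, rfl⟩ := Subgroup.mem_sup.1 hh
    have e : (a * k2 ^ i)⁻¹ * r (a * k2 ^ i) = (k2⁻¹ * r k2) ^ i := by
      rw [map_mul, map_zpow, hfix0 r hr a ha, mul_zpow, inv_zpow, _root_.mul_inv, mul_mul_mul_comm,
        inv_mul_cancel, one_mul]
    rw [e]
    exact zpow_mem (hk2f r hr) i
  have hHinv : ∀ r ∈ R, ∀ h ∈ H, r h ∈ H := fun r hr h hh => by
    have := mul_mem hh (mem_sup_left (T := zpowers k2) (hd1 r hr h hh))
    rwa [mul_inv_cancel_left] at this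
  have hHc : Nat.card H = p ^ 2 := by
    have h1 : K0.relIndex H = p := by
      have hqo : orderOf (QuotientGroup.mk' K0 k2) = p :=
        orderOf_eq_prime (by rw [← map_pow, hexp, map_one]) (fun h => hk2 ((QuotientGroup.eq_one_iff k2).1 h))
      have hq : Nat.card (H.map (QuotientGroup.mk' K0)) = p := by
        rw [hH, Subgroup.map_sup, show K0.map (QuotientGroup.mk' K0) = ⊥ from
          (Subgroup.map_eq_bot_iff _).2 (by rw [QuotientGroup.ker_mk']), bot_sup_eq, MonoidHom.map_zpowers,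
          Nat.card_zpowers]
        exact hqo
      have h := Subgroup.index_ker ((QuotientGroup.mk' K0).domRestrict H)
      rw [MonoidHom.domRestrict_range, hq] at h
      rw [← h]
      show _ = (((QuotientGroup.mk' K0).domRestrict H).ker).index
      rw [show ((QuotientGroup.mk' K0).domRestrict H).ker = K0.subgroupOf H by
        ext w; simp [MonoidHom.mem_ker, mem_subgroupOf]]
      rfl
    have h2 := relIndex_mul_relIndex (⊥ : Subgroup M) K0 H bot_le le_sup_left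
    rw [relIndex_bot_left, relIndex_bot_left, h1, hK0c] at h2
    rw [← h2, pow_two]
  have hHidx : H.index = p := by
    have h := H.index_mul_card
    rw [hHc, hcard, show p ^ 3 = p * p ^ 2 by ring] at h
    exact Nat.eq_of_mul_eq_mul_right (pow_pos hp.pos 2) h
  have hHtop : H ≠ ⊤ := fun h => by rw [h, index_top] at hHidx; exact hp.ne_one hHidx.symm
  obtain ⟨k3, hk3, hk3f⟩ := exists_fixed_over hMp hR (K := H) hHinv hHtop
  have hgen : ∀ {c : M}, c ∉ H → ∀ m : M, ∃ h ∈ H, ∃ i : ℤ, m = h * c ^ i := by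
    intro c hc m
    have htop : H ⊔ zpowers c = ⊤ := by
      refine index_eq_one.1 ?_
      have hd := index_dvd_of_le (le_sup_left : H ≤ H ⊔ zpowers c)
      rw [hHidx] at hd
      rcases (Nat.dvd_prime hp).1 hd with h | h
      · exact h
      · exfalso
        have e := relIndex_mul_index (le_sup_left : H ≤ H ⊔ zpowers c)
        rw [hHidx, h, mul_eq_right₀ hp.ne_zero] at e
        exact hc (relIndex_eq_one.1 e (mem_sup_right (mem_zpowers c)))
    obtain ⟨h, hh, _, ⟨i, rfl⟩, rfl⟩ := Subgroup.mem_sup.1 (htop.ge (mem_top m))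
    exact ⟨h, hh, i, rfl⟩
  have hdisp : ∀ (r : MulAut M) (h c : M) (i : ℤ),
      (h * c ^ i)⁻¹ * r (h * c ^ i) = (h⁻¹ * r h) * (c⁻¹ * r c) ^ i := fun r h c i => by
    rw [map_mul, map_zpow, mul_zpow, inv_zpow, _root_.mul_inv, mul_mul_mul_comm]
  have hd2 : ∀ r ∈ R, ∀ m, m⁻¹ * r m ∈ H := by
    intro r hr m
    obtain ⟨h, hh, i, rfl⟩ := hgen hk3 m
    rw [hdisp]
    exact mul_mem (mem_sup_left (hd1 r hr h hh)) (zpow_mem (hk3f r hr) i)
  have hext : ∀ {a b : MulAut M}, (∀ h ∈ H, a h = b h) → a k3 = b k3 → a = b := by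
    intro a b h1 h2
    refine MulEquiv.ext fun m => ?_
    obtain ⟨h, hh, i, rfl⟩ := hgen hk3 m
    rw [map_mul, map_mul, map_zpow, map_zpow, h1 h hh, h2]
  let Ra : Subgroup (MulAut M) :=
    { carrier := {r | r ∈ R ∧ ∀ h ∈ H, r h = h}
      one_mem' := ⟨one_mem R, fun _ _ => rfl⟩
      mul_mem' := fun {a b} ha hb => ⟨mul_mem ha.1 hb.1, fun h hh => by rw [MulAut.mul_apply, hb.2 h hh, ha.2 h hh]⟩
      inv_mem' := fun {a} ha => ⟨inv_mem ha.1, fun h hh => a.symm_apply_eq.2 (ha.2 h hh).symm⟩ }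
  let Rb : Subgroup (MulAut M) :=
    { carrier := {r | r ∈ R ∧ ∀ m, m⁻¹ * r m ∈ K0}
      one_mem' := ⟨one_mem R, fun m => by simp⟩
      mul_mem' := fun {a b} ha hb => ⟨mul_mem ha.1 hb.1, fun m => by
        have := mul_mem (hb.2 m) (ha.2 (b m))
        rwa [mul_assoc, mul_inv_cancel_left] at this⟩
      inv_mem' := fun {a} ha => ⟨inv_mem ha.1, fun m => by
        have := inv_mem (ha.2 (a⁻¹ m))
        rw [show a (a⁻¹ m) = m from a.apply_symm_apply m] at this
        simpa using this⟩ }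
  have hRa : Ra ≤ R := fun r hr => hr.1
  have hRb : Rb ≤ R := fun r hr => hr.1
  have hna : ∀ r ∈ R, ∀ a ∈ Ra, r * a * r⁻¹ ∈ Ra := fun r hr a ha =>
    ⟨mul_mem (mul_mem hr ha.1) (inv_mem hr), fun h hh => by
      rw [MulAut.mul_apply, MulAut.mul_apply, ha.2 _ (hHinv _ (inv_mem hr) h hh)]
      exact r.apply_symm_apply h⟩
  have hnb : ∀ r ∈ R, ∀ b ∈ Rb, r * b * r⁻¹ ∈ Rb := fun r hr b hb =>
    ⟨mul_mem (mul_mem hr hb.1) (inv_mem hr), fun m => by
      obtain ⟨y, rfl⟩ := r.surjective m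
      rw [MulAut.mul_apply, MulAut.mul_apply, show r⁻¹ (r y) = y from r.symm_apply_apply y, ← map_inv, ← map_mul,
        hfix0 r hr _ (hb.2 y)]
      exact hb.2 y⟩
  -- transvections in `R`
  have htv : ∀ r ∈ R, ∀ W : Subgroup M, W.index = p → (∀ x ∈ W, r x = x) → r ∈ Ra ∨ r ∈ Rb := by
    intro r hr W hW hWf
    by_cases hHW : H ≤ W
    · exact Or.inl ⟨hr, fun h hh => hWf h (hHW hh)⟩
    refine Or.inr ⟨hr, fun m => ?_⟩
    have htop : W ⊔ H = ⊤ := by
      refine index_eq_one.1 ?_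
      have hd := index_dvd_of_le (le_sup_left : W ≤ W ⊔ H)
      rw [hW] at hd
      rcases (Nat.dvd_prime hp).1 hd with h | h
      · exact h
      · exfalso
        have e := relIndex_mul_index (le_sup_left : W ≤ W ⊔ H)
        rw [hW, h, mul_eq_right₀ hp.ne_zero] at e
        exact hHW (le_sup_right.trans (relIndex_eq_one.1 e))
    obtain ⟨v, hv, h, hh, rfl⟩ := Subgroup.mem_sup.1 (htop.ge (mem_top m))
    rw [map_mul, hWf v hv, _root_.mul_inv, mul_mul_mul_comm, inv_mul_cancel, one_mul]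
    exact hd1 r hr h hh
  -- a nontrivial element in both
  have hR0c : Nat.card ↥(Ra ⊓ Rb) ≤ p := by
    rw [← hK0c]
    refine Nat.card_le_card_of_injective (fun r : ↥(Ra ⊓ Rb) => (⟨k3⁻¹ * (r : MulAut M) k3, r.2.2.2 k3⟩ : K0))
      fun a b hab => Subtype.ext (hext (fun h hh => by rw [a.2.1.2 h hh, b.2.1.2 h hh]) ?_)
    simpa using congrArg Subtype.val hab
  have hRbig : ∀ A : Subgroup (MulAut M), A ≤ R → p < Nat.card A → p ^ 2 ≤ Nat.card A := by
    intro A hA hlt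
    obtain ⟨n, hn⟩ := (hR.to_le hA).exists_card_eq
    rw [hn] at hlt ⊢
    refine Nat.pow_le_pow_right hp.pos ?_
    by_contra h
    have := Nat.pow_le_pow_right hp.pos (show n ≤ 1 by omega)
    rw [pow_one] at this
    omega
  have hcardA : Ra ≠ ⊥ := by
    intro h
    have : Nat.card R ≤ Nat.card K0 := by
      refine Nat.card_le_card_of_injective (fun r : R => (⟨k2⁻¹ * (r : MulAut M) k2, hk2f r r.2⟩ : K0)) fun a b hab => ?_
      have h1 : (a : MulAut M) k2 = (b : MulAut M) k2 := by simpa using congrArg Subtype.val hab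
      have h2 : (b : MulAut M)⁻¹ * a ∈ Ra := ⟨mul_mem (inv_mem b.2) a.2, fun v hv => by
        obtain ⟨k, hk, _, ⟨i, rfl⟩, rfl⟩ := Subgroup.mem_sup.1 hv
        rw [MulAut.mul_apply, map_mul, map_zpow, h1, hfix0 _ a.2 k hk]
        show (b : MulAut M)⁻¹ (k * (b : MulAut M) k2 ^ i) = _
        rw [map_mul, hfix0 _ (inv_mem b.2) k hk, map_zpow,
          show (b : MulAut M)⁻¹ ((b : MulAut M) k2) = k2 from (b : MulAut M).symm_apply_apply k2]⟩
      rw [h, mem_bot, inv_mul_eq_one] at h2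
      exact Subtype.ext h2.symm
    omega
  have hcardB : Rb ≠ ⊥ := by
    intro h
    have hq : Nat.card (H.map (QuotientGroup.mk' K0)) ≤ p := by
      rw [hH, Subgroup.map_sup, show K0.map (QuotientGroup.mk' K0) = ⊥ from
        (Subgroup.map_eq_bot_iff _).2 (by rw [QuotientGroup.ker_mk']), bot_sup_eq, MonoidHom.map_zpowers,
        Nat.card_zpowers]
      exact orderOf_le_of_pow_eq_one hp.pos (show (QuotientGroup.mk' K0 k2) ^ p = 1 by rw [← map_pow, hexp, map_one])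
    have : Nat.card R ≤ Nat.card (H.map (QuotientGroup.mk' K0)) := by
      refine Nat.card_le_card_of_injective (fun r : R =>
        (⟨QuotientGroup.mk' K0 (k3⁻¹ * (r : MulAut M) k3), mem_map_of_mem _ (hk3f r r.2)⟩ :
          H.map (QuotientGroup.mk' K0))) fun a b hab => ?_
      have h1 : (k3⁻¹ * (a : MulAut M) k3)⁻¹ * (k3⁻¹ * (b : MulAut M) k3) ∈ K0 :=
        QuotientGroup.eq.1 (congrArg Subtype.val hab)
      rw [_root_.mul_inv_rev, inv_inv, mul_assoc, mul_inv_cancel_left] at h1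
      have h2 : (a : MulAut M)⁻¹ * b ∈ Rb := ⟨mul_mem (inv_mem a.2) b.2, fun m => by
        obtain ⟨v, hv, i, rfl⟩ := hgen hk3 m
        rw [hdisp]
        refine mul_mem (hd1 _ (mul_mem (inv_mem a.2) b.2) v hv) (zpow_mem ?_ i)
        have h3 : (a : MulAut M)⁻¹ (((a : MulAut M) k3)⁻¹ * (b : MulAut M) k3) ∈ K0 := by
          rw [hfix0 _ (inv_mem a.2) _ h1]; exact h1
        rw [map_mul, map_inv, show (a : MulAut M)⁻¹ ((a : MulAut M) k3) = k3 from
          (a : MulAut M).symm_apply_apply k3] at h3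
        exact h3⟩
      rw [h, mem_bot, inv_mul_eq_one] at h2
      exact Subtype.ext h2
    omega
  obtain ⟨z, hz, hz1⟩ : ∃ z ∈ Ra ⊓ Rb, z ≠ 1 := by
    by_contra hno
    push Not at hno
    obtain ⟨a, ha, ha1⟩ := Ra.bot_or_exists_ne_one.resolve_left hcardA
    obtain ⟨b, hb, hb1⟩ := Rb.bot_or_exists_ne_one.resolve_left hcardB
    have hab : a * b * a⁻¹ * b⁻¹ = 1 := hno _ (Subgroup.mem_inf.2 ⟨by
      rw [show a * b * a⁻¹ * b⁻¹ = a * (b * a⁻¹ * b⁻¹) by group]
      exact mul_mem ha (hna b hb.1 _ (inv_mem ha)), mul_mem (hnb a ha.1 b hb) (inv_mem hb)⟩)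
    have hcomm : a * b = b * a := by rwa [mul_inv_eq_one, mul_inv_eq_iff_eq_mul] at hab
    have hbk : ¬ (b k2 = k2) := by
      intro h
      refine hb1 (hno b ⟨⟨hb.1, fun v hv => ?_⟩, hb⟩)
      obtain ⟨k, hk, _, ⟨i, rfl⟩, rfl⟩ := Subgroup.mem_sup.1 hv
      rw [map_mul, map_zpow, h, hfix0 _ hb.1 k hk]
    have hh : k3⁻¹ * a k3 ∈ H := hk3f a ha.1
    have hk : k3⁻¹ * b k3 ∈ K0 := hb.2 k3
    obtain ⟨k, hk', _, ⟨i, rfl⟩, hsum⟩ := Subgroup.mem_sup.1 hh
    have hi : ¬ (p : ℤ) ∣ i := by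
      intro hd
      refine ha1 (hno a ⟨ha, ha.1, fun m => ?_⟩)
      obtain ⟨v, hv, l, rfl⟩ := hgen hk3 m
      rw [hdisp, ha.2 v hv, inv_mul_cancel, one_mul, ← hsum]
      refine zpow_mem (mul_mem hk' ?_) l
      simp only
      rw [zpow_congr_of_exp (hexp k2) (b := 0) (by rwa [sub_zero]), zpow_zero]
      exact one_mem K0
    have hb3 : b k3 = k3 * (k3⁻¹ * b k3) := by rw [mul_inv_cancel_left]
    have ha3 : a k3 = k3 * (k * k2 ^ i) := by
      show a k3 = k3 * (k * k2 ^ i)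
      rw [hsum, mul_inv_cancel_left]
    have h1 : (a * b) k3 = a k3 * (k3⁻¹ * b k3) := by
      rw [MulAut.mul_apply, hb3, map_mul, hfix0 a ha.1 _ hk, ← hb3]
    have h2 : (b * a) k3 = b k3 * (k * b k2 ^ i) := by
      rw [MulAut.mul_apply, ha3, map_mul, map_mul, map_zpow, hfix0 b hb.1 k hk']
    rw [hcomm, h2, ha3] at h1
    have h3 : b k2 ^ i = k2 ^ i := by
      have e : k3 * (k * k2 ^ i) * (k3⁻¹ * b k3) = b k3 * (k * k2 ^ i) := by
        rw [mul_comm k3, mul_assoc, mul_inv_cancel_left, mul_comm]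
      rw [e] at h1
      exact mul_left_cancel (mul_left_cancel h1)
    obtain ⟨u1, u2, hu⟩ := (Prime.coprime_iff_not_dvd (Nat.prime_iff_prime_int.1 hp)).2 hi
    refine hbk ?_
    have h4 : ∀ v : M, v = (v ^ i) ^ u2 := fun v => by
      rw [← zpow_mul, zpow_congr_of_exp (hexp v) (a := i * u2) (b := 1) ⟨-u1, by linear_combination hu⟩, zpow_one]
    rw [h4 (b k2), h3, ← h4]
  -- the conjugated transvection
  obtain ⟨hza, hzb⟩ := hz
  have hz' : ∀ m, ∃ i : ℤ, z m = m * k1 ^ i := fun m => by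
    obtain ⟨i, hi⟩ := hzb.2 m
    exact ⟨i, by rw [show k1 ^ i = m⁻¹ * z m from hi, mul_inv_cancel_left]⟩
  set c := g k1 with hc
  set z' := g * z * g⁻¹ with hz'def
  have hginv : ∀ m, g⁻¹ (g m) = m := fun m => g.symm_apply_apply m
  have hgc : ∀ m, g (g⁻¹ m) = m := fun m => g.apply_symm_apply m
  have hz'c : z' c = c := by rw [hz'def, MulAut.mul_apply, MulAut.mul_apply, hc, hginv, hza.2 _ hk1H]
  have hz'd : ∀ m, ∃ i : ℤ, z' m = m * c ^ i := fun m => by
    obtain ⟨i, hi⟩ := hz' (g⁻¹ m)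
    exact ⟨i, by rw [hz'def, MulAut.mul_apply, MulAut.mul_apply, hi, map_mul, map_zpow, hgc, hc]⟩
  have hnp : ∀ a ∈ R, a ≠ 1 → ¬ IsPGroup p (closure ({a, z'} : Set (MulAut M))) := fun a ha ha1 =>
    hg a ha z hza.1 ha1 hz1
  have hcH : c ∉ H := fun h =>
    hnp z hza.1 hz1 (transvection_pGroup hexp z z' k1 c (hza.2 _ hk1H) hz'c hz' hz'd (hza.2 c h))
  -- transvections with common centre
  have hbsmall : Nat.card Rb ≤ p := by
    by_contra hlt
    push Not at hlt
    let f : Rb →* K0 := MonoidHom.mk' (fun r => ⟨c⁻¹ * (r : MulAut M) c, r.2.2 c⟩) fun a b => Subtype.ext (by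
      show c⁻¹ * ((a : MulAut M) * b) c = c⁻¹ * (a : MulAut M) c * (c⁻¹ * (b : MulAut M) c)
      have e : (a : MulAut M) ((b : MulAut M) c) = (a : MulAut M) c * (c⁻¹ * (b : MulAut M) c) := by
        conv_lhs => rw [show (b : MulAut M) c = c * (c⁻¹ * (b : MulAut M) c) by rw [mul_inv_cancel_left]]
        rw [map_mul, hfix0 _ a.2.1 _ (b.2.2 c)]
      rw [MulAut.mul_apply, e, mul_assoc])
    obtain ⟨⟨r, hr⟩, hrk, hr1⟩ : ∃ r : Rb, r ∈ f.ker ∧ r ≠ 1 := by
      refine f.ker.bot_or_exists_ne_one.resolve_left fun h => ?_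
      have := Nat.card_le_card_of_injective f ((MonoidHom.ker_eq_bot_iff f).1 h)
      omega
    have hrc : r c = c := (inv_mul_eq_one.1 (congrArg Subtype.val (MonoidHom.mem_ker.1 hrk))).symm
    refine hnp r hr.1 (fun e => hr1 (Subtype.ext e)) (transvection_pGroup hexp r z' k1 c (hk1f r hr.1).symm hz'c
      (fun m => ?_) hz'd hrc)
    obtain ⟨i, hi⟩ := hr.2 m
    exact ⟨i, by rw [show k1 ^ i = m⁻¹ * r m from hi, mul_inv_cancel_left]⟩
  -- transvections with common axis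
  have hasmall : Nat.card Ra ≤ p := by
    by_contra hlt
    push Not at hlt
    obtain ⟨h, ⟨hhH, hhg⟩, hh1⟩ : ∃ h ∈ H ⊓ H.map g.toMonoidHom, h ≠ 1 := by
      refine (H ⊓ H.map g.toMonoidHom).bot_or_exists_ne_one.resolve_left fun h => ?_
      have h1 : (H.map g.toMonoidHom).relIndex H ≤ (H.map g.toMonoidHom).index :=
        Nat.le_of_dvd (Nat.pos_of_ne_zero FiniteIndex.index_ne_zero) (relIndex_dvd_index_of_normal _ _)
      rw [show (H.map g.toMonoidHom).index = p by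
        rw [← hHidx]; exact index_map_equiv H g, ← inf_relIndex_right, inf_comm, h, relIndex_bot_left, hHc] at h1
      have := hp.one_lt
      nlinarith
    let fa : Ra → H := fun r => ⟨k3⁻¹ * (r : MulAut M) k3, hk3f r r.2.1⟩
    have hinj : Function.Injective fa := fun a b hab => Subtype.ext (hext (fun v hv => by
      rw [a.2.2 v hv, b.2.2 v hv]) (mul_left_cancel (congrArg Subtype.val hab)))
    have hsurj : Function.Surjective fa := ((Nat.bijective_iff_injective_and_card _).2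
      ⟨hinj, le_antisymm (Nat.card_le_card_of_injective fa hinj) (hHc ▸ hRbig Ra hRa hlt)⟩).2
    obtain ⟨⟨r, hr⟩, hrh⟩ := hsurj ⟨h, hhH⟩
    have hrh' : k3⁻¹ * r k3 = h := congrArg Subtype.val hrh
    have hz'h : z' h = h := by
      obtain ⟨v, hv, rfl⟩ := hhg
      show z' (g v) = g v
      rw [hz'def, MulAut.mul_apply, MulAut.mul_apply, hginv, hza.2 v hv]
    refine hnp r hr.1 (fun e => hh1 (by rw [← hrh', e, MulAut.one_apply, inv_mul_cancel])) ?_
    rw [Set.pair_comm]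
    refine transvection_pGroup hexp z' r c h hz'c (hr.2 h hhH) hz'd (fun m => ?_) hz'h
    obtain ⟨v, hv, i, rfl⟩ := hgen hk3 m
    refine ⟨i, ?_⟩
    rw [map_mul, hr.2 v hv, map_zpow, ← hrh', mul_zpow, inv_zpow, ← mul_assoc (v * k3 ^ i), mul_inv_cancel_right]
  -- a regular element
  have heq0 : ∀ r, r ∈ Ra ∨ r ∈ Rb → r ∈ Ra ⊓ Rb := by
    have hp0 : p ≤ Nat.card ↥(Ra ⊓ Rb) := by
      obtain ⟨n, hn⟩ := (hR.to_le (inf_le_left.trans hRa : Ra ⊓ Rb ≤ R)).exists_card_eq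
      rw [hn]
      refine Nat.le_self_pow (fun e => hz1 ?_) p
      rw [e, pow_zero, card_eq_one] at hn
      exact (eq_bot_iff.1 hn ⟨hza, hzb⟩ : z ∈ (⊥ : Subgroup (MulAut M)))
    rintro r (hr | hr)
    · exact (eq_of_le_of_card_ge inf_le_left (hasmall.trans hp0)).ge hr
    · exact (eq_of_le_of_card_ge inf_le_right (hbsmall.trans hp0)).ge hr
  have hflag : ∀ h ∈ X, IsPGroup p (closure ({z, h * z * h⁻¹} : Set (MulAut M))) → ∀ k ∈ K0, h k ∈ K0 := by
    intro h hh hL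
    have hLX : closure ({z, h * z * h⁻¹} : Set (MulAut M)) ≤ X := (closure_le _).2 (by
      rintro _ (rfl | rfl)
      exacts [hRX hza.1, mul_mem (mul_mem hh (hRX hza.1)) (inv_mem hh)])
    obtain ⟨σ, hσX, hσ⟩ := hconj _ hLX hL
    have key : ∀ τ : MulAut M, τ * z * τ⁻¹ ∈ R → ∀ k, τ k ∈ K0 ↔ k ∈ K0 := by
      intro τ hτ
      have hin : τ * z * τ⁻¹ ∈ Ra ⊓ Rb := heq0 _ (htv _ hτ (H.map τ.toMonoidHom)
        (by rw [← hHidx]; exact index_map_equiv H τ) (by
        rintro _ ⟨v, hv, rfl⟩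
        show (τ * z * τ⁻¹) (τ v) = τ v
        rw [MulAut.mul_apply, MulAut.mul_apply, show τ⁻¹ (τ v) = v from τ.symm_apply_apply v, hza.2 v hv]))
      have hne : k3⁻¹ * z k3 ≠ 1 := fun e => hz1 (hext (fun v hv => hza.2 v hv) (inv_mul_eq_one.1 e).symm)
      have hmem : k3⁻¹ * z k3 ∈ K0 := hzb.2 k3
      have hline : zpowers (k3⁻¹ * z k3) = K0 := eq_of_le_of_card_ge (zpowers_le.2 hmem)
        (by rw [hK0c, Nat.card_zpowers, orderOf_eq_prime (hexp _) hne])
      have hdisp' : (τ k3)⁻¹ * (τ * z * τ⁻¹) (τ k3) = τ (k3⁻¹ * z k3) := by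
        rw [MulAut.mul_apply, MulAut.mul_apply, show τ⁻¹ (τ k3) = k3 from τ.symm_apply_apply k3, map_mul, map_inv]
      have h0 : τ (k3⁻¹ * z k3) ∈ K0 := hdisp' ▸ hin.2.2 (τ k3)
      have hle : K0.map τ.toMonoidHom ≤ K0 := by
        rw [← hline, MonoidHom.map_zpowers, zpowers_le, hline]; exact h0
      have heq : K0.map τ.toMonoidHom = K0 :=
        eq_of_le_of_card_ge hle (by rw [card_map_of_injective τ.injective])
      intro k
      refine ⟨fun hk => ?_, fun hk => hle (mem_map_of_mem _ hk)⟩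
      obtain ⟨v, hv, hvk⟩ := heq.ge hk
      exact τ.injective hvk ▸ hv
    have h1 := key σ (hσ z (subset_closure (Set.mem_insert z _)))
    have h2 := key (σ * h) (by
      have := hσ (h * z * h⁻¹) (subset_closure (Set.mem_insert_of_mem _ rfl))
      rwa [show σ * (h * z * h⁻¹) * σ⁻¹ = σ * h * z * (σ * h)⁻¹ by group] at this)
    exact fun k hk => (h1 (h k)).1 ((h2 k).2 hk)
  obtain ⟨w, hwR, hw⟩ : ∃ w ∈ R, w ∉ Ra ⊓ Rb := by
    by_contra hno
    push Not at hno
    exact absurd ((card_le_of_le (fun r hr => hno r hr : R ≤ Ra ⊓ Rb)).trans hR0c) (by omega)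
  have hwX := hRX hwR
  have hd : c⁻¹ * w c ∈ H := hd2 w hwR c
  have hdK : c⁻¹ * w c ∉ K0 := fun h => hw (heq0 w (Or.inr ⟨hwR, fun m => by
    obtain ⟨v, hv, i, rfl⟩ := hgen hcH m
    rw [hdisp]
    exact mul_mem (hd1 w hwR v hv) (zpow_mem h i)⟩))
  obtain ⟨k, hk⟩ := hz'd (w c)
  have hkp : ¬ (p : ℤ) ∣ k := by
    intro hdvd
    have hfix : z' (w c) = w c := by
      rw [hk, zpow_congr_of_exp (hexp c) (b := 0) (by rwa [sub_zero]), zpow_zero, mul_one]
    have hcu : (w * z' * w⁻¹) (w c) = w c := by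
      rw [MulAut.mul_apply, MulAut.mul_apply, show w⁻¹ (w c) = c from w.symm_apply_apply c, hz'c]
    have hcd : ∀ m, ∃ i : ℤ, (w * z' * w⁻¹) m = m * (w c) ^ i := fun m => by
      obtain ⟨i, hi⟩ := hz'd (w⁻¹ m)
      exact ⟨i, by rw [MulAut.mul_apply, MulAut.mul_apply, hi, map_mul, map_zpow,
        show w (w⁻¹ m) = m from w.apply_symm_apply m]⟩
    have hL := transvection_pGroup hexp z' (w * z' * w⁻¹) c (w c) hz'c hcu hz'd hcd hfix
    have hL' : IsPGroup p (closure ({z, (g⁻¹ * w * g) * z * (g⁻¹ * w * g)⁻¹} : Set (MulAut M))) := by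
      have e : (closure ({z', w * z' * w⁻¹} : Set (MulAut M))).map (MulAut.conj g⁻¹).toMonoidHom =
          closure ({z, (g⁻¹ * w * g) * z * (g⁻¹ * w * g)⁻¹} : Set (MulAut M)) := by
        rw [MonoidHom.map_closure, Set.image_pair]
        congr 1
        simp only [MulEquiv.coe_toMonoidHom, MulAut.conj_apply, hz'def]
        congr 1
        all_goals first
          | group
          | (rw [Set.singleton_eq_singleton_iff]; group)
      exact e ▸ IsPGroup.of_equiv hL (Subgroup.equivMapOfInjective _ _ (MulEquiv.injective _))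
    have h1 := hflag _ (mul_mem (mul_mem (inv_mem hgX) hwX) hgX) hL' k1 (mem_zpowers k1)
    obtain ⟨i, hi⟩ := h1
    have hi' : w c = c ^ i := by
      have e := congrArg g (show k1 ^ i = (g⁻¹ * w * g) k1 from hi)
      rw [map_zpow, MulAut.mul_apply, MulAut.mul_apply, hgc, ← hc] at e
      exact e.symm
    refine hdK ?_
    have hi1 : c⁻¹ * w c ∈ H ⊓ zpowers c := Subgroup.mem_inf.2 ⟨hd, by
      rw [hi']; exact mul_mem (inv_mem (mem_zpowers c)) (zpow_mem (mem_zpowers c) i)⟩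
    obtain ⟨hH1, hzc⟩ := Subgroup.mem_inf.1 hi1
    obtain ⟨j, hj⟩ := hzc
    by_cases hjp : (p : ℤ) ∣ j
    · rw [← hj]
      simp only
      rw [zpow_congr_of_exp (hexp c) (b := 0) (by rwa [sub_zero]), zpow_zero]
      exact one_mem _
    · exfalso
      obtain ⟨a, b, hab⟩ := (Prime.coprime_iff_not_dvd (Nat.prime_iff_prime_int.1 hp)).2 hjp
      refine hcH ?_
      have := zpow_mem hH1 b
      rwa [← hj, ← zpow_mul, zpow_congr_of_exp (hexp c) (a := j * b) (b := 1) ⟨-a, by linear_combination hab⟩,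
        zpow_one] at this
  obtain ⟨a, b, hab⟩ := (Prime.coprime_iff_not_dvd (Nat.prime_iff_prime_int.1 hp)).2 hkp
  set h := z' ^ (-b) * w * g with hh
  have hhX : h ∈ X := mul_mem (mul_mem (zpow_mem (mul_mem (mul_mem hgX (hRX hza.1)) (inv_mem hgX)) _) hwX) hgX
  have hhd : h k1 = c⁻¹ * w c := by
    rw [hh, MulAut.mul_apply, MulAut.mul_apply, ← hc, zpow_apply_of_fixed z' hk (by rw [map_zpow, hz'c]) (-b),
      ← zpow_mul, zpow_congr_of_exp (hexp c) (a := k * -b) (b := -1) ⟨a, by linear_combination -hab⟩, zpow_neg_one,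
      mul_comm]
  have hzd : z (h k1) = h k1 := hza.2 _ (hhd ▸ hd)
  have hL := transvection_pGroup hexp z (h * z * h⁻¹) k1 (h k1) (hza.2 _ hk1H)
    (by rw [MulAut.mul_apply, MulAut.mul_apply, show h⁻¹ (h k1) = k1 from h.symm_apply_apply k1, hza.2 _ hk1H])
    hz' (fun m => by
      obtain ⟨i, hi⟩ := hz' (h⁻¹ m)
      exact ⟨i, by rw [MulAut.mul_apply, MulAut.mul_apply, hi, map_mul, map_zpow,
        show h (h⁻¹ m) = m from h.apply_symm_apply m]⟩) hzd
  exact hdK (hhd ▸ hflag h hhX hL k1 (mem_zpowers k1))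

end Cfsg.Agent.H95
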