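import Cfsg.Agent.H95.LinearThree

/-!
A regular unipotent automorphism of an elementary abelian group of order `p³` leaves no room for an invariant
subgroup.
-/
set_option autoImplicit false

namespace Cfsg.Agent.H95

open Subgroup

variable {M : Type*} [CommGroup M] [Finite M] {p : ℕ} [Fact p.Prime]

/-- Two automorphisms of `p`-power order of a group of order `p²` generate a `p`-group or the inversion. -/
theorem exists_inversion (hexp : ∀ m : M, m ^ p = 1) (hcard : Nat.card M = p ^ 2) {t u : MulAut M}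
    (htp : IsPGroup p (zpowers t)) (hup : IsPGroup p (zpowers u))
    (hnp : ¬ IsPGroup p (closure ({t, u} : Set (MulAut M)))) :
    (∃ z, z ≠ 1 ∧ t z = z ∧ ∀ m, m⁻¹ * t m ∈ zpowers z) ∧
      ∃ β ∈ closure ({t, u} : Set (MulAut M)), ∀ m, β m = m⁻¹ := by
  have hp : p.Prime := Fact.out
  have hMp : IsPGroup p M := fun m => ⟨1, by rw [pow_one]; exact hexp m⟩
  have hbot : (⊥ : Subgroup M) ≠ ⊤ := fun h => by
    rw [← Subgroup.card_top (G := M), ← h, Subgroup.card_bot] at hcard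
    exact (Nat.one_lt_pow (by norm_num) hp.one_lt).ne hcard
  have key : ∀ {g : MulAut M}, IsPGroup p (zpowers g) →
      ∃ z, z ≠ 1 ∧ g z = z ∧ ∀ m, m⁻¹ * g m ∈ zpowers z := by
    intro g hg
    obtain ⟨z, hz, hzf⟩ := exists_fixed_over hMp hg (K := ⊥)
      (fun r _ k hk => by rw [mem_bot] at hk ⊢; rw [hk, map_one]) hbot
    rw [mem_bot] at hz
    have hgz : ∀ r ∈ zpowers g, r z = z := fun r hr => (inv_mul_eq_one.1 (mem_bot.1 (hzf r hr))).symm
    have hzc : Nat.card (zpowers z) = p := by rw [Nat.card_zpowers, orderOf_eq_prime (hexp z) hz]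
    have hidx : (zpowers z).index = p := by
      have h := (zpowers z).index_mul_card
      rw [hzc, hcard, pow_two] at h
      exact Nat.eq_of_mul_eq_mul_right hp.pos h
    have hne : zpowers z ≠ ⊤ := fun h => by rw [h, index_top] at hidx; exact hp.ne_one hidx.symm
    obtain ⟨m0, hm0, hm0f⟩ := exists_fixed_over hMp hg (K := zpowers z)
      (fun r hr k hk => by obtain ⟨i, rfl⟩ := hk; rw [map_zpow, hgz r hr]; exact ⟨i, rfl⟩) hne
    refine ⟨z, hz, hgz g (mem_zpowers g), fun m => ?_⟩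
    have htop : zpowers z ⊔ zpowers m0 = ⊤ := by
      refine index_eq_one.1 ?_
      have hd := index_dvd_of_le (le_sup_left : zpowers z ≤ zpowers z ⊔ zpowers m0)
      rw [hidx] at hd
      rcases (Nat.dvd_prime hp).1 hd with h | h
      · exact h
      · exfalso
        have e := relIndex_mul_index (le_sup_left : zpowers z ≤ zpowers z ⊔ zpowers m0)
        rw [hidx, h, mul_eq_right₀ hp.ne_zero] at e
        exact hm0 (relIndex_eq_one.1 e (mem_sup_right (mem_zpowers m0)))
    obtain ⟨a, ha, _, ⟨i, rfl⟩, rfl⟩ := Subgroup.mem_sup.1 (htop.ge (mem_top m))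
    obtain ⟨j, rfl⟩ := ha
    simp only
    rw [map_mul, map_zpow, hgz g (mem_zpowers g), map_zpow, _root_.mul_inv, mul_mul_mul_comm, inv_mul_cancel,
      one_mul, ← inv_zpow, ← mul_zpow]
    exact zpow_mem (hm0f g (mem_zpowers g)) i
  obtain ⟨z, hz, htz, htd⟩ := key htp
  obtain ⟨c, -, huc, hud⟩ := key hup
  refine ⟨⟨z, hz, htz, htd⟩, ?_⟩
  obtain ⟨htc, β, hβ, hβz, hβc, -⟩ := exists_torus hexp htz huc
    (fun m => by obtain ⟨i, hi⟩ := htd m; exact ⟨i, by rw [show z ^ i = m⁻¹ * t m from hi, mul_inv_cancel_left]⟩)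
    (fun m => by obtain ⟨i, hi⟩ := hud m; exact ⟨i, by rw [show c ^ i = m⁻¹ * u m from hi, mul_inv_cancel_left]⟩)
    hnp (i := -1) (j := -1) ⟨0, by ring⟩
  refine ⟨β, hβ, fun m => ?_⟩
  have hcz : c ∉ zpowers z := fun h => htc (by obtain ⟨i, rfl⟩ := h; rw [map_zpow, htz])
  have htop : zpowers z ⊔ zpowers c = ⊤ := by
    refine eq_top_of_le_card _ ?_
    have h1 := H24.le_relIndex_of_lt hMp (H := zpowers z) (K := zpowers z ⊔ zpowers c)
      (fun h => hcz (h (mem_sup_right (mem_zpowers c))))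
    have h2 := relIndex_mul_relIndex (⊥ : Subgroup M) (zpowers z) (zpowers z ⊔ zpowers c) bot_le le_sup_left
    rw [relIndex_bot_left, relIndex_bot_left, Nat.card_zpowers, orderOf_eq_prime (hexp z) hz] at h2
    rw [hcard, ← h2, pow_two]
    exact Nat.mul_le_mul_left p h1
  obtain ⟨_, ⟨i, rfl⟩, _, ⟨j, rfl⟩, rfl⟩ := Subgroup.mem_sup.1 (htop.ge (mem_top m))
  rw [map_mul, map_zpow, map_zpow, hβz, hβc, zpow_neg_one, zpow_neg_one, inv_zpow, inv_zpow, _root_.mul_inv]

/-- A regular unipotent automorphism excludes an invariant subgroup. -/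
theorem false_of_invariant (hp2 : Odd p) (hexp : ∀ m : M, m ^ p = 1) (hcard : Nat.card M = p ^ 3)
    {X : Subgroup (MulAut M)} (hO : ∀ L ≤ X, (∀ a ∈ X, ∀ l ∈ L, a * l * a⁻¹ ∈ L) → IsPGroup p L → L = ⊥)
    {x x' : MulAut M} (hx : x ∈ X) (hx' : x' ∈ X) (hxp : IsPGroup p (zpowers x)) (hxp' : IsPGroup p (zpowers x'))
    (hnp : ¬ IsPGroup p (closure ({x, x'} : Set (MulAut M))))
    {K : Subgroup M} (hK : ∀ a ∈ X, ∀ k ∈ K, a k ∈ K) (hK1 : K ≠ ⊥) (hK2 : K ≠ ⊤)
    {v : M} (hv : x (v⁻¹ * x v) ≠ v⁻¹ * x v) : False := by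
  have hp : p.Prime := Fact.out
  have hMp : IsPGroup p M := fun m => ⟨1, by rw [pow_one]; exact hexp m⟩
  have hKi : ∀ a ∈ X, ∀ k, a k ∈ K ↔ k ∈ K := fun a ha k => ⟨fun h => by
    have := hK a⁻¹ (inv_mem ha) _ h
    rwa [show a⁻¹ (a k) = k from a.symm_apply_apply k] at this, hK a ha k⟩
  -- automorphisms in `X` agreeing on both layers
  have hlayer : ∀ a ∈ X, (∀ k ∈ K, a k = k) → (∀ m, m⁻¹ * a m ∈ K) → a = 1 := by
    let W : ℕ → Subgroup M := fun i => if i = 0 then ⊥ else if i = 1 then K else ⊤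
    intro a ha h1 h2
    refine (eq_bot_iff.1 (hO (X ⊓ chainStab W 2) inf_le_left (fun b hb l hl => ?_)
      ((isPGroup_chainStab hMp (W := W) (m := 2) rfl rfl).to_le inf_le_right)) ?_ : a ∈ (⊥ : Subgroup (MulAut M)))
    · refine Subgroup.mem_inf.2 ⟨mul_mem (mul_mem hb hl.1) (inv_mem hb), chainStab_conj (fun i hi m => ?_) hl.2⟩
      rcases (show i = 0 ∨ i = 1 ∨ i = 2 by omega) with rfl | rfl | rfl
      · simp [W]
      · simpa [W] using (hKi b hb m).symm
      · simp [W]
    · refine ⟨ha, fun i hi m hm => ?_⟩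
      rcases (show i = 0 ∨ i = 1 by omega) with rfl | rfl
      · simp only [W, zero_add, one_ne_zero, if_false, if_true] at hm ⊢
        rw [h1 m hm]
        simpa using hm
      · simp only [W, show ¬ (1 + 1 = 0) by omega, show ¬ (1 + 1 = 1) by omega, one_ne_zero, if_false, if_true]
        exact ⟨h2 m, mem_top _⟩
  set Y := closure ({x, x'} : Set (MulAut M))
  have hYX : Y ≤ X := (closure_le _).2 (by rintro _ (rfl | rfl) <;> assumption)
  have hxY : x ∈ Y := subset_closure (Set.mem_insert x _)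
  have hx'Y : x' ∈ Y := subset_closure (Set.mem_insert_of_mem _ rfl)
  have hYeq : ∀ {N : Type _} [Group N] (ρ : Y →* N), (⊤ : Subgroup Y).map ρ = closure {ρ ⟨x, hxY⟩, ρ ⟨x', hx'Y⟩} := by
    intro N _ ρ
    have htop : closure ({⟨x, hxY⟩, ⟨x', hx'Y⟩} : Set Y) = ⊤ := by
      refine (Subgroup.map_injective Y.subtype_injective) ?_
      rw [MonoidHom.map_closure, Set.image_pair, ← MonoidHom.range_eq_map, range_subtype]
      rfl
    rw [← htop, MonoidHom.map_closure, Set.image_pair]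
  have hred : ∀ {N : Type _} [Group N] (ρ : Y →* N), IsPGroup p ρ.ker →
      ¬ IsPGroup p (closure ({ρ ⟨x, hxY⟩, ρ ⟨x', hx'Y⟩} : Set N)) := by
    intro N _ ρ hk hC
    refine hnp ?_
    have h := hC.comap_of_ker_isPGroup ρ hk
    rw [← hYeq ρ] at h
    rw [comap_map_eq, top_sup_eq] at h
    exact IsPGroup.of_equiv h Subgroup.topEquiv
  have hzp : ∀ {N : Type _} [Group N] (ρ : Y →* N) (w : Y), IsPGroup p (zpowers (w : MulAut M)) →
      IsPGroup p (zpowers (ρ w)) := by
    intro N _ ρ w hw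
    rintro ⟨_, i, rfl⟩
    obtain ⟨k, hk⟩ := hw ⟨(w : MulAut M) ^ i, zpow_mem (mem_zpowers _) i⟩
    refine ⟨k, Subtype.ext ?_⟩
    show (ρ w ^ i) ^ p ^ k = 1
    rw [← map_zpow, ← map_pow, show (w ^ i) ^ p ^ k = 1 from Subtype.ext (by simpa using congrArg Subtype.val hk), map_one]
  have hcomm : ∀ β ∈ X, (∀ k ∈ K, β (x k) = x (β k)) → (∀ m, (β (x m))⁻¹ * x (β m) ∈ K) → ∀ m, β (x m) = x (β m) := by
    intro β hβ h1 h2 m
    set a := (β * x)⁻¹ * (x * β) with ha
    have ha1 : a = 1 := by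
      refine hlayer a (mul_mem (inv_mem (mul_mem hβ hx)) (mul_mem hx hβ)) (fun k hk => ?_) (fun n => ?_)
      · rw [ha, MulAut.mul_apply, MulAut.mul_apply, ← h1 k hk]
        exact (β * x).symm_apply_apply k
      · have h := (hKi _ (inv_mem (mul_mem hβ hx)) _).2 (h2 n)
        rw [map_mul, map_inv] at h
        rw [show (β * x)⁻¹ (β (x n)) = n from (β * x).symm_apply_apply n] at h
        exact h
    rw [ha, inv_mul_eq_one] at ha1
    exact congrArg (fun f : MulAut M => f m) ha1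
  obtain ⟨n, hn⟩ := H24.exists_card_pow hMp K
  have hn0 : n ≠ 0 := fun e => hK1 (card_eq_one.1 (by rw [hn, e, pow_zero]))
  have hn3 : n < 3 := by
    by_contra h
    refine hK2 (eq_top_of_le_card _ ?_)
    rw [hn, hcard]
    exact Nat.pow_le_pow_right hp.pos (by omega)
  have hidx : K.index * p ^ n = p ^ 3 := by rw [← hn, ← hcard]; exact K.index_mul_card
  have hsq : ∀ b : M, b * b = 1 → b = 1 := fun b hb => by
    obtain ⟨k, hk⟩ := hp2
    have := hexp b
    rw [hk, pow_succ, pow_mul, pow_two, hb, one_pow, one_mul] at this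
    exact this
  set y := v⁻¹ * x v with hy
  apply hv
  refine (inv_mul_eq_one.1 ?_).symm
  rcases (show n = 1 ∨ n = 2 by omega) with rfl | rfl
  · -- `|K| = p`
    rw [pow_one] at hn hidx
    have hfix : ∀ {g : MulAut M}, g ∈ X → IsPGroup p (zpowers g) → ∀ k ∈ K, g k = k := by
      intro g hgX hg k hk
      have hbot : (⊥ : Subgroup K) ≠ ⊤ := fun h => by
        rw [← Subgroup.card_top (G := K), ← h, Subgroup.card_bot] at hn
        exact hp.ne_one hn.symm
      let r : MulAut K := MulEquiv.ofBijective ((g.toMonoidHom.domRestrict K).codRestrict K fun a => hK g hgX a a.2)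
        ((Nat.bijective_iff_injective_and_card _).2
          ⟨fun a b hab => Subtype.ext (g.injective (congrArg Subtype.val hab)), rfl⟩)
      obtain ⟨a, ha⟩ := hg ⟨g, mem_zpowers g⟩
      have hga : g ^ p ^ a = 1 := congrArg Subtype.val ha
      have hrpow : ∀ (i : ℕ) (b : K), ((r ^ i) b : M) = (g ^ i) b := by
        intro i
        induction i with
        | zero => intro b; rfl
        | succ i ih => intro b; rw [pow_succ, pow_succ, MulAut.mul_apply, MulAut.mul_apply, ih]; rfl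
      have hrp : IsPGroup p (zpowers r) := by
        rintro ⟨_, i, rfl⟩
        refine ⟨a, Subtype.ext ?_⟩
        show (r ^ i) ^ p ^ a = 1
        rw [← zpow_natCast, ← zpow_mul, mul_comm, zpow_mul, zpow_natCast,
          show r ^ p ^ a = 1 from MulEquiv.ext fun b => Subtype.ext (by rw [hrpow, hga]; rfl), one_zpow]
      obtain ⟨z, hz, hzf⟩ := exists_fixed_over (hMp.to_subgroup K) hrp (K := ⊥)
        (fun q _ b hb => by rw [mem_bot] at hb ⊢; rw [hb, map_one]) hbot
      rw [mem_bot] at hz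
      have hrz : r z = z := (inv_mul_eq_one.1 (mem_bot.1 (hzf r (mem_zpowers r)))).symm
      have hgen : zpowers z = ⊤ := eq_top_of_le_card _ (by
        rw [hn, Nat.card_zpowers, orderOf_eq_prime (Subtype.ext (by simpa using hexp (z : M))) hz])
      obtain ⟨i, hi⟩ := hgen.ge (mem_top (⟨k, hk⟩ : K))
      have hi' : z ^ i = ⟨k, hk⟩ := hi
      have e : g k = (r ⟨k, hk⟩ : M) := rfl
      rw [e, ← hi', map_zpow, hrz, hi']
    have hYfix : ∀ a ∈ Y, ∀ k ∈ K, a k = k := fun a ha k hk =>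
      ((closure_le (MulAction.stabilizer (MulAut M) k)).2 (by
        rintro _ (rfl | rfl)
        exacts [hfix hx hxp k hk, hfix hx' hxp' k hk]) ha)
    let ρ : Y →* MulAut (M ⧸ K) :=
      { toFun := fun a => QuotientGroup.congr K K (a : MulAut M)
          (le_antisymm (by rintro _ ⟨k, hk, rfl⟩; exact hK _ (hYX a.2) k hk)
            fun k hk => ⟨(a : MulAut M)⁻¹ k, hK _ (inv_mem (hYX a.2)) k hk, (a : MulAut M).apply_symm_apply k⟩)
        map_one' := by ext q; induction q using QuotientGroup.induction_on; rfl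
        map_mul' := fun a b => by ext q; induction q using QuotientGroup.induction_on; rfl }
    have hker : IsPGroup p ρ.ker := by
      rw [show ρ.ker = ⊥ from eq_bot_iff.2 fun a ha => Subtype.ext (hlayer a (hYX a.2) (hYfix a a.2) fun m =>
        QuotientGroup.eq.1 (DFunLike.congr_fun (MonoidHom.mem_ker.1 ha) (m : M ⧸ K)).symm)]
      exact IsPGroup.of_bot
    have hc2 : Nat.card (M ⧸ K) = p ^ 2 := by
      rw [← index_eq_card]
      exact Nat.eq_of_mul_eq_mul_right hp.pos (by rw [hidx]; ring)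
    obtain ⟨⟨zb, -, hzb, htd⟩, βb, hβb, hinv⟩ := exists_inversion
      (fun q => by induction q using QuotientGroup.induction_on; rw [← QuotientGroup.mk_pow, hexp]; rfl) hc2
      (hzp ρ ⟨x, hxY⟩ hxp) (hzp ρ ⟨x', hx'Y⟩ hxp') (hred ρ hker)
    rw [← hYeq ρ] at hβb
    obtain ⟨⟨β, hβY⟩, -, rfl⟩ := hβb
    have hinv' : ∀ m, β m * m ∈ K := fun m => by
      rw [← QuotientGroup.eq_one_iff, QuotientGroup.mk_mul, show ((β m : M) : M ⧸ K) = (m : M ⧸ K)⁻¹ from hinv m,
        inv_mul_cancel]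
    have hyfix : y⁻¹ * x y ∈ K := by
      obtain ⟨i, hi⟩ := htd (v : M ⧸ K)
      refine QuotientGroup.eq.1 ?_
      have e : (y : M ⧸ K) = zb ^ i := by rw [hy]; exact hi.symm
      show (y : M ⧸ K) = ρ ⟨x, hxY⟩ (y : M ⧸ K)
      rw [e, map_zpow, hzb]
    have hcm := hcomm β (hYX hβY) (fun k hk => by rw [hYfix β hβY k hk, hYfix x hxY k hk, hYfix β hβY k hk])
      (fun m => by
        have h2 := (hKi x hx _).2 (hinv' m)
        rw [map_mul] at h2
        have h3 := mul_mem (inv_mem (hinv' (x m))) h2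
        rwa [_root_.mul_inv, mul_mul_mul_comm, inv_mul_cancel, mul_one] at h3)
    refine hsq _ ?_
    have h1 : β (y⁻¹ * x y) = y⁻¹ * x y := hYfix β hβY _ hyfix
    rw [map_mul, map_inv, hcm] at h1
    obtain ⟨k, hk, hky⟩ : ∃ k ∈ K, β y = y⁻¹ * k := ⟨_, hinv' y, by rw [mul_comm (β y), inv_mul_cancel_left]⟩
    rw [hky, map_mul, hYfix x hxY k hk, map_inv, _root_.mul_inv, inv_inv, mul_mul_mul_comm, inv_mul_cancel,
      mul_one] at h1
    calc (y⁻¹ * x y) * (y⁻¹ * x y) = (y * (x y)⁻¹) * (y⁻¹ * x y) := by rw [h1]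
      _ = 1 := by simp [mul_comm, mul_left_comm]
  · -- `|K| = p²`
    have hi2 : K.index = p := Nat.eq_of_mul_eq_mul_right (pow_pos hp.pos 2) (by rw [hidx]; ring)
    have htriv : ∀ {g : MulAut M}, g ∈ X → IsPGroup p (zpowers g) → ∀ m, m⁻¹ * g m ∈ K := by
      intro g hgX hg m
      obtain ⟨m0, hm0, hm0f⟩ := exists_fixed_over hMp hg (K := K) (fun r hr k hk =>
        hK r ((zpowers_le.2 hgX) hr) k hk) hK2
      have htop : K ⊔ zpowers m0 = ⊤ := by
        refine index_eq_one.1 ?_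
        have hd := index_dvd_of_le (le_sup_left : K ≤ K ⊔ zpowers m0)
        rw [hi2] at hd
        rcases (Nat.dvd_prime hp).1 hd with h | h
        · exact h
        · exfalso
          have e := relIndex_mul_index (le_sup_left : K ≤ K ⊔ zpowers m0)
          rw [hi2, h, mul_eq_right₀ hp.ne_zero] at e
          exact hm0 (relIndex_eq_one.1 e (mem_sup_right (mem_zpowers m0)))
      obtain ⟨a, ha, _, ⟨i, rfl⟩, rfl⟩ := Subgroup.mem_sup.1 (htop.ge (mem_top m))
      rw [map_mul, map_zpow, _root_.mul_inv, mul_mul_mul_comm, ← inv_zpow, ← mul_zpow]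
      exact mul_mem (mul_mem (inv_mem ha) (hK g hgX a ha)) (zpow_mem (hm0f g (mem_zpowers g)) i)
    let St : Subgroup (MulAut M) :=
      { carrier := {a | a ∈ X ∧ ∀ m, m⁻¹ * a m ∈ K}
        one_mem' := ⟨one_mem X, fun m => by simp⟩
        mul_mem' := fun {a b} ha hb => ⟨mul_mem ha.1 hb.1, fun m => by
          have := mul_mem (hb.2 m) (ha.2 (b m))
          rwa [mul_assoc, mul_inv_cancel_left] at this⟩
        inv_mem' := fun {a} ha => ⟨inv_mem ha.1, fun m => by
          have := inv_mem (ha.2 (a⁻¹ m))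
          rw [show a (a⁻¹ m) = m from a.apply_symm_apply m] at this
          simpa using this⟩ }
    have hYtriv : Y ≤ St := (closure_le _).2 (by
      rintro _ (rfl | rfl)
      exacts [⟨hx, htriv hx hxp⟩, ⟨hx', htriv hx' hxp'⟩])
    let ρ : Y →* MulAut K :=
      { toFun := fun a =>
          { toFun := fun k => ⟨(a : MulAut M) k, hK _ (hYX a.2) k k.2⟩
            invFun := fun k => ⟨(a : MulAut M)⁻¹ k, hK _ (inv_mem (hYX a.2)) k k.2⟩
            left_inv := fun k => Subtype.ext ((a : MulAut M).symm_apply_apply (k : M))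
            right_inv := fun k => Subtype.ext ((a : MulAut M).apply_symm_apply (k : M))
            map_mul' := fun k l => Subtype.ext (map_mul (a : MulAut M) (k : M) l) }
        map_one' := by ext k; rfl
        map_mul' := fun a b => by ext k; rfl }
    have hker : IsPGroup p ρ.ker := by
      rw [show ρ.ker = ⊥ from eq_bot_iff.2 fun a ha => Subtype.ext (hlayer a (hYX a.2)
        (fun k hk => congrArg Subtype.val (DFunLike.congr_fun (MonoidHom.mem_ker.1 ha) ⟨k, hk⟩))
        (hYtriv a.2).2)]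
      exact IsPGroup.of_bot
    obtain ⟨⟨zb, -, hzb, htd⟩, βb, hβb, hinv⟩ := exists_inversion
      (fun q => Subtype.ext (by simpa using hexp (q : M))) hn (hzp ρ ⟨x, hxY⟩ hxp) (hzp ρ ⟨x', hx'Y⟩ hxp')
      (hred ρ hker)
    rw [← hYeq ρ] at hβb
    obtain ⟨⟨β, hβY⟩, -, rfl⟩ := hβb
    have hinv' : ∀ k ∈ K, β k = k⁻¹ := fun k hk => congrArg Subtype.val (hinv ⟨k, hk⟩)
    have hyK : y ∈ K := htriv hx hxp v
    have hdd : ∀ k ∈ K, x (k⁻¹ * x k) = k⁻¹ * x k := by
      intro k hk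
      obtain ⟨i, hi⟩ := htd ⟨k, hk⟩
      have e : ((zb ^ i : K) : M) = k⁻¹ * x k := congrArg Subtype.val (hi : zb ^ i = _)
      rw [← e]
      have h2 : ρ ⟨x, hxY⟩ (zb ^ i) = zb ^ i := by rw [map_zpow, hzb]
      exact congrArg Subtype.val h2
    have hcm := hcomm β (hYX hβY) (fun k hk => by rw [hinv' k hk, hinv' _ (hK x hx k hk), map_inv])
      (fun m => by
        have h1 := mul_mem (htriv hx hxp m) ((hYtriv hβY).2 (x m))
        have h2 := mul_mem ((hYtriv hβY).2 m) (htriv hx hxp (β m))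
        rw [mul_assoc, mul_inv_cancel_left] at h1 h2
        have h3 := mul_mem (inv_mem h1) h2
        rwa [_root_.mul_inv_rev, inv_inv, mul_assoc, mul_inv_cancel_left] at h3)
    obtain ⟨k, hk, hkv⟩ : ∃ k ∈ K, β v = v * k := ⟨_, (hYtriv hβY).2 v, (mul_inv_cancel_left _ _).symm⟩
    have h1 : β y = y⁻¹ := hinv' y hyK
    rw [hy, map_mul, map_inv, hcm, hkv, map_mul, _root_.mul_inv, mul_mul_mul_comm] at h1
    rw [← hy] at h1
    have h2 : k⁻¹ * x k = y⁻¹ * y⁻¹ := by
      calc k⁻¹ * x k = y⁻¹ * (y * (k⁻¹ * x k)) := (inv_mul_cancel_left _ _).symm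
        _ = y⁻¹ * y⁻¹ := by rw [h1]
    have h3 := hdd k hk
    rw [h2, map_mul, map_inv] at h3
    refine hsq _ ?_
    calc (y⁻¹ * x y) * (y⁻¹ * x y) = ((x y)⁻¹ * (x y)⁻¹)⁻¹ * (y⁻¹ * y⁻¹) := by
          simp [mul_comm, mul_left_comm, mul_assoc]
      _ = 1 := by rw [h3, inv_mul_cancel]

end Cfsg.Agent.H95
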