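import Cfsg.Agent.H24.PGroupBasic
import Cfsg.Agent.H24.Power
import Cfsg.Prelude.Def_CaseTheorems

/-!
The step `A ↦ [A, B] A^p` of lower exponent-`p` series, and a rank bound from sections.
-/
set_option autoImplicit false

namespace Cfsg.Agent.H95

open Subgroup
open scoped commutatorElement

variable {G : Type*} [Group G] {p : ℕ}

/-- `[A, B] A^p`. -/
def nextP (p : ℕ) (B A : Subgroup G) : Subgroup G :=
  ⁅A, B⁆ ⊔ Subgroup.closure ((fun a => a ^ p) '' (A : Set G))

theorem pow_mem_nextP {A B : Subgroup G} {a : G} (ha : a ∈ A) : a ^ p ∈ nextP p B A :=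
  mem_sup_right (subset_closure ⟨a, ha, rfl⟩)

theorem comm_mem_nextP {A B : Subgroup G} {a b : G} (ha : a ∈ A) (hb : b ∈ B) : ⁅a, b⁆ ∈ nextP p B A :=
  mem_sup_left (commutator_mem_commutator ha hb)

theorem comm_mem_nextP' {A B : Subgroup G} {a b : G} (ha : a ∈ A) (hb : b ∈ B) : ⁅b, a⁆ ∈ nextP p B A := by
  rw [← commutatorElement_inv a b]
  exact inv_mem (comm_mem_nextP ha hb)

theorem nextP_le {A B K : Subgroup G} (hc : ∀ a ∈ A, ∀ b ∈ B, ⁅a, b⁆ ∈ K) (hp : ∀ a ∈ A, a ^ p ∈ K) :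
    nextP p B A ≤ K :=
  sup_le (commutator_le.2 hc) ((closure_le _).2 (by rintro _ ⟨a, ha, rfl⟩; exact hp a ha))

theorem nextP_mono {A A' B B' : Subgroup G} (hA : A ≤ A') (hB : B ≤ B') : nextP p B A ≤ nextP p B' A' :=
  nextP_le (fun _ ha _ hb => comm_mem_nextP (hA ha) (hB hb)) (fun _ ha => pow_mem_nextP (hA ha))

theorem nextP_le_self {A B : Subgroup G} [A.Normal] : nextP p B A ≤ A :=
  nextP_le (fun a ha b _ => by
    rw [commutatorElement_def, mul_assoc a b, mul_assoc a (b * a⁻¹)]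
    exact mul_mem ha (‹A.Normal›.conj_mem _ (inv_mem ha) b)) (fun _ ha => pow_mem ha p)

theorem map_nextP {H : Type*} [Group H] (f : G →* H) (A B : Subgroup G) :
    (nextP p B A).map f = nextP p (B.map f) (A.map f) := by
  rw [nextP, nextP, Subgroup.map_sup, map_commutator, MonoidHom.map_closure]
  congr 2
  ext x
  constructor
  · rintro ⟨_, ⟨a, ha, rfl⟩, rfl⟩
    exact ⟨f a, mem_map_of_mem f ha, (map_pow f a p).symm⟩
  · rintro ⟨_, ⟨a, ha, rfl⟩, rfl⟩
    exact ⟨a ^ p, ⟨a, ha, rfl⟩, map_pow f a p⟩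

theorem apply_mem_nextP {A B : Subgroup G} (φ : MulAut G) (hA : ∀ a ∈ A, φ a ∈ A) (hB : ∀ b ∈ B, φ b ∈ B)
    {x : G} (hx : x ∈ nextP p B A) : φ x ∈ nextP p B A := by
  have h := mem_map_of_mem φ.toMonoidHom hx
  rw [map_nextP] at h
  exact nextP_mono (by rintro _ ⟨a, ha, rfl⟩; exact hA a ha) (by rintro _ ⟨b, hb, rfl⟩; exact hB b hb) h

instance nextP_normal (A B : Subgroup G) [A.Normal] [B.Normal] : (nextP p B A).Normal :=
  ⟨fun x hx g => apply_mem_nextP (MulAut.conj g) (fun a ha => ‹A.Normal›.conj_mem a ha g)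
    (fun b hb => ‹B.Normal›.conj_mem b hb g) hx⟩

/-- A normal subgroup equal to its next step is trivial. -/
theorem eq_bot_of_le_nextP [Fact p.Prime] [Finite G] (hG : IsPGroup p G) {K : Subgroup G} [K.Normal]
    (h : K ≤ nextP p ⊤ K) : K = ⊥ := by
  by_contra hne
  obtain ⟨k, hk⟩ := H24.exists_card_pow hG K
  have hk0 : k ≠ 0 := fun e => hne (card_eq_one.1 (by rw [hk, e, pow_zero]))
  obtain ⟨N, hN, hNK, hNc⟩ := H24.exists_normal_le_card hG hk (Nat.sub_le k 1)
  have hp : p.Prime := Fact.out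
  have hne' : N ≠ K := fun e => by
    rw [e, hk] at hNc
    have := Nat.pow_right_injective hp.two_le hNc
    omega
  obtain ⟨L, hL, hNL, hLK, hLc, hcomm⟩ := H24.exists_normal_between hG hNK hne'
  have hLK' : L = K := eq_of_le_of_card_ge hLK (by
    rw [hLc, hNc, hk, ← pow_succ']
    exact le_of_eq (by congr 1; omega))
  subst hLK'
  have hle : nextP p ⊤ L ≤ N := by
    refine nextP_le (fun a ha b hb => ?_) (fun a ha => ?_)
    · rw [← commutatorElement_inv b a]
      exact inv_mem (hcomm (commutator_mem_commutator hb ha))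
    · have : (N.subgroupOf L).index = p := by
        have h2 := (N.subgroupOf L).index_mul_card
        rw [Nat.card_congr (subgroupOfEquivOfLe hNK).toEquiv, hLc] at h2
        exact Nat.eq_of_mul_eq_mul_right Nat.card_pos h2
      have h3 := Subgroup.pow_index_mem (H := N.subgroupOf L) ⟨a, ha⟩
      rw [this] at h3
      simpa [mem_subgroupOf] using h3
  exact hne' (le_antisymm hNK (h.trans hle))

/-- If a normal subgroup is reached up to the next step it is reached exactly. -/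
theorem le_of_le_sup_nextP [Fact p.Prime] [Finite G] (hG : IsPGroup p G) {M K : Subgroup G} [M.Normal]
    [K.Normal] (h : K ≤ M ⊔ nextP p ⊤ K) : K ≤ M := by
  set q := QuotientGroup.mk' M
  have : (K.map q).Normal := Subgroup.Normal.map inferInstance _ (QuotientGroup.mk'_surjective M)
  have h1 : K.map q ≤ nextP p ⊤ (K.map q) := by
    refine (map_mono h).trans ?_
    rw [Subgroup.map_sup, map_nextP, map_top_of_surjective q (QuotientGroup.mk'_surjective M)]
    refine sup_le ?_ le_rfl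
    rw [show M.map q = ⊥ from (Subgroup.map_eq_bot_iff _).2 (by rw [QuotientGroup.ker_mk'])]
    exact bot_le
  have h2 := eq_bot_of_le_nextP (hG.to_quotient M) h1
  rwa [Subgroup.map_eq_bot_iff, QuotientGroup.ker_mk'] at h2

/-- A section rank bound, for a chain of subgroups above `K`. -/
theorem false_of_rank_chain [Fact p.Prime] [Finite G] (hG : IsPGroup p G) {k : ℕ}
    (hr : Cfsg.SectionalPRankLE p k G) {K A : Subgroup G} (hK : K ≤ A)
    (hKn : ∀ a ∈ A, ∀ x ∈ K, a * x * a⁻¹ ∈ K) (hc : ∀ a ∈ A, ∀ b ∈ A, ⁅a, b⁆ ∈ K)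
    (hp : ∀ a ∈ A, a ^ p ∈ K) (W : ℕ → Subgroup G) (h0 : W 0 = K) (hle : ∀ i, i ≤ k + 1 → W i ≤ A)
    (hstep : ∀ i, i ≤ k → W i < W (i + 1)) : False := by
  have : (K.subgroupOf A).Normal :=
    ⟨fun x hx a => mem_subgroupOf.2 (hKn a a.2 x (mem_subgroupOf.1 hx))⟩
  set q := QuotientGroup.mk' (K.subgroupOf A)
  have hpP : p.Prime := Fact.out
  have hcard : ∀ i, i ≤ k + 1 → p ^ i * Nat.card K ≤ Nat.card (W i) := by
    intro i
    induction i with
    | zero => intro _; simp [h0]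
    | succ i ih =>
      intro hi
      have h1 := ih (by omega)
      have hlt := hstep i (by omega)
      have h2 : p ≤ (W i).relIndex (W (i + 1)) := H24.le_relIndex_of_lt hG (not_le_of_gt hlt)
      have h3 := relIndex_mul_relIndex (⊥ : Subgroup G) (W i) (W (i + 1)) bot_le hlt.le
      rw [relIndex_bot_left, relIndex_bot_left] at h3
      calc p ^ (i + 1) * Nat.card K = p * (p ^ i * Nat.card K) := by ring
        _ ≤ (W i).relIndex (W (i + 1)) * Nat.card (W i) := Nat.mul_le_mul h2 h1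
        _ = Nat.card (W (i + 1)) := by rw [mul_comm, h3]
  have h4 := (hcard (k + 1) le_rfl).trans (card_le_of_le (hle (k + 1) le_rfl))
  have h5 := hr A (K.subgroupOf A) ⊤ ⟨⟨fun a b => by
      obtain ⟨a, -⟩ := a
      obtain ⟨b, -⟩ := b
      obtain ⟨a, rfl⟩ := QuotientGroup.mk'_surjective _ a
      obtain ⟨b, rfl⟩ := QuotientGroup.mk'_surjective _ b
      refine Subtype.ext ?_
      rw [Subgroup.coe_mul, Subgroup.coe_mul, ← commutatorElement_eq_one_iff_mul_comm, ← map_commutatorElement]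
      exact (QuotientGroup.eq_one_iff _).2 (mem_subgroupOf.2 (hc a a.2 b b.2))⟩⟩
    (fun a _ => by
      obtain ⟨a, rfl⟩ := QuotientGroup.mk'_surjective _ a
      rw [← map_pow]
      exact (QuotientGroup.eq_one_iff _).2 (mem_subgroupOf.2 (hp a a.2)))
  rw [card_top, ← index_eq_card] at h5
  have h6 := (K.subgroupOf A).index_mul_card
  rw [Nat.card_congr (subgroupOfEquivOfLe hK).toEquiv] at h6
  have h7 : p ^ (k + 1) * Nat.card K ≤ p ^ k * Nat.card K :=
    h4.trans (h6 ▸ Nat.mul_le_mul_right _ h5)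
  have h8 := Nat.le_of_mul_le_mul_right h7 Nat.card_pos
  rw [Nat.pow_le_pow_iff_right hpP.one_lt] at h8
  omega

/-- Elements commuting modulo a normal subgroup. -/
theorem comm_mul_left_mem {K : Subgroup G} [K.Normal] {a b c : G} (ha : ⁅a, c⁆ ∈ K) (hb : ⁅b, c⁆ ∈ K) :
    ⁅a * b, c⁆ ∈ K := by
  have e : ⁅a * b, c⁆ = a * ⁅b, c⁆ * a⁻¹ * ⁅a, c⁆ := by simp only [commutatorElement_def]; group
  rw [e]
  exact mul_mem (‹K.Normal›.conj_mem _ hb a) ha

end Cfsg.Agent.H95
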