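import Cfsg.Agent.H95.PSeries

/-!
Generators and commutators modulo a normal subgroup.
-/
set_option autoImplicit false

namespace Cfsg.Agent.H95

open Subgroup
open scoped commutatorElement

variable {G : Type*} [Group G] {p : ℕ}

/-- A subgroup between `A` and `[A, G] A^p` is normal. -/
theorem normal_between {A K : Subgroup G} (h1 : nextP p ⊤ A ≤ K) (h2 : K ≤ A) : K.Normal :=
  ⟨fun x hx g => by
    rw [show g * x * g⁻¹ = ⁅g, x⁆ * x by simp [commutatorElement_def, mul_assoc]]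
    exact mul_mem (h1 (comm_mem_nextP' (h2 hx) (mem_top g))) hx⟩

/-- Commutators of two subgroups, on generators. -/
theorem comm_mem_of_gens {A B K : Subgroup G} [K.Normal] {s t : Set G} (hA : A ≤ closure s ⊔ K)
    (hB : B ≤ closure t ⊔ K) (h : ∀ a ∈ s, ∀ b ∈ t, ⁅a, b⁆ ∈ K) : ∀ a ∈ A, ∀ b ∈ B, ⁅a, b⁆ ∈ K := by
  set q := QuotientGroup.mk' K
  have hone : ∀ w, q w = 1 ↔ w ∈ K := fun w => QuotientGroup.eq_one_iff w
  have hc : ∀ a ∈ closure s ⊔ K, ∀ b ∈ closure t ⊔ K, Commute (q a) (q b) := by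
    have h1 : ∀ a ∈ s, ∀ b ∈ t, Commute (q a) (q b) := fun a ha b hb =>
      commutatorElement_eq_one_iff_mul_comm.1 (by rw [← map_commutatorElement]; exact (hone _).2 (h a ha b hb))
    have h2 : ∀ a ∈ s, ∀ b ∈ closure t ⊔ K, Commute (q a) (q b) := by
      intro a ha b hb
      have : closure t ⊔ K ≤ (Subgroup.centralizer {q a}).comap q := by
        refine sup_le ((closure_le _).2 fun u hu => ?_) (fun u hu => ?_)
        · exact mem_centralizer_singleton_iff.2 (h1 a ha u hu).eq.symm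
        · refine mem_centralizer_singleton_iff.2 ?_
          rw [(hone u).2 hu, mul_one, one_mul]
      exact (mem_centralizer_singleton_iff.1 (this hb)).symm
    intro a ha b hb
    have : closure s ⊔ K ≤ (Subgroup.centralizer {q b}).comap q := by
      refine sup_le ((closure_le _).2 fun u hu => ?_) (fun u hu => ?_)
      · exact mem_centralizer_singleton_iff.2 (h2 u hu b hb).eq
      · refine mem_centralizer_singleton_iff.2 ?_
        rw [(hone u).2 hu, mul_one, one_mul]
    exact mem_centralizer_singleton_iff.1 (this ha)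
  intro a ha b hb
  rw [← hone, map_commutatorElement, commutatorElement_eq_one_iff_mul_comm]
  exact hc a (hA ha) b (hB hb)

/-- `p`-th powers in a subgroup that is commutative modulo `K`, on generators. -/
theorem pow_mem_of_gens {A K : Subgroup G} [K.Normal] {s : Set G} (hA : A ≤ closure s ⊔ K)
    (hc : ∀ a ∈ s, ∀ b ∈ s, ⁅a, b⁆ ∈ K) (hp : ∀ a ∈ s, a ^ p ∈ K) : ∀ a ∈ A, a ^ p ∈ K := by
  have hcomm := comm_mem_of_gens (K := K) (le_refl (closure s ⊔ K)) (le_refl (closure s ⊔ K)) hc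
  let H : Subgroup G :=
    { carrier := {a | a ∈ closure s ⊔ K ∧ a ^ p ∈ K}
      one_mem' := ⟨one_mem _, by rw [one_pow]; exact one_mem _⟩
      inv_mem' := fun {a} ha => ⟨inv_mem ha.1, by rw [inv_pow]; exact inv_mem ha.2⟩
      mul_mem' := by
        rintro a b ⟨ha, hap⟩ ⟨hb, hbp⟩
        refine ⟨mul_mem ha hb, (QuotientGroup.eq_one_iff _).1 ?_⟩
        change QuotientGroup.mk' K ((a * b) ^ p) = 1
        rw [map_pow, map_mul, Commute.mul_pow (commutatorElement_eq_one_iff_mul_comm.1 (by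
          rw [← map_commutatorElement]; exact (QuotientGroup.eq_one_iff _).2 (hcomm a ha b hb))),
          ← map_pow, ← map_pow, show QuotientGroup.mk' K (a ^ p) = 1 from (QuotientGroup.eq_one_iff _).2 hap,
          show QuotientGroup.mk' K (b ^ p) = 1 from (QuotientGroup.eq_one_iff _).2 hbp, one_mul] }
  have : closure s ⊔ K ≤ H :=
    sup_le ((closure_le _).2 fun u hu => ⟨mem_sup_left (subset_closure hu), hp u hu⟩)
      (fun u hu => ⟨mem_sup_right hu, pow_mem hu p⟩)
  exact fun a ha => (this (hA ha)).2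

/-- The next step, on generators. -/
theorem nextP_le_of_gens {A B K : Subgroup G} [K.Normal] {s t : Set G} (hA : A ≤ closure s ⊔ K)
    (hB : B ≤ closure t ⊔ K) (hst : ∀ a ∈ s, ∀ b ∈ t, ⁅a, b⁆ ∈ K) (hss : ∀ a ∈ s, ∀ b ∈ s, ⁅a, b⁆ ∈ K)
    (hp : ∀ a ∈ s, a ^ p ∈ K) : nextP p B A ≤ K :=
  nextP_le (comm_mem_of_gens hA hB hst) (pow_mem_of_gens hA hss hp)

/-- Elements with displacements in a central layer commute with the first step. -/
theorem comm_nextP_mem {K L : Subgroup G} [K.Normal] {c : G} (hc : ∀ g : G, ⁅c, g⁆ ∈ L)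
    (hL : nextP p ⊤ L ≤ K) : ∀ u ∈ nextP p (⊤ : Subgroup G) ⊤, ⁅c, u⁆ ∈ K := by
  set q := QuotientGroup.mk' K
  have hone : ∀ w, q w = 1 ↔ w ∈ K := fun w => QuotientGroup.eq_one_iff w
  have hcen : ∀ l ∈ L, ∀ g : G, q g * q l = q l * q g := fun l hl g =>
    (commutatorElement_eq_one_iff_mul_comm.1 (by
      rw [← map_commutatorElement]; exact (hone _).2 (hL (comm_mem_nextP hl (mem_top g))))).symm
  have hmul : ∀ a b : G, q ⁅c, a * b⁆ = q ⁅c, a⁆ * q ⁅c, b⁆ := by
    intro a b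
    have e : ⁅c, a * b⁆ = ⁅c, a⁆ * (a * ⁅c, b⁆ * a⁻¹) := by simp only [commutatorElement_def]; group
    rw [e, map_mul, map_mul, map_mul, hcen _ (hc b) a, mul_assoc, map_inv, mul_inv_cancel, mul_one]
  let f : G →* G ⧸ K := MonoidHom.mk' (fun a => q ⁅c, a⁆) hmul
  intro u hu
  refine (hone _).1 (show f u = 1 from MonoidHom.mem_ker.1 ?_)
  refine nextP_le (fun a _ b _ => MonoidHom.mem_ker.2 ?_) (fun a _ => MonoidHom.mem_ker.2 ?_) hu
  · rw [map_commutatorElement, commutatorElement_eq_one_iff_mul_comm]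
    exact hcen _ (hc b) ⁅c, a⁆
  · rw [map_pow]
    show q ⁅c, a⁆ ^ p = 1
    rw [← map_pow]
    exact (hone _).2 (hL (pow_mem_nextP (hc a)))

end Cfsg.Agent.H95
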