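import Cfsg.Agent.H95.RankThreeTransvection
import Cfsg.Agent.H95.SectionTools

/-!
An extension of a torus to the normalizer of a normalizer leads to a section of rank four.
-/
set_option autoImplicit false

namespace Cfsg.Agent.H95

open Subgroup
open scoped commutatorElement

variable {p : ℕ}

variable {G : Type*} [Group G]

/-- An extension of the torus to the normalizer yields a section of rank four. -/
theorem endgame [Fact p.Prime] [Finite G] (hG : IsPGroup p G) (hp5 : 5 ≤ p) (hr : Cfsg.SectionalPRankLE p 3 G)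
    {N D : Subgroup G} [N.Normal] [D.Normal] (hDN : D ≤ N) {e x w z m : G} (he : e ∈ N) (hx : x ∈ N) (hw : w ∈ N)
    (hz : z ∈ N) (hN : N ≤ closure {e, x, w, z} ⊔ D)
    (hxe : ⁅x, e⁆⁻¹ * z ∈ D) (hxw : ⁅x, w⁆ ∈ D) (hew : ⁅e, w⁆ ∈ D) (hze : ⁅z, e⁆ ∈ D) (hzx : ⁅z, x⁆ ∈ D)
    (hzw : ⁅z, w⁆ ∈ D) (hep : e ^ p ∈ D) (hxp : x ^ p ∈ D) (hwp : w ^ p ∈ D) (hzp : z ^ p ∈ D)
    (hind : ∀ a b c d : ℤ, e ^ a * x ^ b * w ^ c * z ^ d ∈ D →
      (p : ℤ) ∣ a ∧ (p : ℤ) ∣ b ∧ (p : ℤ) ∣ c ∧ (p : ℤ) ∣ d)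
    (hm : m ∉ N) (hmp : m ^ p ∈ N) {b c : ℤ} (hb : ¬ (p : ℤ) ∣ b)
    (hme : (e * x ^ b * w ^ c)⁻¹ * (m * e * m⁻¹) ∈ closure {z} ⊔ D)
    (hmx : x⁻¹ * (m * x * m⁻¹) ∈ closure {z} ⊔ D) (hmw : w⁻¹ * (m * w * m⁻¹) ∈ D)
    (hmz : z⁻¹ * (m * z * m⁻¹) ∈ D)
    (T : MulAut G) (hTD : ∀ a ∈ D, T a ∈ D) {k i l cl : ℤ} (hTm : (m ^ k)⁻¹ * T m ∈ N)
    (hTN : ∀ a ∈ N, T a ∈ N)
    (hTx : (x ^ l * w ^ cl)⁻¹ * T x ∈ closure {z} ⊔ D) (hl : ¬ (p : ℤ) ∣ l)
    (hTw : w⁻¹ * T w ∈ closure {z} ⊔ D) (hTz : (z ^ i)⁻¹ * T z ∈ D)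
    (hk1 : ¬ (p : ℤ) ∣ k - 1) (hki : ¬ (p : ℤ) ∣ k - i) : False := by
  have hpp : p.Prime := Fact.out
  have hpr := Nat.prime_iff_prime_int.1 hpp
  set q := QuotientGroup.mk' D with hq
  have o : ∀ a, q a = 1 ↔ a ∈ D := fun a => QuotientGroup.eq_one_iff a
  have hcm : ∀ {a v : G}, ⁅a, v⁆ ∈ D → Commute (q a) (q v) := fun h =>
    commutatorElement_eq_one_iff_mul_comm.1 (by rw [← map_commutatorElement]; exact (o _).2 h)
  have hzs : ∀ {a : G}, a ∈ closure {z} ⊔ D → ∃ n : ℤ, q a = q z ^ n := fun {a} ha => by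
    obtain ⟨n, d, hd, rfl⟩ := exists_mul_of_mem_sup_closure ha
    exact ⟨n, by rw [map_mul, (o d).2 hd, mul_one, map_zpow]⟩
  have cze : Commute (q z) (q e) := hcm hze
  have czx : Commute (q z) (q x) := hcm hzx
  have czw : Commute (q z) (q w) := hcm hzw
  have cxw : Commute (q x) (q w) := hcm hxw
  have cew : Commute (q e) (q w) := hcm hew
  have hxe' : q x * q e = q z * q e * q x := by
    have h := (o _).2 hxe
    rw [map_mul, map_inv, inv_mul_eq_one, map_commutatorElement] at h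
    rw [← h]
    simp [commutatorElement_def, mul_assoc]
  have exw : ∀ {a : G}, a ^ p ∈ D → ∀ {n n' : ℤ}, (p : ℤ) ∣ n - n' → q a ^ n = q a ^ n' := fun {a} ha {n n'} h => by
    obtain ⟨t, ht⟩ := h
    rw [show n = n' + (p : ℤ) * t by omega, zpow_add, zpow_mul, zpow_natCast, ← map_pow, (o _).2 ha, one_zpow,
      mul_one]
  have hxe0 : q x * q e * (q x)⁻¹ = q z * q e := by rw [hxe', mul_inv_cancel_right]
  have hxea : ∀ a : ℤ, q x * q e ^ a = q z ^ a * q e ^ a * q x := fun a => by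
    rw [← cze.mul_zpow, ← hxe0, conj_zpow, inv_mul_cancel_right]
  have hNdec : ∀ g ∈ N, ∃ a b' c' d : ℤ, q g = q e ^ a * q x ^ b' * q w ^ c' * q z ^ d := by
    intro g hg
    have h1 : q g ∈ closure ({q e, q x, q w, q z} : Set (G ⧸ D)) := by
      have hle : closure {e, x, w, z} ⊔ D ≤ (closure ({q e, q x, q w, q z} : Set (G ⧸ D))).comap q := by
        refine sup_le ((closure_le _).2 ?_) fun v hv => ?_
        · rintro v (rfl | rfl | rfl | rfl)
          all_goals exact subset_closure (by simp)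
        · rw [mem_comap, (o v).2 hv]; exact one_mem _
      exact hle (hN hg)
    rw [← Subgroup.mem_toSubmonoid, Subgroup.closure_toSubmonoid_of_finite] at h1
    refine Submonoid.closure_induction_left (motive := fun v _ => ∃ a b' c' d : ℤ,
      v = q e ^ a * q x ^ b' * q w ^ c' * q z ^ d) ⟨0, 0, 0, 0, by simp⟩ ?_ h1
    rintro v hv y _ ⟨a, b', c', d, rfl⟩
    rcases hv with rfl | rfl | rfl | rfl
    · exact ⟨a + 1, b', c', d, by rw [add_comm a, zpow_one_add]; simp only [mul_assoc]⟩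
    · refine ⟨a, b' + 1, c', d + a, ?_⟩
      have c1 : Commute (q z ^ a) (q e ^ a * q x * q x ^ b' * q w ^ c' * q z ^ d) :=
        (((((cze.zpow_left a).zpow_right a).mul_right (czx.zpow_left a)).mul_right
          ((czx.zpow_left a).zpow_right b')).mul_right ((czw.zpow_left a).zpow_right c')).mul_right
            (((Commute.refl (q z)).zpow_left a).zpow_right d)
      calc q x * (q e ^ a * q x ^ b' * q w ^ c' * q z ^ d)
          = q z ^ a * (q e ^ a * q x * q x ^ b' * q w ^ c' * q z ^ d) := by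
            simp only [← mul_assoc]; rw [hxea]
        _ = _ := by
            rw [c1.eq, add_comm b', zpow_one_add, zpow_add]; simp only [mul_assoc]
    · refine ⟨a, b', c' + 1, d, ?_⟩
      have c1 : Commute (q w) (q e ^ a * q x ^ b') := (cew.symm.zpow_right a).mul_right (cxw.symm.zpow_right b')
      rw [← mul_assoc, ← mul_assoc, c1.eq, mul_assoc (q e ^ a * q x ^ b'), ← zpow_one_add, add_comm]
    · refine ⟨a, b', c', d + 1, ?_⟩
      have c1 : Commute (q z) (q e ^ a * q x ^ b' * q w ^ c') :=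
        ((cze.zpow_right a).mul_right (czx.zpow_right b')).mul_right (czw.zpow_right c')
      rw [← mul_assoc, c1.eq, mul_assoc (q e ^ a * q x ^ b' * q w ^ c'), ← zpow_one_add, add_comm]
  have hindq : ∀ a b' c' d : ℤ, q e ^ a * q x ^ b' * q w ^ c' * q z ^ d = 1 →
      (p : ℤ) ∣ a ∧ (p : ℤ) ∣ b' ∧ (p : ℤ) ∣ c' ∧ (p : ℤ) ∣ d := fun a b' c' d h =>
    hind a b' c' d ((o _).1 (by rw [map_mul, map_mul, map_mul, map_zpow, map_zpow, map_zpow, map_zpow]; exact h))
  -- normalize `m`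
  obtain ⟨ν, hν⟩ := hzs hmx
  have hmx' : q m * q x * (q m)⁻¹ = q x * q z ^ ν := by
    rw [← map_inv, ← map_mul, ← map_mul, ← hν, map_mul q x⁻¹, map_inv, mul_inv_cancel_left]
  have hmz' : q m * q z * (q m)⁻¹ = q z := by
    have h := (o _).2 hmz
    rw [map_mul, map_inv, inv_mul_eq_one, map_mul, map_mul, map_inv] at h
    exact h.symm
  have hmw' : q m * q w * (q m)⁻¹ = q w := by
    have h := (o _).2 hmw
    rw [map_mul, map_inv, inv_mul_eq_one, map_mul, map_mul, map_inv] at h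
    exact h.symm
  obtain ⟨θ, hθ⟩ := hzs hme
  have hme' : q m * q e * (q m)⁻¹ = q e * q x ^ b * q w ^ c * q z ^ θ := by
    rw [map_mul, map_inv, inv_mul_eq_iff_eq_mul] at hθ
    rw [← map_inv, ← map_mul, ← map_mul, hθ, map_mul, map_mul, map_zpow, map_zpow]
  set g := m * e ^ ν with hgdef
  clear_value g
  have hgx : Commute (q g) (q x) := by
    have hex : ∀ t : ℤ, q e ^ t * q x * (q e ^ t)⁻¹ = q x * q z ^ (-t) := by
      intro t
      have h0 : q e * q x * (q e)⁻¹ = q x * (q z)⁻¹ := by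
        rw [mul_inv_eq_iff_eq_mul, mul_assoc, (cze.inv_left).eq, ← mul_assoc, hxe', cze.eq, mul_assoc (q e) (q z),
          czx.eq, ← mul_assoc, mul_inv_cancel_right]
      induction t with
      | zero => simp
      | succ n ih =>
        rw [show q e ^ ((n : ℤ) + 1) * q x * (q e ^ ((n : ℤ) + 1))⁻¹ =
          q e * (q e ^ (n : ℤ) * q x * (q e ^ (n : ℤ))⁻¹) * (q e)⁻¹ by group, ih,
          show q e * (q x * q z ^ (-(n : ℤ))) * (q e)⁻¹ = (q e * q x * (q e)⁻¹) * (q e * q z ^ (-(n : ℤ)) * (q e)⁻¹)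
            by group, h0, ← (cze.zpow_left _).eq, mul_inv_cancel_right, mul_assoc, ← zpow_neg_one, ← zpow_add]
        congr 2
        ring
      | pred n ih =>
        have h0' : (q e)⁻¹ * q x * q e = q x * q z := by
          calc (q e)⁻¹ * q x * q e = (q e)⁻¹ * (q z * q e * q x) := by rw [mul_assoc, hxe']
            _ = (q e)⁻¹ * (q e * q z * q x) := by rw [cze.eq]
            _ = q x * q z := by rw [mul_assoc, inv_mul_cancel_left, czx.eq]
        rw [show q e ^ (-(n : ℤ) - 1) * q x * (q e ^ (-(n : ℤ) - 1))⁻¹ =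
          (q e)⁻¹ * (q e ^ (-(n : ℤ)) * q x * (q e ^ (-(n : ℤ)))⁻¹) * q e by group, ih,
          show (q e)⁻¹ * (q x * q z ^ (- -(n : ℤ))) * q e = ((q e)⁻¹ * q x * q e) * ((q e)⁻¹ * q z ^ (- -(n : ℤ)) * q e)
            by group, h0', ← ((cze.zpow_left _).inv_right).eq, inv_mul_cancel_right, mul_assoc]
        nth_rewrite 1 [← zpow_one (q z)]
        rw [← zpow_add]
        congr 2
        ring
    have h1 : q g * q x * (q g)⁻¹ = q x := by
      rw [hgdef, map_mul, map_zpow, show q m * q e ^ ν * q x * (q m * q e ^ ν)⁻¹ =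
        q m * (q e ^ ν * q x * (q e ^ ν)⁻¹) * (q m)⁻¹ by group, hex,
        show q m * (q x * q z ^ (-ν)) * (q m)⁻¹ = (q m * q x * (q m)⁻¹) * (q m * q z * (q m)⁻¹) ^ (-ν) by
          rw [conj_zpow]; group,
        hmx', hmz', mul_assoc, ← zpow_add, add_neg_cancel, zpow_zero, mul_one]
    exact mul_inv_eq_iff_eq_mul.1 h1
  have hgw : Commute (q g) (q w) := by
    have h : Commute (q m) (q w) := mul_inv_eq_iff_eq_mul.1 hmw'
    rw [hgdef, map_mul, map_zpow]; exact h.mul_left (cew.zpow_left ν)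
  have hgz : Commute (q g) (q z) := by
    have h : Commute (q m) (q z) := mul_inv_eq_iff_eq_mul.1 hmz'
    rw [hgdef, map_mul, map_zpow]; exact h.mul_left (cze.symm.zpow_left ν)
  have hge : ∃ θ' : ℤ, q g * q e * (q g)⁻¹ = q e * q x ^ b * q w ^ c * q z ^ θ' := ⟨θ, by
    rw [hgdef, map_mul, map_zpow, show q m * q e ^ ν * q e * (q m * q e ^ ν)⁻¹ = q m * q e * (q m)⁻¹ by group, hme']⟩
  obtain ⟨θ', hge⟩ := hge
  have hgN : g ∉ N := fun h => hm (by
    have := mul_mem h (inv_mem (zpow_mem he ν))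
    rwa [hgdef, mul_inv_cancel_right] at this)
  have hNtriv : ∀ v ∈ N, QuotientGroup.mk' N v = 1 := fun v hv => (QuotientGroup.eq_one_iff v).2 hv
  have hgp : g ^ p ∈ N := by
    refine (QuotientGroup.eq_one_iff _).1 ?_
    show QuotientGroup.mk' N (g ^ p) = 1
    rw [map_pow, hgdef, map_mul, map_zpow, hNtriv e he, one_zpow, mul_one, ← map_pow]
    exact hNtriv _ hmp
  obtain ⟨ζ, hζ⟩ := hzs hTw
  have hTw' : q (T w) = q w * q z ^ ζ := by rw [← hζ, map_mul, map_inv, mul_inv_cancel_left]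
  obtain ⟨η, hη⟩ := hzs hTx
  have hTx' : q (T x) = q x ^ l * q w ^ cl * q z ^ η := by
    rw [← hη, map_mul, map_inv, map_mul, map_zpow, map_zpow, mul_inv_cancel_left]
  have hTz' : q (T z) = q z ^ i := by
    have h := (o _).2 hTz
    rw [map_mul, map_inv, inv_mul_eq_one, map_zpow] at h
    exact h.symm
  have hcong : ∀ {u v : G}, q u = q v → q (T u) = q (T v) := fun {u v} h => by
    have h1 : u⁻¹ * v ∈ D := (o _).1 (by rw [map_mul, map_inv, h, inv_mul_cancel])
    have h2 := (o _).2 (hTD _ h1)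
    rwa [map_mul, map_mul, map_inv, map_inv, inv_mul_eq_one] at h2
  set n := (g ^ k)⁻¹ * T g with hndef
  have hn : n ∈ N := by
    refine (QuotientGroup.eq_one_iff n).1 ?_
    show QuotientGroup.mk' N n = 1
    have h := hNtriv _ hTm
    rw [map_mul, map_inv, map_zpow] at h
    rw [hndef, hgdef, map_mul T, map_mul, map_inv, map_zpow, map_mul, map_zpow, hNtriv e he, one_zpow, mul_one,
      map_mul, hNtriv _ (hTN _ (zpow_mem he ν)), mul_one]
    exact h
  obtain ⟨a1, b1, c1, d1, hn'⟩ := hNdec n hn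
  have hTgx : Commute (q (T g)) (q (T x)) := by
    refine commutatorElement_eq_one_iff_mul_comm.1 ?_
    rw [← map_commutatorElement, ← map_commutatorElement T]
    exact (o _).2 (hTD _ ((o _).1 (by rw [map_commutatorElement]; exact commutatorElement_eq_one_iff_mul_comm.2 hgx.eq)))
  have hnT : q (T g) = q g ^ k * q n := by
    rw [hndef, map_mul q, map_inv, map_zpow, mul_inv_cancel_left]
  -- `T g` has no `e`-component
  have ha1 : (p : ℤ) ∣ a1 := by
    have hy : Commute (q (T g)) (q x ^ l) := by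
      have cgw : Commute (q (T g)) (q w ^ cl * q z ^ η) := by
        rw [hnT, hn']
        refine (((hgw.zpow_right cl).mul_right (hgz.zpow_right η)).zpow_left k).mul_left ?_
        refine ((Commute.mul_left ?_ ?_).mul_left ?_).mul_left ?_
        · exact ((cew.zpow_right cl).mul_right (cze.symm.zpow_right η)).zpow_left a1
        · exact ((cxw.zpow_right cl).mul_right (czx.symm.zpow_right η)).zpow_left b1
        · exact (((Commute.refl (q w)).zpow_right cl).mul_right (czw.symm.zpow_right η)).zpow_left c1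
        · exact ((czw.zpow_right cl).mul_right ((Commute.refl (q z)).zpow_right η)).zpow_left d1
      have h := hTgx.mul_right cgw.inv_right
      rwa [hTx', mul_assoc (q x ^ l), mul_inv_cancel_right] at h
    have h2 : Commute (q e ^ a1) (q x ^ l) := by
      rw [hnT, hn'] at hy
      have hcr : Commute (q g ^ k) (q x ^ l) := (hgx.zpow_left k).zpow_right l
      have hrest : Commute (q x ^ b1 * q w ^ c1 * q z ^ d1) (q x ^ l) :=
        ((((Commute.refl (q x)).zpow_left b1).mul_left (cxw.symm.zpow_left c1)).mul_left (czx.zpow_left d1)).zpow_right l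
      have h3 := (hcr.inv_left.mul_left hy).mul_left hrest.inv_left
      simpa [mul_assoc] using h3
    obtain ⟨v1, v2, hv⟩ := (Prime.coprime_iff_not_dvd hpr).2 hl
    have h3 : Commute (q e ^ a1) (q x) := by
      have h4 := h2.zpow_right v2
      rwa [← zpow_mul, exw hxp (n := l * v2) (n' := 1) ⟨-v1, by linear_combination hv⟩, zpow_one] at h4
    have h5 : q e ^ a1 * q x * (q e ^ a1)⁻¹ = q x := by rw [h3.eq, mul_inv_cancel_right]
    have h6 : ∀ t : ℕ, q e ^ t * q x * (q e ^ t)⁻¹ = q x * ((q z)⁻¹) ^ t := by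
      intro t
      induction t with
      | zero => simp
      | succ t ih =>
        have h0 : q e * q x * (q e)⁻¹ = q x * (q z)⁻¹ := by
          rw [mul_inv_eq_iff_eq_mul, mul_assoc, (cze.inv_left).eq, ← mul_assoc, hxe', cze.eq, mul_assoc (q e) (q z),
            czx.eq, ← mul_assoc, mul_inv_cancel_right]
        rw [pow_succ', show q e * q e ^ t * q x * (q e * q e ^ t)⁻¹ = q e * (q e ^ t * q x * (q e ^ t)⁻¹) * (q e)⁻¹ by group,
          ih, show q e * (q x * (q z)⁻¹ ^ t) * (q e)⁻¹ = (q e * q x * (q e)⁻¹) * (q e * (q z)⁻¹ ^ t * (q e)⁻¹) by group,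
          h0, ← ((cze.inv_left).pow_left t).eq, mul_inv_cancel_right, mul_assoc, pow_succ']
    obtain ⟨t, ht⟩ : ∃ t : ℕ, (p : ℤ) ∣ a1 - t := ⟨(a1 % p).toNat, by
      rw [Int.toNat_of_nonneg (Int.emod_nonneg _ (by exact_mod_cast hpp.ne_zero))]
      exact Int.dvd_self_sub_emod⟩
    rw [exw hep (n := a1) (n' := (t : ℤ)) ht, zpow_natCast, h6, mul_eq_left, inv_pow, inv_eq_one] at h5
    obtain ⟨-, -, -, h7⟩ := hindq 0 0 0 (t : ℤ) (by rw [zpow_natCast, h5]; simp)
    obtain ⟨s, hs⟩ := ht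
    obtain ⟨s', hs'⟩ := h7
    exact ⟨s + s', by linear_combination hs + hs'⟩
  -- `g ^ p` lies in `D`
  obtain ⟨a2, b2, c2, d2, hgp'⟩ := hNdec _ hgp
  rw [map_pow] at hgp'
  have hexp' : ∀ t : ℕ, q g ^ t * q e * (q g ^ t)⁻¹ = q e * (q x ^ b * q w ^ c * q z ^ θ') ^ t := by
    intro t
    induction t with
    | zero => simp
    | succ t ih =>
      rw [pow_succ, show q g ^ t * q g * q e * (q g ^ t * q g)⁻¹ = q g ^ t * (q g * q e * (q g)⁻¹) * (q g ^ t)⁻¹ by group,
        hge, show q g ^ t * (q e * q x ^ b * q w ^ c * q z ^ θ') * (q g ^ t)⁻¹ =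
          (q g ^ t * q e * (q g ^ t)⁻¹) * (q g ^ t * (q x ^ b * q w ^ c * q z ^ θ') * (q g ^ t)⁻¹) by group, ih,
        (((hgx.zpow_right b).mul_right (hgw.zpow_right c)).mul_right (hgz.zpow_right θ')).pow_left t |>.eq,
        mul_inv_cancel_right, mul_assoc, pow_succ]
  have hb2 : (p : ℤ) ∣ b2 := by
    have h := hexp' p
    have hδ : (q x ^ b * q w ^ c * q z ^ θ') ^ p = 1 := by
      rw [(((czx.symm.zpow_left b).mul_left (czw.symm.zpow_left c)).zpow_right θ').mul_pow,
        ((cxw.zpow_left b).zpow_right c).mul_pow]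
      simp only [← zpow_natCast, ← zpow_mul]
      rw [exw hxp (n := b * p) (n' := 0) ⟨b, by ring⟩, exw hwp (n := c * p) (n' := 0) ⟨c, by ring⟩,
        exw hzp (n := θ' * p) (n' := 0) ⟨θ', by ring⟩]
      simp
    rw [hδ, mul_one] at h
    have he2 : Commute (q g ^ p) (q e) := mul_inv_eq_iff_eq_mul.1 h
    rw [hgp'] at he2
    have h4 : Commute (q x ^ b2) (q e) := by
      have h5 := ((((Commute.refl (q e)).zpow_left a2).inv_left.mul_left he2).mul_left
        ((cew.symm.zpow_left c2).mul_left (cze.zpow_left d2)).inv_left)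
      simpa [mul_assoc] using h5
    obtain ⟨t, ht⟩ : ∃ t : ℕ, (p : ℤ) ∣ b2 - t := ⟨(b2 % p).toNat, by
      rw [Int.toNat_of_nonneg (Int.emod_nonneg _ (by exact_mod_cast hpp.ne_zero))]
      exact Int.dvd_self_sub_emod⟩
    rw [exw hxp (n := b2) (n' := (t : ℤ)) ht, zpow_natCast] at h4
    have h6 : ∀ t : ℕ, q x ^ t * q e * (q x ^ t)⁻¹ = q z ^ t * q e := by
      intro t
      induction t with
      | zero => simp
      | succ t ih =>
        rw [pow_succ', show q x * q x ^ t * q e * (q x * q x ^ t)⁻¹ = q x * (q x ^ t * q e * (q x ^ t)⁻¹) * (q x)⁻¹ by group,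
          ih, show q x * (q z ^ t * q e) * (q x)⁻¹ = (q x * q z ^ t * (q x)⁻¹) * (q x * q e * (q x)⁻¹) by group,
          ← (czx.pow_left t).eq, mul_inv_cancel_right, hxe', mul_inv_cancel_right, ← mul_assoc, ← pow_succ,
          pow_succ']
    have h7 := h6 t
    rw [h4.eq, mul_inv_cancel_right, right_eq_mul] at h7
    obtain ⟨-, -, -, h8⟩ := hindq 0 0 0 (t : ℤ) (by rw [zpow_natCast, h7]; simp)
    obtain ⟨s, hs⟩ := ht
    obtain ⟨s', hs'⟩ := h8
    exact ⟨s + s', by linear_combination hs + hs'⟩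
  rw [exw hxp (n' := 0) (by rwa [sub_zero] : (p : ℤ) ∣ b2 - 0), zpow_zero, mul_one] at hgp'
  have ha2 : (p : ℤ) ∣ a2 := by
    have hce : Commute (q g) (q e ^ a2) := by
      have h1 : Commute (q g) (q e ^ a2 * q w ^ c2 * q z ^ d2) := hgp' ▸ (Commute.refl (q g)).pow_right p
      have h2 := h1.mul_right ((hgz.zpow_right d2).inv_right)
      rw [mul_inv_cancel_right] at h2
      have h3 := h2.mul_right ((hgw.zpow_right c2).inv_right)
      rwa [mul_inv_cancel_right] at h3
    by_contra hna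
    obtain ⟨v1, v2, hv⟩ := (Prime.coprime_iff_not_dvd hpr).2 hna
    have h4 := hce.zpow_right v2
    rw [← zpow_mul, exw hep (n := a2 * v2) (n' := 1) ⟨-v1, by linear_combination hv⟩, zpow_one] at h4
    rw [h4.eq, mul_inv_cancel_right, mul_assoc (q e), mul_assoc (q e), left_eq_mul] at hge
    obtain ⟨-, hh, -, -⟩ := hindq 0 b c θ' (by simpa [mul_assoc] using hge)
    exact hb hh
  rw [exw hep (n' := 0) (by rwa [sub_zero] : (p : ℤ) ∣ a2 - 0), zpow_zero, one_mul] at hgp'
  rw [exw hep (n' := 0) (by rwa [sub_zero] : (p : ℤ) ∣ a1 - 0), zpow_zero, one_mul] at hn'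
  have hgD : g ^ p ∈ D := by
    refine (o _).1 ?_
    rw [map_pow]
    have hTg : q (T g) ^ p = q w ^ (c2 * k) * q z ^ (d2 * k) := by
      have hgn : Commute (q g ^ k) (q n) := by
        rw [hn']
        exact ((((hgx.zpow_right b1).mul_right (hgw.zpow_right c1))).mul_right (hgz.zpow_right d1)).zpow_left k
      have hnp : q n ^ p = 1 := by
        rw [hn', (((czx.symm.zpow_left b1).mul_left (czw.symm.zpow_left c1)).zpow_right d1).mul_pow,
          ((cxw.zpow_left b1).zpow_right c1).mul_pow]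
        simp only [← zpow_natCast, ← zpow_mul]
        rw [exw hxp (n := b1 * p) (n' := 0) ⟨b1, by ring⟩, exw hwp (n := c1 * p) (n' := 0) ⟨c1, by ring⟩,
          exw hzp (n := d1 * p) (n' := 0) ⟨d1, by ring⟩]
        simp
      rw [hnT, hgn.mul_pow, hnp, mul_one, ← zpow_natCast, ← zpow_mul, mul_comm, zpow_mul, zpow_natCast, hgp',
        ((czw.symm.zpow_left c2).zpow_right d2).mul_zpow, ← zpow_mul, ← zpow_mul]
    have hTg' : q (T g) ^ p = q w ^ c2 * q z ^ (ζ * c2 + i * d2) := by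
      rw [← map_pow, ← map_pow, hcong (show q (g ^ p) = q (w ^ c2 * z ^ d2) by
        rw [map_pow, hgp', map_mul, map_zpow, map_zpow]), map_mul, map_mul, map_zpow, map_zpow, map_zpow, map_zpow,
        hTw', hTz', (czw.symm.zpow_right ζ).mul_zpow, ← zpow_mul, ← zpow_mul, mul_assoc, ← zpow_add]
    rw [hTg] at hTg'
    have h0 : q w ^ (c2 * k - c2) * q z ^ (d2 * k - (ζ * c2 + i * d2)) = 1 := by
      have hc1 : Commute (q z ^ (d2 * k)) (q w ^ (-c2)) := (czw.zpow_left _).zpow_right _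
      calc q w ^ (c2 * k - c2) * q z ^ (d2 * k - (ζ * c2 + i * d2))
          = q w ^ (c2 * k) * (q w ^ (-c2) * q z ^ (d2 * k)) * q z ^ (-(ζ * c2 + i * d2)) := by
            simp only [sub_eq_add_neg, zpow_add, mul_assoc]
        _ = (q w ^ (c2 * k) * q z ^ (d2 * k)) * q w ^ (-c2) * q z ^ (-(ζ * c2 + i * d2)) := by
            rw [← hc1.eq]; simp only [mul_assoc]
        _ = 1 := by
            rw [hTg']
            have hc2 : Commute (q z ^ (ζ * c2 + i * d2)) (q w ^ (-c2)) := (czw.zpow_left _).zpow_right _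
            rw [mul_assoc (q w ^ c2), hc2.eq, ← mul_assoc, ← zpow_add, add_neg_cancel, zpow_zero, one_mul,
              ← zpow_add, add_neg_cancel, zpow_zero]
    obtain ⟨-, -, hc', hd'⟩ := hindq 0 0 (c2 * k - c2) (d2 * k - (ζ * c2 + i * d2)) (by
      rw [zpow_zero, zpow_zero, one_mul, one_mul]; exact h0)
    have hc2 : (p : ℤ) ∣ c2 := by
      rw [show c2 * k - c2 = c2 * (k - 1) by ring] at hc'
      exact (hpr.dvd_mul.1 hc').resolve_right hk1
    have hd2 : (p : ℤ) ∣ d2 := by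
      have h1 : (p : ℤ) ∣ d2 * (k - i) := by
        have := Dvd.dvd.add hd' (dvd_mul_of_dvd_right hc2 ζ)
        rwa [show d2 * k - (ζ * c2 + i * d2) + ζ * c2 = d2 * (k - i) by ring] at this
      exact (hpr.dvd_mul.1 h1).resolve_right hki
    rw [hgp', exw hwp (n' := 0) (by rwa [sub_zero] : (p : ℤ) ∣ c2 - 0),
      exw hzp (n' := 0) (by rwa [sub_zero] : (p : ℤ) ∣ d2 - 0)]
    simp
  -- the section of rank four
  set A := closure {g, x, w, z} ⊔ D with hA
  have hgen : A ≤ closure ({g, x, w, z} : Set G) ⊔ D := le_rfl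
  have hcomm : ∀ u ∈ ({g, x, w, z} : Set G), ∀ v ∈ ({g, x, w, z} : Set G), ⁅u, v⁆ ∈ D := by
    intro u hu v hv
    simp only [Set.mem_insert_iff, Set.mem_singleton_iff] at hu hv
    refine (o _).1 ?_
    rw [map_commutatorElement, commutatorElement_eq_one_iff_mul_comm]
    rcases hu with rfl | rfl | rfl | rfl <;> rcases hv with rfl | rfl | rfl | rfl <;>
      first
        | rfl
        | exact hgx.eq | exact hgx.symm.eq | exact hgw.eq | exact hgw.symm.eq | exact hgz.eq | exact hgz.symm.eq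
        | exact cxw.eq | exact cxw.symm.eq | exact czx.eq | exact czx.symm.eq | exact czw.eq | exact czw.symm.eq
  have hspan : ∀ {S : Set G}, S ⊆ ({x, w, z} : Set G) → closure S ⊔ D ≤ N := fun hS => sup_le ((closure_le _).2
    (hS.trans (by rintro v (rfl | rfl | rfl) <;> assumption))) hDN
  have hle : ∀ {a : G} {K : Subgroup G}, a ∈ ({g, x, w, z} : Set G) → K ≤ A → closure {a} ⊔ K ≤ A := fun ha hK =>
    sup_le ((closure_le _).2 (Set.singleton_subset_iff.2 (mem_sup_left (subset_closure ha)))) hK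
  refine false_of_rank_chain hG hr (K := D) (A := A) le_sup_right (fun a _ v hv => ‹D.Normal›.conj_mem v hv a)
    (comm_mem_of_gens hgen hgen hcomm) (pow_mem_of_gens hgen hcomm ?_)
    (fun j => match j with
      | 0 => D | 1 => closure {z} ⊔ D | 2 => closure {w} ⊔ (closure {z} ⊔ D)
      | 3 => closure {x} ⊔ (closure {w} ⊔ (closure {z} ⊔ D))
      | _ => closure {g} ⊔ (closure {x} ⊔ (closure {w} ⊔ (closure {z} ⊔ D)))) rfl ?_ ?_
  · rintro v (rfl | rfl | rfl | rfl)
    exacts [hgD, hxp, hwp, hzp]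
  · intro j hj
    have a1 : closure {z} ⊔ D ≤ A := hle (by simp) le_sup_right
    have a2 := hle (a := w) (by simp) a1
    have a3 := hle (a := x) (by simp) a2
    rcases (show j = 0 ∨ j = 1 ∨ j = 2 ∨ j = 3 ∨ j = 4 by omega) with rfl | rfl | rfl | rfl | rfl
    exacts [le_sup_right, a1, a2, a3, hle (by simp) a3]
  · have h1n : z ∉ D := fun h => by
      obtain ⟨-, -, -, h'⟩ := hind 0 0 0 1 (by simpa using h)
      exact absurd (Nat.le_of_dvd one_pos (by exact_mod_cast h')) (by omega)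
    have h2n : w ∉ closure {z} ⊔ D := fun h => by
      obtain ⟨t, ht⟩ := hzs h
      obtain ⟨-, -, h', -⟩ := hindq 0 0 1 (-t) (by simp [ht])
      exact absurd (Nat.le_of_dvd one_pos (by exact_mod_cast h')) (by omega)
    have h3n : x ∉ closure {w} ⊔ (closure {z} ⊔ D) := fun h => by
      let f : Subgroup (G ⧸ D) :=
        { carrier := {v | ∃ s t : ℤ, v = q w ^ s * q z ^ t}
          one_mem' := ⟨0, 0, by simp⟩
          mul_mem' := by
            rintro _ _ ⟨s, t, rfl⟩ ⟨s', t', rfl⟩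
            exact ⟨s + s', t + t', by
              rw [zpow_add, zpow_add, mul_assoc, ← mul_assoc (q z ^ t), ((czw.zpow_left t).zpow_right s').eq]
              simp [mul_assoc]⟩
          inv_mem' := by
            rintro _ ⟨s, t, rfl⟩
            exact ⟨-s, -t, by
              rw [_root_.mul_inv_rev, ← zpow_neg, ← zpow_neg, ((czw.zpow_left (-t)).zpow_right (-s)).eq]⟩ }
      have hle' : closure {w} ⊔ (closure {z} ⊔ D) ≤ f.comap q := sup_le
        ((closure_le _).2 (Set.singleton_subset_iff.2 ⟨1, 0, by simp⟩))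
        (sup_le ((closure_le _).2 (Set.singleton_subset_iff.2 ⟨0, 1, by simp⟩)) fun v hv => ⟨0, 0, by simp [(o v).2 hv]⟩)
      obtain ⟨s, t, hst⟩ := hle' h
      obtain ⟨-, h', -, -⟩ := hindq 0 1 (-s) (-t) (by
        rw [zpow_zero, one_mul, zpow_one, hst, mul_assoc (q w ^ s), ((czw.zpow_left t).zpow_right (-s)).eq,
          ← mul_assoc, ← zpow_add, add_neg_cancel, zpow_zero, one_mul, ← zpow_add, add_neg_cancel, zpow_zero])
      exact absurd (Nat.le_of_dvd one_pos (by exact_mod_cast h')) (by omega)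
    have h4n : g ∉ closure {x} ⊔ (closure {w} ⊔ (closure {z} ⊔ D)) := fun h => hgN (sup_le
      ((closure_le _).2 (Set.singleton_subset_iff.2 hx)) (sup_le ((closure_le _).2 (Set.singleton_subset_iff.2 hw))
        (hspan (by simp))) h)
    intro j hj
    rcases (show j = 0 ∨ j = 1 ∨ j = 2 ∨ j = 3 by omega) with rfl | rfl | rfl | rfl
    exacts [lt_closure_sup h1n, lt_closure_sup h2n, lt_closure_sup h3n, lt_closure_sup h4n]

end Cfsg.Agent.H95
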