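import Cfsg.Agent.H95.RankThreeFusion
import Cfsg.Agent.H95.RankThreeEndgame

/-!
Essential subgroups with three generators are normal in a `p`-group of sectional rank three, `p ≥ 5`.
-/
set_option autoImplicit false

namespace Cfsg.Agent.H95

open Cfsg Subgroup
open scoped commutatorElement

variable {Ω : Type*} [Group Ω] {S : Subgroup Ω} [Finite S] {p : ℕ} [Fact p.Prime] {F : FusionSystem S}

/-- An isomorphism onto a fully normalized conjugate, carrying automizers to automizers. -/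
theorem exists_transport (hS : IsPGroup p S) {N : Subgroup Ω} (hNS : N ≤ S) :
    ∃ (N' : Subgroup Ω) (e : N ≃* N'), F.IsFullyNormalized N' ∧ N'.subtype.comp e.toMonoidHom ∈ F.Hom N ∧
      ∀ α : MulAut N, α ∈ F.autGroup N ↔ MulAut.congr e α ∈ F.autGroup N' := by
  obtain ⟨N', ⟨φ, hφ, hr⟩, hfn⟩ := H94.exists_fullyNormalized (F := F) hNS
  obtain ⟨ψ, hψ, hψr, hinv⟩ := H96.exists_inv F hφ hr
  set e := H94.homEquiv φ (F.injective_of_mem hφ) hr
  refine ⟨N', e, hfn, H96.mem_congr F hφ fun x => rfl, fun α =>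
    ⟨fun hα => H94.congr_mem_autGroup hφ hr hα, fun hα => ?_⟩⟩
  have h1 := H94.congr_mem_autGroup hψ hψr hα
  have he : H94.homEquiv ψ (F.injective_of_mem hψ) hψr = e.symm := MulEquiv.ext fun y => by
    obtain ⟨x, rfl⟩ := e.surjective y
    rw [e.symm_apply_apply]
    exact Subtype.ext (hinv x _)
  rw [he] at h1
  rwa [show MulAut.congr e.symm (MulAut.congr e α) = α from MulEquiv.ext fun x => by simp [MulAut.congr]] at h1

/-- An automorphism normalizing the automorphisms induced by `S` extends to the normalizer. -/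
theorem exists_ext_to_normalizer (hS : IsPGroup p S) (hF : F.IsSaturated p) {M : Subgroup Ω}
    (hM : F.IsFullyNormalized M) {a : MulAut M} (ha : a ∈ F.autGroup M)
    (hnorm : ∀ π ∈ autInducedBy S M, a * π * a⁻¹ ∈ autInducedBy S M) :
    ∃ T : MulAut (FusionSystem.normalizerIn S M),
      ∀ (x : M) (hx : (x : Ω) ∈ FusionSystem.normalizerIn S M),
        ((T ⟨x, hx⟩ : FusionSystem.normalizerIn S M) : Ω) = (a x : M) := by
  have hMS := hM.1
  have := H96.finite_of_le (S := S) (P := FusionSystem.normalizerIn S M) inf_le_left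
  have haF := (H96.mem_autGroup F hMS).1 ha
  have hr : (M.subtype.comp a.toMonoidHom).range = M := H96.range_eq_of_forall_mem F haF fun x => (a x).2
  obtain ⟨ψ, hψ, hag⟩ := (H94.fullyNormalized_spec hS hF hM).2.2 M _ haF hr
  have hle : FusionSystem.normalizerIn S M ≤ FusionSystem.extender S M (M.subtype.comp a.toMonoidHom) := by
    intro g hg
    obtain ⟨γ, hγ, hγe⟩ := H94.exists_autInducedBy hg.1 hg.2
    obtain ⟨h, hh, hhe⟩ := H96.mem_autInducedBy.1 (hnorm γ hγ)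
    refine H96.mem_extender.2 ⟨hg.1, hg.2, h, hh, fun x hx => ?_⟩
    have h2 := hhe (a x)
    rw [MulAut.mul_apply, MulAut.mul_apply, show a⁻¹ (a x) = x from a.symm_apply_apply x,
      show γ x = ⟨g * x * g⁻¹, hx⟩ from Subtype.ext (hγe x)] at h2
    exact h2
  have hMN : M ≤ FusionSystem.normalizerIn S M := fun v hv => ⟨hMS hv, le_normalizer hv⟩
  set χ := H96.res ψ hle
  have hχ : χ ∈ F.Hom _ := H96.res_mem F hψ hle
  have hχM : ∀ x : M, χ ⟨x, hMN x.2⟩ = a x := fun x => hag x x.2 (hle (hMN x.2))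
  have hval : ∀ g, χ g ∈ FusionSystem.normalizerIn S M := fun g =>
    H94.apply_mem_normalizerIn hχ hMN (fun g hg => hg.2) (by
      rw [H96.map_subgroupOf_eq_range χ hMN]
      refine le_antisymm ?_ fun y hy => ?_
      · rintro _ ⟨x, rfl⟩
        show χ _ ∈ M
        rw [show χ (Subgroup.inclusion hMN x) = a x from hχM x]
        exact (a x).2
      · exact ⟨a.symm ⟨y, hy⟩, (hχM _).trans (by rw [a.apply_symm_apply])⟩) g
  exact ⟨MulEquiv.ofBijective (χ.codRestrict _ hval) ((Nat.bijective_iff_injective_and_card _).2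
    ⟨fun u v huv => F.injective_of_mem hχ (congrArg Subtype.val huv), rfl⟩), fun x _ => hχM x⟩

/-- The elements `e, x, w, z` are independent modulo `E2`. -/
theorem indep_of_tdata {G : Type*} [Group G] {E E2 : Subgroup G} [E.Normal] [E2.Normal] {x e w z : G}
    {τ T : MulAut G} {B : Subgroup (MulAut G)} {i r : ℤ} (h : TData p E E2 x e w z τ T B i r)
    (hE2 : E2 = nextP p E E) : ∀ a b c d : ℤ, e ^ a * x ^ b * w ^ c * z ^ d ∈ E2 →
      (p : ℤ) ∣ a ∧ (p : ℤ) ∣ b ∧ (p : ℤ) ∣ c ∧ (p : ℤ) ∣ d := by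
  have hpr := Nat.prime_iff_prime_int.1 (Fact.out : p.Prime)
  have hE2E : E2 ≤ E := hE2 ▸ nextP_le_self
  have hzE : z ∈ E := by
    rw [h.hz0, commutatorElement_def]; exact mul_mem (‹E.Normal›.conj_mem e h.he x) (inv_mem h.he)
  have hp : ∀ v ∈ E, v ^ p ∈ E2 := fun v hv => hE2 ▸ pow_mem_nextP hv
  have hinvb : ∀ {v : G} {n : ℤ} {K : Subgroup G}, v ^ n ∈ K → v ^ (p : ℤ) ∈ K → ¬ (p : ℤ) ∣ n → v ∈ K := by
    intro v n K h1 h2 hn
    obtain ⟨s, t, hst⟩ := (Prime.coprime_iff_not_dvd hpr).2 hn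
    have h3 := mul_mem (zpow_mem h2 s) (zpow_mem h1 t)
    rwa [← zpow_mul, ← zpow_mul, ← zpow_add, mul_comm (p : ℤ), mul_comm n, hst, zpow_one] at h3
  intro a b c d habcd
  have hzpE : ∀ (v : G) (n : ℤ), v ∈ E → (p : ℤ) ∣ n → v ^ n ∈ E2 := fun v n hv ⟨s, hs⟩ => by
    rw [hs, zpow_mul, zpow_natCast]; exact zpow_mem (hp v hv) s
  have hb : (p : ℤ) ∣ b := by
    by_contra hb
    refine h.hxE (hinvb (n := b) ?_ (by rw [zpow_natCast]; exact hE2E h.facts.xp) hb)
    have := mul_mem (mul_mem (mul_mem (inv_mem (zpow_mem h.he a)) (hE2E habcd)) (inv_mem (zpow_mem hzE d)))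
      (inv_mem (zpow_mem h.hw c))
    simpa [mul_assoc] using this
  set q := QuotientGroup.mk' E2
  have o : ∀ v, q v = 1 ↔ v ∈ E2 := fun v => QuotientGroup.eq_one_iff v
  have hxb : q x ^ b = 1 := by
    obtain ⟨s, rfl⟩ := hb
    rw [zpow_mul, zpow_natCast, ← map_pow, (o _).2 h.facts.xp, one_zpow]
  have h1 : q e ^ a * q w ^ c * q z ^ d = 1 := by
    have := (o _).2 habcd
    rwa [map_mul, map_mul, map_mul, map_zpow, map_zpow, map_zpow, map_zpow, hxb, mul_one] at this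
  have h2 : e ^ a * w ^ c * z ^ d ∈ E2 := (o _).1 (by rw [map_mul, map_mul, map_zpow, map_zpow, map_zpow]; exact h1)
  have hwm : w ∈ closure {z, w} ⊔ E2 := mem_sup_left (subset_closure (Or.inr rfl))
  have hzm : z ∈ closure {z, w} ⊔ E2 := mem_sup_left (subset_closure (Or.inl rfl))
  have ha : (p : ℤ) ∣ a := by
    by_contra ha
    refine h.he' (hinvb (n := a) ?_ (by rw [zpow_natCast]; exact mem_sup_right (hp e h.he)) ha)
    have := mul_mem (mul_mem (mem_sup_right (S := closure {z, w}) h2) (inv_mem (zpow_mem hzm d)))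
      (inv_mem (zpow_mem hwm c))
    simpa [mul_assoc] using this
  have h3 : w ^ c * z ^ d ∈ E2 := by
    have := mul_mem (inv_mem (hzpE e a h.he ha)) h2
    simpa [mul_assoc] using this
  have hzm' : z ∈ closure {z} ⊔ E2 := mem_sup_left (subset_closure rfl)
  have hc : (p : ℤ) ∣ c := by
    by_contra hc
    refine h.hw' (hinvb (n := c) ?_ (by rw [zpow_natCast]; exact mem_sup_right (hp w h.hw)) hc)
    have := mul_mem (mem_sup_right (S := closure {z}) h3) (inv_mem (zpow_mem hzm' d))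
    simpa [mul_assoc] using this
  refine ⟨ha, hb, hc, ?_⟩
  by_contra hd
  refine h.hz (hinvb (n := d) ?_ (by rw [zpow_natCast]; exact hp z hzE) hd)
  have := mul_mem (inv_mem (hzpE w c h.hw hc)) h3
  simpa [mul_assoc] using this

set_option maxHeartbeats 1000000 in
theorem essential_normal_of_rank_three (hp5 : 5 ≤ p) (hS : IsPGroup p S) (hr : Cfsg.SectionalPRankLE p 3 S)
    (hF : F.IsSaturated p) {E : Subgroup Ω} (hE : F.IsEssential p E) (hrk : (frattini E).index = p ^ 3) :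
    S ≤ Subgroup.normalizer (E : Set Ω) := by
  by_contra hnS
  have hp : p.Prime := Fact.out
  have hpr := Nat.prime_iff_prime_int.1 hp
  have hES : E ≤ S := hE.1.1
  set N := FusionSystem.normalizerIn S E with hNdef
  have hNS : N ≤ S := inf_le_left
  have hEN : E ≤ N := fun v hv => ⟨hES hv, le_normalizer hv⟩
  have := H96.finite_of_le hNS
  haveI : (E.subgroupOf N).Normal := (Subgroup.normal_subgroupOf_iff_le_normalizer hEN).2 inf_le_right
  obtain ⟨X, hR⟩ := exists_reduct hS hF hE (fun h => hnS (h ▸ le_normalizer)) hrk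
  set EN := E.subgroupOf N
  set B := F.autGroup N with hB
  have hNp : IsPGroup p N := hS.to_le hNS
  have hrN : Cfsg.SectionalPRankLE p 3 N :=
    sectional_of_injective (Subgroup.inclusion hNS) (Subgroup.inclusion_injective hNS) hr
  -- an automorphism moving `E`
  have hNne : N < S := lt_of_le_of_ne hNS fun h => hnS (h ▸ inf_le_right)
  obtain ⟨g, hgN', hgN⟩ := SetLike.exists_of_lt (H94.lt_normalizerIn hS hNne)
  set φ := H93.conjAut S N ⟨g, hgN'⟩ with hφdef
  have hφmem : φ ∈ autInducedBy S N := by rw [H93.autInducedBy_eq_range]; exact ⟨_, rfl⟩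
  have hφB : φ ∈ B := H96.autInducedBy_le_autGroup F hNS hφmem
  have hφp : IsPGroup p (zpowers φ) := (H94.isPGroup_autInducedBy hS).to_le (zpowers_le.2 hφmem)
  have hφE : ∃ a ∈ EN, φ a ∉ EN := by
    by_contra hh
    push Not at hh
    refine hgN ⟨hgN'.1, ?_⟩
    have := H96.finite_of_le hES
    exact H94.mem_normalizer_of_forall_conj_mem fun v hv => hh ⟨v, hEN hv⟩ hv
  by_cases hreg : ∃ (v : N) (m : EN ⧸ frattini EN),
      frattiniAct EN (MulAut.conjNormal v) (m⁻¹ * frattiniAct EN (MulAut.conjNormal v) m) ≠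
        m⁻¹ * frattiniAct EN (MulAut.conjNormal v) m
  · obtain ⟨v, m, hm⟩ := hreg
    exact regular_false hNp hp5 hrN hR hφp hφE hm
  push Not at hreg
  obtain ⟨x, e, w, z, τ, T, i, r, hT, hzx, hwx, hi3, ⟨cl, hTx⟩, hTE, hφe⟩ :=
    exists_tdata hNp hp5 hrN hR hφE hreg
  set E2 := nextP p EN EN with hE2
  haveI : E2.Normal := nextP_normal EN EN
  -- the fully normalized conjugate
  obtain ⟨N', e1, hfn, he1, htr⟩ := exists_transport (F := F) hS hNS
  have hN'S := hfn.1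
  have := H96.finite_of_le hN'S
  have hN'res : ∀ f : N ≃* N', N'.subtype.comp f.toMonoidHom ∈ F.Hom N →
      ∀ m, m ∈ S → m ∈ Subgroup.normalizer (N' : Set Ω) →
        (∀ v : N, v ∈ EN → ∃ v' : N, v' ∈ EN ∧ m * (f v : Ω) * m⁻¹ = f v') → m ∈ N' := by
    intro f hf m hmS _ hmE
    set E' := (EN.map f.toMonoidHom).map N'.subtype with hE'
    have hconj : F.IsConj E E' := by
      refine ⟨_, H96.res_mem F hf hEN, ?_⟩
      ext y
      constructor
      · rintro ⟨v, rfl⟩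
        exact ⟨f ⟨v, hEN v.2⟩, ⟨⟨v, hEN v.2⟩, v.2, rfl⟩, rfl⟩
      · rintro ⟨_, ⟨v, hv, rfl⟩, rfl⟩
        exact ⟨⟨v, hv⟩, rfl⟩
    have hle : N' ≤ FusionSystem.normalizerIn S E' := by
      refine fun y hy => ⟨hN'S hy, ?_⟩
      have := H96.finite_of_le (H94.le_of_isConj hconj).2
      refine H94.mem_normalizer_of_forall_conj_mem ?_
      rintro _ ⟨_, ⟨v, hv, rfl⟩, rfl⟩
      refine ⟨f (f.symm ⟨y, hy⟩ * v * (f.symm ⟨y, hy⟩)⁻¹), ⟨_, ?_, rfl⟩, ?_⟩
      · exact ‹EN.Normal›.conj_mem v hv _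
      · show ((f (f.symm ⟨y, hy⟩ * v * (f.symm ⟨y, hy⟩)⁻¹) : N') : Ω) = y * (f v : N') * y⁻¹
        rw [map_mul, map_mul, map_inv, f.apply_symm_apply]
        rfl
    have hcard : Nat.card (FusionSystem.normalizerIn S E') ≤ Nat.card N' := by
      rw [← Nat.card_congr f.toEquiv]
      exact hE.2.1.2 E' hconj
    have := H96.finite_of_le (S := S) (P := FusionSystem.normalizerIn S E') inf_le_left
    rw [eq_of_le_of_card_ge hle hcard]
    refine ⟨hmS, ?_⟩
    have := H96.finite_of_le (H94.le_of_isConj hconj).2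
    refine H94.mem_normalizer_of_forall_conj_mem ?_
    rintro _ ⟨_, ⟨v, hv, rfl⟩, rfl⟩
    obtain ⟨v', hv', hvv⟩ := hmE v hv
    exact ⟨f v', ⟨v', hv', rfl⟩, hvv.symm⟩
  have hfull := (H94.fullyNormalized_spec hS hF hfn).1
  have hOp : ∀ L ≤ B, (∀ a ∈ B, ∀ l ∈ L, a * l * a⁻¹ ∈ L) → IsPGroup p L →
      ∀ β ∈ L, (∀ a ∈ EN, β a ∈ EN) → ∃ n : N, β = MulAut.conj n := by
    intro L hL hLn hLp β hβ hβE
    obtain ⟨σ', hσ', hσL⟩ := H93.exists_conj_le_autInducedBy hfull
      (T := L.map (MulAut.congr e1).toMonoidHom) (by rintro _ ⟨l, hl, rfl⟩; exact (htr l).1 (hL hl))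
      (hLp.map _)
    obtain ⟨σ, hσe⟩ : ∃ σ, MulAut.congr e1 σ = σ' := ⟨_, (MulAut.congr e1).apply_symm_apply σ'⟩
    have hσB : σ ∈ B := (htr σ).2 (hσe.symm ▸ hσ')
    obtain ⟨m, hmS, hme⟩ := H96.mem_autInducedBy.1 (hσL (MulAut.congr e1 (σ⁻¹ * β * σ))
      (mem_map_of_mem _ (by simpa using hLn σ⁻¹ (inv_mem hσB) β hβ)))
    have hmv : ∀ v : N, m * (e1 v : Ω) * m⁻¹ = e1 (β v) := by
      intro v
      rw [← hme (e1 v), ← hσe, ← map_inv, ← map_mul, ← map_mul,
        show σ * (σ⁻¹ * β * σ) * σ⁻¹ = β by group]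
      show ((e1 (β (e1.symm (e1 v))) : N') : Ω) = _
      rw [e1.symm_apply_apply]
    have hm := hN'res e1 he1 m hmS (H93.mem_normalizer_of_conj_eq hme) fun v hv => ⟨β v, hβE v hv, hmv v⟩
    refine ⟨e1.symm ⟨m, hm⟩, MulEquiv.ext fun v => e1.injective (Subtype.ext ?_)⟩
    rw [← hmv, MulAut.conj_apply, map_mul, map_mul, map_inv, e1.apply_symm_apply]
    rfl
  obtain ⟨u, b, c, hu⟩ := exists_shear hNp hp5 hE2 hT hOp hφB hφp hφe
  -- move `u` into the automorphisms induced by `S`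
  obtain ⟨σ', hσ', hσu⟩ := H93.exists_conj_le_autInducedBy hfull
    (T := (zpowers u).map (MulAut.congr e1).toMonoidHom)
    (by rintro _ ⟨l, hl, rfl⟩; exact (htr l).1 ((zpowers_le.2 hu.mem) hl)) (hu.pgrp.map _)
  set f : N ≃* N' := e1.trans σ' with hfdef
  have hfF : N'.subtype.comp f.toMonoidHom ∈ F.Hom N := by
    obtain ⟨χ, hχ, hχe⟩ := H96.exists_comp F he1 ((H96.mem_autGroup F hN'S).1 hσ') fun v => (e1 v).2
    exact H96.mem_congr F hχ fun v => (hχe v).symm
  have hcf : ∀ α : MulAut N, MulAut.congr f α = σ' * MulAut.congr e1 α * σ'⁻¹ := fun α =>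
    MulEquiv.ext fun y => rfl
  have htrf : ∀ α : MulAut N, α ∈ B ↔ MulAut.congr f α ∈ F.autGroup N' := fun α => by
    rw [hcf, htr]
    refine ⟨fun h => mul_mem (mul_mem hσ' h) (inv_mem hσ'), fun h => ?_⟩
    have := mul_mem (mul_mem (inv_mem hσ') h) hσ'
    rwa [← mul_assoc, ← mul_assoc, inv_mul_cancel, one_mul, inv_mul_cancel_right] at this
  have huR : MulAut.congr f u ∈ autInducedBy S N' := by
    rw [hcf]; exact hσu _ (mem_map_of_mem _ (mem_zpowers u))
  set L := (autInducedBy S N').map (MulAut.congr f).symm.toMonoidHom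
  have hLB : L ≤ B := by
    rintro _ ⟨π, hπ, rfl⟩
    refine (htrf _).2 ?_
    show MulAut.congr f ((MulAut.congr f).symm π) ∈ _
    rw [MulEquiv.apply_symm_apply]
    exact H96.autInducedBy_le_autGroup F hN'S hπ
  have hsyl := hu.sylow L hLB ((H94.isPGroup_autInducedBy hS).map _)
    ⟨_, huR, (MulAut.congr f).symm_apply_apply u⟩
  obtain ⟨n0, k, hk, hTu⟩ := hu.tconj
  have hconjmem : ∀ n : N, MulAut.congr f (MulAut.conj n) ∈ autInducedBy S N' := fun n =>
    H96.mem_autInducedBy.2 ⟨f n, hN'S (f n).2, fun y => by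
      show ((f (n * f.symm y * n⁻¹) : N') : Ω) = _
      rw [map_mul, map_mul, map_inv, f.apply_symm_apply]
      rfl⟩
  set T' := MulAut.congr f T with hT'
  have hT'n : ∀ π ∈ autInducedBy S N', T' * π * T'⁻¹ ∈ autInducedBy S N' := by
    intro π hπ
    obtain ⟨n, j, hnj⟩ := hsyl ((MulAut.congr f).symm π) (mem_map_of_mem _ hπ)
    have e0 : π = MulAut.congr f (MulAut.conj n * u ^ j) := by
      rw [← hnj, MulEquiv.apply_symm_apply]
    have hTn : T * MulAut.conj n * T⁻¹ = MulAut.conj (T n) := MulEquiv.ext fun y => by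
      rw [MulAut.mul_apply, MulAut.mul_apply, MulAut.conj_apply, MulAut.conj_apply, map_mul, map_mul, map_inv,
        show T (T⁻¹ y) = y from T.apply_symm_apply y]
    rw [e0, ← map_inv, ← map_mul, ← map_mul,
      show T * (MulAut.conj n * u ^ j) * T⁻¹ = (T * MulAut.conj n * T⁻¹) * (T * u * T⁻¹) ^ j by
        rw [conj_zpow]; group,
      hTn, hTu, map_mul, map_zpow, map_mul, map_zpow]
    exact mul_mem (hconjmem _) (zpow_mem (mul_mem (hconjmem _) (zpow_mem huR _)) _)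
  have hT'B : T' ∈ F.autGroup N' := (htrf T).1 hT.TB
  set M := FusionSystem.normalizerIn S N' with hMdef
  have hMS : M ≤ S := inf_le_left
  have hN'M : N' ≤ M := fun v hv => ⟨hN'S hv, le_normalizer hv⟩
  have := H96.finite_of_le hMS
  obtain ⟨TT, hTT⟩ := exists_ext_to_normalizer hS hF hfn hT'B hT'n
  obtain ⟨m0, hm0S, hm0⟩ := H96.mem_autInducedBy.1 huR
  have hm0M : m0 ∈ M := ⟨hm0S, H93.mem_normalizer_of_conj_eq hm0⟩
  set m : M := ⟨m0, hm0M⟩
  let j : N →* M := (Subgroup.inclusion hN'M).comp f.toMonoidHom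
  have hjinj : Function.Injective j := (Subgroup.inclusion_injective hN'M).comp f.injective
  have hjrange : ∀ v : M, v ∈ N'.subgroupOf M ↔ ∃ a, j a = v := fun v => ⟨fun hv =>
    ⟨f.symm ⟨(v : Ω), mem_subgroupOf.1 hv⟩, Subtype.ext (by
      show ((f (f.symm _) : N') : Ω) = v
      rw [f.apply_symm_apply])⟩, by rintro ⟨a, rfl⟩; exact mem_subgroupOf.2 (f a).2⟩
  have hju : ∀ a : N, m * j a * m⁻¹ = j (u a) := fun a => Subtype.ext (by
    show m0 * (f a : Ω) * m0⁻¹ = f (u a)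
    rw [← hm0 (f a)]
    show ((f (u (f.symm (f a))) : N') : Ω) = _
    rw [f.symm_apply_apply])
  have hjT : ∀ a : N, TT (j a) = j (T a) := fun a => Subtype.ext (by
    show ((TT ⟨(f a : Ω), hN'M (f a).2⟩ : M) : Ω) = f (T a)
    refine (hTT (f a) _).trans ?_
    show ((f (T (f.symm (f a))) : N') : Ω) = _
    rw [f.symm_apply_apply])
  haveI : (N'.subgroupOf M).Normal := (Subgroup.normal_subgroupOf_iff_le_normalizer hN'M).2 inf_le_right
  set D := E2.map j with hD
  haveI : D.Normal := ⟨by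
    rintro _ ⟨a, ha, rfl⟩ v
    obtain ⟨γ, hγ, hγe⟩ := H94.exists_autInducedBy (hMS v.2) v.2.2
    set δ := (MulAut.congr f).symm γ
    refine ⟨δ a, hT.facts.e2_inv δ a ha, Subtype.ext ?_⟩
    show ((f (f.symm (γ (f a))) : N') : Ω) = v * (f a : Ω) * (v : Ω)⁻¹
    rw [f.apply_symm_apply, hγe]⟩
  have hDm : ∀ {a : N}, a ∈ E2 → j a ∈ D := fun ha => mem_map_of_mem j ha
  have hzD : ∀ {a : N}, a ∈ closure {z} ⊔ E2 → j a ∈ closure {j z} ⊔ D := fun {a} ha => by
    have := mem_map_of_mem j ha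
    rwa [Subgroup.map_sup, MonoidHom.map_closure, Set.image_singleton] at this
  -- the quotient facts on `N`
  have hgenN : (⊤ : Subgroup N) ≤ closure {e, x, w, z} ⊔ E2 := by
    refine hT.hgen.trans (sup_le ((Subgroup.closure_mono (by simp)).trans le_sup_left)
      (hT.hEgen.trans (sup_le_sup_right (Subgroup.closure_mono ?_) _)))
    rintro v (rfl | rfl | rfl) <;> simp
  have hzE : z ∈ EN := by
    rw [hT.hz0, commutatorElement_def]; exact mul_mem (‹EN.Normal›.conj_mem e hT.he x) (inv_mem hT.he)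
  have hE2E : E2 ≤ EN := nextP_le_self
  have hkk : ¬ (p : ℤ) ∣ k - 1 ∧ ¬ (p : ℤ) ∣ k - i := by
    refine ⟨fun h => hi3 ?_, fun h => ?_⟩
    · have := dvd_sub h hk; rwa [show k - 1 - (k - i * i * i) = i * i * i - 1 by ring] at this
    · have h2 := dvd_sub h hk
      rw [show k - i - (k - i * i * i) = i * (i * i - 1) by ring] at h2
      rcases hpr.dvd_mul.1 h2 with h3 | h3
      · have h4 : (p : ℤ) ∣ 1 := by
          have := dvd_sub (dvd_mul_of_dvd_left h3 r) hT.hir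
          rwa [sub_sub_cancel] at this
        exact absurd (Nat.le_of_dvd one_pos (by exact_mod_cast h4)) (by omega)
      · exact hT.hi2 h3
  have hl : ¬ (p : ℤ) ∣ i * i := fun h => by
    have h4 : (p : ℤ) ∣ 1 := by
      rcases hpr.dvd_mul.1 h with h3 | h3 <;>
      · have := dvd_sub (dvd_mul_of_dvd_left h3 r) hT.hir
        rwa [sub_sub_cancel] at this
    exact absurd (Nat.le_of_dvd one_pos (by exact_mod_cast h4)) (by omega)
  have hcen : ∀ v ∈ M, (∀ a : N', v * (a : Ω) * v⁻¹ = a) → v ∈ N' := by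
    intro v hv hva
    refine hN'res f hfF v (hMS hv) hv.2 fun a ha => ⟨a, ha, hva (f a)⟩
  have huE : ¬ ∀ a ∈ EN, u a ∈ EN := fun h => hu.hb (by
    have h1 := h e hT.he
    have h2 : (e * x ^ b * w ^ c)⁻¹ * u e ∈ EN :=
      (sup_le ((closure_le _).2 (Set.singleton_subset_iff.2 hzE)) hE2E) hu.ue
    have h3 : x ^ b ∈ EN := by
      have := mul_mem (mul_mem (mul_mem (inv_mem hT.he) h1) (inv_mem h2)) (inv_mem (zpow_mem hT.hw c))
      simpa [mul_assoc] using this
    by_contra hb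
    obtain ⟨s, t, hst⟩ := (Prime.coprime_iff_not_dvd hpr).2 hb
    have hxp : x ^ (p : ℤ) ∈ EN := by rw [zpow_natCast]; exact hE2E hT.facts.xp
    have h4 := mul_mem (zpow_mem hxp s) (zpow_mem h3 t)
    rw [← zpow_mul, ← zpow_mul, ← zpow_add, mul_comm (p : ℤ), mul_comm b, hst, zpow_one] at h4
    exact hT.hxE h4)
  have hzx' : ⁅z, x⁆ ∈ E2 := by rw [← commutatorElement_inv]; exact inv_mem hzx
  refine endgame (hS.to_le hMS) hp5 (sectional_of_injective (Subgroup.inclusion hMS)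
      (Subgroup.inclusion_injective hMS) hr) (N := N'.subgroupOf M) (D := D) ?_
    (e := j e) (x := j x) (w := j w) (z := j z) (m := m) ((hjrange _).2 ⟨e, rfl⟩) ((hjrange _).2 ⟨x, rfl⟩)
    ((hjrange _).2 ⟨w, rfl⟩) ((hjrange _).2 ⟨z, rfl⟩) ?_ ?_ ?_ ?_ ?_ ?_ ?_ ?_ ?_ ?_ ?_ ?_ ?_ ?_ hu.hb (c := c)
    ?_ ?_ ?_ ?_ TT ?_ (k := k) (i := i) (l := i * i) (cl := cl) ?_ ?_ ?_ hl ?_ ?_ hkk.1 hkk.2
  · rintro _ ⟨a, -, rfl⟩; exact (hjrange _).2 ⟨a, rfl⟩
  · intro v hv
    obtain ⟨a, rfl⟩ := (hjrange v).1 hv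
    have := mem_map_of_mem j (hgenN (mem_top a))
    rwa [Subgroup.map_sup, MonoidHom.map_closure, Set.image_insert_eq, Set.image_insert_eq, Set.image_insert_eq,
      Set.image_singleton] at this
  · rw [← map_commutatorElement, ← map_inv, ← map_mul, ← hT.hz0, inv_mul_cancel]; exact hDm (one_mem _)
  · rw [← map_commutatorElement]; exact hDm hwx
  · rw [← map_commutatorElement]; exact hDm hT.facts.ew
  · rw [← map_commutatorElement]; exact hDm (comm_mem_nextP hzE hT.he)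
  · rw [← map_commutatorElement]; exact hDm hzx'
  · rw [← map_commutatorElement]; exact hDm (comm_mem_nextP hzE hT.hw)
  · rw [← map_pow]; exact hDm (pow_mem_nextP hT.he)
  · rw [← map_pow]; exact hDm hT.facts.xp
  · rw [← map_pow]; exact hDm (pow_mem_nextP hT.hw)
  · rw [← map_pow]; exact hDm (pow_mem_nextP hzE)
  · intro a b' c' d hd
    simp only [← map_zpow, ← map_mul] at hd
    exact indep_of_tdata hT hE2 a b' c' d ((mem_map_iff_mem hjinj).1 hd)
  · intro hm
    obtain ⟨a, ha⟩ := (hjrange m).1 hm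
    refine huE fun v hv => ?_
    have h := hju v
    rw [← ha, ← map_inv, ← map_mul, ← map_mul] at h
    rw [← hjinj h]
    exact ‹EN.Normal›.conj_mem v hv a
  · obtain ⟨n, hn⟩ := hu.upow
    have hpow : ∀ (t : ℕ) (a : N), m ^ t * j a * (m ^ t)⁻¹ = j ((u ^ t) a) := by
      intro t a
      induction t with
      | zero => simp
      | succ t ih =>
        rw [pow_succ', show m * m ^ t * j a * (m * m ^ t)⁻¹ = m * (m ^ t * j a * (m ^ t)⁻¹) * m⁻¹ by group, ih, hju,
          ← MulAut.mul_apply, ← pow_succ']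
    have hv : ((j n)⁻¹ * m ^ p : M) ∈ N'.subgroupOf M := by
      refine mem_subgroupOf.2 (hcen _ ((j n)⁻¹ * m ^ p).2 fun a => ?_)
      have h := hpow p (f.symm a)
      rw [hn, MulAut.conj_apply, map_mul, map_mul, map_inv] at h
      have h2 : (j n)⁻¹ * m ^ p * j (f.symm a) * ((j n)⁻¹ * m ^ p)⁻¹ = j (f.symm a) := by
        calc (j n)⁻¹ * m ^ p * j (f.symm a) * ((j n)⁻¹ * m ^ p)⁻¹
            = (j n)⁻¹ * (m ^ p * j (f.symm a) * (m ^ p)⁻¹) * j n := by group
          _ = j (f.symm a) := by rw [h]; group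
      have h3 := congrArg Subtype.val h2
      rw [Subgroup.coe_mul, Subgroup.coe_mul, InvMemClass.coe_inv, show ((j (f.symm a) : M) : Ω) = a by show ((f (f.symm a) : N') : Ω) = a; rw [f.apply_symm_apply]] at h3
      exact h3
    have := mul_mem ((hjrange (j n)).2 ⟨n, rfl⟩) hv
    rwa [mul_inv_cancel_left] at this
  · rw [hju, ← map_zpow, ← map_zpow, ← map_mul, ← map_mul, ← map_inv, ← map_mul]; exact hzD hu.ue
  · rw [hju, ← map_inv, ← map_mul]; exact hzD hu.ux
  · rw [hju, ← map_inv, ← map_mul]; exact hDm hu.uw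
  · rw [hju, ← map_inv, ← map_mul]; exact hDm hu.uz
  · rintro _ ⟨a, ha, rfl⟩
    rw [hjT]; exact hDm (hT.facts.e2_inv T a ha)
  · -- `TT m` induces `T u T⁻¹`
    have hv : (j n0 * m ^ k)⁻¹ * TT m ∈ N'.subgroupOf M := by
      refine mem_subgroupOf.2 (hcen _ ((j n0 * m ^ k)⁻¹ * TT m).2 fun a => ?_)
      have hmk : ∀ (t : ℤ) (a : N), m ^ t * j a * (m ^ t)⁻¹ = j ((u ^ t) a) := by
        intro t
        induction t with
        | zero => intro a; simp
        | succ t ih =>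
          intro a
          rw [zpow_add_one, zpow_add_one, show m ^ (t : ℤ) * m * j a * (m ^ (t : ℤ) * m)⁻¹ =
            m ^ (t : ℤ) * (m * j a * m⁻¹) * (m ^ (t : ℤ))⁻¹ by group, hju, ih, MulAut.mul_apply]
        | pred t ih =>
          intro a
          have h0 : m⁻¹ * j a * m = j (u⁻¹ a) := by
            have h := hju (u⁻¹ a)
            rw [show u (u⁻¹ a) = a from u.apply_symm_apply a] at h
            rw [← h]; group
          rw [zpow_sub_one, zpow_sub_one, show m ^ (-(t : ℤ)) * m⁻¹ * j a * (m ^ (-(t : ℤ)) * m⁻¹)⁻¹ =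
            m ^ (-(t : ℤ)) * (m⁻¹ * j a * m) * (m ^ (-(t : ℤ)))⁻¹ by group, h0, ih, MulAut.mul_apply]
      set b0 := f.symm a
      obtain ⟨b1, hb1⟩ := T.surjective b0
      have h1 : TT m * j b0 * (TT m)⁻¹ = j ((MulAut.conj n0 * u ^ k) b0) := by
        rw [← hTu, ← hb1, ← hjT, ← map_inv, ← map_mul, ← map_mul, hju, hjT, MulAut.mul_apply, MulAut.mul_apply,
          show T⁻¹ (T b1) = b1 from T.symm_apply_apply b1]
      have h2 : j n0 * m ^ k * j b0 * (j n0 * m ^ k)⁻¹ = j ((MulAut.conj n0 * u ^ k) b0) := by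
        rw [MulAut.mul_apply, MulAut.conj_apply, map_mul, map_mul, map_inv, ← hmk k b0]; group
      have h3 : (j n0 * m ^ k)⁻¹ * TT m * j b0 * ((j n0 * m ^ k)⁻¹ * TT m)⁻¹ = j b0 := by
        calc (j n0 * m ^ k)⁻¹ * TT m * j b0 * ((j n0 * m ^ k)⁻¹ * TT m)⁻¹
            = (j n0 * m ^ k)⁻¹ * (TT m * j b0 * (TT m)⁻¹) * (j n0 * m ^ k) := by group
          _ = j b0 := by rw [h1, ← h2]; group
      have h4 := congrArg Subtype.val h3
      generalize (j n0 * m ^ k)⁻¹ * TT m = v at h4 ⊢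
      rw [Subgroup.coe_mul, Subgroup.coe_mul, InvMemClass.coe_inv,
        show ((j b0 : M) : Ω) = a by show ((f (f.symm a) : N') : Ω) = a; rw [f.apply_symm_apply]] at h4
      exact h4
    rw [show (m ^ k)⁻¹ * TT m = (m ^ k)⁻¹ * j n0 * ((m ^ k)⁻¹)⁻¹ * ((j n0 * m ^ k)⁻¹ * TT m) by group]
    exact mul_mem (‹(N'.subgroupOf M).Normal›.conj_mem _ ((hjrange _).2 ⟨n0, rfl⟩) _) hv
  · intro a ha
    obtain ⟨a, rfl⟩ := (hjrange a).1 ha
    rw [hjT]; exact (hjrange _).2 ⟨_, rfl⟩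
  · rw [hjT, ← map_zpow, ← map_zpow, ← map_mul, ← map_inv, ← map_mul]; exact mem_sup_right (hDm hTx)
  · rw [hjT, ← map_inv, ← map_mul]; exact hzD hT.Tw
  · rw [hjT, ← map_zpow, ← map_inv, ← map_mul]; exact hDm hT.Tz

end Cfsg.Agent.H95
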