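import Cfsg.Agent.H95.RankThreeTorus
import Cfsg.Agent.H95.NormalCriteria
import Cfsg.Agent.H93.Essential
import Cfsg.Agent.H58.ExtraspecialCongr

/-!
The data provided by an essential subgroup with three generators that is not the whole group.
-/
set_option autoImplicit false

namespace Cfsg.Agent.H95

open Cfsg Subgroup
open scoped commutatorElement

/-- Sectional rank bounds pass to subgroups. -/
theorem sectional_of_injective {X Y : Type*} [Group X] [Group Y] (f : X →* Y) (hf : Function.Injective f) {p k : ℕ}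
    (h : Cfsg.SectionalPRankLE p k Y) : Cfsg.SectionalPRankLE p k X := by
  intro H N hN A hA hAp
  let e := H.equivMapOfInjective f hf
  haveI : (N.map e.toMonoidHom).Normal := hN.map _ e.surjective
  let ε : H ⧸ N ≃* (H.map f) ⧸ N.map e.toMonoidHom := QuotientGroup.congr N _ e rfl
  have h' := h (H.map f) (N.map e.toMonoidHom) (A.map ε.toMonoidHom) ?_ ?_
  · exact (Nat.card_congr (A.equivMapOfInjective ε.toMonoidHom ε.injective).toEquiv).trans_le h'
  · refine ⟨⟨fun a b => Subtype.ext ?_⟩⟩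
    obtain ⟨_, a, ha, rfl⟩ := a
    obtain ⟨_, b, hb, rfl⟩ := b
    show ε a * ε b = ε b * ε a
    rw [← map_mul, ← map_mul, show a * b = b * a from
      congrArg Subtype.val (mul_comm' (⟨a, ha⟩ : A) ⟨b, hb⟩)]
  · rintro _ ⟨a, ha, rfl⟩
    rw [← map_pow, hAp a ha, map_one]

variable {Ω : Type*} [Group Ω] {S : Subgroup Ω} [Finite S] {p : ℕ} [Fact p.Prime] {F : FusionSystem S}

/-- Two induced outer automorphisms, one moved by a suitable automorphism, do not generate a `p`-group. -/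
theorem exists_separating (hS : IsPGroup p S) (hF : F.IsSaturated p) {U : Subgroup Ω} (hess : F.IsEssential p U) :
    ∃ g ∈ F.autGroup U, ∀ a ∈ autInducedBy S U, ∀ b ∈ autInducedBy S U, a ∉ Inn U → b ∉ Inn U →
      ¬ IsPGroup p (closure ({a, g * b * g⁻¹} : Set (MulAut U))) := by
  obtain ⟨hc, hn, hnor, Y, hY⟩ := hess
  have := H96.finite_of_le hc.1
  have := H93.finite_mulAut hc.1
  set A := F.autGroup U with hA
  obtain ⟨R, hR⟩ := (H94.fullyNormalized_spec hS hF hn).1.2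
  set I := (Inn U).subgroupOf A with hI
  set q := QuotientGroup.mk' I with hq
  have hqs : Function.Surjective q := QuotientGroup.mk'_surjective I
  obtain ⟨-, hYne, P0, hcore⟩ := hY
  obtain ⟨c₀, hc₀⟩ := MulAction.exists_smul_eq (A ⧸ I) (R.mapSurjective hqs) P0
  let c : A →* A ⧸ I := (MulAut.conj c₀).toMonoidHom.comp q
  have hc2 : Function.Surjective c := (MulAut.conj c₀).surjective.comp hqs
  have hcR : ∀ a : A, (a : MulAut U) ∈ autInducedBy S U → c a ∈ (P0 : Subgroup (A ⧸ I)) := by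
    intro a ha
    rw [← hc₀, Sylow.coe_subgroup_smul]
    exact Subgroup.smul_mem_pointwise_smul (q a) (MulAut.conj c₀) _
      (show q a ∈ (R : Subgroup A).map q from mem_map_of_mem q (show a ∈ (R : Subgroup A) from hR.ge ha))
  have hmove : ∀ (σ γ : A), (γ : MulAut U) ∈ autInducedBy S U → (γ : MulAut U) ∉ Inn U →
      ((σ * γ * σ⁻¹ : A) : MulAut U) ∈ autInducedBy S U → c σ ∈ Y := by
    intro σ γ hγ hγ1 hσγ
    refine H93.mem_of_kGeneratedCore_le P0 hcore (T := Subgroup.zpowers (c γ))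
      (Subgroup.zpowers_le.2 (hcR γ hγ)) (fun e => ?_) ?_
    · have h1 : q γ = 1 := (MulAut.conj c₀).injective (by
        rw [map_one]; exact Subgroup.zpowers_eq_bot.1 e)
      exact hγ1 (mem_subgroupOf.1 ((QuotientGroup.eq_one_iff γ).1 h1))
    · rw [MonoidHom.map_zpowers, Subgroup.zpowers_le]
      show c σ * c γ * (c σ)⁻¹ ∈ _
      rw [← map_inv, ← map_mul, ← map_mul]
      exact hcR _ hσγ
  obtain ⟨y, hy⟩ : ∃ y, y ∉ Y := by
    by_contra h
    push Not at h
    exact hYne (eq_top_iff.2 fun y _ => h y)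
  obtain ⟨g, rfl⟩ := hc2 y
  refine ⟨g, g.2, fun a ha b hb haI hbI hP => hy ?_⟩
  have haA : a ∈ A := H96.autInducedBy_le_autGroup F hc.1 ha
  have hbA : b ∈ A := H96.autInducedBy_le_autGroup F hc.1 hb
  obtain ⟨σ, hσA, hσ⟩ := H93.exists_conj_le_autInducedBy (H94.fullyNormalized_spec hS hF hn).1
    (T := closure ({a, (g : MulAut U) * b * (g : MulAut U)⁻¹} : Set (MulAut U)))
    ((closure_le _).2 (by
      rintro _ (rfl | rfl)
      exacts [haA, mul_mem (mul_mem g.2 hbA) (inv_mem g.2)])) hP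
  have h1 : c ⟨σ, hσA⟩ ∈ Y := hmove ⟨σ, hσA⟩ ⟨a, haA⟩ ha haI (hσ a (subset_closure (Set.mem_insert a _)))
  have hel : σ * (g : MulAut U) * b * (σ * (g : MulAut U))⁻¹ ∈ autInducedBy S U := by
    have h := hσ ((g : MulAut U) * b * (g : MulAut U)⁻¹) (subset_closure (Set.mem_insert_of_mem _ rfl))
    simp only [mul_assoc, _root_.mul_inv_rev] at h ⊢
    exact h
  have h2' : c ⟨σ * (g : MulAut U), mul_mem hσA g.2⟩ ∈ Y :=
    hmove ⟨σ * (g : MulAut U), mul_mem hσA g.2⟩ ⟨b, hbA⟩ hb hbI hel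
  have h2 : c (⟨σ, hσA⟩ * g) ∈ Y :=
    (show (⟨σ, hσA⟩ * g : A) = ⟨σ * (g : MulAut U), mul_mem hσA g.2⟩ from Subtype.ext rfl) ▸ h2'
  rw [map_mul] at h2
  have := Y.mul_mem (Y.inv_mem h1) h2
  rwa [inv_mul_cancel_left] at this

set_option maxHeartbeats 800000 in
theorem exists_reduct (hS : IsPGroup p S) (hF : F.IsSaturated p) {E : Subgroup Ω} (hE : F.IsEssential p E)
    (hne : E ≠ S) (hrk : (frattini E).index = p ^ 3)
    [(E.subgroupOf (FusionSystem.normalizerIn S E)).Normal] :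
    ∃ X, Reduct p (E.subgroupOf (FusionSystem.normalizerIn S E)) X
      (F.autGroup (FusionSystem.normalizerIn S E)) := by
  have hp : p.Prime := Fact.out
  have hES : E ≤ S := hE.1.1
  set N := FusionSystem.normalizerIn S E with hNdef
  have hNS : N ≤ S := inf_le_left
  have hEN : E ≤ N := fun v hv => ⟨hES hv, le_normalizer hv⟩
  have := H96.finite_of_le hES
  have := H96.finite_of_le hNS
  have := H93.finite_mulAut hES
  set EN := E.subgroupOf N with hEN'
  let e0 : EN ≃* E := subgroupOfEquivOfLe hEN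
  have hNp : IsPGroup p N := hS.to_le hNS
  have hENp : IsPGroup p EN := hNp.to_subgroup EN
  letI := frattiniCommGroup hENp
  set A := F.autGroup E with hA
  let Φ : MulAut E →* MulAut (EN ⧸ frattini EN) :=
    (frattiniAct EN).comp (MulAut.congr e0.symm).toMonoidHom
  have hΦk : IsPGroup p Φ.ker := by
    refine (frattiniAct_ker hENp).comap_of_injective (MulAut.congr e0.symm).toMonoidHom
      (MulAut.congr e0.symm).injective |>.to_le ?_
    intro a ha
    exact ha
  have hconj : ∀ g : N, Φ (H93.conjAut S E g) = frattiniAct EN (MulAut.conjNormal g) := fun g => by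
    refine congrArg (frattiniAct EN) (MulEquiv.ext fun v => Subtype.ext (Subtype.ext ?_))
    rfl
  have hinn : ∀ a : E, Φ (MulAut.conj a) = 1 := fun a => by
    show frattiniAct EN (MulAut.congr e0.symm (MulAut.conj a)) = 1
    rw [show MulAut.congr e0.symm (MulAut.conj a) = MulAut.conj (e0.symm a) from MulEquiv.ext fun v =>
      Subtype.ext (Subtype.ext rfl)]
    exact frattiniAct_conj hENp _
  have hr := H93.IsEssential.isRadical hS hE
  -- normal `p`-subgroups act trivially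
  have hpc : ∀ K ≤ A, (∀ a ∈ A, ∀ k ∈ K, a * k * a⁻¹ ∈ K) → IsPGroup p K → K ≤ Inn E := by
    intro K hK hKn hKp k hk
    rw [← hr.2]
    refine ⟨⟨k, hK hk⟩, H19.le_pCore ⟨fun k' hk' a => ?_⟩
      (IsPGroup.of_equiv hKp (Subgroup.subgroupOfEquivOfLe hK).symm) (Subgroup.mem_subgroupOf.2 hk), rfl⟩
    exact Subgroup.mem_subgroupOf.2 (hKn a a.2 k' (Subgroup.mem_subgroupOf.1 hk'))
  have hker : ∀ a ∈ A, Φ a = 1 → a ∈ Inn E := fun a ha h1 =>
    hpc (A ⊓ Φ.ker) inf_le_left (fun b hb k hk => Subgroup.mem_inf.2 ⟨mul_mem (mul_mem hb hk.1) (inv_mem hb),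
      by
        show Φ (b * k * b⁻¹) = 1
        rw [map_mul, map_mul, map_inv, MonoidHom.mem_ker.1 hk.2, mul_one, mul_inv_cancel]⟩) (hΦk.to_le inf_le_right) ⟨ha, h1⟩
  have hcA : ∀ g : N, H93.conjAut S E g ∈ A := fun g =>
    H96.autInducedBy_le_autGroup F hES (by rw [H93.autInducedBy_eq_range]; exact ⟨g, rfl⟩)
  have hfaith : ∀ g : N, frattiniAct EN (MulAut.conjNormal g) = 1 → g ∈ EN := by
    intro g hg
    refine mem_subgroupOf.2 (mem_of_induced_of_normal_pGroup hE.1 hr (K := A ⊓ Φ.ker) inf_le_left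
      (fun b hb k hk => Subgroup.mem_inf.2 ⟨mul_mem (mul_mem hb hk.1) (inv_mem hb),
        by
          show Φ (b * k * b⁻¹) = 1
          rw [map_mul, map_mul, map_inv, MonoidHom.mem_ker.1 hk.2, mul_one, mul_inv_cancel]⟩) (hΦk.to_le inf_le_right) g.2.1 (α := H93.conjAut S E g)
      ⟨hcA g, show Φ _ = 1 by rw [hconj, hg]⟩ fun v => rfl)
  set X := A.map Φ with hX
  set ρc : N →* MulAut (EN ⧸ frattini EN) := (frattiniAct EN).comp MulAut.conjNormal with hρc
  have hindR : ∀ a ∈ autInducedBy S E, Φ a ∈ ρc.range := by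
    intro a ha
    rw [H93.autInducedBy_eq_range] at ha
    obtain ⟨g, rfl⟩ := ha
    exact ⟨g, (hconj g).symm⟩
  have hnI : ∀ a : MulAut E, Φ a ≠ 1 → a ∉ Inn E := by
    rintro a ha ⟨v, rfl⟩
    exact ha (hinn v)
  obtain ⟨g0, hg0, hsep⟩ := exists_separating hS hF hE
  have hsep' : ∀ g h : N, ρc g ≠ 1 → ρc h ≠ 1 →
      ¬ IsPGroup p (closure ({ρc g, Φ g0 * ρc h * (Φ g0)⁻¹} : Set (MulAut (EN ⧸ frattini EN)))) := by
    intro g h hg hh hP
    rw [show ρc g = Φ (H93.conjAut S E g) from (hconj g).symm,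
      show ρc h = Φ (H93.conjAut S E h) from (hconj h).symm] at hP
    refine hsep _ (by rw [H93.autInducedBy_eq_range]; exact ⟨g, rfl⟩) _
      (by rw [H93.autInducedBy_eq_range]; exact ⟨h, rfl⟩) (hnI _ (by rw [hconj]; exact hg)) (hnI _ (by rw [hconj]; exact hh)) ?_
    refine (hP.comap_of_ker_isPGroup Φ hΦk).to_le ((closure_le _).2 ?_)
    rintro _ (rfl | rfl)
    · exact subset_closure (Set.mem_insert _ _)
    · show Φ _ ∈ Subgroup.closure _
      rw [map_mul, map_mul, map_inv]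
      exact subset_closure (Set.mem_insert_of_mem _ rfl)
  have hENρ : ρc.ker = EN := le_antisymm (fun g hg => hfaith g hg) fun g hg =>
    MonoidHom.mem_ker.2 (frattiniAct_conjNormal_mem hENp hg)
  have hrkN : (frattini EN).index = p ^ 3 := by
    rw [← hrk, ← H58.map_frattini_mulEquiv e0]
    exact (index_map_of_bijective (f := e0.toMonoidHom) e0.bijective _).symm
  have hidx : EN.index = p := by
    have h1 : EN.index = Nat.card ρc.range := (congrArg Subgroup.index hENρ.symm).trans (Subgroup.index_ker ρc)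
    have hlt : E < N := H94.lt_normalizerIn hS (lt_of_le_of_ne hES hne)
    obtain ⟨g, hgN, hgE⟩ := SetLike.exists_of_lt hlt
    have h2 : EN.index ≠ 1 := fun h => hgE (mem_subgroupOf.1 ((index_eq_one.1 h).ge (mem_top (⟨g, hgN⟩ : N))))
    have hexp : ∀ v : EN ⧸ frattini EN, v ^ p = 1 := fun v => by
      obtain ⟨v, rfl⟩ := QuotientGroup.mk'_surjective _ v; exact H24.frq_pow hENp v
    have hle : Nat.card ρc.range ≤ p := by
      refine card_sylow_le (X := X) hexp (card_frattini_quot hrkN) ?_ ?_ ?_ ?_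
      · rintro _ ⟨g, rfl⟩
        exact ⟨_, hcA g, hconj g⟩
      · rw [MonoidHom.range_eq_map]
        exact (hNp.to_subgroup ⊤).map ρc
      · intro L hL hLp
        obtain ⟨σ, hσ, hσL⟩ := H93.exists_conj_le_autInducedBy (H94.fullyNormalized_spec hS hF hE.2.1).1
          (T := A ⊓ L.comap Φ) inf_le_left ((hLp.comap_of_ker_isPGroup Φ hΦk).to_le inf_le_right)
        refine ⟨Φ σ, mem_map_of_mem Φ hσ, fun l hl => ?_⟩
        obtain ⟨a, ha, rfl⟩ := hL hl
        rw [← map_inv, ← map_mul, ← map_mul]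
        exact hindR _ (hσL a ⟨ha, hl⟩)
      · refine ⟨Φ g0, mem_map_of_mem Φ hg0, ?_⟩
        rintro _ ⟨g, rfl⟩ _ ⟨h, rfl⟩ hg hh
        exact hsep' g h hg hh
    obtain ⟨n, hn⟩ := hNp.index EN
    rw [h1] at hn h2 ⊢
    rw [hn] at hle h2 ⊢
    have hn1 : n ≤ 1 := (Nat.pow_le_pow_iff_right hp.one_lt).1 (hle.trans (pow_one p).ge)
    rcases (show n = 0 ∨ n = 1 by omega) with rfl | rfl
    · exact absurd (pow_zero p) h2
    · exact pow_one p
  refine ⟨X, ⟨hidx, hrkN, fun g => ⟨_, hcA g, hconj g⟩, hfaith, ?_, ?_, ?_, ?_⟩⟩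
  · rintro _ ⟨a, -, rfl⟩
    exact ⟨_, rfl⟩
  · intro L hL hLn hLp
    refine eq_bot_iff.2 fun l hl => ?_
    obtain ⟨a, ha, rfl⟩ := hL hl
    have := hpc (A ⊓ L.comap Φ) inf_le_left (fun b hb k hk => Subgroup.mem_inf.2 ⟨mul_mem (mul_mem hb hk.1) (inv_mem hb),
      by
        show Φ (b * k * b⁻¹) ∈ L
        rw [map_mul, map_mul, map_inv]
        exact hLn _ (mem_map_of_mem Φ hb) _ hk.2⟩) ((hLp.comap_of_ker_isPGroup Φ hΦk).to_le inf_le_right) ⟨ha, hl⟩
    obtain ⟨v, rfl⟩ := this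
    rw [mem_bot]
    exact hinn v
  · intro g hg
    refine ⟨Φ g0, mem_map_of_mem Φ hg0, ?_⟩
    have h1 : ρc g ≠ 1 := fun h => hg (hfaith g h)
    exact hsep' g g h1 h1
  -- extension of normalizing automorphisms
  rintro _ ⟨a, ha, rfl⟩ hnorm
  have hnS : ∀ g : N, a * H93.conjAut S E g * a⁻¹ ∈ autInducedBy S E := by
    intro g
    obtain ⟨g', hg'⟩ := hnorm g
    rw [← hconj, ← hconj, ← map_inv, ← map_mul, ← map_mul] at hg'
    have h1 := hker ((H93.conjAut S E g')⁻¹ * (a * H93.conjAut S E g * a⁻¹))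
      (mul_mem (inv_mem (hcA g')) (mul_mem (mul_mem ha (hcA g)) (inv_mem ha)))
      (by rw [map_mul, map_inv, hg', inv_mul_cancel])
    have h2 := mul_mem (show H93.conjAut S E g' ∈ autInducedBy S E by
      rw [H93.autInducedBy_eq_range]; exact ⟨g', rfl⟩)
      (H93.autInducedBy_mono hES E (H93.inn_eq_autInducedBy E ▸ h1))
    rwa [mul_inv_cancel_left] at h2
  have haF := (H96.mem_autGroup F hES).1 ha
  have hrE : (E.subtype.comp a.toMonoidHom).range = E := H96.range_eq_of_forall_mem F haF fun x => (a x).2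
  obtain ⟨ψ, hψ, hag⟩ := (H94.fullyNormalized_spec hS hF hE.2.1).2.2 E _ haF hrE
  have hNx : N ≤ FusionSystem.extender S E (E.subtype.comp a.toMonoidHom) := by
    intro g hg
    obtain ⟨h, hh, hhe⟩ := H96.mem_autInducedBy.1 (hnS ⟨g, hg⟩)
    refine H96.mem_extender.2 ⟨hg.1, hg.2, h, hh, fun x hx => ?_⟩
    have h2 := hhe (a x)
    rw [MulAut.mul_apply, MulAut.mul_apply, show a⁻¹ (a x) = x from a.symm_apply_apply x] at h2
    exact h2
  set χ := H96.res ψ hNx with hχdef
  have hχ : χ ∈ F.Hom N := H96.res_mem F hψ hNx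
  have hχE : ∀ x : E, χ ⟨x, hEN x.2⟩ = a x := fun x => hag x x.2 (hNx (hEN x.2))
  have hχN : ∀ g : N, χ g ∈ N := fun g => H94.apply_mem_normalizerIn hχ hEN (fun g hg => hg.2) (by
    rw [H96.map_subgroupOf_eq_range χ hEN]
    refine le_antisymm ?_ fun y hy => ?_
    · rintro _ ⟨x, rfl⟩
      show χ _ ∈ E
      rw [show χ (Subgroup.inclusion hEN x) = a x from hχE x]
      exact (a x).2
    · exact ⟨a.symm ⟨y, hy⟩, (hχE _).trans (by rw [a.apply_symm_apply])⟩) g
  let T : MulAut N := MulEquiv.ofBijective (χ.codRestrict N hχN) ((Nat.bijective_iff_injective_and_card _).2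
    ⟨fun u v huv => F.injective_of_mem hχ (congrArg Subtype.val huv), rfl⟩)
  refine ⟨T, (H96.mem_autGroup F hNS).2 (H96.mem_congr F hχ fun g => rfl), fun v => ?_⟩
  have hTv : ((T v : N) : Ω) = a ⟨((v : N) : Ω), mem_subgroupOf.1 v.2⟩ := hχE ⟨((v : N) : Ω), mem_subgroupOf.1 v.2⟩
  refine ⟨mem_subgroupOf.2 (by rw [hTv]; exact (a _).2), ?_⟩
  show _ = frattiniAct EN (MulAut.congr e0.symm a) (H24.frq EN v)
  rw [frattiniAct_apply]
  refine congrArg _ (Subtype.ext (Subtype.ext ?_))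
  exact hTv

end Cfsg.Agent.H95
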