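import Cfsg.Agent.H95.LinearThree
import Cfsg.Agent.H24.PGroupBasic

/-!
Automorphisms of `p`-power order of an elementary abelian group of order `p³`: regular ones and transvections.
-/
set_option autoImplicit false

namespace Cfsg.Agent.H95

open Subgroup

variable {M : Type*} [CommGroup M] {p : ℕ}

/-- The displacement of an automorphism of a commutative group. -/
def disp (x : MulAut M) : M →* M :=
  MonoidHom.mk' (fun m => m⁻¹ * x m) fun a b => by rw [map_mul, _root_.mul_inv, mul_mul_mul_comm]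

theorem disp_apply (x : MulAut M) (m : M) : disp x m = m⁻¹ * x m := rfl

theorem disp_eq_one {x : MulAut M} {m : M} : disp x m = 1 ↔ x m = m := by
  rw [disp_apply, inv_mul_eq_one, eq_comm]

theorem mulAut_ext_of_closure {s : Set M} (hs : closure s = ⊤) {a b : MulAut M} (h : ∀ m ∈ s, a m = b m) :
    a = b :=
  MulEquiv.ext fun m => (show closure s ≤ a.toMonoidHom.eqLocus b.toMonoidHom from (closure_le _).2 h)
    (hs.ge (mem_top m))

variable [Finite M] [Fact p.Prime]

/-- Adjoining an element outside multiplies the order by `p`. -/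
theorem card_zpowers_sup (hexp : ∀ m : M, m ^ p = 1) {K : Subgroup M} {k : M} (hk : k ∉ K) :
    Nat.card ↥(zpowers k ⊔ K) = p * Nat.card K := by
  set q := QuotientGroup.mk' K with hqdef
  have hq : Nat.card ((zpowers k ⊔ K).map q) = p := by
    rw [Subgroup.map_sup, show K.map q = ⊥ from
      (Subgroup.map_eq_bot_iff _).2 (by rw [hqdef, QuotientGroup.ker_mk']), sup_bot_eq, MonoidHom.map_zpowers,
      Nat.card_zpowers]
    exact orderOf_eq_prime (by rw [← map_pow, hexp, map_one]) fun h => hk ((QuotientGroup.eq_one_iff k).1 h)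
  have h := Subgroup.index_ker (q.domRestrict (zpowers k ⊔ K))
  rw [MonoidHom.domRestrict_range, hq] at h
  rw [← h, show (q.domRestrict (zpowers k ⊔ K)).ker = K.subgroupOf (zpowers k ⊔ K) by
    ext w; simp [MonoidHom.mem_ker, mem_subgroupOf, hqdef]]
  have h2 := (K.subgroupOf (zpowers k ⊔ K)).index_mul_card
  rw [Nat.card_congr (subgroupOfEquivOfLe (le_sup_right : K ≤ zpowers k ⊔ K)).toEquiv] at h2
  exact h2.symm

theorem closure_pair_eq (a b : M) : closure ({a, b} : Set M) = zpowers a ⊔ zpowers b := by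
  rw [Set.insert_eq, Subgroup.closure_union, ← zpowers_eq_closure, ← zpowers_eq_closure]

theorem card_closure_pair (hexp : ∀ m : M, m ^ p = 1) {a b : M} (ha : a ≠ 1) (hb : b ∉ zpowers a) :
    Nat.card ↥(closure ({b, a} : Set M)) = p ^ 2 := by
  rw [closure_pair_eq, card_zpowers_sup hexp hb, Nat.card_zpowers, orderOf_eq_prime (hexp a) ha, pow_two]

/-- Three independent elements generate. -/
theorem eq_top_of_three (hexp : ∀ m : M, m ^ p = 1) (hcard : Nat.card M = p ^ 3) {a b c : M} (ha : a ≠ 1)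
    (hb : b ∉ zpowers a) (hc : c ∉ closure ({b, a} : Set M)) : closure ({c, b, a} : Set M) = ⊤ := by
  refine eq_top_of_le_card _ ?_
  rw [Set.insert_eq, Subgroup.closure_union, ← zpowers_eq_closure, card_zpowers_sup hexp hc,
    card_closure_pair hexp ha hb, hcard, ← pow_succ']

/-- An automorphism of `p`-power order is unipotent of class at most three. -/
theorem disp_cube (hexp : ∀ m : M, m ^ p = 1) (hcard : Nat.card M = p ^ 3) {x : MulAut M}
    (hx : IsPGroup p (zpowers x)) (m : M) : disp x (disp x (disp x m)) = 1 := by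
  have hp : p.Prime := Fact.out
  have hMp : IsPGroup p M := fun m => ⟨1, by rw [pow_one]; exact hexp m⟩
  have hsmall : ∀ {H : Subgroup M} {n : ℕ}, Nat.card H = p ^ n → n < 3 → H ≠ ⊤ := fun {H n} h hn e => by
    rw [e, card_top, hcard] at h
    exact absurd (Nat.pow_right_injective hp.two_le h) (by omega)
  have hinv : ∀ {H : Subgroup M}, (∀ k ∈ H, disp x k ∈ H) → ∀ r ∈ zpowers x, ∀ k ∈ H, r k ∈ H := by
    intro H hH r hr
    obtain ⟨n, rfl⟩ := mem_powers_iff_mem_zpowers.2 hr
    intro k hk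
    show (x ^ n) k ∈ H
    clear hr
    induction n with
    | zero => simpa using hk
    | succ n ih =>
      rw [pow_succ', MulAut.mul_apply]
      have h := mul_mem ih (hH _ ih)
      rwa [disp_apply, mul_inv_cancel_left] at h
  have hbot : (⊥ : Subgroup M) ≠ ⊤ := hsmall (n := 0) (by rw [card_bot, pow_zero]) (by norm_num)
  obtain ⟨k1, hk1, hk1f⟩ := exists_fixed_over hMp hx (K := ⊥)
    (fun r _ k hk => by rw [mem_bot] at hk ⊢; rw [hk, map_one]) hbot
  rw [mem_bot] at hk1
  have d1 : disp x k1 = 1 := mem_bot.1 (hk1f x (mem_zpowers x))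
  have hK0 : zpowers k1 ≤ (disp x).ker := zpowers_le.2 d1
  have hc0 : Nat.card (zpowers k1) = p ^ 1 := by rw [Nat.card_zpowers, orderOf_eq_prime (hexp k1) hk1, pow_one]
  obtain ⟨k2, hk2, hk2f⟩ := exists_fixed_over hMp hx (K := zpowers k1)
    (hinv fun k hk => by rw [MonoidHom.mem_ker.1 (hK0 hk)]; exact one_mem _) (hsmall hc0 (by norm_num))
  have d2 : disp x k2 ∈ zpowers k1 := hk2f x (mem_zpowers x)
  set H := closure ({k2, k1} : Set M) with hH
  have hdH : H ≤ (zpowers k1).comap (disp x) := (closure_le _).2 (by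
    rintro v (hv | hv)
    · show disp x v ∈ zpowers k1
      rw [hv]; exact d2
    · show disp x v ∈ zpowers k1
      rw [Set.mem_singleton_iff.1 hv, d1]; exact one_mem _)
  have hk1H : zpowers k1 ≤ H := zpowers_le.2 (subset_closure (Or.inr rfl))
  obtain ⟨k3, hk3, hk3f⟩ := exists_fixed_over hMp hx (K := H) (hinv fun k hk => hk1H (hdH hk))
    (hsmall (card_closure_pair hexp hk1 hk2) (by norm_num))
  have hdM : (⊤ : Subgroup M) ≤ H.comap (disp x) := by
    rw [← eq_top_of_three hexp hcard hk1 hk2 hk3]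
    refine (closure_le _).2 ?_
    rintro _ (rfl | rfl | rfl)
    exacts [hk3f x (mem_zpowers x), hk1H d2, by show disp x _ ∈ H; rw [d1]; exact one_mem _]
  exact hK0 (hdH (hdM (mem_top m)))

/-- A basis for a regular automorphism. -/
theorem regular_basis (hexp : ∀ m : M, m ^ p = 1) (hcard : Nat.card M = p ^ 3) {x : MulAut M}
    (hx : IsPGroup p (zpowers x)) {e : M} (he : disp x (disp x e) ≠ 1) :
    disp x e ∉ zpowers (disp x (disp x e)) ∧ e ∉ closure ({disp x e, disp x (disp x e)} : Set M) ∧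
      closure ({e, disp x e, disp x (disp x e)} : Set M) = ⊤ := by
  have h3 := disp_cube hexp hcard hx e
  have h1 : disp x e ∉ zpowers (disp x (disp x e)) := by
    rintro ⟨i, hi⟩
    refine he ?_
    rw [← hi, map_zpow, h3, one_zpow]
  have h2 : e ∉ closure ({disp x e, disp x (disp x e)} : Set M) := fun h => he
    ((show closure ({disp x e, disp x (disp x e)} : Set M) ≤ ((disp x).comp (disp x)).ker from (closure_le _).2 (by
      rintro _ (rfl | rfl)
      · exact h3
      · show disp x (disp x (disp x (disp x e))) = 1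
        rw [h3, map_one])) h)
  exact ⟨h1, h2, eq_top_of_three hexp hcard he h1 h2⟩

/-- The orders of the kernel and of the image of the displacement of a quadratic automorphism. -/
theorem transvection_cards (hexp : ∀ m : M, m ^ p = 1) (hcard : Nat.card M = p ^ 3) {x : MulAut M}
    (hx1 : x ≠ 1) (hsq : ∀ m, disp x (disp x m) = 1) :
    Nat.card (disp x).range = p ∧ Nat.card (disp x).ker = p ^ 2 := by
  have hp : p.Prime := Fact.out
  have hMp : IsPGroup p M := fun m => ⟨1, by rw [pow_one]; exact hexp m⟩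
  have h := (disp x).ker.index_mul_card
  rw [Subgroup.index_ker, hcard] at h
  obtain ⟨a, ha⟩ := H24.exists_card_pow hMp (disp x).range
  obtain ⟨b, hb⟩ := H24.exists_card_pow hMp (disp x).ker
  have hab : (disp x).range ≤ (disp x).ker := by rintro _ ⟨m, rfl⟩; exact hsq m
  have h1 := card_le_of_le hab
  rw [ha, hb, Nat.pow_le_pow_iff_right hp.one_lt] at h1
  rw [ha, hb, ← pow_add] at h
  have h2 := Nat.pow_right_injective hp.two_le h
  have ha0 : a ≠ 0 := fun e => hx1 (MulEquiv.ext fun m => disp_eq_one.1 (by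
    have := (card_eq_one.1 (by rw [ha, e, pow_zero] : Nat.card (disp x).range = 1))
    exact mem_bot.1 (this ▸ ⟨m, rfl⟩)))
  have hb3 : b ≠ 3 := fun e => by omega
  obtain ⟨rfl, rfl⟩ : a = 1 ∧ b = 2 := by omega
  exact ⟨by rw [ha, pow_one], hb⟩

/-- A frame for a transvection and a conjugate generating with it a group that is not a `p`-group. -/
theorem exists_frame (hexp : ∀ m : M, m ^ p = 1) (hcard : Nat.card M = p ^ 3) {x g : MulAut M} (hx1 : x ≠ 1)
    (hsq : ∀ m, disp x (disp x m) = 1) (hnp : ¬ IsPGroup p (closure ({x, g * x * g⁻¹} : Set (MulAut M))))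
    {i r : ℤ} (hir : (p : ℤ) ∣ i * r - 1) :
    ∃ z c w : M, z = disp x c ∧ x z = z ∧ x w = w ∧ (g * x * g⁻¹) c = c ∧ (g * x * g⁻¹) w = w ∧ z ≠ 1 ∧
      w ∉ zpowers z ∧ c ∉ closure ({w, z} : Set M) ∧ closure ({c, w, z} : Set M) = ⊤ ∧
      (∀ m, x m = m → m ∈ closure ({w, z} : Set M)) ∧
      (∃ γ : ℤ, ¬ (p : ℤ) ∣ γ ∧ (g * x * g⁻¹) z = z * c ^ γ) ∧
      ∃ β ∈ closure ({x, g * x * g⁻¹} : Set (MulAut M)), β z = z ^ i ∧ β c = c ^ r ∧ β w = w ∧
        β * x * β⁻¹ = x ^ (i * i) := by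
  have hp : p.Prime := Fact.out
  set u := g * x * g⁻¹ with hu
  have hu1 : u ≠ 1 := fun h => hx1 (conj_eq_one_iff.1 h)
  have hud : ∀ m, disp u m = g (disp x (g⁻¹ m)) := fun m => by
    rw [disp_apply, disp_apply, map_mul, map_inv, show g (g⁻¹ m) = m from g.apply_symm_apply m, hu,
      MulAut.mul_apply, MulAut.mul_apply]
  have husq : ∀ m, disp u (disp u m) = 1 := fun m => by
    rw [hud, hud, show g⁻¹ (g (disp x (g⁻¹ m))) = disp x (g⁻¹ m) from g.symm_apply_apply _, hsq, map_one]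
  obtain ⟨hxr, hxk⟩ := transvection_cards hexp hcard hx1 hsq
  obtain ⟨hur, huk⟩ := transvection_cards hexp hcard hu1 husq
  have hcyc : ∀ {z : M}, z ∈ (disp x).range → z ≠ 1 → zpowers z = (disp x).range := fun {z} hz hz1 =>
    eq_of_le_of_card_ge (zpowers_le.2 hz) (by rw [hxr, Nat.card_zpowers, orderOf_eq_prime (hexp z) hz1])
  have hxtr : ∀ {z : M}, z ∈ (disp x).range → z ≠ 1 → ∀ m, ∃ n : ℤ, x m = m * z ^ n := fun {z} hz hz1 m => by
    obtain ⟨n, hn⟩ := (hcyc hz hz1).ge ⟨m, rfl⟩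
    exact ⟨n, by rw [show z ^ n = disp x m from hn, disp_apply, mul_inv_cancel_left]⟩
  obtain ⟨m0, hm0⟩ : ∃ m, disp x m ≠ 1 := by
    by_contra h
    push Not at h
    exact hx1 (MulEquiv.ext fun m => disp_eq_one.1 (h m))
  set z0 := disp x m0 with hz0
  set c := g z0 with hc
  have hc1 : c ≠ 1 := fun h => hm0 (g.injective (by rw [map_one]; exact h))
  have hucc : u c = c := disp_eq_one.1 (by
    rw [hud, hc, show g⁻¹ (g z0) = z0 from g.symm_apply_apply _, hz0, hsq, map_one])
  have hutr : ∀ m, ∃ n : ℤ, u m = m * c ^ n := fun m => by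
    obtain ⟨n, hn⟩ := hxtr ⟨m0, rfl⟩ hm0 (g⁻¹ m)
    exact ⟨n, by rw [hu, MulAut.mul_apply, MulAut.mul_apply, hn, map_mul, map_zpow,
      show g (g⁻¹ m) = m from g.apply_symm_apply m]⟩
  obtain ⟨htc, -⟩ := exists_torus hexp (disp_eq_one.1 (hsq m0)) hucc (hxtr ⟨m0, rfl⟩ hm0) hutr hnp hir
  set z := disp x c with hz
  have hz1 : z ≠ 1 := fun h => htc (disp_eq_one.1 h)
  have hxz : x z = z := disp_eq_one.1 (hsq c)
  have hxc : x c = c * z := by rw [hz, disp_apply, mul_inv_cancel_left]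
  obtain ⟨-, β, hβ, hβz, hβc, hβf⟩ := exists_torus hexp hxz hucc (hxtr ⟨c, rfl⟩ hz1) hutr hnp hir
  obtain ⟨huz, -⟩ := exists_torus hexp hucc hxz hutr (hxtr ⟨c, rfl⟩ hz1) (by rwa [Set.pair_comm]) hir
  obtain ⟨w, hw, hw1⟩ : ∃ w ∈ (disp x).ker ⊓ (disp u).ker, w ≠ 1 := by
    by_contra h
    push Not at h
    have hle := Nat.card_le_card_of_injective (fun v : (disp x).ker × (disp u).ker => (v.1 : M) * v.2)
      fun a b hab => by
        have h1 : ((a.1 : M))⁻¹ * b.1 = a.2 * (b.2 : M)⁻¹ := by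
          rw [eq_mul_inv_iff_mul_eq, mul_assoc, inv_mul_eq_iff_eq_mul]; exact hab.symm
        have h2 : ((a.1 : M))⁻¹ * b.1 = 1 := h _ (Subgroup.mem_inf.2 ⟨mul_mem (inv_mem a.1.2) b.1.2,
          h1 ▸ mul_mem a.2.2 (inv_mem b.2.2)⟩)
        rw [h2, eq_comm, mul_inv_eq_one] at h1
        exact Prod.ext (Subtype.ext (inv_mul_eq_one.1 h2)) (Subtype.ext h1)
    rw [Nat.card_prod, hxk, huk, hcard, ← pow_add, Nat.pow_le_pow_iff_right hp.one_lt] at hle
    omega
  have hxw : x w = w := disp_eq_one.1 hw.1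
  have huw : u w = w := disp_eq_one.1 hw.2
  obtain ⟨γ, hγ⟩ := hutr z
  have hγp : ¬ (p : ℤ) ∣ γ := fun h => huz (by
    rw [hγ, zpow_congr_of_exp (hexp c) (b := 0) (by rwa [sub_zero]), zpow_zero, mul_one])
  have hwz : w ∉ zpowers z := by
    rintro ⟨n, rfl⟩
    have hn : ¬ (p : ℤ) ∣ n := fun h => hw1 (by
      show z ^ n = 1
      rw [zpow_congr_of_exp (hexp z) (b := 0) (by rwa [sub_zero]), zpow_zero])
    obtain ⟨a, b, hab⟩ := (Prime.coprime_iff_not_dvd (Nat.prime_iff_prime_int.1 hp)).2 hn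
    refine huz ?_
    have e : z = (z ^ n) ^ b := by
      rw [← zpow_mul, zpow_congr_of_exp (hexp z) (a := n * b) (b := 1) ⟨-a, by linear_combination hab⟩, zpow_one]
    rw [e, map_zpow]
    exact congrArg (· ^ b) huw
  have hker : closure ({w, z} : Set M) = (disp x).ker := eq_of_le_of_card_ge
    ((closure_le _).2 (by rintro _ (rfl | rfl); exacts [hw.1, hsq c]))
    (by rw [hxk, card_closure_pair hexp hz1 hwz])
  have hcn : c ∉ closure ({w, z} : Set M) := fun h => htc (disp_eq_one.1 (hker.le h))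
  have htop := eq_top_of_three hexp hcard hz1 hwz hcn
  have hβw : β w = w := hβf w hxw huw
  refine ⟨z, c, w, rfl, hxz, hxw, hucc, huw, hz1, hwz, hcn, htop,
    fun m hm => hker.ge (disp_eq_one.2 hm), ⟨γ, hγp, hγ⟩, β, hβ, hβz, hβc, hβw, ?_⟩
  have hxn : ∀ n : ℤ, (x ^ n) c = c * z ^ n := fun n => zpow_apply_of_fixed x hxc hxz n
  obtain ⟨k, hk⟩ := hir
  rw [mul_inv_eq_iff_eq_mul]
  refine mulAut_ext_of_closure htop ?_
  rintro _ (rfl | rfl | rfl)
  · rw [MulAut.mul_apply, MulAut.mul_apply, hxc, map_mul, hβc, hβz, map_zpow, hxn, mul_zpow, ← zpow_mul,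
      zpow_congr_of_exp (hexp z) (a := i * i * r) (b := i) ⟨i * k, by linear_combination i * hk⟩]
  · rw [MulAut.mul_apply, MulAut.mul_apply, hxw, hβw, apply_zpow_apply hxw]
  · rw [MulAut.mul_apply, MulAut.mul_apply, hxz, hβz, map_zpow, apply_zpow_apply hxz]

end Cfsg.Agent.H95
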