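import Cfsg.Agent.H95.RankThreeTransvection
import Cfsg.Agent.H95.LinearThreeIrreducible
import Cfsg.Agent.H29.EssentialChain

/-!
Automorphisms of a plane over the prime field generated by a reflection and an element of order `p`.
-/
set_option autoImplicit false

namespace Cfsg.Agent.H95

open Subgroup
open scoped commutatorElement

variable {p : ℕ}

section Plane

variable {V : Type*} [CommGroup V] [Finite V] [Fact p.Prime]

/-- A conjugate of `φ` by a word in `φ` and the reflection `τ` fixes `x` and moves `e`. -/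
theorem exists_fixing (hp : Odd p) (hexp : ∀ v : V, v ^ p = 1) {e x : V} (hgen : ∀ v : V, ∃ a b : ℤ, v = e ^ a * x ^ b)
    (he : e ∉ zpowers x) {φ τ : MulAut V} (hφ : IsPGroup p (zpowers φ)) (hτe : τ e = e⁻¹) (hτx : τ x = x)
    (hφe : φ e ∉ zpowers e) :
    ∃ β ∈ closure ({φ, τ} : Set (MulAut V)), (β * φ * β⁻¹) x = x ∧ (β * φ * β⁻¹) e ≠ e := by
  have hp' : p.Prime := Fact.out
  have hpr := Nat.prime_iff_prime_int.1 hp'
  have hVp : IsPGroup p V := fun v => ⟨1, by rw [pow_one]; exact hexp v⟩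
  have hext : ∀ {g : MulAut V}, g e = e → g x = x → g = 1 := fun {g} h1 h2 => MulEquiv.ext fun v => by
    obtain ⟨a, b, rfl⟩ := hgen v
    rw [map_mul, map_zpow, map_zpow, h1, h2, MulAut.one_apply]
  have hφ1 : φ ≠ 1 := fun h => hφe (by rw [h]; exact mem_zpowers e)
  have hx0 : ∀ (β : MulAut V), (β * φ * β⁻¹) x = x → (β * φ * β⁻¹) e ≠ e := fun β h1 h2 =>
    hφ1 (conj_eq_one_iff.1 (hext h2 h1))
  have hbot : (⊥ : Subgroup V) ≠ ⊤ := fun h => he (by
    have := h.ge (mem_top e)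
    rw [mem_bot] at this
    rw [this]
    exact one_mem _)
  obtain ⟨f, hf, hff⟩ := exists_fixed_over hVp hφ (K := ⊥)
    (fun r _ k hk => by rw [mem_bot] at hk ⊢; rw [hk, map_one]) hbot
  rw [mem_bot] at hf
  have hφf : φ f = f := (inv_mul_eq_one.1 (mem_bot.1 (hff φ (mem_zpowers φ)))).symm
  obtain ⟨a, b, hab⟩ := hgen f
  have hb : ¬ (p : ℤ) ∣ b := by
    intro h
    have hfe : f = e ^ a := by rw [hab, zpow_congr_of_exp (hexp x) (b := 0) (by rwa [sub_zero]), zpow_zero, mul_one]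
    obtain ⟨u1, u2, hu⟩ := (Prime.coprime_iff_not_dvd hpr).2 (show ¬ (p : ℤ) ∣ a from fun ha => hf (by
      rw [hfe, zpow_congr_of_exp (hexp e) (b := 0) (by rwa [sub_zero]), zpow_zero]))
    refine hφe ?_
    have e1 : e = f ^ u2 := by
      rw [hfe, ← zpow_mul, zpow_congr_of_exp (hexp e) (a := a * u2) (b := 1) ⟨-u1, by linear_combination hu⟩, zpow_one]
    rw [e1, map_zpow, hφf, ← e1]
    exact mem_zpowers e
  by_cases ha : (p : ℤ) ∣ a
  · have hfx : f = x ^ b := by rw [hab, zpow_congr_of_exp (hexp e) (b := 0) (by rwa [sub_zero]), zpow_zero, one_mul]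
    obtain ⟨u1, u2, hu⟩ := (Prime.coprime_iff_not_dvd hpr).2 hb
    have e1 : x = f ^ u2 := by
      rw [hfx, ← zpow_mul, zpow_congr_of_exp (hexp x) (a := b * u2) (b := 1) ⟨-u1, by linear_combination hu⟩, zpow_one]
    have h1 : φ x = x := by rw [e1, map_zpow, hφf]
    exact ⟨1, one_mem _, by simpa using h1, hx0 1 (by simpa using h1)⟩
  -- the line of `f`
  obtain ⟨u1, u2, hu⟩ := (Prime.coprime_iff_not_dvd hpr).2 ha
  have hfK : ∀ r ∈ zpowers φ, ∀ k ∈ zpowers f, r k ∈ zpowers f := by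
    rintro _ ⟨n, rfl⟩ _ ⟨i, rfl⟩
    simp only [map_zpow, apply_zpow_apply hφf]
    exact ⟨i, rfl⟩
  obtain ⟨lam, hlam⟩ : x⁻¹ * φ x ∈ zpowers f := by
    have hne : zpowers f ≠ ⊤ := by
      intro h
      obtain ⟨i, hi⟩ : x ∈ zpowers f := h ▸ mem_top x
      obtain ⟨i', hi'⟩ : e ∈ zpowers f := h ▸ mem_top e
      refine hφ1 (hext ?_ ?_)
      · rw [← hi']; simp [map_zpow, hφf]
      · rw [← hi]; simp [map_zpow, hφf]
    obtain ⟨m0, hm0, hm0f⟩ := exists_fixed_over hVp hφ (K := zpowers f) hfK hne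
    have hidx : ∃ i : ℤ, ∃ k ∈ zpowers f, x = m0 ^ i * k := by
      obtain ⟨a', b', rfl⟩ := hgen m0
      have hn : ¬ (p : ℤ) ∣ b' * a - a' * b := by
        intro hd
        refine hm0 ⟨a' * u2, ?_⟩
        show f ^ (a' * u2) = e ^ a' * x ^ b'
        rw [hab, mul_zpow, ← zpow_mul, ← zpow_mul]
        obtain ⟨c, hc⟩ := hd
        rw [zpow_congr_of_exp (hexp e) (a := a * (a' * u2)) (b := a') ⟨-(u1 * a'), by linear_combination a' * hu⟩,
          zpow_congr_of_exp (hexp x) (a := b * (a' * u2)) (b := b')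
            ⟨-(u1 * b') - c * u2, by linear_combination b' * hu - u2 * hc⟩]
      obtain ⟨v1, v2, hv⟩ := (Prime.coprime_iff_not_dvd hpr).2 hn
      refine ⟨a * v2, f ^ (-(a' * v2)), ⟨_, rfl⟩, ?_⟩
      rw [hab, mul_zpow, mul_zpow, ← zpow_mul, ← zpow_mul, ← zpow_mul, ← zpow_mul, mul_mul_mul_comm, ← zpow_add,
        ← zpow_add, zpow_congr_of_exp (hexp e) (a := a' * (a * v2) + a * -(a' * v2)) (b := 0) ⟨0, by ring⟩, zpow_zero,
        one_mul, zpow_congr_of_exp (hexp x) (a := b' * (a * v2) + b * -(a' * v2)) (b := 1)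
          ⟨-v1, by linear_combination hv⟩, zpow_one]
    obtain ⟨i, k, hk, hx⟩ := hidx
    have hkfix : φ k = k := by obtain ⟨j, rfl⟩ := hk; simp [map_zpow, hφf]
    rw [hx, map_mul, map_zpow, hkfix, _root_.mul_inv, mul_mul_mul_comm, inv_mul_cancel, mul_one, ← inv_zpow,
      ← mul_zpow]
    exact zpow_mem (hm0f φ (mem_zpowers φ)) i
  have hφx : φ x = x * f ^ lam := by rw [show f ^ lam = x⁻¹ * φ x from hlam, mul_inv_cancel_left]
  have hlp : ¬ (p : ℤ) ∣ lam := by
    intro h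
    have h1 : φ x = x := by rw [hφx, zpow_congr_of_exp (hexp f) (b := 0) (by rwa [sub_zero]), zpow_zero, mul_one]
    refine hφ1 (hext ?_ h1)
    have e1 : e = (f * x ^ (-b)) ^ u2 := by
      rw [hab, mul_assoc, ← zpow_add, add_neg_cancel, zpow_zero, mul_one, ← zpow_mul,
        zpow_congr_of_exp (hexp e) (a := a * u2) (b := 1) ⟨-u1, by linear_combination hu⟩, zpow_one]
    rw [e1, map_zpow, map_mul, map_zpow, hφf, h1]
  have h2p : ¬ (p : ℤ) ∣ 2 * (b * lam) := by
    intro h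
    rcases hpr.dvd_mul.1 h with h | h
    · have h' : (p : ℕ) ∣ 2 := by exact_mod_cast h
      obtain ⟨c, hc⟩ := hp
      have := Nat.le_of_dvd two_pos h'
      have := hp'.two_le
      omega
    · rcases hpr.dvd_mul.1 h with h | h
      exacts [hb h, hlp h]
  obtain ⟨w1, w2, hw⟩ := (Prime.coprime_iff_not_dvd hpr).2 h2p
  have hτ2 : ∀ v, τ (τ v) = v := fun v => by
    have h : τ * τ = 1 := hext (by rw [MulAut.mul_apply, hτe, map_inv, hτe, inv_inv])
      (by rw [MulAut.mul_apply, hτx, hτx])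
    rw [← MulAut.mul_apply, h, MulAut.one_apply]
  set β := φ ^ w2 * τ with hβ
  have h1 : β (f ^ (lam * w2)) = x := by
    have h2 : τ (f ^ (lam * w2)) = x * (f ^ lam) ^ (-w2) := by
      rw [hab, map_zpow, map_mul, map_zpow, map_zpow, hτe, hτx, inv_zpow', mul_zpow, mul_zpow, mul_zpow, ← zpow_mul,
        ← zpow_mul, ← zpow_mul, ← zpow_mul, ← zpow_mul, ← zpow_mul, mul_left_comm x, ← zpow_one_add,
        zpow_congr_of_exp (hexp e) (a := -a * (lam * w2)) (b := a * (lam * -w2)) ⟨0, by ring⟩,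
        zpow_congr_of_exp (hexp x) (a := b * (lam * w2)) (b := 1 + b * (lam * -w2)) ⟨-w1, by linear_combination hw⟩]
    have hfl : φ (f ^ lam) = f ^ lam := by rw [map_zpow, hφf]
    rw [hβ, MulAut.mul_apply, h2, map_mul, zpow_apply_of_fixed φ hφx hfl w2, map_zpow, apply_zpow_apply hfl, mul_assoc,
      ← zpow_add, add_neg_cancel, zpow_zero, mul_one]
  have h3 : (β * φ * β⁻¹) x = x := by
    rw [MulAut.mul_apply, MulAut.mul_apply, show β⁻¹ x = f ^ (lam * w2) from β.symm_apply_eq.2 h1.symm, map_zpow φ,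
      hφf, h1]
  exact ⟨β, mul_mem (zpow_mem (subset_closure (Set.mem_insert φ _)) _)
    (subset_closure (Set.mem_insert_of_mem _ rfl)), h3, hx0 β h3⟩

end Plane

end Cfsg.Agent.H95
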