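import Cfsg.Agent.H95.SectionTools

/-!
A maximal subgroup `E = ⟨e, y, z⟩ Φ(E)` with `y = [x, e]`, `z = [x, y]`, and an automorphism moving it, in a
`p`-group of sectional rank at most three.
-/
set_option autoImplicit false

namespace Cfsg.Agent.H95

open Subgroup
open scoped commutatorElement

variable {G : Type*} [Group G] {p : ℕ}

theorem closure_insert_le {K : Subgroup G} {s : Set G} (a : G) :
    closure (insert a s) ⊔ K ≤ closure s ⊔ (closure {a} ⊔ K) := by
  refine sup_le ((closure_le _).2 ?_) (le_sup_right.trans le_sup_right)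
  rintro b (rfl | hb)
  · exact mem_sup_right (mem_sup_left (subset_closure rfl))
  · exact mem_sup_left (subset_closure hb)

theorem lt_closure_sup {K : Subgroup G} {a : G} (ha : a ∉ K) : K < closure {a} ⊔ K :=
  lt_of_le_of_ne le_sup_right fun h => ha (h ▸ mem_sup_left (subset_closure rfl))

theorem mem_normalizer_of_conj_le [Finite G] {K : Subgroup G} {g : G} (h : ∀ a ∈ K, g * a * g⁻¹ ∈ K) :
    g ∈ Subgroup.normalizer (K : Set G) := by
  have hsurj : Function.Surjective (fun a : K => (⟨g * a * g⁻¹, h a a.2⟩ : K)) :=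
    Finite.surjective_of_injective fun a b hab => Subtype.ext (by simpa using congrArg Subtype.val hab)
  rw [Subgroup.mem_normalizer_iff]
  refine fun r => ⟨h r, fun hr => ?_⟩
  obtain ⟨a, ha⟩ := hsurj ⟨_, hr⟩
  have : (a : G) = r := by simpa using congrArg Subtype.val ha
  exact this ▸ a.2

theorem comm_mul_left (a b c : G) : ⁅a * b, c⁆ = a * ⁅b, c⁆ * a⁻¹ * ⁅a, c⁆ := by
  simp only [commutatorElement_def]; group

theorem comm_mul_right (a b c : G) : ⁅a, b * c⁆ = ⁅a, b⁆ * (b * ⁅a, c⁆ * b⁻¹) := by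
  simp only [commutatorElement_def]; group

theorem regular_core [Fact p.Prime] [Finite G] (hG : IsPGroup p G) (hp : Odd p)
    (hr : Cfsg.SectionalPRankLE p 3 G) {E E2 E3 : Subgroup G} [E.Normal] (hE2 : E2 = nextP p E E)
    (hE3 : E3 = nextP p E E2) {x e y z : G} (hy0 : y = ⁅x, e⁆) (hz0 : z = ⁅x, y⁆) (φ : MulAut G) (he : e ∈ E)
    (hgen : (⊤ : Subgroup G) ≤ closure {x} ⊔ E) (hEgen : E ≤ closure {e, y, z} ⊔ E2)
    (hzx : ⁅x, z⁆ ∈ E2) (hxp : x ^ p ∈ closure {z} ⊔ E2) (hz : z ∉ E2) (hy : y ∉ closure {z} ⊔ E2)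
    (hφe : φ e = e * x) (hφx : x⁻¹ * φ x ∈ nextP p (⊤ : Subgroup G) ⊤) :
    (∀ w ∈ E, ⁅z, w⁆ ∈ E3) ∧ ⁅e, y⁆ ∉ E3 := by
  have hpp : p.Prime := Fact.out
  have hp2 : p ≠ 2 := fun h => by rw [h] at hp; exact (by decide : ¬ Odd 2) hp
  have hE2n : E2.Normal := hE2 ▸ inferInstance
  have hE3n : E3.Normal := hE3 ▸ inferInstance
  have hE2E : E2 ≤ E := hE2 ▸ nextP_le_self
  have hE3E2 : E3 ≤ E2 := hE3 ▸ nextP_le_self
  have hyE : y ∈ E := by
    rw [hy0, commutatorElement_def]; exact mul_mem (‹E.Normal›.conj_mem e he x) (inv_mem he)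
  have hzE : z ∈ E := by
    rw [hz0, commutatorElement_def]; exact mul_mem (‹E.Normal›.conj_mem y hyE x) (inv_mem hyE)
  have hEE : ∀ a ∈ E, ∀ b ∈ E, ⁅a, b⁆ ∈ E2 := fun a ha b hb => hE2 ▸ comm_mem_nextP ha hb
  have hEp : ∀ a ∈ E, a ^ p ∈ E2 := fun a ha => hE2 ▸ pow_mem_nextP ha
  -- the series
  set P2 := nextP p (⊤ : Subgroup G) ⊤ with hP2
  set P3 := nextP p (⊤ : Subgroup G) P2 with hP3
  set P4 := nextP p (⊤ : Subgroup G) P3 with hP4
  set P5 := nextP p (⊤ : Subgroup G) P4 with hP5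
  have h32 : P3 ≤ P2 := nextP_le_self
  have h43 : P4 ≤ P3 := nextP_le_self
  have h54 : P5 ≤ P4 := nextP_le_self
  have s1 : ∀ a b : G, ⁅a, b⁆ ∈ P2 := fun a b => comm_mem_nextP (mem_top a) (mem_top b)
  have s1' : ∀ a : G, a ^ p ∈ P2 := fun a => pow_mem_nextP (mem_top a)
  have s2 : ∀ a ∈ P2, ∀ g : G, ⁅a, g⁆ ∈ P3 := fun a ha g => comm_mem_nextP ha (mem_top g)
  have s2' : ∀ a ∈ P2, ∀ g : G, ⁅g, a⁆ ∈ P3 := fun a ha g => comm_mem_nextP' ha (mem_top g)
  have s3 : ∀ a ∈ P3, ∀ g : G, ⁅a, g⁆ ∈ P4 := fun a ha g => comm_mem_nextP ha (mem_top g)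
  have s3' : ∀ a ∈ P3, ∀ g : G, ⁅g, a⁆ ∈ P4 := fun a ha g => comm_mem_nextP' ha (mem_top g)
  have s4 : ∀ a ∈ P4, ∀ g : G, ⁅a, g⁆ ∈ P5 := fun a ha g => comm_mem_nextP ha (mem_top g)
  have c22 : ∀ a ∈ P2, ∀ b ∈ P2, ⁅a, b⁆ ∈ P4 := fun a ha b hb => comm_nextP_mem (s2 a ha) le_rfl b hb
  have c32 : ∀ a ∈ P3, ∀ b ∈ P2, ⁅a, b⁆ ∈ P5 := fun a ha b hb => comm_nextP_mem (s3 a ha) le_rfl b hb
  have f2 : ∀ a ∈ P2, φ a ∈ P2 := fun a ha => apply_mem_nextP φ (fun _ _ => mem_top _) (fun _ _ => mem_top _) ha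
  have f3 : ∀ a ∈ P3, φ a ∈ P3 := fun a ha => apply_mem_nextP φ f2 (fun _ _ => mem_top _) ha
  have f4 : ∀ a ∈ P4, φ a ∈ P4 := fun a ha => apply_mem_nextP φ f3 (fun _ _ => mem_top _) ha
  have f5 : ∀ a ∈ P5, φ a ∈ P5 := fun a ha => apply_mem_nextP φ f4 (fun _ _ => mem_top _) ha
  have hyP : y ∈ P2 := hy0 ▸ s1 x e
  have hzP : z ∈ P3 := hz0 ▸ s2' y hyP x
  set D := closure {y, z} ⊔ E2 with hD
  set Z2 := closure {z} ⊔ E2 with hZ2
  have hDE : D ≤ E := sup_le ((closure_le _).2 (by rintro _ (rfl | rfl) <;> assumption)) hE2E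
  have hZE : Z2 ≤ E := sup_le ((closure_le _).2 (by rintro _ rfl; exact hzE)) hE2E
  have hyD : y ∈ D := mem_sup_left (subset_closure (Or.inl rfl))
  have hzD : z ∈ D := mem_sup_left (subset_closure (Or.inr rfl))
  -- the conjugation by `x` on the generators
  have hnorm : ∀ K : Subgroup G, E2 ≤ K → K ≤ E → (∀ a ∈ K, x * a * x⁻¹ ∈ K) → K.Normal := by
    intro K hK2 hKE hx
    refine normalizer_eq_top_iff.1 (top_le_iff.1 (hgen.trans (sup_le ((closure_le _).2 ?_) fun g hg => ?_)))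
    · rintro _ rfl
      exact mem_normalizer_of_conj_le fun a ha => hx a ha
    · refine mem_normalizer_of_conj_le fun a ha => ?_
      rw [show g * a * g⁻¹ = ⁅g, a⁆ * a by simp [commutatorElement_def, mul_assoc]]
      exact mul_mem (hK2 (hEE g hg a (hKE ha))) ha
  have hxconj : ∀ a : G, x * a * x⁻¹ = ⁅x, a⁆ * a := fun a => by simp [commutatorElement_def, mul_assoc]
  have hZn : Z2.Normal := by
    refine hnorm Z2 le_sup_right hZE fun a ha => ?_
    refine (show Z2 ≤ Z2.comap (MulAut.conj x).toMonoidHom from sup_le ((closure_le _).2 ?_) fun b hb => ?_) ha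
    · rintro b hb
      rw [Set.mem_singleton_iff] at hb
      subst b
      show x * z * x⁻¹ ∈ Z2
      rw [hxconj]
      exact mul_mem (mem_sup_right hzx) (mem_sup_left (subset_closure rfl))
    · exact mem_sup_right (hE2n.conj_mem b hb x)
  have hDn : D.Normal := by
    refine hnorm D le_sup_right hDE fun a ha => ?_
    refine (show D ≤ D.comap (MulAut.conj x).toMonoidHom from sup_le ((closure_le _).2 ?_) fun b hb => ?_) ha
    · rintro b (hb | hb)
      · subst hb
        show x * _ * x⁻¹ ∈ D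
        rw [hxconj, ← hz0]
        exact mul_mem hzD hyD
      · rw [Set.mem_singleton_iff] at hb
        subst b
        show x * z * x⁻¹ ∈ D
        rw [hxconj]
        exact mul_mem (mem_sup_right hzx) hzD
    · exact mem_sup_right (hE2n.conj_mem b hb x)
  have hEe : E ≤ closure {e} ⊔ D := hEgen.trans (sup_le ((closure_le _).2 (by
    rintro _ (rfl | rfl | rfl)
    exacts [mem_sup_left (subset_closure rfl), mem_sup_right hyD, mem_sup_right hzD]))
    (le_sup_right.trans le_sup_right))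
  have hP2D : P2 ≤ D := by
    have hxe : (⊤ : Subgroup G) ≤ closure {x, e} ⊔ D := hgen.trans (sup_le ((closure_le _).2 (by
      rintro _ rfl; exact mem_sup_left (subset_closure (Or.inl rfl))))
      (hEe.trans (sup_le ((closure_le _).2 (by
        rintro _ rfl; exact mem_sup_left (subset_closure (Or.inr rfl)))) le_sup_right)))
    have hcom : ∀ a ∈ ({x, e} : Set G), ∀ b ∈ ({x, e} : Set G), ⁅a, b⁆ ∈ D := by
      rintro _ (rfl | rfl) _ (rfl | rfl)
      · rw [commutatorElement_self]; exact one_mem _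
      · rw [← hy0]; exact hyD
      · rw [← commutatorElement_inv, ← hy0]; exact inv_mem hyD
      · rw [commutatorElement_self]; exact one_mem _
    refine nextP_le_of_gens hxe hxe hcom hcom ?_
    rintro _ (rfl | rfl)
    · exact (sup_le_sup_right (Subgroup.closure_mono (by simp)) E2 : Z2 ≤ D) hxp
    · exact mem_sup_right (hEp _ he)
  have hP3Z : P3 ≤ Z2 := by
    refine nextP_le_of_gens (s := {y}) (t := {x, e}) (hP2D.trans (sup_le ((closure_le _).2 (by
      rintro _ (rfl | rfl)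
      exacts [mem_sup_left (subset_closure rfl), mem_sup_right (mem_sup_left (subset_closure rfl))]))
      (le_sup_right.trans le_sup_right))) ?_ ?_ ?_ ?_
    · refine hgen.trans (sup_le ((closure_le _).2 (by
        rintro _ rfl; exact mem_sup_left (subset_closure (Or.inl rfl)))) (hEe.trans (sup_le ((closure_le _).2 (by
        rintro _ rfl; exact mem_sup_left (subset_closure (Or.inr rfl)))) (sup_le ((closure_le _).2 ?_)
          (le_sup_right.trans le_sup_right)))))
      rintro _ (rfl | rfl)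
      · refine mem_sup_left ?_
        rw [hy0]
        exact mul_mem (mul_mem (mul_mem (subset_closure (Or.inl rfl)) (subset_closure (Or.inr rfl)))
          (inv_mem (subset_closure (Or.inl rfl)))) (inv_mem (subset_closure (Or.inr rfl)))
      · exact mem_sup_right (mem_sup_left (subset_closure rfl))
    · rintro _ rfl _ (rfl | rfl)
      · rw [← commutatorElement_inv, ← hz0]; exact inv_mem (mem_sup_left (subset_closure rfl))
      · exact mem_sup_right (hEE _ hyE _ he)
    · rintro _ rfl _ rfl; rw [commutatorElement_self]; exact one_mem _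
    · rintro _ rfl; exact mem_sup_right (hEp _ hyE)
  have hP4E : P4 ≤ E2 := by
    refine nextP_le_of_gens (s := {z}) (t := {x} ∪ E) hP3Z (hgen.trans (sup_le ?_ ?_)) ?_ ?_ ?_
    · exact ((Subgroup.closure_mono (Set.subset_union_left)).trans le_sup_left)
    · exact fun a ha => mem_sup_left (subset_closure (Or.inr ha))
    · rintro _ rfl b (rfl | hb)
      · rw [← commutatorElement_inv]; exact inv_mem hzx
      · exact hEE _ hzE _ hb
    · rintro _ rfl _ rfl; rw [commutatorElement_self]; exact one_mem _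
    · rintro _ rfl; exact hEp _ hzE
  have hyP3 : y ∉ P3 := fun h => hy (hP3Z h)
  have hzP4 : z ∉ P4 := fun h => hz (hP4E h)
  -- `E2` modulo `P3`
  set K1 := closure {e ^ p} ⊔ P3 with hK1
  have hep2 : e ^ p ∈ P2 := s1' e
  have hK1n : K1.Normal := normal_between (A := P2) le_sup_right
    (sup_le ((closure_le _).2 (by rintro _ rfl; exact hep2)) h32)
  have hE2K : E2 ≤ K1 := by
    have hcom : ∀ a ∈ ({e, y, z} : Set G), ∀ b ∈ ({e, y, z} : Set G), ⁅a, b⁆ ∈ K1 := by
      rintro a ha b hb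
      rcases ha with rfl | rfl | rfl <;> rcases hb with rfl | rfl | rfl <;>
        first
          | (rw [commutatorElement_self]; exact one_mem _)
          | exact mem_sup_right (s2 _ hyP _)
          | exact mem_sup_right (s2' _ hyP _)
          | exact mem_sup_right (s2 _ (h32 hzP) _)
          | exact mem_sup_right (s2' _ (h32 hzP) _)
    have hstep : E2 ≤ K1 ⊔ nextP p (⊤ : Subgroup G) E2 := by
      refine (hE2.le.trans (nextP_mono hEgen hEgen)).trans ?_
      have hK' : (K1 ⊔ nextP p (⊤ : Subgroup G) E2).Normal := inferInstance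
      have hg : Subgroup.closure {e, y, z} ⊔ E2 ≤
          Subgroup.closure (({e, y, z} : Set G) ∪ E2) ⊔ (K1 ⊔ nextP p (⊤ : Subgroup G) E2) :=
        (sup_le (Subgroup.closure_mono Set.subset_union_left)
          (fun a ha => subset_closure (Or.inr ha))).trans le_sup_left
      refine nextP_le_of_gens (s := ({e, y, z} : Set G) ∪ E2) (t := ({e, y, z} : Set G) ∪ E2) hg hg ?_ ?_ ?_
      · rintro a (ha | ha) b (hb | hb)
        exacts [mem_sup_left (hcom a ha b hb), mem_sup_right (comm_mem_nextP' hb (mem_top a)),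
          mem_sup_right (comm_mem_nextP ha (mem_top b)), mem_sup_right (comm_mem_nextP ha (mem_top b))]
      · rintro a (ha | ha) b (hb | hb)
        exacts [mem_sup_left (hcom a ha b hb), mem_sup_right (comm_mem_nextP' hb (mem_top a)),
          mem_sup_right (comm_mem_nextP ha (mem_top b)), mem_sup_right (comm_mem_nextP ha (mem_top b))]
      · rintro a (ha | ha)
        · rcases ha with rfl | rfl | rfl
          · exact mem_sup_left (mem_sup_left (subset_closure rfl))
          · exact mem_sup_left (mem_sup_right (pow_mem_nextP hyP))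
          · exact mem_sup_left (mem_sup_right (pow_mem_nextP (h32 hzP)))
        · exact mem_sup_right (pow_mem_nextP ha)
    exact le_of_le_sup_nextP hG hstep
  have hxpK : x ^ p ∈ K1 := sup_le ((closure_le _).2 (by rintro _ rfl; exact mem_sup_right hzP)) hE2K hxp
  -- quotient by `P3`
  set q3 := QuotientGroup.mk' P3 with hq3
  have o3 : ∀ w, q3 w = 1 ↔ w ∈ P3 := fun w => QuotientGroup.eq_one_iff w
  have cen3 : ∀ a ∈ P2, q3 a ∈ Subgroup.center (G ⧸ P3) := fun a ha => mem_center_iff.2 fun g => by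
    obtain ⟨g, rfl⟩ := QuotientGroup.mk'_surjective P3 g
    exact commutatorElement_eq_one_iff_mul_comm.1 (by rw [← map_commutatorElement]; exact (o3 _).2 (s2' a ha g))
  have hexp : q3 (φ (e ^ p)) = q3 (e ^ p) * q3 (x ^ p) := by
    rw [map_pow, hφe, map_pow, map_pow, map_pow, map_mul]
    refine H24.mul_pow_prime_of_class_two hpp hp2 ?_ ?_
    · rw [← map_commutatorElement]; exact cen3 _ (s1 x e)
    · rw [← map_commutatorElement, ← map_pow]; exact (o3 _).2 (pow_mem_nextP (s1 x e))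
  have hxp3 : x ^ p ∈ P3 := by
    obtain ⟨u, hu, d, hd, hud⟩ := Subgroup.mem_sup_of_normal_right.1 hxpK
    obtain ⟨κ, rfl⟩ := Subgroup.mem_closure_singleton.1 hu
    have hX : q3 (x ^ p) = q3 (e ^ p) ^ κ := by rw [← hud, map_mul, map_zpow, (o3 d).2 hd, mul_one]
    obtain ⟨d1, hd1, hφx'⟩ : ∃ d1 ∈ P2, φ x = x * d1 := ⟨_, hφx, by group⟩
    have hXφ : q3 (φ (x ^ p)) = q3 (x ^ p) := by
      rw [map_pow, hφx', map_pow, map_pow, map_mul,
        (show Commute (q3 x) (q3 d1) from mem_center_iff.1 (cen3 d1 hd1) _).mul_pow, ← map_pow q3 d1,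
        (o3 _).2 (pow_mem_nextP hd1), mul_one]
    have h1 : q3 (φ (x ^ p)) = q3 (φ (e ^ p)) ^ κ := by
      rw [← hud, map_mul, map_mul, (o3 _).2 (f3 d hd), mul_one, map_zpow, map_zpow]
    rw [hXφ, hexp, (show Commute (q3 (e ^ p)) (q3 (x ^ p)) from mem_center_iff.1 (cen3 _ (s1' x)) _).mul_zpow,
      ← hX, eq_comm, mul_eq_left] at h1
    have hXp : q3 (x ^ p) ^ p = 1 := by rw [← map_pow]; exact (o3 _).2 (pow_mem_nextP (s1' x))
    by_cases hκ : (p : ℤ) ∣ κ
    · obtain ⟨i, rfl⟩ := hκ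
      refine (o3 _).1 ?_
      rw [hX, zpow_mul, zpow_natCast, ← map_pow, (o3 _).2 (pow_mem_nextP hep2), one_zpow]
    · obtain ⟨a, b, hab⟩ := (Prime.coprime_iff_not_dvd (Nat.prime_iff_prime_int.1 hpp)).2 hκ
      refine (o3 _).1 ?_
      rw [← zpow_one (q3 (x ^ p)), ← hab, zpow_add, mul_comm a, zpow_mul, zpow_natCast, hXp, one_zpow,
        mul_comm b, zpow_mul, h1, one_zpow, one_mul]
  have hεfix : (e ^ p)⁻¹ * φ (e ^ p) ∈ P3 := by
    rw [← o3, map_mul, map_inv, hexp, (o3 _).2 hxp3, mul_one, inv_mul_cancel]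
  -- quotient by `P4`
  set q4 := QuotientGroup.mk' P4 with hq4
  have o4 : ∀ w, q4 w = 1 ↔ w ∈ P4 := fun w => QuotientGroup.eq_one_iff w
  have cen4 : ∀ a ∈ P3, q4 a ∈ Subgroup.center (G ⧸ P4) := fun a ha => mem_center_iff.2 fun g => by
    obtain ⟨g, rfl⟩ := QuotientGroup.mk'_surjective P4 g
    exact commutatorElement_eq_one_iff_mul_comm.1 (by rw [← map_commutatorElement]; exact (o4 _).2 (s3' a ha g))
  have hε4 : ⁅x, e ^ p⁆ ∈ P4 := by
    set d := (e ^ p)⁻¹ * φ (e ^ p) with hd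
    have h0 : φ ⁅e, e ^ p⁆ = 1 := by
      rw [show ⁅e, e ^ p⁆ = 1 from commutatorElement_eq_one_iff_mul_comm.2 (Commute.self_pow e p).eq, map_one]
    have hcd : ∀ g, Commute (q4 g) (q4 d) := fun g => mem_center_iff.1 (cen4 d hεfix) _
    rw [map_commutatorElement, hφe, show φ (e ^ p) = e ^ p * d by rw [hd, mul_inv_cancel_left]] at h0
    have h1 : q4 ⁅e * x, e ^ p * d⁆ = 1 := by rw [h0, map_one]
    rw [comm_mul_right, map_mul, map_mul, map_mul, map_inv,
      show q4 ⁅e * x, d⁆ = 1 by rw [map_commutatorElement]; exact commutatorElement_eq_one_iff_mul_comm.2 (hcd _).eq,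
      mul_one, mul_inv_cancel, mul_one, comm_mul_left,
      show ⁅e, e ^ p⁆ = 1 from commutatorElement_eq_one_iff_mul_comm.2 (Commute.self_pow e p).eq, mul_one,
      ← MulAut.conj_apply, ← MulEquiv.coe_toMonoidHom, MulEquiv.coe_toMonoidHom, MulAut.conj_apply, map_mul,
      map_mul, map_inv] at h1
    refine (o4 _).1 ?_
    have := congrArg (fun v => (q4 e)⁻¹ * v * q4 e) h1
    simpa [mul_assoc] using this
  have hyp4 : y ^ p ∈ P4 := by
    refine (o4 _).1 ?_
    have h1 : q4 (x * e ^ p * x⁻¹) = q4 (y ^ p) * q4 (e ^ p) := by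
      rw [show x * e ^ p * x⁻¹ = (y * e) ^ p by rw [hy0, ← hxconj, conj_pow], map_pow, map_mul, map_pow, map_pow]
      refine H24.mul_pow_prime_of_class_two hpp hp2 ?_ ?_
      · rw [← map_commutatorElement]; exact cen4 _ (s2' y hyP e)
      · rw [← map_commutatorElement, ← map_pow]; exact (o4 _).2 (pow_mem_nextP (s2' y hyP e))
    rw [hxconj, map_mul, (o4 _).2 hε4, one_mul, right_eq_mul] at h1
    exact h1
  set c := ⁅e, y⁆ with hc
  have hcP : c ∈ P3 := s2' y hyP e
  have hcE2 : c ∈ E2 := hEE e he y hyE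
  obtain ⟨d1, hd1, hφx'⟩ : ∃ d1 ∈ P2, φ x = x * d1 := ⟨_, hφx, by group⟩
  have hφy : y⁻¹ * φ y ∈ P3 := by
    rw [← o3, map_mul, map_inv, inv_mul_eq_one, hy0, map_commutatorElement φ x e, hφe, hφx', map_commutatorElement,
      map_commutatorElement, map_mul, map_mul, comm_mul_left,
      show ⁅q3 d1, q3 e * q3 x⁆ = 1 from commutatorElement_eq_one_iff_mul_comm.2 (mem_center_iff.1 (cen3 d1 hd1) _).symm,
      mul_one, mul_inv_cancel, one_mul, comm_mul_right, commutatorElement_self, mul_one, mul_inv_cancel, mul_one]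
  obtain ⟨d2, hd2, hφy'⟩ : ∃ d2 ∈ P3, φ y = y * d2 := ⟨_, hφy, by group⟩
  have hcd2 : ∀ g, ⁅q4 g, q4 d2⁆ = 1 := fun g =>
    commutatorElement_eq_one_iff_mul_comm.2 (mem_center_iff.1 (cen4 d2 hd2) _)
  have hφz : z⁻¹ * φ z ∈ P4 := by
    rw [← o4, map_mul, map_inv, inv_mul_eq_one, hz0, map_commutatorElement φ x y, hφx', hφy', map_commutatorElement,
      map_commutatorElement, map_mul, map_mul, comm_mul_right, ← map_mul q4 x d1, hcd2, mul_one, mul_inv_cancel,
      mul_one, map_mul, comm_mul_left,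
      show ⁅q4 d1, q4 y⁆ = 1 by rw [← map_commutatorElement]; exact (o4 _).2 (c22 d1 hd1 y hyP),
      mul_one, mul_inv_cancel, one_mul]
  have hφc : (c * z)⁻¹ * φ c ∈ P4 := by
    rw [← o4, map_mul, map_inv, inv_mul_eq_one, hc, map_commutatorElement φ e y, hφe, hφy', map_mul,
      map_commutatorElement, map_commutatorElement, map_mul, map_mul, comm_mul_right, ← map_mul q4 e x, hcd2,
      mul_one, mul_inv_cancel, mul_one, map_mul, comm_mul_left, ← map_commutatorElement q4 x y, ← hz0]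
    rw [show q4 e * q4 z * (q4 e)⁻¹ = q4 z by rw [mem_center_iff.1 (cen4 z hzP) (q4 e), mul_inv_cancel_right]]
    exact (mem_center_iff.1 (cen4 z hzP) _)
  have hcP4 : c ∉ P4 := fun h => hzP4 (by
    have h1 := mul_mem (inv_mem h) (mul_mem (f4 c h) (inv_mem hφc))
    rwa [mul_inv_rev, inv_inv, mul_inv_cancel_left, inv_mul_cancel_left] at h1)
  by_cases hep : e ^ p ∈ P3
  swap
  · -- four independent elements modulo `⟨(e^p)^p⟩ P4`
    exfalso
    set K := closure {(e ^ p) ^ p} ⊔ P4 with hK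
    have hK3 : K ≤ P3 := sup_le ((closure_le _).2 (by rintro _ rfl; exact pow_mem_nextP hep2)) h43
    have hKn : K.Normal := normal_between (A := P3) le_sup_right hK3
    have hKE : K ≤ E2 := sup_le ((closure_le _).2 (by rintro _ rfl; exact pow_mem (hEp e he) p)) hP4E
    have hcK : c ∉ K := by
      intro h
      obtain ⟨u, hu, d, hd, hud⟩ := Subgroup.mem_sup_of_normal_right.1 h
      obtain ⟨i, rfl⟩ := Subgroup.mem_closure_singleton.1 hu
      refine hzP4 ((o4 z).1 ?_)
      set δ := (e ^ p)⁻¹ * φ (e ^ p) with hδ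
      have h2 : q4 (φ ((e ^ p) ^ p)) = q4 ((e ^ p) ^ p) := by
        rw [map_pow, show φ (e ^ p) = e ^ p * δ by rw [hδ, mul_inv_cancel_left], map_pow, map_mul,
          (show Commute (q4 (e ^ p)) (q4 δ) from mem_center_iff.1 (cen4 δ hεfix) _).mul_pow, ← map_pow q4,
          ← map_pow q4 δ, (o4 _).2 (pow_mem_nextP hεfix), mul_one]
      have h3 : q4 (φ c) = q4 c := by
        rw [← hud, map_mul, map_mul, map_mul, map_zpow, map_zpow, map_zpow, (o4 _).2 (f4 d hd), (o4 _).2 hd, h2]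
      have h4 := (o4 _).2 hφc
      rwa [map_mul, map_inv, map_mul, h3, mul_inv_rev, inv_mul_cancel_right, inv_eq_one] at h4
    have hzK : z ∉ closure {c} ⊔ K := fun h =>
      hz (sup_le ((closure_le _).2 (by rintro _ rfl; exact hcE2)) hKE h)
    have hle3 : closure {z} ⊔ (closure {c} ⊔ K) ≤ P3 :=
      sup_le ((closure_le _).2 (by rintro _ rfl; exact hzP))
        (sup_le ((closure_le _).2 (by rintro _ rfl; exact hcP)) hK3)
    have hyy : y ∉ closure {e ^ p} ⊔ (closure {z} ⊔ (closure {c} ⊔ K)) := fun h =>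
      hy (sup_le ((closure_le _).2 (by rintro _ rfl; exact mem_sup_right (hEp e he)))
        (hle3.trans hP3Z) h)
    have hP2gen : P2 ≤ closure ({y, e ^ p} ∪ P3) ⊔ K := by
      refine hP2D.trans (sup_le ((closure_le _).2 ?_) (hE2K.trans (sup_le ((closure_le _).2 ?_) ?_)))
      · rintro _ (rfl | rfl)
        exacts [mem_sup_left (subset_closure (Or.inl (Or.inl rfl))), mem_sup_left (subset_closure (Or.inr hzP))]
      · rintro _ rfl; exact mem_sup_left (subset_closure (Or.inl (Or.inr rfl)))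
      · exact fun a ha => mem_sup_left (subset_closure (Or.inr ha))
    refine false_of_rank_chain hG hr (K := K) (A := P2) (hK3.trans h32) (fun a _ w hw => hKn.conj_mem w hw a)
      (fun a ha b hb => mem_sup_right (c22 a ha b hb))
      (pow_mem_of_gens hP2gen (fun a ha b hb => mem_sup_right (c22 a ?_ b ?_)) ?_)
      (fun i => match i with
        | 0 => K | 1 => closure {c} ⊔ K | 2 => closure {z} ⊔ (closure {c} ⊔ K)
        | 3 => closure {e ^ p} ⊔ (closure {z} ⊔ (closure {c} ⊔ K))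
        | _ => closure {y} ⊔ (closure {e ^ p} ⊔ (closure {z} ⊔ (closure {c} ⊔ K)))) rfl ?_ ?_
    · rcases ha with (rfl | rfl) | ha
      exacts [hyP, hep2, h32 ha]
    · rcases hb with (rfl | rfl) | hb
      exacts [hyP, hep2, h32 hb]
    · rintro a ((rfl | rfl) | ha)
      · exact mem_sup_right hyp4
      · exact mem_sup_left (subset_closure rfl)
      · exact mem_sup_right (pow_mem_nextP ha)
    · intro i hi
      have a0 : K ≤ P2 := hK3.trans h32
      have a1 : closure {c} ⊔ K ≤ P2 := (le_sup_right.trans hle3).trans h32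
      have a3 : closure {e ^ p} ⊔ (closure {z} ⊔ (closure {c} ⊔ K)) ≤ P2 :=
        sup_le ((closure_le _).2 (by rintro _ rfl; exact hep2)) (hle3.trans h32)
      rcases (show i = 0 ∨ i = 1 ∨ i = 2 ∨ i = 3 ∨ i = 4 by omega) with rfl | rfl | rfl | rfl | rfl
      exacts [a0, a1, hle3.trans h32, a3, sup_le ((closure_le _).2 (by rintro _ rfl; exact hyP)) a3]
    · intro i hi
      rcases (show i = 0 ∨ i = 1 ∨ i = 2 ∨ i = 3 by omega) with rfl | rfl | rfl | rfl
      exacts [lt_closure_sup hcK, lt_closure_sup hzK, lt_closure_sup (fun h => hep (hle3 h)), lt_closure_sup hyy]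
  -- now `E2 ≤ P3`
  have hE2P3 : E2 ≤ P3 := hE2K.trans (sup_le ((closure_le _).2 (by rintro _ rfl; exact hep)) le_rfl)
  have hE3P4 : E3 ≤ P4 := hE3 ▸ nextP_mono hE2P3 le_top
  have hP2y : P2 ≤ closure {y} ⊔ P3 := hP2D.trans (sup_le ((closure_le _).2 (by
    rintro _ (rfl | rfl)
    exacts [mem_sup_left (subset_closure rfl), mem_sup_right hzP])) (hE2P3.trans le_sup_right))
  have hGgen : (⊤ : Subgroup G) ≤ closure {x, e} ⊔ P2 := hgen.trans (sup_le ((closure_le _).2 (by
      rintro _ rfl; exact mem_sup_left (subset_closure (Or.inl rfl))))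
      (hEgen.trans (sup_le ((closure_le _).2 (by
        rintro _ (rfl | rfl | rfl)
        exacts [mem_sup_left (subset_closure (Or.inr rfl)), mem_sup_right hyP, mem_sup_right (h32 hzP)]))
        ((hE2P3.trans h32).trans le_sup_right))))
  set K3 := closure {c, z} ⊔ P4 with hK3
  have hK3n : K3.Normal := normal_between (A := P3) le_sup_right
    (sup_le ((closure_le _).2 (by rintro _ (rfl | rfl) <;> assumption)) h43)
  have hP3gen : P3 ≤ K3 := by
    refine nextP_le_of_gens (s := {y} ∪ P3) (t := {x, e} ∪ P2)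
      (hP2y.trans ((sup_le (Subgroup.closure_mono Set.subset_union_left) fun a ha => subset_closure (Or.inr ha)).trans
        le_sup_left)) (hGgen.trans ((sup_le (Subgroup.closure_mono Set.subset_union_left) fun a ha =>
        subset_closure (Or.inr ha)).trans le_sup_left)) ?_ ?_ ?_
    · rintro a (rfl | ha) b (hb | hb)
      · rcases hb with rfl | rfl
        · rw [← commutatorElement_inv, ← hz0]; exact inv_mem (mem_sup_left (subset_closure (Or.inr rfl)))
        · rw [← commutatorElement_inv, ← hc]; exact inv_mem (mem_sup_left (subset_closure (Or.inl rfl)))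
      · exact mem_sup_right (c22 _ hyP b hb)
      · exact mem_sup_right (s3 a ha b)
      · exact mem_sup_right (s3 a ha b)
    · rintro a (rfl | ha) b (rfl | hb)
      · rw [commutatorElement_self]; exact one_mem _
      · exact mem_sup_right (s3' b hb _)
      · exact mem_sup_right (s3 a ha _)
      · exact mem_sup_right (s3 a ha _)
    · rintro a (rfl | ha)
      exacts [mem_sup_right hyp4, mem_sup_right (pow_mem_nextP ha)]
  -- quotient by `P5`
  set q5 := QuotientGroup.mk' P5 with hq5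
  have o5 : ∀ w, q5 w = 1 ↔ w ∈ P5 := fun w => QuotientGroup.eq_one_iff w
  have cen5 : ∀ a ∈ P4, ∀ v, Commute (q5 v) (q5 a) := fun a ha v =>
    (commutatorElement_eq_one_iff_mul_comm.1 (by rw [← map_commutatorElement]; exact (o5 _).2 (s4 a ha v))).symm
  have com32 : ∀ a ∈ P3, ∀ b ∈ P2, Commute (q5 a) (q5 b) := fun a ha b hb =>
    commutatorElement_eq_one_iff_mul_comm.1 (by rw [← map_commutatorElement]; exact (o5 _).2 (c32 a ha b hb))
  have hpw : ∀ g : G, ⁅g, y⁆ ∈ P3 → ⁅g, y⁆ ^ p ∈ P5 := by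
    intro g hg
    have h1 : q5 (g * y ^ p * g⁻¹) = q5 (⁅g, y⁆ ^ p) * q5 (y ^ p) := by
      rw [show g * y ^ p * g⁻¹ = (⁅g, y⁆ * y) ^ p by
        rw [show ⁅g, y⁆ * y = g * y * g⁻¹ by simp [commutatorElement_def, mul_assoc], conj_pow]]
      rw [map_pow, map_mul, (com32 _ hg y hyP).mul_pow, map_pow, map_pow]
    rw [map_mul, map_mul, map_inv, (cen5 _ hyp4 g).eq, mul_inv_cancel_right, right_eq_mul] at h1
    exact (o5 _).1 h1
  have hcp5 : c ^ p ∈ P5 := hpw e hcP
  have hzp5 : z ^ p ∈ P5 := hz0 ▸ hpw x (hz0 ▸ hzP)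
  set t1 := ⁅e, c⁆ with ht1
  set t2 := ⁅e, z⁆ with ht2
  set t3 := ⁅x, z⁆ with ht3
  have ht1P : t1 ∈ P4 := s3' c hcP e
  have ht2P : t2 ∈ P4 := s3' z hzP e
  have ht3P : t3 ∈ P4 := s3' z hzP x
  have hjac : q5 ⁅x, c⁆ = q5 t2 := by
    have key : ∀ {H : Type _} [Group H] (X E' Y Z' C D' D'' : H), X * E' * X⁻¹ = Y * E' → X * Y * X⁻¹ = Z' * Y →
        E' * Y * E'⁻¹ = C * Y → X * C * X⁻¹ = D' * C → E' * Z' * E'⁻¹ = D'' * Z' → Commute Z' C → Commute Y C →
        Commute Y Z' → Commute Y D'' → D' = D'' := by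
      intro H _ X E' Y Z' C D' D'' h1 h2 h3 h4 h5 hzc hyc hyz hyd
      have e1 : X * (E' * Y * E'⁻¹) * X⁻¹ = (Y * E') * (Z' * Y) * (Y * E')⁻¹ := by rw [← h1, ← h2]; group
      have e2 : X * (C * Y) * X⁻¹ = (D' * C) * (Z' * Y) := by rw [← h4, ← h2]; group
      rw [h3, e2] at e1
      have e3 : (Y * E') * (Z' * Y) * (Y * E')⁻¹ = D'' * C * (Z' * Y) := by
        calc (Y * E') * (Z' * Y) * (Y * E')⁻¹
            = Y * ((E' * Z' * E'⁻¹) * (E' * Y * E'⁻¹)) * Y⁻¹ := by group
          _ = Y * ((D'' * Z') * (C * Y)) * Y⁻¹ := by rw [h5, h3]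
          _ = (Y * D'') * (Z' * C) := by group
          _ = (D'' * Y) * (C * Z') := by rw [hyd.eq, hzc.eq]
          _ = D'' * C * (Z' * Y) := by
            rw [mul_assoc, ← mul_assoc Y, hyc.eq, mul_assoc C, hyz.eq, ← mul_assoc D'' C]
      rw [e3] at e1
      exact mul_right_cancel (mul_right_cancel e1)
    have hh : ∀ a b : G, q5 a * q5 b * (q5 a)⁻¹ = q5 ⁅a, b⁆ * q5 b := fun a b => by
      rw [← map_inv, ← map_mul, ← map_mul, ← map_mul]; congr 1; simp [commutatorElement_def, mul_assoc]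
    refine key (q5 x) (q5 e) (q5 y) (q5 z) (q5 c) _ _ ?_ ?_ ?_ (hh x c) ?_ (com32 z hzP c (h32 hcP))
      (com32 c hcP y hyP).symm (com32 z hzP y hyP).symm (cen5 t2 ht2P y)
    · rw [hh, ← hy0]
    · rw [hh, ← hz0]
    · rw [hh]
    · rw [hh]
  set K4 := closure {t1, t2, t3} ⊔ P5 with hK4
  have hK4n : K4.Normal := normal_between (A := P4) le_sup_right
    (sup_le ((closure_le _).2 (by rintro _ (rfl | rfl | rfl) <;> assumption)) h54)
  have hP4gen : P4 ≤ K4 := by
    refine nextP_le_of_gens (s := {c, z} ∪ P4) (t := {x, e} ∪ P2)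
      (hP3gen.trans ((sup_le (Subgroup.closure_mono Set.subset_union_left) fun a ha => subset_closure (Or.inr ha)).trans
        le_sup_left)) (hGgen.trans ((sup_le (Subgroup.closure_mono Set.subset_union_left) fun a ha =>
        subset_closure (Or.inr ha)).trans le_sup_left)) ?_ ?_ ?_
    · rintro a (ha | ha) b (hb | hb)
      · simp only [Set.mem_insert_iff, Set.mem_singleton_iff] at ha hb
        rcases ha with ha | ha <;> rcases hb with hb | hb <;> rw [ha, hb, ← commutatorElement_inv] <;>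
          refine inv_mem ?_
        · have h5 : ⁅x, c⁆ * t2⁻¹ ∈ P5 := by rw [← o5, map_mul, map_inv, hjac, mul_inv_cancel]
          have h := mul_mem (mem_sup_right (S := closure {t1, t2, t3}) h5)
            (mem_sup_left (T := P5) (subset_closure (show t2 ∈ ({t1, t2, t3} : Set G) by simp)))
          rwa [inv_mul_cancel_right] at h
        · exact mem_sup_left (subset_closure (by simp [t1]))
        · exact mem_sup_left (subset_closure (by simp [t3]))
        · exact mem_sup_left (subset_closure (by simp [t2]))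
      · rcases ha with rfl | rfl
        exacts [mem_sup_right (c32 _ hcP b hb), mem_sup_right (c32 _ hzP b hb)]
      · exact mem_sup_right (s4 a ha b)
      · exact mem_sup_right (s4 a ha b)
    · rintro a (ha | ha) b (hb | hb)
      · rcases ha with rfl | rfl <;> rcases hb with rfl | rfl
        exacts [mem_sup_right (c32 _ hcP _ (h32 hcP)), mem_sup_right (c32 _ hcP _ (h32 hzP)),
          mem_sup_right (c32 _ hzP _ (h32 hcP)), mem_sup_right (c32 _ hzP _ (h32 hzP))]
      · exact mem_sup_right (comm_mem_nextP' hb (mem_top a))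
      · exact mem_sup_right (s4 a ha b)
      · exact mem_sup_right (s4 a ha b)
    · rintro a (ha | ha)
      · rcases ha with rfl | rfl
        exacts [mem_sup_right hcp5, mem_sup_right hzp5]
      · exact mem_sup_right (pow_mem_nextP ha)
  -- the action of `φ`
  have q5e : ∀ g a : G, a ∈ P4 → ⁅q5 g, q5 a⁆ = 1 := fun g a ha =>
    commutatorElement_eq_one_iff_mul_comm.2 (cen5 a ha g).eq
  obtain ⟨d3, hd3, hφz'⟩ : ∃ d3 ∈ P4, φ z = z * d3 := ⟨_, hφz, by group⟩
  obtain ⟨d4, hd4, hφc'⟩ : ∃ d4 ∈ P4, φ c = c * z * d4 := ⟨_, hφc, by group⟩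
  have hconj4 : ∀ g a : G, a ∈ P4 → q5 g * q5 a * (q5 g)⁻¹ = q5 a := fun g a ha => by
    rw [(cen5 a ha g).eq, mul_inv_cancel_right]
  have hconj4' : ∀ g a b : G, ⁅a, b⁆ ∈ P4 → q5 g * ⁅q5 a, q5 b⁆ * (q5 g)⁻¹ = ⁅q5 a, q5 b⁆ := fun g a b h => by
    rw [← map_commutatorElement]; exact hconj4 g _ h
  have hexz : ⁅q5 e * q5 x, q5 z⁆ = q5 t3 * q5 t2 := by
    rw [comm_mul_left, hconj4' e x z ht3P, ← map_commutatorElement, ← map_commutatorElement]
  have φt2 : q5 (φ t2) = q5 t3 * q5 t2 := by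
    rw [ht2, map_commutatorElement, hφe, hφz', map_commutatorElement, map_mul, map_mul, comm_mul_right,
      ← map_mul q5 e x, q5e _ _ hd3, mul_one, mul_inv_cancel, mul_one, map_mul, hexz]
  have φt3 : q5 (φ t3) = q5 t3 := by
    rw [ht3, map_commutatorElement, hφx', hφz', map_commutatorElement, map_mul, map_mul, comm_mul_right,
      ← map_mul q5 x d1, q5e _ _ hd3, mul_one, mul_inv_cancel, mul_one, map_mul, comm_mul_left,
      show ⁅q5 d1, q5 z⁆ = 1 from commutatorElement_eq_one_iff_mul_comm.2 (com32 z hzP d1 hd1).eq.symm,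
      mul_one, mul_inv_cancel, one_mul, ← map_commutatorElement]
  have φt1 : q5 (φ t1) = q5 t2 * q5 t1 * (q5 t3 * q5 t2) := by
    rw [ht1, map_commutatorElement, hφe, hφc', map_commutatorElement, map_mul, map_mul, map_mul, comm_mul_right,
      ← map_mul q5 e x, q5e _ _ hd4, mul_one, mul_inv_cancel, mul_one, comm_mul_right, map_mul, hexz,
      comm_mul_left, hconj4' e x c (s3' c hcP x), ← map_commutatorElement, ← map_commutatorElement, hjac,
      ← map_mul q5 t3 t2, hconj4 c _ (mul_mem ht3P ht2P)]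
  have hrank : ∀ a b : G, a ∈ P4 → b ∈ P4 → a ∉ P5 → b ∉ closure {a} ⊔ P5 → False := by
    intro a b ha hb haP hbn
    have hle4 : closure {b} ⊔ (closure {a} ⊔ P5) ≤ P4 :=
      sup_le ((closure_le _).2 (by rintro _ rfl; exact hb))
        (sup_le ((closure_le _).2 (by rintro _ rfl; exact ha)) h54)
    have hle2 : closure {c} ⊔ (closure {b} ⊔ (closure {a} ⊔ P5)) ≤ E2 :=
      sup_le ((closure_le _).2 (by rintro _ rfl; exact hcE2)) (hle4.trans hP4E)
    refine false_of_rank_chain hG hr (K := P5) (A := P3) (h54.trans h43)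
      (fun g _ w hw => (inferInstance : P5.Normal).conj_mem w hw g) (fun u hu v hv => c32 u hu v (h32 hv))
      (pow_mem_of_gens (s := {c, z} ∪ P4) (hP3gen.trans (sup_le ((Subgroup.closure_mono Set.subset_union_left).trans
        le_sup_left) fun w hw => mem_sup_left (subset_closure (Or.inr hw)))) (fun u hu v hv => c32 u ?_ v ?_) ?_)
      (fun i => match i with
        | 0 => P5 | 1 => closure {a} ⊔ P5 | 2 => closure {b} ⊔ (closure {a} ⊔ P5)
        | 3 => closure {c} ⊔ (closure {b} ⊔ (closure {a} ⊔ P5))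
        | _ => closure {z} ⊔ (closure {c} ⊔ (closure {b} ⊔ (closure {a} ⊔ P5)))) rfl ?_ ?_
    · rcases hu with (rfl | rfl) | hu
      exacts [hcP, hzP, h43 hu]
    · rcases hv with (rfl | rfl) | hv
      exacts [h32 hcP, h32 hzP, h32 (h43 hv)]
    · rintro u ((rfl | rfl) | hu)
      exacts [hcp5, hzp5, pow_mem_nextP hu]
    · intro i hi
      have a3 : closure {c} ⊔ (closure {b} ⊔ (closure {a} ⊔ P5)) ≤ P3 :=
        sup_le ((closure_le _).2 (by rintro _ rfl; exact hcP)) (hle4.trans h43)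
      rcases (show i = 0 ∨ i = 1 ∨ i = 2 ∨ i = 3 ∨ i = 4 by omega) with rfl | rfl | rfl | rfl | rfl
      exacts [h54.trans h43, (le_sup_right.trans hle4).trans h43, hle4.trans h43, a3,
        sup_le ((closure_le _).2 (by rintro _ rfl; exact hzP)) a3]
    · intro i hi
      rcases (show i = 0 ∨ i = 1 ∨ i = 2 ∨ i = 3 by omega) with rfl | rfl | rfl | rfl
      exacts [lt_closure_sup haP, lt_closure_sup hbn, lt_closure_sup (fun h => hcP4 (hle4 h)),
        lt_closure_sup (fun h => hz (hle2 h))]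
  have hspan : ∀ a b : G, a ∈ P4 → b ∈ closure {a} ⊔ P5 → q5 (φ a) = q5 a → q5 (φ b) = q5 b := by
    intro a b _ hb h
    obtain ⟨u, hu, d, hd, rfl⟩ := Subgroup.mem_sup_of_normal_right.1 hb
    obtain ⟨i, rfl⟩ := Subgroup.mem_closure_singleton.1 hu
    rw [map_mul, map_mul, map_mul, (o5 _).2 (f5 d hd), (o5 d).2 hd, map_zpow, map_zpow, map_zpow, h]
  have h3' : t3 ∈ P5 := by
    by_contra h
    refine hrank t3 t2 ht3P ht2P h fun hm => h ((o5 _).1 ?_)
    have h1 := φt2
    rwa [hspan t3 t2 ht3P hm φt3, right_eq_mul] at h1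
  have h2' : t2 ∈ P5 := by
    by_contra h
    have φ2 : q5 (φ t2) = q5 t2 := by rw [φt2, (o5 _).2 h3', one_mul]
    refine hrank t2 t1 ht2P ht1P h fun hm => ?_
    have h1 := φt1
    rw [hspan t2 t1 ht2P hm φ2, (o5 _).2 h3', one_mul, (cen5 t1 ht1P t2).eq, mul_assoc, left_eq_mul] at h1
    have h2 : q5 t2 ^ p = 1 := by rw [← map_pow]; exact (o5 _).2 (pow_mem_nextP ht2P)
    obtain ⟨m, hm⟩ := hp
    have h3 : q5 t2 ^ (2 * m + 1) = 1 := by rw [← hm]; exact h2
    rw [pow_succ, pow_mul, pow_two, h1, one_pow, one_mul] at h3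
    exact h ((o5 _).1 h3)
  have hP4E3 : P4 ≤ E3 := by
    refine le_of_le_sup_nextP hG (hP4gen.trans (sup_le ((closure_le _).2 ?_) le_sup_right))
    rintro _ (rfl | rfl | rfl)
    exacts [mem_sup_left (hE3 ▸ comm_mem_nextP' hcE2 he), mem_sup_right h2', mem_sup_right h3']
  refine ⟨fun w hw => ?_, fun h => hcP4 (hE3P4 h)⟩
  have hres := comm_mem_of_gens (K := E3) (s := {z}) (t := {e, y, z} ∪ E2) (A := closure {z}) (B := E)
    le_sup_left (hEgen.trans ((sup_le (Subgroup.closure_mono Set.subset_union_left) fun a ha =>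
      subset_closure (Or.inr ha)).trans le_sup_left)) ?_ z (subset_closure rfl) w hw
  · exact hres
  rintro _ rfl b (hb | hb)
  · rcases hb with rfl | rfl | rfl
    · rw [← commutatorElement_inv]; exact inv_mem (hP4E3 (h54 h2'))
    · exact hP4E3 (h54 (c32 _ hzP _ hyP))
    · rw [commutatorElement_self]; exact one_mem _
  · rw [hE3, ← commutatorElement_inv]; exact inv_mem (comm_mem_nextP hb hzE)

end Cfsg.Agent.H95
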