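import Cfsg.Agent.H95.FrattiniAct
import Cfsg.Agent.H95.RankThreeModule
import Cfsg.Agent.H95.LinearThreeIrreducible
import Cfsg.Agent.H29.EssentialChain

/-!
A maximal subgroup with three generators on which an outside element acts regularly is invariant.
-/
set_option autoImplicit false

namespace Cfsg.Agent.H95

open Subgroup
open scoped commutatorElement

variable {G : Type*} [Group G] {p : ℕ}

/-- The automorphisms `X` of the Frattini quotient of a maximal subgroup `E` and the automorphisms `B` of the whole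
group extending them. -/
structure Reduct (p : ℕ) (E : Subgroup G) [E.Normal] (X : Subgroup (MulAut (E ⧸ frattini E)))
    (B : Subgroup (MulAut G)) : Prop where
  index : E.index = p
  rank : (frattini E).index = p ^ 3
  conj : ∀ g, frattiniAct E (MulAut.conjNormal g) ∈ X
  faith : ∀ g, frattiniAct E (MulAut.conjNormal g) = 1 → g ∈ E
  lift : ∀ β ∈ X, ∃ α, frattiniAct E α = β
  core : ∀ L ≤ X, (∀ a ∈ X, ∀ l ∈ L, a * l * a⁻¹ ∈ L) → IsPGroup p L → L = ⊥
  sep : ∀ g ∉ E, ∃ σ ∈ X, ¬ IsPGroup p (closure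
    ({frattiniAct E (MulAut.conjNormal g), σ * frattiniAct E (MulAut.conjNormal g) * σ⁻¹} :
      Set (MulAut (E ⧸ frattini E))))
  ext : ∀ β ∈ X, (∀ g, ∃ g', β * frattiniAct E (MulAut.conjNormal g) * β⁻¹ =
      frattiniAct E (MulAut.conjNormal g')) →
    ∃ T ∈ B, ∀ v : E, ∃ h : T v ∈ E, H24.frq E ⟨T v, h⟩ = β (H24.frq E v)

variable [Fact p.Prime] [Finite G]

theorem card_frattini_quot {E : Subgroup G} (h : (frattini E).index = p ^ 3) :
    Nat.card (E ⧸ frattini E) = p ^ 3 := by
  rw [← index_eq_card, h]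

theorem closure_sup_of_index {E : Subgroup G} (h : E.index = p) {x : G} (hx : x ∉ E) :
    (⊤ : Subgroup G) ≤ closure {x} ⊔ E := by
  refine (index_eq_one.1 ?_).ge
  have hd := index_dvd_of_le (le_sup_right : E ≤ closure {x} ⊔ E)
  rw [h] at hd
  rcases (Nat.dvd_prime Fact.out).1 hd with h' | h'
  · exact h'
  · exfalso
    have e := relIndex_mul_index (le_sup_right : E ≤ closure {x} ⊔ E)
    rw [h, h', mul_eq_right₀ (Fact.out : p.Prime).ne_zero] at e
    exact hx (relIndex_eq_one.1 e (mem_sup_left (subset_closure rfl)))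

theorem nextP_top_le_of_index {E : Subgroup G} [E.Normal] (h : E.index = p) : nextP p (⊤ : Subgroup G) ⊤ ≤ E := by
  have hc : Nat.card (G ⧸ E) = p := by rw [← index_eq_card, h]
  have := isCyclic_of_prime_card hc
  refine nextP_le (fun a _ b _ => (QuotientGroup.eq_one_iff _).1 ?_) fun a _ => ?_
  · show QuotientGroup.mk' E ⁅a, b⁆ = 1
    rw [map_commutatorElement, commutatorElement_eq_one_iff_mul_comm]
    exact IsCyclic.commGroup.mul_comm _ _
  · rw [← h]
    exact E.pow_index_mem a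

/-- An element outside a subgroup of index `p` acts as a power, prime to `p`, of any other one. -/
theorem exists_pow_act {E : Subgroup G} [E.Normal] (hG : IsPGroup p G) (h : E.index = p) {x0 x : G} (hx0 : x0 ∉ E)
    (hx : x ∉ E) : ∃ n : ℕ, ¬ p ∣ n ∧ frattiniAct E (MulAut.conjNormal x) =
      frattiniAct E (MulAut.conjNormal x0) ^ n := by
  have hp : p.Prime := Fact.out
  obtain ⟨k, d, hd, rfl⟩ := exists_mul_of_mem_sup_closure (closure_sup_of_index h hx0 (mem_top x))
  have hx0p : x0 ^ p ∈ E := by rw [← h]; exact E.pow_index_mem x0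
  have hact : frattiniAct E (MulAut.conjNormal x0) ^ p = 1 := by
    rw [← map_pow, ← map_pow]; exact frattiniAct_conjNormal_mem (hG.to_subgroup E) hx0p
  obtain ⟨n, hn⟩ : ∃ n : ℕ, (p : ℤ) ∣ k - n := ⟨(k % p).toNat, by
    rw [Int.toNat_of_nonneg (Int.emod_nonneg _ (by exact_mod_cast hp.ne_zero))]
    exact Int.dvd_self_sub_emod⟩
  obtain ⟨t, ht⟩ := hn
  refine ⟨n, fun hd' => hx (mul_mem ?_ hd), ?_⟩
  · obtain ⟨s, rfl⟩ := hd'
    rw [show k = (p : ℤ) * (t + s) by push_cast at ht; linear_combination ht, zpow_mul, zpow_natCast]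
    exact zpow_mem hx0p _
  · rw [map_mul, map_mul, frattiniAct_conjNormal_mem (hG.to_subgroup E) hd, mul_one, map_zpow, map_zpow,
      show k = (p : ℤ) * t + n by linear_combination ht, zpow_add, zpow_mul, zpow_natCast, hact, one_zpow, one_mul,
      zpow_natCast]

theorem regular_false (hG : IsPGroup p G) (hp5 : 5 ≤ p) (hr : Cfsg.SectionalPRankLE p 3 G) {E : Subgroup G}
    [E.Normal] {X : Subgroup (MulAut (E ⧸ frattini E))} {B : Subgroup (MulAut G)} (h : Reduct p E X B)
    {φ : MulAut G} (hφ : IsPGroup p (zpowers φ)) (hφE : ∃ a ∈ E, φ a ∉ E) {x0 : G} {m : E ⧸ frattini E}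
    (hreg : frattiniAct E (MulAut.conjNormal x0) (m⁻¹ * frattiniAct E (MulAut.conjNormal x0) m) ≠
      m⁻¹ * frattiniAct E (MulAut.conjNormal x0) m) : False := by
  have hp : p.Prime := Fact.out
  have hodd : Odd p := hp.odd_of_ne_two (by omega)
  have hEp := hG.to_subgroup E
  letI := frattiniCommGroup hEp
  have hexp : ∀ v : E ⧸ frattini E, v ^ p = 1 := fun v => by
    obtain ⟨v, rfl⟩ := QuotientGroup.mk'_surjective _ v; exact H24.frq_pow hEp v
  have hcard := card_frattini_quot h.rank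
  set ρc : G →* MulAut (E ⧸ frattini E) := (frattiniAct E).comp MulAut.conjNormal with hρc
  have hρp : ∀ g, IsPGroup p (zpowers (ρc g)) := fun g => by
    rw [← MonoidHom.map_zpowers]; exact (hG.to_subgroup (zpowers g)).map ρc
  set x0b := ρc x0
  have hx0 : x0 ∉ E := fun hx => hreg (by rw [frattiniAct_conjNormal_mem hEp hx]; rfl)
  -- an element moved out of `E`
  set D : Subgroup E := ((disp x0b).comp (disp x0b)).ker.comap (H24.frq E) with hD
  obtain ⟨e', he'⟩ : ∃ e', e' ∉ D := by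
    obtain ⟨m, rfl⟩ := QuotientGroup.mk'_surjective _ m
    exact ⟨m, fun hm => hreg (disp_eq_one.1 hm)⟩
  obtain ⟨e, heD, hφe⟩ : ∃ e : E, e ∉ D ∧ φ e ∉ E := by
    by_contra hall
    push Not at hall
    obtain ⟨a, ha, hna⟩ := hφE
    by_cases haD : (⟨a, ha⟩ : E) ∈ D
    · have h1 := hall (⟨a, ha⟩ * e') fun hm => he' (by
        have := mul_mem (inv_mem haD) hm; rwa [inv_mul_cancel_left] at this)
      have h2 := hall e' he'
      rw [Subgroup.coe_mul, map_mul] at h1
      exact hna (by simpa using mul_mem h1 (inv_mem h2))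
    · exact hna (hall _ haD)
  set x := (e : G)⁻¹ * φ e with hxdef
  have hxE : x ∉ E := fun hx => hφe (by
    have := mul_mem e.2 hx; rwa [hxdef, mul_inv_cancel_left] at this)
  have hφe' : φ e = (e : G) * x := by rw [hxdef, mul_inv_cancel_left]
  set xb := ρc x
  obtain ⟨n, hn, hxn⟩ := exists_pow_act hG h.index hx0 hxE
  -- regularity of `x` at `e`
  set ē := H24.frq E e with hē
  have hE2e : disp xb (disp xb ē) ≠ 1 := by
    set y1 := disp x0b ē with hy1
    set y2 := disp x0b y1 with hy2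
    have h2f : x0b y2 = y2 := disp_eq_one.1 (disp_cube hexp hcard (hρp x0) ē)
    have h1' : x0b y1 = y1 * y2 := by rw [hy2, disp_apply, mul_inv_cancel_left]
    have h0' : x0b ē = ē * y1 := by rw [hy1, disp_apply, mul_inv_cancel_left]
    have hB : ∀ k : ℕ, (x0b ^ k) y1 = y1 * y2 ^ k ∧ (x0b ^ k) y2 = y2 := fun k => by
      have := zpow_apply_of_fixed x0b h1' h2f k
      have h' := apply_zpow_apply h2f k
      simp only [zpow_natCast] at this h'
      exact ⟨this, h'⟩
    have hA : ∀ k : ℕ, ∃ t : ℤ, (x0b ^ k) ē = ē * y1 ^ k * y2 ^ t := by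
      intro k
      induction k with
      | zero => exact ⟨0, by simp⟩
      | succ k ih =>
        obtain ⟨t, ht⟩ := ih
        refine ⟨k + t, ?_⟩
        rw [pow_succ', MulAut.mul_apply, ht, map_mul, map_mul, map_pow, map_zpow, h0', h1', h2f, mul_pow, pow_succ',
          zpow_add, zpow_natCast]
        simp only [mul_assoc]
    obtain ⟨t, ht⟩ := hA n
    have hxb : xb = x0b ^ n := hxn
    intro hh
    have e1 : disp xb ē = y1 ^ n * y2 ^ t := by
      rw [disp_apply, hxb, ht, mul_assoc ē, inv_mul_cancel_left]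
    have e2 : disp xb y1 = y2 ^ n := by rw [disp_apply, hxb, (hB n).1, inv_mul_cancel_left]
    have e3 : disp xb y2 = 1 := by rw [disp_eq_one, hxb, (hB n).2]
    rw [e1, map_mul, map_pow, map_zpow, e2, e3, one_zpow, mul_one, ← pow_mul] at hh
    refine heD (show disp x0b (disp x0b ē) = 1 from ?_)
    rw [← hy1, ← hy2, ← orderOf_eq_one_iff]
    have hd := orderOf_dvd_of_pow_eq_one hh
    rcases (Nat.dvd_prime hp).1 (orderOf_dvd_of_pow_eq_one (hexp y2)) with h' | h'
    · exact h'
    · rw [h'] at hd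
      exact absurd (hp.dvd_mul.1 hd) (by tauto)
  -- the elements `y` and `z`
  have hEn := ‹E.Normal›
  have hcE : ∀ (g : G) (v : E), ⁅g, (v : G)⁆ ∈ E := fun g v => by
    rw [commutatorElement_def]; exact mul_mem (hEn.conj_mem v v.2 g) (inv_mem v.2)
  have hdisp : ∀ v : E, disp xb (H24.frq E v) = H24.frq E ⟨⁅x, (v : G)⁆, hcE x v⟩ := fun v =>
    disp_conjNormal hEp x v (hcE x v)
  set y : E := ⟨⁅x, (e : G)⁆, hcE x e⟩ with hy
  set z : E := ⟨⁅x, (y : G)⁆, hcE x y⟩ with hz
  have hyb : disp xb ē = H24.frq E y := hdisp e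
  have hzb : disp xb (disp xb ē) = H24.frq E z := by rw [hyb]; exact hdisp y
  obtain ⟨hy', he2, htop⟩ := regular_basis hexp hcard (hρp x) hE2e
  rw [hzb] at hy' he2 htop hE2e
  rw [hyb] at hy' he2 htop
  set E2 := nextP p E E with hE2
  set E3 := nextP p E E2 with hE3
  have hmem := fun (s : Set E) {v : E} => mem_closure_frq_iff hEp s (v := v)
  have hgen := closure_sup_of_index h.index hxE
  have hEgen : E ≤ closure {(e : G), (y : G), (z : G)} ⊔ E2 := by
    have := le_closure_of_frq_top hEp {e, y, z} (by rw [Set.image_insert_eq, Set.image_insert_eq, Set.image_singleton]; exact htop)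
    rwa [Set.image_insert_eq, Set.image_insert_eq, Set.image_singleton] at this
  have hzx : ⁅x, (z : G)⁆ ∈ E2 := by
    refine (frq_eq_one_iff hEp (v := ⟨_, hcE x z⟩)).1 ?_
    rw [← hdisp z, ← hzb]
    exact disp_cube hexp hcard (hρp x) ē
  have hzn : (z : G) ∉ E2 := fun hh => hE2e ((frq_eq_one_iff hEp).2 hh)
  have hyn : (y : G) ∉ closure {(z : G)} ⊔ E2 := fun hh => hy' (by
    rw [zpowers_eq_closure]
    have := (hmem {z}).2 (by rw [Set.image_singleton]; exact hh)
    rwa [Set.image_singleton] at this)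
  have hxpE : x ^ p ∈ E := by rw [← h.index]; exact E.pow_index_mem x
  have hxp : x ^ p ∈ closure {(z : G)} ⊔ E2 := by
    have hker : (disp xb).ker = zpowers (H24.frq E z) := by
      refine (eq_of_le_of_card_ge (zpowers_le.2 ?_) ?_).symm
      · show disp xb (H24.frq E z) = 1
        rw [← hzb]; exact disp_cube hexp hcard (hρp x) ē
      · have h1 := (disp xb).ker.index_mul_card
        rw [Subgroup.index_ker, hcard] at h1
        have h2 : p ^ 2 ≤ Nat.card (disp xb).range := by
          rw [← card_closure_pair hexp hE2e hy']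
          refine card_le_of_le ((closure_le _).2 ?_)
          rintro v (hv | hv)
          · rw [hv, ← hyb]; exact ⟨_, rfl⟩
          · rw [Set.mem_singleton_iff.1 hv, ← hzb]; exact ⟨_, rfl⟩
        rw [Nat.card_zpowers, orderOf_eq_prime (hexp _) hE2e]
        refine Nat.le_of_mul_le_mul_left ?_ (pow_pos hp.pos 2)
        calc p ^ 2 * Nat.card (disp xb).ker ≤ Nat.card (disp xb).range * Nat.card (disp xb).ker :=
              Nat.mul_le_mul_right _ h2
          _ = p ^ 2 * p := by rw [h1, pow_succ]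
    have h1 : H24.frq E ⟨x ^ p, hxpE⟩ ∈ (disp xb).ker := by
      rw [MonoidHom.mem_ker, hdisp]
      refine (frq_eq_one_iff hEp).2 ?_
      show ⁅x, x ^ p⁆ ∈ E2
      rw [commutatorElement_eq_one_iff_mul_comm.2 ((Commute.refl x).pow_right p).eq]
      exact one_mem _
    rw [hker, zpowers_eq_closure] at h1
    have := (hmem {z}).1 (by rw [Set.image_singleton]; exact h1)
    rwa [Set.image_singleton] at this
  -- `φ` fixes `x` modulo `P2`
  set P2 := nextP p (⊤ : Subgroup G) ⊤ with hP2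
  have hP2E : P2 ≤ E := nextP_top_le_of_index h.index
  set q2 := QuotientGroup.mk' P2 with hq2
  have o2 : ∀ a, q2 a = 1 ↔ a ∈ P2 := fun a => QuotientGroup.eq_one_iff a
  letI : CommGroup (G ⧸ P2) := { (inferInstance : Group (G ⧸ P2)) with
    mul_comm := fun a b => by
      obtain ⟨a, rfl⟩ := QuotientGroup.mk'_surjective P2 a
      obtain ⟨b, rfl⟩ := QuotientGroup.mk'_surjective P2 b
      exact commutatorElement_eq_one_iff_mul_comm.1 (by
        rw [← map_commutatorElement]; exact (o2 _).2 (comm_mem_nextP (mem_top a) (mem_top b))) }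
  have ex2 : ∀ a : G, q2 a ^ p = 1 := fun a => by rw [← map_pow]; exact (o2 _).2 (pow_mem_nextP (mem_top a))
  have hinv : ∀ (β : MulAut G), ∀ a ∈ P2, β a ∈ P2 := fun β a ha =>
    apply_mem_nextP β (fun _ _ => mem_top _) (fun _ _ => mem_top _) ha
  let ρ2 : MulAut G →* MulAut (G ⧸ P2) :=
    { toFun := fun β => QuotientGroup.congr P2 P2 β
        (le_antisymm (by rintro _ ⟨a, ha, rfl⟩; exact hinv β a ha)
          fun a ha => ⟨β⁻¹ a, hinv β⁻¹ a ha, β.apply_symm_apply a⟩)
      map_one' := by ext q; induction q using QuotientGroup.induction_on; rfl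
      map_mul' := fun a b => by ext q; induction q using QuotientGroup.induction_on; rfl }
  have hρ2 : ∀ a, ρ2 φ (q2 a) = q2 (φ a) := fun a => rfl
  have heP2 : q2 e ≠ 1 := fun hh => hφe (hP2E (hinv φ _ ((o2 _).1 hh)))
  have hxP2 : q2 x ≠ 1 := fun hh => hxE (hP2E ((o2 _).1 hh))
  have hφ2 : IsPGroup p (zpowers (ρ2 φ)) := by rw [← MonoidHom.map_zpowers]; exact hφ.map ρ2
  have hVgen : ∀ v : G ⧸ P2, ∃ a b : ℤ, v = q2 e ^ a * q2 x ^ b := by
    intro v
    obtain ⟨g, rfl⟩ := QuotientGroup.mk'_surjective P2 v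
    have hle : (⊤ : Subgroup G) ≤ closure {(e : G)} ⊔ (closure {x} ⊔ P2) := by
      have hyP : (y : G) ∈ P2 := comm_mem_nextP (mem_top _) (mem_top _)
      have hzP : (z : G) ∈ P2 := comm_mem_nextP (mem_top _) (mem_top _)
      refine hgen.trans (sup_le (le_sup_left.trans le_sup_right) (hEgen.trans (sup_le ((closure_le _).2 ?_)
        ((nextP_mono le_top le_top).trans (le_sup_right.trans le_sup_right)))))
      rintro _ (rfl | rfl | rfl)
      exacts [mem_sup_left (subset_closure rfl), mem_sup_right (mem_sup_right hyP),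
        mem_sup_right (mem_sup_right hzP)]
    have : (closure {x} ⊔ P2).Normal := normal_between (A := (⊤ : Subgroup G)) le_sup_right le_top
    obtain ⟨a, v, hv, rfl⟩ := exists_mul_of_mem_sup_closure (hle (mem_top g))
    obtain ⟨b, d, hd, rfl⟩ := exists_mul_of_mem_sup_closure hv
    exact ⟨a, b, by rw [map_mul, map_mul, map_zpow, map_zpow, (o2 d).2 hd, mul_one]⟩
  have hcx : ∃ c : ℤ, ρ2 φ (q2 x) = q2 x ^ c := by
    have hbot : (⊥ : Subgroup (G ⧸ P2)) ≠ ⊤ := fun hh => hxP2 (mem_bot.1 (hh ▸ mem_top _))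
    obtain ⟨f, hf, hff⟩ := exists_fixed_over (hG.to_quotient P2) hφ2 (K := ⊥)
      (fun r _ k hk => by rw [mem_bot] at hk ⊢; rw [hk, map_one]) hbot
    rw [mem_bot] at hf
    have hφf : ρ2 φ f = f := (inv_mul_eq_one.1 (mem_bot.1 (hff _ (mem_zpowers _)))).symm
    obtain ⟨a, b, hab⟩ := hVgen f
    have hφeb : ρ2 φ (q2 e) = q2 e * q2 x := by rw [hρ2, hφe', map_mul]
    by_cases hb : (p : ℤ) ∣ b
    · exfalso
      have hfa : f = q2 e ^ a := by
        rw [hab, zpow_congr_of_exp (ex2 x) (b := 0) (by rwa [sub_zero]), zpow_zero, mul_one]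
      have hna : ¬ (p : ℤ) ∣ a := fun ha => hf (by
        rw [hfa, zpow_congr_of_exp (ex2 _) (b := 0) (by rwa [sub_zero]), zpow_zero])
      rw [hfa, map_zpow, hφeb, mul_zpow, mul_eq_left] at hφf
      exact hxP2 (eq_one_of_zpow_two (ex2 x) hφf hna)
    · obtain ⟨u, v, huv⟩ := (Prime.coprime_iff_not_dvd (Nat.prime_iff_prime_int.1 hp)).2 hb
      refine ⟨(b - a) * v, ?_⟩
      have h1 : ρ2 φ (q2 x ^ b) = q2 x ^ (b - a) := by
        have h2 := hφf
        rw [hab, map_mul, map_zpow, hφeb, mul_zpow, mul_assoc, mul_right_inj] at h2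
        rw [zpow_sub, eq_mul_inv_iff_mul_eq, mul_comm, h2]
      calc ρ2 φ (q2 x) = ρ2 φ ((q2 x ^ b) ^ v) := by
            rw [← zpow_mul, zpow_congr_of_exp (ex2 x) (a := b * v) (b := 1) ⟨-u, by linear_combination huv⟩,
              zpow_one]
        _ = _ := by rw [map_zpow, h1, ← zpow_mul]
  have hφx : x⁻¹ * φ x ∈ P2 := by
    obtain ⟨c, hc⟩ := hcx
    obtain ⟨j, hj⟩ := hφ2 ⟨ρ2 φ, mem_zpowers _⟩
    have hj' : ρ2 φ ^ p ^ j = 1 := congrArg Subtype.val hj
    have hpow : ∀ i : ℕ, (ρ2 φ ^ i) (q2 x) = q2 x ^ (c ^ i) := by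
      intro i
      induction i with
      | zero => simp
      | succ i ih => rw [pow_succ', MulAut.mul_apply, ih, map_zpow, hc, ← zpow_mul, pow_succ']
    have h1 := hpow (p ^ j)
    rw [hj', MulAut.one_apply] at h1
    have h2 : q2 x ^ (1 : ℤ) = q2 x ^ (c ^ p ^ j) := by rw [zpow_one]; exact h1
    rw [zpow_eq_zpow_iff_modEq, orderOf_eq_prime (ex2 x) hxP2] at h2
    have h3 : ((1 : ℤ) : ZMod p) = ((c : ℤ) : ZMod p) := by
      rw [(ZMod.intCast_eq_intCast_iff _ _ _).2 h2, Int.cast_pow, ZMod.pow_card_pow]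
    rw [← o2, map_mul, map_inv, ← hρ2, hc,
      zpow_congr_of_exp (ex2 x) (a := c) (b := 1) ((ZMod.intCast_eq_intCast_iff_dvd_sub _ _ _).1 h3), zpow_one,
      inv_mul_cancel]
  obtain ⟨hzc, hey⟩ := regular_core hG hodd hr hE2 hE3 (x := x) (e := (e : G)) (y := (y : G)) (z := (z : G))
    rfl rfl φ e.2 hgen hEgen hzx hxp hzn hyn hφe' hφx
  -- the invariant subgroup
  set Q3 := nextP p (⊤ : Subgroup E) (nextP p (⊤ : Subgroup E) ⊤) with hQ3
  have hQ3E : ∀ v : E, v ∈ Q3 ↔ (v : G) ∈ E3 := fun v => by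
    have h3 : Q3.map E.subtype = E3 := by
      rw [hQ3, map_nextP, map_nextP_top_eq, ← MonoidHom.range_eq_map, E.range_subtype]
    rw [← h3]
    exact (Subgroup.mem_map_iff_mem E.subtype_injective).symm
  let K0 : Subgroup E :=
    { carrier := {v | ∀ w : E, ⁅v, w⁆ ∈ Q3}
      one_mem' := fun w => by rw [commutatorElement_one_left]; exact one_mem _
      mul_mem' := fun {a b} ha hb w => comm_mul_left_mem (ha w) (hb w)
      inv_mem' := fun {a} ha w => by
        rw [show ⁅a⁻¹, w⁆ = a⁻¹ * ⁅a, w⁆⁻¹ * a by simp only [commutatorElement_def]; group]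
        simpa using ((inferInstance : Q3.Normal).conj_mem _ (inv_mem (ha w)) a⁻¹) }
  have hFK : frattini E ≤ K0 := fun v hv w => by
    rw [frattini_eq_nextP hEp] at hv
    exact comm_mem_nextP hv (mem_top w)
  refine false_of_invariant hodd hexp hcard h.core (h.conj x) ?_ (hρp x)
    ?_ (h.sep x hxE).choose_spec.2 (K := K0.map (H24.frq E)) ?_ ?_ ?_ (v := ē)
    (fun hh => hE2e (by rw [← hzb]; exact disp_eq_one.2 hh))
  · obtain ⟨hσ, -⟩ := (h.sep x hxE).choose_spec
    exact mul_mem (mul_mem hσ (h.conj x)) (inv_mem hσ)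
  · rw [show ∀ a b : MulAut (E ⧸ frattini E), a * b * a⁻¹ = (MulAut.conj a).toMonoidHom b from fun _ _ => rfl,
      ← MonoidHom.map_zpowers]
    exact (hρp x).map _
  · rintro β hβ _ ⟨v, hv, rfl⟩
    obtain ⟨α, rfl⟩ := h.lift β hβ
    rw [frattiniAct_apply]
    refine mem_map_of_mem _ fun w => ?_
    obtain ⟨w, rfl⟩ := α.surjective w
    rw [← map_commutatorElement]
    exact apply_mem_nextP α (fun a ha => apply_mem_nextP α (fun _ _ => mem_top _) (fun _ _ => mem_top _) ha)
      (fun _ _ => mem_top _) (hv w)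
  · intro hh
    refine hE2e ?_
    rw [← mem_bot, ← hh]
    exact mem_map_of_mem _ fun w => (hQ3E _).2 (hzc w w.2)
  · intro hh
    obtain ⟨v, hv, hve⟩ := hh.ge (mem_top (H24.frq E e))
    have : e ∈ K0 := by
      have := mul_mem hv (hFK (H24.frq_eq_one.1 (by rw [map_mul, map_inv, hve, inv_mul_cancel] :
        H24.frq E (v⁻¹ * e) = 1)))
      rwa [mul_inv_cancel_left] at this
    exact hey ((hQ3E _).1 (this y))

end Cfsg.Agent.H95
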