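import Cfsg.Agent.H95.RankThreeTransvection
import Cfsg.Agent.H95.RankThreePlane
import Cfsg.Agent.H29.EssentialChain

/-!
The automorphism moving a maximal subgroup `E` becomes a shear.
-/
set_option autoImplicit false

namespace Cfsg.Agent.H95

open Subgroup
open scoped commutatorElement

variable {p : ℕ}

variable {G : Type*} [Group G]

/-- The data of the second stage. -/
structure TData (p : ℕ) (E E2 : Subgroup G) (x e w z : G) (τ T : MulAut G) (B : Subgroup (MulAut G)) (i r : ℤ) : Prop where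
  facts : TFacts p E E2 x e w z
  he : e ∈ E
  hw : w ∈ E
  hz0 : z = ⁅x, e⁆
  hgen : (⊤ : Subgroup G) ≤ closure {x} ⊔ E
  hEgen : E ≤ closure {e, z, w} ⊔ E2
  hxE : x ∉ E
  hz : z ∉ E2
  hw' : w ∉ closure {z} ⊔ E2
  he' : e ∉ closure {z, w} ⊔ E2
  τB : τ ∈ B
  TB : T ∈ B
  comm : τ * T = T * τ
  τe : τ e = e⁻¹
  τx : τ x = x
  τw : τ w = w
  Te : (e ^ r)⁻¹ * T e ∈ E2
  Tw : w⁻¹ * T w ∈ closure {z} ⊔ E2
  Tz : (z ^ i)⁻¹ * T z ∈ E2
  hir : (p : ℤ) ∣ i * r - 1
  hi2 : ¬ (p : ℤ) ∣ i * i - 1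

/-- The properties of the shear. -/
structure Shear (p : ℕ) (E2 : Subgroup G) (x e w z : G) (T : MulAut G) (B : Subgroup (MulAut G)) (i : ℤ)
    (u : MulAut G) (b c : ℤ) : Prop where
  mem : u ∈ B
  pgrp : IsPGroup p (zpowers u)
  hb : ¬ (p : ℤ) ∣ b
  ue : (e * x ^ b * w ^ c)⁻¹ * u e ∈ closure {z} ⊔ E2
  ux : x⁻¹ * u x ∈ closure {z} ⊔ E2
  uw : w⁻¹ * u w ∈ E2
  uz : z⁻¹ * u z ∈ E2
  tconj : ∃ (n : G) (k : ℤ), (p : ℤ) ∣ k - i * i * i ∧ T * u * T⁻¹ = MulAut.conj n * u ^ k
  sylow : ∀ L ≤ B, IsPGroup p L → u ∈ L → ∀ π ∈ L, ∃ (n : G) (k : ℤ), π = MulAut.conj n * u ^ k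
  upow : ∃ n : G, u ^ p = MulAut.conj n

set_option maxHeartbeats 800000 in
theorem exists_shear [Fact p.Prime] [Finite G] (hG : IsPGroup p G) (hp5 : 5 ≤ p) {E E2 : Subgroup G} [E.Normal]
    (hE2 : E2 = nextP p E E) {x e w z : G} {τ T : MulAut G} {B : Subgroup (MulAut G)} {i r : ℤ}
    (h : TData p E E2 x e w z τ T B i r)
    (hOp : ∀ L ≤ B, (∀ a ∈ B, ∀ l ∈ L, a * l * a⁻¹ ∈ L) → IsPGroup p L →
      ∀ β ∈ L, (∀ a ∈ E, β a ∈ E) → ∃ n : G, β = MulAut.conj n)
    {φ : MulAut G} (hφB : φ ∈ B) (hφp : IsPGroup p (zpowers φ)) (hφe : φ e ∉ E) :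
    ∃ u b c, Shear p E2 x e w z T B i u b c := by
  obtain ⟨⟨hxp, hxw, hew, hP2, hinv2, hinvR⟩, he, hw, hz0, hgen, hEgen, hxE, hz, hw', he', τB, TB, hcomm, τe, τx,
    τw, Te, Tw, Tz, hir, hi2⟩ := h
  have hpp : p.Prime := Fact.out
  have hpr := Nat.prime_iff_prime_int.1 hpp
  have hodd : Odd p := hpp.odd_of_ne_two (by omega)
  have hE2n : E2.Normal := hE2 ▸ inferInstance
  have hE2E : E2 ≤ E := hE2 ▸ nextP_le_self
  have hEE : ∀ a ∈ E, ∀ b ∈ E, ⁅a, b⁆ ∈ E2 := fun a ha b hb => hE2 ▸ comm_mem_nextP ha hb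
  have hEp : ∀ a ∈ E, a ^ p ∈ E2 := fun a ha => hE2 ▸ pow_mem_nextP ha
  set P2 := nextP p (⊤ : Subgroup G) ⊤ with hP2def
  set R := closure {w} ⊔ P2 with hRdef
  have hzP2 : z ∈ P2 := hP2 ▸ mem_sup_left (subset_closure rfl)
  have hE2P2 : E2 ≤ P2 := hP2 ▸ le_sup_right
  have hzE : z ∈ E := by
    rw [hz0, commutatorElement_def]; exact mul_mem (‹E.Normal›.conj_mem e he x) (inv_mem he)
  have hP2E : P2 ≤ E := hP2 ▸ sup_le ((closure_le _).2 (Set.singleton_subset_iff.2 hzE)) hE2E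
  have hRn : R.Normal := normal_between (A := (⊤ : Subgroup G)) le_sup_right le_top
  have hRE : R ≤ E := sup_le ((closure_le _).2 (Set.singleton_subset_iff.2 hw)) hP2E
  -- the quotient by `P2`
  set q2 := QuotientGroup.mk' P2 with hq2
  have o2 : ∀ a, q2 a = 1 ↔ a ∈ P2 := fun a => QuotientGroup.eq_one_iff a
  have com2 : ∀ a b : G, Commute (q2 a) (q2 b) := fun a b => commutatorElement_eq_one_iff_mul_comm.1 (by
    rw [← map_commutatorElement]; exact (o2 _).2 (comm_mem_nextP (mem_top a) (mem_top b)))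
  have ex2 : ∀ a : G, q2 a ^ p = 1 := fun a => by rw [← map_pow]; exact (o2 _).2 (pow_mem_nextP (mem_top a))
  letI : CommGroup (G ⧸ P2) := { (inferInstance : Group (G ⧸ P2)) with
    mul_comm := fun a b => by
      obtain ⟨a, rfl⟩ := QuotientGroup.mk'_surjective P2 a
      obtain ⟨b, rfl⟩ := QuotientGroup.mk'_surjective P2 b
      exact (com2 a b).eq }
  have hq2eq : ∀ {a b : G}, q2 a = q2 b ↔ a⁻¹ * b ∈ P2 := fun {a b} => by
    rw [← o2, map_mul, map_inv, inv_mul_eq_one]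
  have hP2inv : ∀ (β : MulAut G), ∀ a ∈ P2, β a ∈ P2 := fun β a ha =>
    apply_mem_nextP β (fun _ _ => mem_top _) (fun _ _ => mem_top _) ha
  have hap : ∀ (β : MulAut G) {a b : G}, q2 a = q2 b → q2 (β a) = q2 (β b) := fun β {a b} hab => by
    rw [hq2eq] at hab ⊢
    rw [← map_inv, ← map_mul]
    exact hP2inv β _ hab
  have hdec : ∀ g : G, ∃ a b c : ℤ, q2 g = q2 e ^ a * q2 x ^ b * q2 w ^ c := by
    have hle : (⊤ : Subgroup G) ≤ closure {e} ⊔ (closure {x} ⊔ R) := by
      refine hgen.trans (sup_le (le_sup_left.trans le_sup_right) (hEgen.trans (sup_le ((closure_le _).2 ?_) ?_)))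
      · rintro _ (rfl | rfl | rfl)
        exacts [mem_sup_left (subset_closure rfl), mem_sup_right (mem_sup_right (mem_sup_right hzP2)),
          mem_sup_right (mem_sup_right (mem_sup_left (subset_closure rfl)))]
      · exact hE2P2.trans (le_sup_right.trans (le_sup_right.trans le_sup_right))
    intro g
    have hXn : (closure {x} ⊔ R).Normal :=
      normal_between (A := (⊤ : Subgroup G)) (le_sup_right.trans le_sup_right) le_top
    obtain ⟨a, v, hv, rfl⟩ := exists_mul_of_mem_sup_closure (hle (mem_top g))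
    obtain ⟨b, v', hv', rfl⟩ := exists_mul_of_mem_sup_closure hv
    obtain ⟨c, d, hd, rfl⟩ := exists_mul_of_mem_sup_closure hv'
    exact ⟨a, b, c, by rw [map_mul, map_mul, map_mul, map_zpow, map_zpow, map_zpow, (o2 d).2 hd, mul_one, mul_assoc]⟩
  have hind : ∀ a b c : ℤ, q2 e ^ a * q2 x ^ b * q2 w ^ c = 1 → (p : ℤ) ∣ a ∧ (p : ℤ) ∣ b ∧ (p : ℤ) ∣ c := by
    intro a b c habc
    rw [← map_zpow, ← map_zpow, ← map_zpow, ← map_mul, ← map_mul, o2] at habc
    have hb : (p : ℤ) ∣ b := by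
      by_contra hnb
      obtain ⟨v1, v2, hv⟩ := (Prime.coprime_iff_not_dvd hpr).2 hnb
      refine hxE ?_
      have h1 : x ^ b ∈ E := by
        have := mul_mem (mul_mem (inv_mem (zpow_mem he a)) (hP2E habc)) (inv_mem (zpow_mem hw c))
        rwa [← mul_assoc, inv_mul_cancel_left, mul_inv_cancel_right] at this
      have h2 : x ^ (p : ℤ) ∈ E := by rw [zpow_natCast]; exact hE2E hxp
      have h3 := mul_mem (zpow_mem h2 v1) (zpow_mem h1 v2)
      rwa [← zpow_mul, ← zpow_mul, ← zpow_add, mul_comm (p : ℤ), mul_comm b, hv, zpow_one] at h3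
    obtain ⟨t, rfl⟩ := hb
    have h1 : e ^ a * w ^ c ∈ closure {z} ⊔ E2 := by
      rw [← hP2, ← o2, map_mul, map_zpow, map_zpow]
      have := (o2 _).2 habc
      rwa [map_mul, map_mul, map_zpow, map_zpow, map_zpow, zpow_mul (q2 x), zpow_natCast, ex2, one_zpow, mul_one] at this
    have hzw : closure {z} ⊔ E2 ≤ closure {z, w} ⊔ E2 := sup_le_sup_right (Subgroup.closure_mono (by simp)) E2
    have hwmem : w ∈ closure {z, w} ⊔ E2 := mem_sup_left (subset_closure (Or.inr rfl))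
    have ha : (p : ℤ) ∣ a := by
      by_contra hna
      obtain ⟨v1, v2, hv⟩ := (Prime.coprime_iff_not_dvd hpr).2 hna
      refine he' ?_
      have h2 : e ^ a ∈ closure {z, w} ⊔ E2 := by
        have := mul_mem (hzw h1) (inv_mem (zpow_mem hwmem c))
        rwa [mul_inv_cancel_right] at this
      have h3 : e ^ (p : ℤ) ∈ closure {z, w} ⊔ E2 := by rw [zpow_natCast]; exact mem_sup_right (hEp e he)
      have h4 := mul_mem (zpow_mem h3 v1) (zpow_mem h2 v2)
      rwa [← zpow_mul, ← zpow_mul, ← zpow_add, mul_comm (p : ℤ), mul_comm a, hv, zpow_one] at h4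
    refine ⟨ha, dvd_mul_right _ _, ?_⟩
    by_contra hnc
    obtain ⟨v1, v2, hv⟩ := (Prime.coprime_iff_not_dvd hpr).2 hnc
    refine hw' ?_
    obtain ⟨t', rfl⟩ := ha
    have h2 : w ^ c ∈ closure {z} ⊔ E2 := by
      have hm : (e ^ ((p : ℤ) * t'))⁻¹ ∈ closure {z} ⊔ E2 := by
        rw [zpow_mul, zpow_natCast]; exact inv_mem (mem_sup_right (zpow_mem (hEp e he) t'))
      have := mul_mem hm h1
      rwa [inv_mul_cancel_left] at this
    have h3 : w ^ (p : ℤ) ∈ closure {z} ⊔ E2 := by rw [zpow_natCast]; exact mem_sup_right (hEp w hw)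
    have h4 := mul_mem (zpow_mem h3 v1) (zpow_mem h2 v2)
    rwa [← zpow_mul, ← zpow_mul, ← zpow_add, mul_comm (p : ℤ), mul_comm c, hv, zpow_one] at h4
  have hmemE : ∀ {g : G} {a c : ℤ}, q2 g = q2 e ^ a * q2 w ^ c → g ∈ E := by
    intro g a c hg
    rw [← map_zpow, ← map_zpow, ← map_mul, eq_comm, hq2eq] at hg
    have := mul_mem (mul_mem (zpow_mem he a) (zpow_mem hw c)) (hP2E hg)
    rwa [mul_inv_cancel_left] at this
  have hidx : P2.relIndex R = p := by
    have hk : (q2.domRestrict R).ker = P2.subgroupOf R := by ext v; simp [mem_subgroupOf, o2]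
    have hm : R.map q2 = zpowers (q2 w) := by
      rw [hRdef, Subgroup.map_sup, show P2.map q2 = ⊥ from (Subgroup.map_eq_bot_iff _).2
        (by rw [hq2, QuotientGroup.ker_mk']), sup_bot_eq, MonoidHom.map_closure, Set.image_singleton,
        ← zpowers_eq_closure]
    have := Subgroup.index_ker (q2.domRestrict R)
    rw [hk, MonoidHom.domRestrict_range, hm, Nat.card_zpowers, orderOf_eq_prime (ex2 w)
      (fun h => hw' (hP2 ▸ (o2 w).1 h))] at this
    exact this
  -- inner automorphisms from the stabilizer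
  have hinner : ∀ β ∈ B, ∀ ce cx : ℤ, q2 (β e) = q2 e * q2 w ^ ce → q2 (β x) = q2 x * q2 w ^ cx →
      q2 (β w) = q2 w → (∀ g, q2 (β g) = q2 g) ∧ ∃ n : G, β = MulAut.conj n := by
    intro β hβ ce cx h1 h2 h3
    let L : Subgroup (MulAut G) :=
      { carrier := {γ | γ ∈ B ∧ (∀ g, γ g * g⁻¹ ∈ R) ∧ ∀ g ∈ R, γ g * g⁻¹ ∈ P2}
        one_mem' := ⟨one_mem _, fun g => by simp, fun g _ => by simp⟩
        mul_mem' := fun {a b} ha hb => ⟨mul_mem ha.1 hb.1, fun g => by
            have := mul_mem (hinvR a _ (hb.2.1 g)) (ha.2.1 g)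
            simpa [mul_assoc] using this, fun g hg => by
            have := mul_mem (hP2inv a _ (hb.2.2 g hg)) (ha.2.2 g hg)
            simpa [mul_assoc] using this⟩
        inv_mem' := fun {a} ha => ⟨inv_mem ha.1, fun g => by
            have := inv_mem (ha.2.1 (a⁻¹ g))
            simpa [mul_assoc] using this, fun g hg => by
            have := inv_mem (ha.2.2 (a⁻¹ g) (hinvR a⁻¹ g hg))
            simpa [mul_assoc] using this⟩ }
    have hLn : ∀ a ∈ B, ∀ l ∈ L, a * l * a⁻¹ ∈ L := by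
      intro a ha l hl
      refine ⟨mul_mem (mul_mem ha hl.1) (inv_mem ha), fun g => ?_, fun g hg => ?_⟩
      · have := hinvR a _ (hl.2.1 (a⁻¹ g))
        simpa [mul_assoc] using this
      · have := hP2inv a _ (hl.2.2 (a⁻¹ g) (hinvR a⁻¹ g hg))
        simpa [mul_assoc] using this
    have hLp : IsPGroup p L := H24.isPGroup_of_line hG R (by rw [frattini_eq_nextP hG]; exact le_sup_right) L
      (fun γ hγ => hγ.2.1) (fun γ hγ => by rw [frattini_eq_nextP hG]; exact hγ.2.2)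
    have hβw : ∀ n : ℤ, q2 (β (w ^ n)) = q2 w ^ n := fun n => by rw [map_zpow, map_zpow, h3]
    have hgen3 : ∀ g, ∃ t : ℤ, q2 (β g) = q2 g * q2 w ^ t ∧ (g ∈ R → q2 (β g) = q2 g) := by
      intro g
      obtain ⟨a, b, c, habc⟩ := hdec g
      have hg : q2 (β g) = q2 g * q2 w ^ (ce * a + cx * b) := by
        rw [hap β (show q2 g = q2 (e ^ a * x ^ b * w ^ c) by rw [habc, map_mul, map_mul, map_zpow, map_zpow, map_zpow]),
          map_mul, map_mul, map_mul, map_mul, map_zpow, map_zpow, map_zpow, map_zpow, map_zpow, map_zpow, h1, h2, h3,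
          habc, mul_zpow, mul_zpow, ← zpow_mul, ← zpow_mul, zpow_add]
        simp only [mul_assoc, mul_left_comm, mul_comm]
      refine ⟨_, hg, fun hR => ?_⟩
      obtain ⟨j, d, hd, rfl⟩ := exists_mul_of_mem_sup_closure hR
      rw [map_mul, map_mul, (o2 _).2 (hP2inv β d hd), map_mul, (o2 d).2 hd, map_zpow, map_zpow, map_zpow, h3]
    have hβL : β ∈ L := by
      refine ⟨hβ, fun g => ?_, fun g hg => ?_⟩
      · obtain ⟨t, ht, -⟩ := hgen3 g
        rw [← map_zpow, mul_comm, ← map_mul, hq2eq] at ht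
        have : β g * g⁻¹ = w ^ t * (g * ((β g)⁻¹ * (w ^ t * g))⁻¹ * g⁻¹) := by group
        rw [this]
        exact mul_mem (mem_sup_left (zpow_mem (subset_closure (Set.mem_singleton w)) t))
          (hRn.conj_mem _ (inv_mem (mem_sup_right ht)) g)
      · obtain ⟨t, -, ht⟩ := hgen3 g
        have := ht hg
        rw [← o2, map_mul, map_inv, this, mul_inv_cancel]
    obtain ⟨n, hn⟩ := hOp L (fun γ hγ => hγ.1) hLn hLp β hβL fun a ha => by
      have hr1 := hβL.2.1 a
      have := mul_mem (hRE hr1) ha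
      rwa [inv_mul_cancel_right] at this
    refine ⟨fun g => ?_, n, hn⟩
    rw [hn, MulAut.conj_apply, map_mul, map_mul, map_inv, (com2 n g).eq, mul_inv_cancel_right]
  have happ : ∀ (γ : MulAut G) (a b c : ℤ) {g : G}, q2 g = q2 e ^ a * q2 x ^ b * q2 w ^ c →
      q2 (γ g) = q2 (γ e) ^ a * q2 (γ x) ^ b * q2 (γ w) ^ c := fun γ a b c {g} hg => by
    rw [hap γ (show q2 g = q2 (e ^ a * x ^ b * w ^ c) by rw [hg, map_mul, map_mul, map_zpow, map_zpow, map_zpow]),
      map_mul, map_mul, map_mul, map_mul, map_zpow, map_zpow, map_zpow, map_zpow, map_zpow, map_zpow]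
  have hzex : ∀ (g : G) {a b : ℤ}, (p : ℤ) ∣ a - b → q2 g ^ a = q2 g ^ b := fun g {a b} h =>
    zpow_congr_of_exp (ex2 g) h
  have hτ2 : ∀ {g : G}, τ g = g → ∃ b c : ℤ, q2 g = q2 x ^ b * q2 w ^ c := by
    intro g hg
    obtain ⟨a, b, c, habc⟩ := hdec g
    refine ⟨b, c, ?_⟩
    have h1 := happ τ a b c habc
    rw [hg, habc, τe, τx, τw, map_inv, inv_zpow] at h1
    have h2 : q2 e ^ a = (q2 e ^ a)⁻¹ := mul_right_cancel (mul_right_cancel h1)
    have ha : q2 e ^ a = 1 := eq_one_of_sq_eq_one hodd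
      (by rw [← zpow_natCast, ← zpow_mul, mul_comm, zpow_mul, zpow_natCast, ex2, one_zpow])
      (eq_inv_iff_mul_eq_one.1 h2)
    rw [habc, ha, one_mul]
  -- automorphisms of `p`-power order fixing `x` modulo `R`
  have hpi : ∀ π ∈ B, IsPGroup p (zpowers π) → (∃ s : ℤ, q2 (π x) = q2 x * q2 w ^ s) →
      q2 (π x) = q2 x ∧ q2 (π w) = q2 w ∧ ∃ b c : ℤ, q2 (π e) = q2 e * q2 x ^ b * q2 w ^ c := by
    rintro π hπ hπp ⟨s, hs⟩
    obtain ⟨j, hj⟩ := hπp ⟨π, mem_zpowers π⟩
    have hj' : π ^ p ^ j = 1 := congrArg Subtype.val hj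
    have hπw : q2 (π w) = q2 w := ((hq2eq).2 (H29.trivial_on_step P2 R le_sup_right hidx π (hP2inv π) (hinvR π) hj' w
      (mem_sup_left (subset_closure rfl)))).symm
    have hXn : (closure {x} ⊔ R).Normal :=
      normal_between (A := (⊤ : Subgroup G)) (le_sup_right.trans le_sup_right) le_top
    have hXidx : (closure {x} ⊔ R).relIndex ⊤ = p := by
      rw [relIndex_top_right]
      set qX := QuotientGroup.mk' (closure {x} ⊔ R)
      have hgn : ∀ v : G ⧸ (closure {x} ⊔ R), v ∈ zpowers (qX e) := by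
        intro v
        obtain ⟨v, rfl⟩ := QuotientGroup.mk'_surjective _ v
        obtain ⟨a, b, c, habc⟩ := hdec v
        rw [← map_zpow, ← map_zpow, ← map_zpow, ← map_mul, ← map_mul, eq_comm, hq2eq] at habc
        refine ⟨a, ?_⟩
        show qX e ^ a = qX v
        rw [← map_zpow]
        refine (QuotientGroup.eq.2 ?_)
        have h2 : x ^ b * w ^ c * ((e ^ a * x ^ b * w ^ c)⁻¹ * v) ∈ closure {x} ⊔ R :=
          mul_mem (mul_mem (mem_sup_left (zpow_mem (subset_closure (Set.mem_singleton x)) b))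
            (mem_sup_right (mem_sup_left (zpow_mem (subset_closure (Set.mem_singleton w)) c))))
            (mem_sup_right (mem_sup_right habc))
        rw [show (e ^ a)⁻¹ * v = x ^ b * w ^ c * ((e ^ a * x ^ b * w ^ c)⁻¹ * v) by group]
        exact h2
      rw [Subgroup.index_eq_card, ← Subgroup.card_top, ← show zpowers (qX e) = ⊤ from eq_top_iff.2 fun v _ => hgn v,
        Nat.card_zpowers]
      refine orderOf_eq_prime ?_ fun h => ?_
      · rw [← map_pow]
        exact (QuotientGroup.eq_one_iff _).2 (mem_sup_right (mem_sup_right (pow_mem_nextP (mem_top e))))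
      · obtain ⟨b, v, hv, hev⟩ := exists_mul_of_mem_sup_closure ((QuotientGroup.eq_one_iff e).1 h)
        obtain ⟨c, d, hd, rfl⟩ := exists_mul_of_mem_sup_closure hv
        obtain ⟨h1, -, -⟩ := hind 1 (-b) (-c) (by
          rw [hev, map_mul, map_mul, map_zpow, map_zpow, (o2 d).2 hd, mul_one, zpow_one, zpow_neg, zpow_neg]
          simp [mul_comm, mul_left_comm])
        exact hpp.one_lt.not_ge (Nat.le_of_dvd one_pos (by exact_mod_cast h1))
    have hπX : ∀ v ∈ closure {x} ⊔ R, π v ∈ closure {x} ⊔ R := by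
      intro v hv
      refine (show closure {x} ⊔ R ≤ (closure {x} ⊔ R).comap π.toMonoidHom from
        sup_le ((closure_le _).2 (Set.singleton_subset_iff.2 ?_)) fun y hy => mem_sup_right (hinvR π y hy)) hv
      show π x ∈ closure {x} ⊔ R
      rw [← map_zpow, ← map_mul, eq_comm, hq2eq] at hs
      have := mul_mem (mul_mem (mem_sup_left (T := R) (subset_closure (Set.mem_singleton x)))
        (mem_sup_right (mem_sup_left (zpow_mem (subset_closure (Set.mem_singleton w)) s)))) (mem_sup_right (mem_sup_right hs))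
      rwa [mul_inv_cancel_left] at this
    obtain ⟨b, v, hv, hbv⟩ := exists_mul_of_mem_sup_closure
      (H29.trivial_on_step (closure {x} ⊔ R) ⊤ le_top hXidx π hπX (fun _ _ => mem_top _) hj' e (mem_top e))
    obtain ⟨c, d, hd, rfl⟩ := exists_mul_of_mem_sup_closure hv
    have he1 : q2 (π e) = q2 e * q2 x ^ b * q2 w ^ c := by
      have := congrArg q2 hbv
      rw [map_mul, map_inv, map_mul, map_mul, map_zpow, map_zpow, (o2 d).2 hd, mul_one, inv_mul_eq_iff_eq_mul] at this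
      rw [this, mul_assoc]
    refine ⟨?_, hπw, b, c, he1⟩
    -- `π τ π τ` is inner
    have a1 : q2 (π (τ e)) = q2 e ^ (-1 : ℤ) * q2 x ^ (-b) * q2 w ^ (-c) := by
      rw [τe, map_inv, map_inv, he1, zpow_neg_one, zpow_neg, zpow_neg, _root_.mul_inv, _root_.mul_inv]
    have a2 : q2 (τ (π (τ e))) = q2 e * q2 x ^ (-b) * q2 w ^ (-c) := by
      rw [happ τ _ _ _ a1, τe, τx, τw, map_inv, inv_zpow, zpow_neg_one, inv_inv]
    have a3 : q2 (π (τ (π (τ e)))) = q2 e * q2 w ^ (-(s * b)) := by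
      rw [happ π 1 (-b) (-c) (g := τ (π (τ e))) (by rw [zpow_one]; exact a2), he1, hs, hπw, zpow_one, mul_zpow,
        ← zpow_mul, mul_neg]
      apply Additive.ofMul.injective
      simp only [ofMul_mul, ofMul_zpow, ofMul_inv, ofMul_one]
      module
    have b1 : q2 (τ (π (τ x))) = q2 x * q2 w ^ s := by
      rw [τx, happ τ 0 1 s (g := π x) (by rw [zpow_zero, one_mul, zpow_one]; exact hs), τx, τw, zpow_zero, one_mul,
        zpow_one]
    have b2 : q2 (π (τ (π (τ x)))) = q2 x * q2 w ^ (2 * s) := by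
      rw [happ π 0 1 s (g := τ (π (τ x))) (by rw [zpow_zero, one_mul, zpow_one]; exact b1), hs, hπw, zpow_zero,
        one_mul, zpow_one, two_mul, zpow_add, mul_assoc]
    have c1 : q2 (π (τ (π (τ w)))) = q2 w := by
      have hww : q2 w = q2 e ^ (0 : ℤ) * q2 x ^ (0 : ℤ) * q2 w ^ (1 : ℤ) := by simp
      rw [τw, happ π 0 0 1 (g := τ (π w)) (by rw [hap τ hπw, τw]; exact hww)]
      simp [hπw]
    obtain ⟨hall, -⟩ := hinner (π * τ * π * τ) (mul_mem (mul_mem (mul_mem hπ τB) hπ) τB) (-(s * b)) (2 * s) a3 b2 c1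
    have h2 := hall x
    rw [MulAut.mul_apply, MulAut.mul_apply, MulAut.mul_apply, b2, mul_eq_left] at h2
    obtain ⟨-, -, h3⟩ := hind 0 0 (2 * s) (by rw [zpow_zero, zpow_zero, one_mul, one_mul]; exact h2)
    rcases hpr.dvd_mul.1 h3 with h4 | h4
    · have h' : (p : ℕ) ∣ 2 := by exact_mod_cast h4
      exact absurd (Nat.le_of_dvd two_pos h') (by omega)
    · rw [hs, hzex w (b := 0) (by rwa [sub_zero]), zpow_zero, mul_one]
  -- the shear
  letI : CommGroup (G ⧸ R) := { (inferInstance : Group (G ⧸ R)) with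
    mul_comm := fun a b => by
      obtain ⟨a, rfl⟩ := QuotientGroup.mk'_surjective R a
      obtain ⟨b, rfl⟩ := QuotientGroup.mk'_surjective R b
      exact commutatorElement_eq_one_iff_mul_comm.1 (by
        rw [← map_commutatorElement]
        exact (QuotientGroup.eq_one_iff _).2 (mem_sup_right (comm_mem_nextP (mem_top a) (mem_top b)))) }
  let ρ : MulAut G →* MulAut (G ⧸ R) :=
    { toFun := fun β => QuotientGroup.congr R R β
        (le_antisymm (by rintro _ ⟨a, ha, rfl⟩; exact hinvR β a ha)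
          fun a ha => ⟨β⁻¹ a, hinvR β⁻¹ a ha, β.apply_symm_apply a⟩)
      map_one' := by ext q; induction q using QuotientGroup.induction_on; rfl
      map_mul' := fun a b => by ext q; induction q using QuotientGroup.induction_on; rfl }
  set qR := QuotientGroup.mk' R with hqR
  have hρ : ∀ (β : MulAut G) (g : G), ρ β (qR g) = qR (β g) := fun β g => rfl
  have hqRw : qR w = 1 := (QuotientGroup.eq_one_iff w).2 (mem_sup_left (subset_closure rfl))
  have hqR2 : ∀ {g h : G}, q2 g = q2 h → qR g = qR h := fun {g h} hgh =>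
    (QuotientGroup.eq.2 (mem_sup_right ((hq2eq).1 hgh)))
  have hRgen : ∀ v : G ⧸ R, ∃ a b : ℤ, v = qR e ^ a * qR x ^ b := by
    intro v
    obtain ⟨v, rfl⟩ := QuotientGroup.mk'_surjective R v
    obtain ⟨a, b, c, habc⟩ := hdec v
    refine ⟨a, b, ?_⟩
    rw [hqR2 (show q2 v = q2 (e ^ a * x ^ b * w ^ c) by rw [habc, map_mul, map_mul, map_zpow, map_zpow, map_zpow]),
      map_mul, map_mul, map_zpow, map_zpow, map_zpow, hqRw, one_zpow, mul_one]
  have hRdec : ∀ {g : G} {a b : ℤ}, qR g = qR e ^ a * qR x ^ b → ∃ c : ℤ, q2 g = q2 e ^ a * q2 x ^ b * q2 w ^ c := by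
    intro g a b hg
    rw [← map_zpow, ← map_zpow, ← map_mul, eq_comm] at hg
    obtain ⟨c, d, hd, hcd⟩ := exists_mul_of_mem_sup_closure (QuotientGroup.eq.1 hg)
    refine ⟨c, ?_⟩
    rw [show g = e ^ a * x ^ b * (w ^ c * d) by rw [← hcd, mul_inv_cancel_left], map_mul, map_mul, map_mul,
      map_zpow, map_zpow, map_zpow, (o2 d).2 hd, mul_one]
  have heR : qR e ∉ zpowers (qR x) := by
    rintro ⟨n, hn⟩
    obtain ⟨c, hc⟩ := hRdec (g := e) (a := 0) (b := n) (by rw [zpow_zero, one_mul]; exact hn.symm)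
    rw [zpow_zero, one_mul] at hc
    obtain ⟨h1, -, -⟩ := hind 1 (-n) (-c) (by
      rw [zpow_one, hc, zpow_neg, zpow_neg]; simp [mul_comm, mul_left_comm])
    exact hpp.one_lt.not_ge (Nat.le_of_dvd one_pos (by exact_mod_cast h1))
  have hφR : IsPGroup p (zpowers (ρ φ)) := by
    rw [← MonoidHom.map_zpowers]
    exact hφp.map ρ
  have hφe' : ρ φ (qR e) ∉ zpowers (qR e) := by
    rintro ⟨n, hn⟩
    obtain ⟨c, hc⟩ := hRdec (g := φ e) (a := n) (b := 0) (by rw [zpow_zero, mul_one]; exact hn.symm)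
    rw [zpow_zero, mul_one] at hc
    exact hφe (hmemE hc)
  obtain ⟨β0, hβ0, hfx, hme⟩ := exists_fixing hodd
    (fun v => by
      obtain ⟨v, rfl⟩ := QuotientGroup.mk'_surjective R v
      rw [← map_pow]
      exact (QuotientGroup.eq_one_iff _).2 (mem_sup_right (pow_mem_nextP (mem_top v))))
    hRgen heR hφR (τ := ρ τ) (by rw [hρ, τe, map_inv]) (by rw [hρ, τx]) hφe'
  have hβmem : β0 ∈ (closure ({φ, τ} : Set (MulAut G))).map ρ := by
    rw [MonoidHom.map_closure, Set.image_pair]; exact hβ0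
  obtain ⟨β, hβ, rfl⟩ := hβmem
  have hβB : β ∈ B := (closure_le B).2 (by rintro _ (rfl | rfl) <;> assumption) hβ
  set u := β * φ * β⁻¹ with hu
  have huB : u ∈ B := mul_mem (mul_mem hβB hφB) (inv_mem hβB)
  have hup : IsPGroup p (zpowers u) := by
    rw [hu, show β * φ * β⁻¹ = MulAut.conj β φ from rfl,
      show MulAut.conj β φ = (MulAut.conj β).toMonoidHom φ from rfl, ← MonoidHom.map_zpowers]
    exact hφp.map _
  rw [← map_inv, ← map_mul, ← map_mul, hρ] at hfx hme
  rw [← hu] at hfx hme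
  clear_value u
  obtain ⟨s, hs⟩ := hRdec (g := u x) (a := 0) (b := 1) (by rw [zpow_zero, zpow_one, one_mul]; exact hfx)
  rw [zpow_zero, one_mul, zpow_one] at hs
  obtain ⟨hux, huw, b, c, hue⟩ := hpi u huB hup ⟨s, hs⟩
  have hb : ¬ (p : ℤ) ∣ b := fun h => hme (by
    have h1 : q2 (u e) = q2 (e * w ^ c) := by
      rw [hue, hzex x (b := 0) (by rwa [sub_zero]), zpow_zero, mul_one, map_mul, map_zpow]
    rw [hqR2 h1, map_mul, map_zpow, hqRw, one_zpow, mul_one])
  have hxstab : ∀ m : ℤ, q2 ((u ^ m) x) = q2 x ∧ q2 ((u ^ m) w) = q2 w ∧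
      ∃ c' : ℤ, q2 ((u ^ m) e) = q2 e * q2 x ^ (m * b) * q2 w ^ c' := by
    intro m
    induction m with
    | zero => exact ⟨rfl, rfl, 0, by simp⟩
    | succ n ih =>
      obtain ⟨i1, i2, c', i3⟩ := ih
      rw [zpow_add_one, MulAut.mul_apply, MulAut.mul_apply, MulAut.mul_apply, hap _ hux, hap _ huw]
      refine ⟨i1, i2, c' + c, ?_⟩
      rw [happ _ 1 b c (g := u e) (by rw [zpow_one]; exact hue), i1, i2, i3]
      apply Additive.ofMul.injective
      simp only [ofMul_mul, ofMul_zpow, ofMul_inv, ofMul_one]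
      module
    | pred n ih =>
      obtain ⟨i1, i2, c', i3⟩ := ih
      have hinv : ∀ {g h : G}, q2 (u g) = q2 h → q2 (u⁻¹ h) = q2 g := fun {g h} hgh => by
        rw [← hap u⁻¹ hgh, show u⁻¹ (u g) = g from u.symm_apply_apply g]
      have j1 := hinv hux
      have j2 := hinv huw
      have j3 : q2 (u⁻¹ e) = q2 e * q2 x ^ (-b) * q2 w ^ (-c) := by
        have := hinv (g := e * x ^ (-b) * w ^ (-c)) (h := e) (by
          rw [map_mul, map_mul, map_zpow, map_zpow, map_mul, map_mul, map_zpow, map_zpow, hue, hux, huw,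
            zpow_neg, zpow_neg]
          apply Additive.ofMul.injective
          simp only [ofMul_mul, ofMul_zpow, ofMul_inv, ofMul_one]
          module)
        rw [this, map_mul, map_mul, map_zpow, map_zpow]
      rw [zpow_sub_one, MulAut.mul_apply, MulAut.mul_apply, MulAut.mul_apply, hap _ j1, hap _ j2]
      refine ⟨i1, i2, c' - c, ?_⟩
      rw [happ _ 1 (-b) (-c) (g := u⁻¹ e) (by rw [zpow_one]; exact j3), i1, i2, i3, zpow_one, sub_mul, one_mul,
        zpow_sub, zpow_sub, zpow_neg, zpow_neg]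
      apply Additive.ofMul.injective
      simp only [ofMul_mul, ofMul_zpow, ofMul_inv, ofMul_one]
      module
  obtain ⟨b1, b2, hb12⟩ := (Prime.coprime_iff_not_dvd hpr).2 hb
  have hshape : ∀ π ∈ B, IsPGroup p (zpowers π) → (∃ s : ℤ, q2 (π x) = q2 x * q2 w ^ s) →
      ∃ (n : G) (k : ℤ), π = MulAut.conj n * u ^ k := by
    intro π hπ hπp hπx
    obtain ⟨h1, h2, b', c', h3⟩ := hpi π hπ hπp hπx
    obtain ⟨l1, l2, cc, l3⟩ := hxstab (-(b' * b2))
    obtain ⟨-, n, hn⟩ := hinner (π * u ^ (-(b' * b2))) (mul_mem hπ (zpow_mem huB _)) (c' + cc) 0 (by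
        rw [MulAut.mul_apply, happ π 1 (-(b' * b2) * b) cc (g := (u ^ (-(b' * b2))) e)
          (by rw [zpow_one]; exact l3), h3, h1, h2, zpow_one, zpow_add,
          mul_right_comm _ (q2 w ^ c') _, mul_assoc (q2 e) (q2 x ^ b'), ← zpow_add,
          hzex x (a := b' + -(b' * b2) * b) (b := 0) ⟨b' * b1, by linear_combination -b' * hb12⟩, zpow_zero, mul_one,
          mul_assoc])
      (by rw [MulAut.mul_apply, hap π l1, h1, zpow_zero, mul_one]) (by rw [MulAut.mul_apply, hap π l2, h2])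
    exact ⟨n, b' * b2, by rw [← hn, mul_assoc, ← zpow_add, neg_add_cancel, zpow_zero, mul_one]⟩
  -- the quotient by `E2`
  set q := QuotientGroup.mk' E2 with hq
  have o : ∀ a, q a = 1 ↔ a ∈ E2 := fun a => QuotientGroup.eq_one_iff a
  have cenz : ∀ g : G, Commute (q z) (q g) := by
    have hxz : ⁅x, z⁆ ∈ E2 := by
      have h1 : ⁅z, x⁆ ∈ nextP p (⊤ : Subgroup G) P2 := comm_mem_nextP hzP2 (mem_top x)
      have h2 : nextP p (⊤ : Subgroup G) P2 ≤ P2 := nextP_le_self
      obtain ⟨j, d, hd, hjd⟩ := exists_mul_of_mem_sup_closure (hP2 ▸ h2 h1 : ⁅z, x⁆ ∈ closure {z} ⊔ E2)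
      -- the action of `x` on `P2 / E2` is unipotent
      have hc : q (x * z * x⁻¹) = q z ^ (1 - j) := by
        rw [show x * z * x⁻¹ = ⁅z, x⁆⁻¹ * z by simp only [commutatorElement_def]; group, hjd, map_mul, map_inv,
          map_mul, (o d).2 hd, mul_one, map_zpow, sub_eq_add_neg, zpow_add, zpow_one, zpow_neg]
        exact ((Commute.refl (q z)).zpow_right j).inv_right.eq.symm
      have hn : ∀ m : ℕ, q (x ^ m * z * (x ^ m)⁻¹) = q z ^ ((1 - j) ^ m) := by
        intro m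
        induction m with
        | zero => simp
        | succ m ih =>
          rw [pow_succ', show x * x ^ m * z * (x * x ^ m)⁻¹ = x * (x ^ m * z * (x ^ m)⁻¹) * x⁻¹ by group,
            map_mul, map_mul, map_inv, ih, ← conj_zpow, ← map_inv, ← map_mul, ← map_mul, hc, ← zpow_mul, pow_succ']
      have hp1 := hn p
      rw [map_mul, map_mul, map_inv, (o _).2 hxp, inv_one, mul_one, one_mul] at hp1
      have hzp : q z ^ p = 1 := by rw [← map_pow]; exact (o _).2 (hEp z hzE)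
      have hord : orderOf (q z) = p := orderOf_eq_prime hzp fun h => hz ((o z).1 h)
      have h3 : q z ^ (1 : ℤ) = q z ^ ((1 - j) ^ p) := by rw [zpow_one]; exact hp1
      rw [zpow_eq_zpow_iff_modEq, hord] at h3
      have h4 : ((1 - j : ℤ) : ZMod p) = ((1 : ℤ) : ZMod p) := by
        have h5 := (ZMod.intCast_eq_intCast_iff _ _ _).2 h3
        rw [Int.cast_pow, ZMod.pow_card] at h5
        exact h5.symm
      rw [ZMod.intCast_eq_intCast_iff_dvd_sub, sub_sub_cancel] at h4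
      obtain ⟨t, rfl⟩ := h4
      rw [← commutatorElement_inv, hjd]
      refine inv_mem (mul_mem ?_ hd)
      rw [zpow_mul, zpow_natCast]
      exact zpow_mem (hEp z hzE) t
    intro g
    have hcz : ∀ a ∈ ({z} : Set G), ∀ v ∈ ({x} : Set G) ∪ E, ⁅a, v⁆ ∈ E2 := by
      rintro a ha v hv
      rw [Set.mem_singleton_iff] at ha
      rw [ha]
      rcases hv with hv | hv
      · rw [Set.mem_singleton_iff] at hv
        rw [hv, ← commutatorElement_inv]; exact inv_mem hxz
      · exact hEE z hzE v hv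
    refine commutatorElement_eq_one_iff_mul_comm.1 ?_
    rw [← map_commutatorElement]
    exact (o _).2 (comm_mem_of_gens (K := E2) (A := closure {z}) (B := ⊤) le_sup_left
      (hgen.trans ((sup_le (Subgroup.closure_mono Set.subset_union_left) (fun a ha => subset_closure (Or.inr ha))).trans
        le_sup_left)) hcz z (subset_closure rfl) g (mem_top g))
  have hd2 : ∀ {g : G}, g ∈ P2 → ∃ n : ℤ, q g = q z ^ n := fun {g} hg => by
    obtain ⟨n, d, hd, rfl⟩ := exists_mul_of_mem_sup_closure (hP2 ▸ hg : g ∈ closure {z} ⊔ E2)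
    exact ⟨n, by rw [map_mul, (o d).2 hd, mul_one, map_zpow]⟩
  have hlift : ∀ {g h : G}, q2 g = q2 h → ∃ n : ℤ, q g = q h * q z ^ n := fun {g h} hgh => by
    obtain ⟨n, hn⟩ := hd2 ((hq2eq).1 hgh.symm)
    exact ⟨n, by rw [← hn, map_mul, map_inv, mul_inv_cancel_left]⟩
  have hcong : ∀ (γ : MulAut G) {g h : G}, q g = q h → q (γ g) = q (γ h) := fun γ {g h} hgh => by
    have h1 : g⁻¹ * h ∈ E2 := (o _).1 (by rw [map_mul, map_inv, hgh, inv_mul_cancel])
    have h2 := (o _).2 (hinv2 γ _ h1)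
    rwa [map_mul, map_mul, map_inv, map_inv, inv_mul_eq_one] at h2
  -- commutators modulo `E2`
  have bil : ∀ a a' v : G, q ⁅a * a', v⁆ = q ⁅a, v⁆ * q ⁅a', v⁆ := by
    intro a a' v
    obtain ⟨n, hn⟩ := hd2 (show ⁅a', v⁆ ∈ P2 from comm_mem_nextP (mem_top a') (mem_top v))
    obtain ⟨n', hn'⟩ := hd2 (show ⁅a, v⁆ ∈ P2 from comm_mem_nextP (mem_top a) (mem_top v))
    rw [comm_mul_left, map_mul, map_mul, map_mul, map_inv, hn, hn', ← ((cenz a).zpow_left n).eq,
      mul_inv_cancel_right, ← zpow_add, ← zpow_add, add_comm]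
  have bir : ∀ a v v' : G, q ⁅a, v * v'⁆ = q ⁅a, v⁆ * q ⁅a, v'⁆ := fun a v v' => by
    rw [← commutatorElement_inv (v * v') a, map_inv, bil, _root_.mul_inv_rev, ← map_inv, ← map_inv,
      commutatorElement_inv, commutatorElement_inv]
    obtain ⟨n, hn⟩ := hd2 (show ⁅a, v⁆ ∈ P2 from comm_mem_nextP (mem_top a) (mem_top v))
    rw [hn, ((cenz ⁅a, v'⁆).zpow_left n).eq]
  have bilz : ∀ (a v : G) (n : ℤ), q ⁅a ^ n, v⁆ = q ⁅a, v⁆ ^ n := fun a v n => by
    let f : G →* G ⧸ E2 := MonoidHom.mk' (fun g => q ⁅g, v⁆) fun g g' => bil g g' v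
    exact map_zpow f a n
  have birz : ∀ (a v : G) (n : ℤ), q ⁅a, v ^ n⁆ = q ⁅a, v⁆ ^ n := fun a v n => by
    rw [← commutatorElement_inv (v ^ n) a, map_inv, bilz, ← inv_zpow, ← map_inv, commutatorElement_inv]
  have hxwE : q ⁅x, w⁆ = 1 := (o _).2 (by
    obtain ⟨n, d, hd, hnd⟩ := exists_mul_of_mem_sup_closure (hP2 ▸ comm_mem_nextP (mem_top x) (mem_top w) :
      ⁅x, w⁆ ∈ closure {z} ⊔ E2)
    -- `τ` fixes this commutator and inverts `z`
    have hτ1 : q (τ ⁅x, w⁆) = q ⁅x, w⁆ := by rw [map_commutatorElement, τx, τw]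
    have hτz : q (τ z) = (q z)⁻¹ := by
      rw [hz0, map_commutatorElement, τx, τe, ← zpow_neg_one e, birz, zpow_neg_one]
    have h5 : q ⁅x, w⁆ = q z ^ n := by rw [hnd, map_mul, (o d).2 hd, mul_one, map_zpow]
    have h6 : q (τ ⁅x, w⁆) = (q z)⁻¹ ^ n := by
      rw [hcong τ (show q ⁅x, w⁆ = q (z ^ n) by rw [h5, map_zpow]), map_zpow, map_zpow, hτz]
    rw [hτ1, h5, inv_zpow] at h6
    have h7 : q z ^ n = 1 := eq_one_of_sq_eq_one hodd
      (by rw [← zpow_natCast, ← zpow_mul, mul_comm, zpow_mul, zpow_natCast, ← map_pow, (o _).2 (hEp z hzE), one_zpow])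
      (eq_inv_iff_mul_eq_one.1 h6)
    rw [hnd]
    exact mul_mem ((o _).1 (by rw [map_zpow]; exact h7)) hd)
  have hewE : q ⁅e, w⁆ = 1 := (o _).2 hew
  have hcomm2 : ∀ {g g' : G} (bg cg ag bg' cg' : ℤ), q2 g = q2 x ^ bg * q2 w ^ cg →
      q2 g' = q2 e ^ ag * q2 x ^ bg' * q2 w ^ cg' → q ⁅g, g'⁆ = q z ^ (bg * ag) := by
    intro g g' bg cg ag bg' cg' h1 h2
    obtain ⟨n1, hn1⟩ := hlift (show q2 g = q2 (x ^ bg * w ^ cg) by rw [h1, map_mul, map_zpow, map_zpow])
    obtain ⟨n2, hn2⟩ := hlift (show q2 g' = q2 (e ^ ag * x ^ bg' * w ^ cg') by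
      rw [h2, map_mul, map_mul, map_zpow, map_zpow, map_zpow])
    rw [map_commutatorElement, hn1, hn2, ← map_zpow q z n1, ← map_zpow q z n2, ← map_mul, ← map_mul,
      ← map_commutatorElement]
    have hzz : ∀ v, q ⁅z, v⁆ = 1 ∧ q ⁅v, z⁆ = 1 := fun v =>
      ⟨by rw [map_commutatorElement]; exact commutatorElement_eq_one_iff_mul_comm.2 (cenz v).eq,
       by rw [map_commutatorElement]; exact commutatorElement_eq_one_iff_mul_comm.2 (cenz v).symm.eq⟩
    have hwx : q ⁅w, x⁆ = 1 := by rw [← commutatorElement_inv, map_inv, hxwE, inv_one]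
    have hwe : q ⁅w, e⁆ = 1 := by rw [← commutatorElement_inv, map_inv, hewE, inv_one]
    simp only [bil, bir, bilz, birz, (hzz _).1, (hzz _).2, hxwE, hewE, hwx, hwe, commutatorElement_self, map_one,
      one_zpow, mul_one, one_mul, ← hz0, ← zpow_mul]
    congr 1
    ring
  have hz_u : q (u z) = q z := by
    rw [hz0, map_commutatorElement u x e, hcomm2 1 0 1 b c (by rw [zpow_one, zpow_zero, mul_one]; exact hux)
      (by rw [zpow_one]; exact hue), one_mul, zpow_one, hz0]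
  -- the torus
  have hTfix : τ (T x) = T x := by
    have := congrArg (fun f : MulAut G => f x) hcomm
    simpa [τx] using this
  have hTfix' : τ (T⁻¹ x) = T⁻¹ x := by
    have hc : τ * T⁻¹ = T⁻¹ * τ := by
      rw [eq_inv_mul_iff_mul_eq, ← mul_assoc, ← hcomm, mul_inv_cancel_right]
    have := congrArg (fun f : MulAut G => f x) hc
    simpa [τx] using this
  obtain ⟨l, cl, hTx⟩ := hτ2 hTfix
  obtain ⟨l', cl', hTx'⟩ := hτ2 hTfix'
  have hTe : q2 (T e) = q2 e ^ r := by
    rw [← map_zpow, eq_comm, hq2eq]; exact hE2P2 Te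
  have hTw : q2 (T w) = q2 w := by rw [eq_comm, hq2eq, hP2]; exact Tw
  have hTzq : q (T z) = q z ^ i := by
    have := (o _).2 Tz
    rw [map_mul, map_inv, inv_mul_eq_one, map_zpow] at this
    exact this.symm
  have hzord : ∀ {n m : ℤ}, q z ^ n = q z ^ m → (p : ℤ) ∣ n - m := fun {n m} hnm => by
    by_contra hnd
    refine hz ((o z).1 (eq_one_of_zpow_two (by rw [← map_pow]; exact (o _).2 (hEp z hzE)) ?_ hnd))
    rw [zpow_sub, hnm, mul_inv_cancel]
  have hl : (p : ℤ) ∣ l - i * i := by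
    have h1 : q (T z) = q z ^ (l * r) := by
      rw [hz0, map_commutatorElement T x e, hcomm2 l cl r 0 0 hTx (by rw [zpow_zero, zpow_zero, mul_one, mul_one]; exact hTe),
        ← hz0]
    obtain ⟨t, ht⟩ := hzord (h1.symm.trans hTzq)
    obtain ⟨t', ht'⟩ := hir
    exact ⟨i * t - l * t', by linear_combination i * ht - l * ht'⟩
  set π0 := T * u * T⁻¹ with hπ0
  have hπ0B : π0 ∈ B := mul_mem (mul_mem TB huB) (inv_mem TB)
  have hπ0p : IsPGroup p (zpowers π0) := by
    rw [hπ0, show T * u * T⁻¹ = (MulAut.conj T).toMonoidHom u from rfl, ← MonoidHom.map_zpowers]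
    exact hup.map _
  have hπ0x : q2 (π0 x) = q2 x := by
    rw [hπ0, MulAut.mul_apply, MulAut.mul_apply]
    have h1 : q2 (u (T⁻¹ x)) = q2 (T⁻¹ x) := by
      rw [happ u 0 l' cl' (g := T⁻¹ x) (by rw [zpow_zero, one_mul]; exact hTx'), hux, huw, zpow_zero, one_mul, hTx']
    rw [hap T h1, show T (T⁻¹ x) = x from T.apply_symm_apply x]
  obtain ⟨n, k, hnk⟩ := hshape π0 hπ0B hπ0p ⟨0, by rw [hπ0x, zpow_zero, mul_one]⟩
  have hconj2 : ∀ g, q2 (MulAut.conj n g) = q2 g := fun g => by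
    rw [MulAut.conj_apply, map_mul, map_mul, map_inv, (com2 n g).eq, mul_inv_cancel_right]
  have hk : (p : ℤ) ∣ k - i * i * i := by
    have h1 : q2 (π0 (T e)) = q2 (T (u e)) := by
      rw [hπ0, MulAut.mul_apply, MulAut.mul_apply, show T⁻¹ (T e) = e from T.symm_apply_apply e]
    obtain ⟨k1, k2, ck, k3⟩ := hxstab k
    rw [hnk, MulAut.mul_apply, hconj2, happ _ r 0 0 (g := T e) (by rw [zpow_zero, zpow_zero, mul_one, mul_one]; exact hTe),
      k3, zpow_zero, zpow_zero, mul_one, mul_one, happ T 1 b c (g := u e) (by rw [zpow_one]; exact hue), hTe, hTx,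
      hTw, zpow_one] at h1
    simp only [mul_zpow, ← zpow_mul] at h1
    obtain ⟨-, h2, -⟩ := hind 0 (k * b * r - l * b) (ck * r - (cl * b + c)) (by
      rw [mul_assoc (q2 e ^ r), mul_assoc (q2 e ^ r), mul_right_inj, ← mul_inv_eq_one] at h1
      rw [zpow_zero, one_mul, ← h1]
      apply Additive.ofMul.injective
      simp only [ofMul_mul, ofMul_zpow, ofMul_inv, ofMul_one]
      module)
    obtain ⟨t, ht⟩ := hl
    obtain ⟨t', ht'⟩ := hir
    obtain ⟨t2, ht2⟩ := h2
    have h4 : (p : ℤ) ∣ b * (k - i * i * i) :=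
      ⟨i * t2 + b * i * t - b * k * t', by linear_combination i * ht2 + (b * i) * ht - (b * k) * ht'⟩
    exact (hpr.dvd_mul.1 h4).resolve_left hb
  have huwE : q (u w) = q w := by
    obtain ⟨ν, hν⟩ := hlift huw
    obtain ⟨θ, hθ⟩ := hlift hTw
    have h1 : q (π0 (T w)) = q w * q z ^ (θ + ν * i) := by
      rw [hπ0, MulAut.mul_apply, MulAut.mul_apply, show T⁻¹ (T w) = w from T.symm_apply_apply w,
        hcong T (show q (u w) = q (w * z ^ ν) by rw [hν, map_mul, map_zpow]), map_mul, map_mul, map_zpow, map_zpow,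
        hθ, hTzq, ← zpow_mul, mul_assoc, ← zpow_add, mul_comm i]
    have huk : ∀ m : ℤ, q ((u ^ m) w) = q w * q z ^ (ν * m) ∧ q ((u ^ m) z) = q z := by
      intro m
      induction m with
      | zero => simp
      | succ a ih =>
        rw [zpow_add_one, MulAut.mul_apply, MulAut.mul_apply, hcong _ hz_u,
          hcong _ (show q (u w) = q (w * z ^ ν) by rw [hν, map_mul, map_zpow]), map_mul, map_mul, map_zpow, map_zpow,
          ih.1, ih.2, mul_add, mul_one, zpow_add, mul_assoc]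
        exact ⟨rfl, rfl⟩
      | pred a ih =>
        have j2 : q (u⁻¹ z) = q z := by rw [← hcong u⁻¹ hz_u, show u⁻¹ (u z) = z from u.symm_apply_apply z]
        have j1 : q (u⁻¹ w) = q (w * z ^ (-ν)) := by
          have h3 : q (u (w * z ^ (-ν))) = q w := by
            rw [map_mul, map_mul, map_zpow, map_zpow, hz_u, hν, mul_assoc, ← zpow_add, add_neg_cancel, zpow_zero, mul_one]
          rw [← hcong u⁻¹ h3, show u⁻¹ (u (w * z ^ (-ν))) = w * z ^ (-ν) from u.symm_apply_apply _]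
        rw [zpow_sub_one, MulAut.mul_apply, MulAut.mul_apply, hcong _ j2, hcong _ j1, map_mul, map_mul, map_zpow,
          map_zpow, ih.1, ih.2, mul_assoc, ← zpow_add]
        exact ⟨by congr 2; ring, rfl⟩
    have h2 : q (π0 (T w)) = q w * q z ^ (ν * k + θ) := by
      rw [hnk, MulAut.mul_apply, MulAut.conj_apply, map_mul, map_mul, map_inv,
        hcong (u ^ k) (show q (T w) = q (w * z ^ θ) by rw [hθ, map_mul, map_zpow]), map_mul, map_mul, map_zpow,
        map_zpow, (huk k).1, (huk k).2, mul_assoc (q w), ← zpow_add]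
      have hcw : Commute (q n) (q w) := by
        obtain ⟨a, b', c', habc⟩ := hdec n
        obtain ⟨m, hm⟩ := hlift (show q2 n = q2 (e ^ a * x ^ b' * w ^ c') by
          rw [habc, map_mul, map_mul, map_zpow, map_zpow, map_zpow])
        rw [hm]
        have c1 : Commute (q e) (q w) := commutatorElement_eq_one_iff_mul_comm.1 (by
          rw [← map_commutatorElement]; exact hewE)
        have c2 : Commute (q x) (q w) := commutatorElement_eq_one_iff_mul_comm.1 (by
          rw [← map_commutatorElement]; exact hxwE)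
        simp only [map_mul, map_zpow]
        exact (((c1.zpow_left a).mul_left (c2.zpow_left b')).mul_left ((Commute.refl (q w)).zpow_left c')).mul_left
          ((cenz w).zpow_left m)
      have hcc : Commute (q n) (q w * q z ^ (ν * k + θ)) := hcw.mul_right (((cenz n).symm).zpow_right _)
      rw [hcc.eq, mul_inv_cancel_right]
    obtain ⟨t, ht⟩ := hzord (mul_left_cancel (h1.symm.trans h2))
    obtain ⟨t', ht'⟩ := hk
    obtain ⟨t'', ht''⟩ := hir
    have h3 : (p : ℤ) ∣ ν * (i * (i * i - 1)) := ⟨-t - ν * t', by linear_combination -ht - ν * ht'⟩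
    rcases hpr.dvd_mul.1 h3 with h4 | h4
    · obtain ⟨t3, rfl⟩ := h4
      rw [hν, zpow_mul, zpow_natCast, ← map_pow, (o _).2 (hEp z hzE), one_zpow, mul_one]
    · rcases hpr.dvd_mul.1 h4 with h5 | h5
      · obtain ⟨t3, rfl⟩ := h5
        have : (p : ℤ) ∣ 1 := ⟨t3 * r - t'', by linear_combination -ht''⟩
        exact absurd (Nat.le_of_dvd one_pos (by exact_mod_cast this)) (by omega)
      · exact absurd h5 hi2
  refine ⟨u, b, c, huB, hup, hb, ?_, ?_, (o _).1 (by rw [map_mul, map_inv, huwE, inv_mul_cancel]),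
    (o _).1 (by rw [map_mul, map_inv, hz_u, inv_mul_cancel]), ⟨n, k, hk, hnk⟩, ?_, ?_⟩
  · rw [← hP2, ← hq2eq, map_mul, map_mul, map_zpow, map_zpow]; exact hue.symm
  · rw [← hP2, ← hq2eq]; exact hux.symm
  · intro L hL hLp huL π hπ
    refine hshape π (hL hπ) (hLp.to_le (zpowers_le.2 hπ)) ?_
    -- the common fixed line is that of `x`
    have hne : (⊥ : Subgroup (G ⧸ R)) ≠ ⊤ := fun h => heR (by
      have h1 := h.ge (mem_top (qR e))
      rw [mem_bot] at h1
      rw [h1]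
      exact one_mem _)
    have hVp : IsPGroup p (G ⧸ R) := hG.to_quotient R
    obtain ⟨v, hv, hvf⟩ := exists_fixed_over hVp (hLp.map ρ) (K := ⊥)
      (fun γ _ y hy => by rw [mem_bot] at hy ⊢; rw [hy, map_one]) hne
    obtain ⟨a, b', hab⟩ := hRgen v
    rw [mem_bot] at hv
    have hfix : ∀ γ ∈ L, ρ γ v = v := fun γ hγ => (inv_mul_eq_one.1 (mem_bot.1 (hvf _ (mem_map_of_mem ρ hγ)))).symm
    have hue' : ρ u (qR e) = qR e * qR x ^ b := by
      rw [hρ, hqR2 (show q2 (u e) = q2 (e * x ^ b * w ^ c) by rw [hue, map_mul, map_mul, map_zpow, map_zpow]),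
        map_mul, map_mul, map_zpow, map_zpow, hqRw, one_zpow, mul_one]
    have h1 := hfix u huL
    rw [hab, map_mul, map_zpow, map_zpow, hue', hρ u x, hfx, mul_zpow, ← zpow_mul,
      mul_right_comm, mul_eq_left] at h1
    have hRexp : qR x ^ p = 1 := by
      rw [← map_pow]; exact (QuotientGroup.eq_one_iff _).2 (mem_sup_right (pow_mem_nextP (mem_top x)))
    have hba : (p : ℤ) ∣ b * a := by
      obtain ⟨c', hc'⟩ := hRdec (g := 1) (a := 0) (b := b * a) (by rw [map_one, zpow_zero, one_mul]; exact h1.symm)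
      rw [map_one] at hc'
      exact (hind 0 (b * a) c' hc'.symm).2.1
    have ha : (p : ℤ) ∣ a := (hpr.dvd_mul.1 hba).resolve_left hb
    have hvx : v = qR x ^ b' := by
      rw [hab, zpow_congr_of_exp (show qR e ^ p = 1 by
        rw [← map_pow]; exact (QuotientGroup.eq_one_iff _).2 (mem_sup_right (pow_mem_nextP (mem_top e))))
        (b := 0) (by rwa [sub_zero]), zpow_zero, one_mul]
    have hb' : ¬ (p : ℤ) ∣ b' := fun h => hv (by
      rw [hvx, zpow_congr_of_exp hRexp (b := 0) (by rwa [sub_zero]), zpow_zero])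
    obtain ⟨v1, v2, hv12⟩ := (Prime.coprime_iff_not_dvd hpr).2 hb'
    have hxv : qR x = v ^ v2 := by
      rw [hvx, ← zpow_mul, zpow_congr_of_exp hRexp (a := b' * v2) (b := 1) ⟨-v1, by linear_combination hv12⟩, zpow_one]
    obtain ⟨s', hs'⟩ := hRdec (g := π x) (a := 0) (b := 1) (by
      rw [zpow_zero, zpow_one, one_mul, ← hρ π x, hxv, map_zpow, hfix π hπ])
    exact ⟨s', by rw [hs', zpow_zero, one_mul, zpow_one]⟩
  · obtain ⟨p1, p2, cp, p3⟩ := hxstab p
    rw [zpow_natCast] at p1 p2 p3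
    obtain ⟨-, nn, hnn⟩ := hinner (u ^ p) (pow_mem huB p) cp 0
      (by rw [p3, hzex x (a := (p : ℤ) * b) (b := 0) ⟨b, by ring⟩, zpow_zero, mul_one])
      (by rw [p1, zpow_zero, mul_one]) p2
    exact ⟨nn, hnn⟩

end Cfsg.Agent.H95
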