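import Cfsg.Agent.H95.RankThreeRegularCase
import Cfsg.Agent.H95.RankThreeShear

/-!
A maximal subgroup on which the outside acts by transvections: a torus and an adapted basis.
-/
set_option autoImplicit false

namespace Cfsg.Agent.H95

open Subgroup
open scoped commutatorElement

variable {G : Type*} [Group G] {p : ℕ}

theorem exists_exponent [Fact p.Prime] (hp5 : 5 ≤ p) :
    ∃ i r : ℤ, (p : ℤ) ∣ i * r - 1 ∧ ¬ (p : ℤ) ∣ i * i - 1 ∧ ¬ (p : ℤ) ∣ i * i * i - 1 ∧
      (p : ℤ) ∣ i ^ ((p - 1) / 2) + 1 ∧ (p : ℤ) ∣ r ^ ((p - 1) / 2) + 1 := by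
  obtain ⟨s, hs⟩ := IsCyclic.exists_generator (α := (ZMod p)ˣ)
  have hord : orderOf s = p - 1 := by
    rw [orderOf_eq_card_of_forall_mem_zpowers hs, Nat.card_eq_fintype_card, ZMod.card_units]
  have hev : 2 ∣ p - 1 := by
    obtain ⟨k, hk⟩ := (Fact.out : p.Prime).odd_of_ne_two (by omega)
    exact ⟨k, by omega⟩
  obtain ⟨i, hi⟩ := ZMod.intCast_surjective (s : ZMod p)
  obtain ⟨r, hr⟩ := ZMod.intCast_surjective ((s⁻¹ : (ZMod p)ˣ) : ZMod p)
  have hne : ∀ n : ℕ, 0 < n → n < p - 1 → ((i : ZMod p)) ^ n ≠ 1 := fun n h0 hn he => by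
    rw [hi, ← Units.val_pow_eq_pow_val, Units.val_eq_one, ← orderOf_dvd_iff_pow_eq_one, hord] at he
    exact absurd (Nat.le_of_dvd h0 he) (by omega)
  have hhalf : ∀ {a : ZMod p}, a ^ (p - 1) = 1 → a ^ ((p - 1) / 2) ≠ 1 → a ^ ((p - 1) / 2) = -1 := by
    intro a h1 h2
    refine (mul_self_eq_one_iff.1 ?_).resolve_left h2
    rw [← pow_add, show (p - 1) / 2 + (p - 1) / 2 = p - 1 by omega, h1]
  have hs1 : s ^ (p - 1) = 1 := by rw [← hord]; exact pow_orderOf_eq_one s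
  refine ⟨i, r, ?_, ?_, ?_, ?_, ?_⟩ <;> rw [← ZMod.intCast_zmod_eq_zero_iff_dvd] <;> push_cast
  · rw [hi, hr, ← Units.val_mul, mul_inv_cancel, Units.val_one, sub_self]
  · rw [sub_eq_zero, ← pow_two]; exact hne 2 two_pos (by omega)
  · rw [sub_eq_zero, ← pow_two, ← pow_succ]; exact hne 3 (by norm_num) (by omega)
  · rw [add_eq_zero_iff_eq_neg]
    exact hhalf (by rw [hi, ← Units.val_pow_eq_pow_val, hs1, Units.val_one]) (hne _ (by omega) (by omega))
  · rw [add_eq_zero_iff_eq_neg]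
    refine hhalf (by rw [hr, ← Units.val_pow_eq_pow_val, inv_pow, hs1, inv_one, Units.val_one]) fun he => ?_
    rw [hr, ← Units.val_pow_eq_pow_val, Units.val_eq_one, inv_pow, inv_eq_one] at he
    exact hne ((p - 1) / 2) (by omega) (by omega) (by rw [hi, ← Units.val_pow_eq_pow_val, he, Units.val_one])

/-- An involutory automorphism of a group of odd order fixes an element of each invariant coset. -/
theorem exists_fixed_mul [Finite G] (hG : IsPGroup p G) [Fact p.Prime] (hodd : Odd p) {τ : MulAut G}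
    (hτ : ∀ g, τ (τ g) = g) (g : G) : ∃ k ∈ zpowers (g⁻¹ * τ g), τ (g * k) = g * k := by
  set h := g⁻¹ * τ g with hh
  have hth : τ h = h⁻¹ := by rw [hh, map_mul, map_inv, hτ, _root_.mul_inv_rev, inv_inv]
  have ho : Odd (orderOf h) := by
    obtain ⟨k, hk⟩ := hG h
    exact (Odd.pow hodd).of_dvd_nat (orderOf_dvd_of_pow_eq_one hk)
  obtain ⟨m, hm⟩ := ho
  refine ⟨h ^ (m + 1), pow_mem (mem_zpowers h) _, ?_⟩
  have h2 : h ^ (m + 1) * h ^ (m + 1) = h := by
    rw [← pow_add, show m + 1 + (m + 1) = orderOf h + 1 by omega, pow_succ, pow_orderOf_eq_one, one_mul]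
  rw [map_mul, map_pow, hth, inv_pow, show τ g = g * h from (mul_inv_cancel_left g (τ g)).symm, mul_assoc]
  congr 1
  rw [mul_inv_eq_iff_eq_mul, h2]

variable [Fact p.Prime] [Finite G]

/-- `γ` preserves `E` and induces `δ` on its Frattini quotient. -/
def Induces (E : Subgroup G) (γ : MulAut G) (δ : MulAut (E ⧸ frattini E)) : Prop :=
  ∀ v : E, ∃ h : γ v ∈ E, H24.frq E ⟨γ v, h⟩ = δ (H24.frq E v)

omit [Fact p.Prime] [Finite G] in
theorem Induces.mul {E : Subgroup G} {γ γ' : MulAut G} {δ δ' : MulAut (E ⧸ frattini E)} (h : Induces E γ δ)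
    (h' : Induces E γ' δ') : Induces E (γ * γ') (δ * δ') := fun v => by
  obtain ⟨h1, h2⟩ := h' v
  obtain ⟨h3, h4⟩ := h ⟨γ' v, h1⟩
  exact ⟨h3, h4.trans (congrArg δ h2)⟩

omit [Fact p.Prime] [Finite G] in
theorem Induces.pow {E : Subgroup G} {γ : MulAut G} {δ : MulAut (E ⧸ frattini E)} (h : Induces E γ δ) :
    ∀ n : ℕ, Induces E (γ ^ n) (δ ^ n)
  | 0 => fun v => ⟨v.2, by simp⟩
  | n + 1 => by rw [pow_succ, pow_succ]; exact (h.pow n).mul h

omit [Fact p.Prime] [Finite G] in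
theorem Induces.conjNormal {E : Subgroup G} [E.Normal] {γ : MulAut G} {δ : MulAut (E ⧸ frattini E)}
    (h : Induces E γ δ) (g : G) :
    frattiniAct E (MulAut.conjNormal (γ g)) = δ * frattiniAct E (MulAut.conjNormal g) * δ⁻¹ := by
  rw [eq_mul_inv_iff_mul_eq]
  ext q
  obtain ⟨v, rfl⟩ := QuotientGroup.mk'_surjective _ q
  obtain ⟨h1, h2⟩ := h v
  obtain ⟨h3, h4⟩ := h (MulAut.conjNormal g v)
  rw [MulAut.mul_apply, MulAut.mul_apply, ← h2, frattiniAct_apply, frattiniAct_apply, ← h4]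
  refine congrArg _ (Subtype.ext ?_)
  show γ g * γ v * (γ g)⁻¹ = γ (g * v * g⁻¹)
  rw [map_mul, map_mul, map_inv]

theorem exists_tdata (hG : IsPGroup p G) (hp5 : 5 ≤ p) (hr : Cfsg.SectionalPRankLE p 3 G) {E : Subgroup G}
    [E.Normal] {X : Subgroup (MulAut (E ⧸ frattini E))} {B : Subgroup (MulAut G)} (h : Reduct p E X B)
    {φ : MulAut G} (hφE : ∃ a ∈ E, φ a ∉ E)
    (hquad : ∀ (g : G) (m : E ⧸ frattini E),
      frattiniAct E (MulAut.conjNormal g) (m⁻¹ * frattiniAct E (MulAut.conjNormal g) m) =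
        m⁻¹ * frattiniAct E (MulAut.conjNormal g) m) :
    ∃ (x e w z : G) (τ T : MulAut G) (i r : ℤ), TData p E (nextP p E E) x e w z τ T B i r ∧
      ⁅x, z⁆ ∈ nextP p E E ∧ ⁅x, w⁆ ∈ nextP p E E ∧ ¬ (p : ℤ) ∣ i * i * i - 1 ∧
      (∃ cl : ℤ, (x ^ (i * i) * w ^ cl)⁻¹ * T x ∈ nextP p E E) ∧ (∀ v ∈ E, T v ∈ E) ∧ φ e ∉ E := by
  have hp : p.Prime := Fact.out
  have hodd : Odd p := hp.odd_of_ne_two (by omega)
  have hEp := hG.to_subgroup E
  letI := frattiniCommGroup hEp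
  have hexp : ∀ v : E ⧸ frattini E, v ^ p = 1 := fun v => by
    obtain ⟨v, rfl⟩ := QuotientGroup.mk'_surjective _ v; exact H24.frq_pow hEp v
  have hcard := card_frattini_quot h.rank
  set ρc : G →* MulAut (E ⧸ frattini E) := (frattiniAct E).comp MulAut.conjNormal with hρc
  have hEn := ‹E.Normal›
  obtain ⟨x0, hx0⟩ : ∃ x0, x0 ∉ E := by
    by_contra hh
    push Not at hh
    have := h.index
    rw [show E = ⊤ from eq_top_iff.2 fun g _ => hh g, index_top] at this
    exact hp.ne_one this.symm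
  obtain ⟨σ, hσ, hnp⟩ := h.sep x0 hx0
  obtain ⟨i, r, hir, hi2, hi3, hih, hrh⟩ := exists_exponent hp5
  set x0b := ρc x0
  have hx01 : x0b ≠ 1 := fun hh => hx0 (h.faith x0 hh)
  have hsq : ∀ m, disp x0b (disp x0b m) = 1 := fun m => disp_eq_one.2 (hquad x0 m)
  obtain ⟨zb, cb, wb, hzb, hxz, hxw, hucb, huwb, hz1, hwz, hcn, htop, hfix, ⟨γ, hγp, hγ⟩, β, hβcl, hβz, hβc, hβw,
    hβx⟩ := exists_frame hexp hcard hx01 hsq hnp hir
  set ub := σ * x0b * σ⁻¹ with hub
  have hubX : ub ∈ X := mul_mem (mul_mem hσ (h.conj x0)) (inv_mem hσ)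
  have hβX : β ∈ X := (closure_le X).2 (by rintro _ (rfl | rfl); exacts [h.conj x0, hubX]) hβcl
  have hnorm : ∀ g, ∃ g', β * ρc g * β⁻¹ = ρc g' := fun g => by
    by_cases hg : g ∈ E
    · exact ⟨1, by rw [show ρc g = 1 from frattiniAct_conjNormal_mem hEp hg, mul_one, mul_inv_cancel, map_one]⟩
    obtain ⟨n, -, hn⟩ := exists_pow_act hG h.index hx0 hg
    refine ⟨x0 ^ (i * i * n), ?_⟩
    rw [show ρc g = x0b ^ n from hn, map_zpow, ← conj_pow, hβx, ← zpow_natCast, ← zpow_mul]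
  obtain ⟨T0, hT0B, hT0⟩ := h.ext β hβX hnorm
  -- the part of order prime to `p`
  obtain ⟨a, m', hm', ho⟩ := Nat.exists_eq_pow_mul_and_not_dvd (orderOf_pos T0).ne' p hp.ne_one
  set T := T0 ^ p ^ a with hTdef
  have hTord : T ^ m' = 1 := by rw [hTdef, ← pow_mul, ← ho, pow_orderOf_eq_one]
  have hβpow : ∀ n : ℕ, (β ^ n) cb = cb ^ (r ^ n) ∧ (β ^ n) zb = zb ^ (i ^ n) ∧ (β ^ n) wb = wb := by
    intro n
    induction n with
    | zero => simp
    | succ n ih =>
      rw [pow_succ', MulAut.mul_apply, MulAut.mul_apply, MulAut.mul_apply, ih.1, ih.2.1, ih.2.2, map_zpow, map_zpow,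
        hβc, hβz, hβw, ← zpow_mul, ← zpow_mul, ← pow_succ', ← pow_succ']
      exact ⟨rfl, rfl, rfl⟩
  have hpk : ∀ s : ℤ, (p : ℤ) ∣ s ^ p ^ a - s := fun s => by
    rw [← ZMod.intCast_zmod_eq_zero_iff_dvd]; push_cast; rw [ZMod.pow_card_pow, sub_self]
  have hTi : Induces E T β := by
    have h1 := Induces.pow (show Induces E T0 β from hT0) (p ^ a)
    rwa [show β ^ p ^ a = β from mulAut_ext_of_closure htop (by
      obtain ⟨e1, e2, e3⟩ := hβpow (p ^ a)
      rintro _ (rfl | rfl | rfl)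
      · rw [e1, hβc, zpow_congr_of_exp (hexp _) (hpk r)]
      · rw [e3, hβw]
      · rw [e2, hβz, zpow_congr_of_exp (hexp _) (hpk i)])] at h1
  have hTE : ∀ v ∈ E, T v ∈ E := fun v hv => (hTi ⟨v, hv⟩).choose
  have hTB : T ∈ B := pow_mem hT0B _
  -- the involution
  set hh := (p - 1) / 2 with hhdef
  set τ := T ^ hh with hτdef
  have hτi : Induces E τ (β ^ hh) := hTi.pow hh
  obtain ⟨hτc, hτz, hτw⟩ := hβpow hh
  rw [zpow_congr_of_exp (hexp cb) (b := -1) (by rwa [sub_neg_eq_add]), zpow_neg_one] at hτc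
  rw [zpow_congr_of_exp (hexp zb) (b := -1) (by rwa [sub_neg_eq_add]), zpow_neg_one] at hτz
  have hτ2b : β ^ hh * β ^ hh = 1 := mulAut_ext_of_closure htop (by
    rintro _ (rfl | rfl | rfl)
    · rw [MulAut.mul_apply, hτc, map_inv, hτc, inv_inv, MulAut.one_apply]
    · rw [MulAut.mul_apply, hτw, hτw, MulAut.one_apply]
    · rw [MulAut.mul_apply, hτz, map_inv, hτz, inv_inv, MulAut.one_apply])
  have hτ2 : ∀ g, τ (τ g) = g := by
    set θ := τ * τ with hθdef
    have hθi : Induces E θ 1 := hτ2b ▸ hτi.mul hτi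
    have hθE : ∀ v : E, θ v ∈ E := fun v => (hθi v).choose
    let θE : MulAut E := MulEquiv.ofBijective
      ((θ.toMonoidHom.domRestrict E).codRestrict E hθE)
      ((Nat.bijective_iff_injective_and_card _).2
        ⟨fun u v huv => Subtype.ext (θ.injective (congrArg Subtype.val huv)), rfl⟩)
    have hθk : θE ∈ (frattiniAct E).ker := by
      rw [MonoidHom.mem_ker]
      ext q
      obtain ⟨v, rfl⟩ := QuotientGroup.mk'_surjective _ q
      rw [frattiniAct_apply, MulAut.one_apply]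
      exact (hθi v).choose_spec
    obtain ⟨k, hk⟩ := frattiniAct_ker hEp ⟨θE, hθk⟩
    have hk' : θE ^ p ^ k = 1 := congrArg Subtype.val hk
    have hθv : ∀ (n : ℕ) (v : E), ((θE ^ n) v : G) = (θ ^ n) v := by
      intro n
      induction n with
      | zero => intro v; rfl
      | succ n ih => intro v; rw [pow_succ', pow_succ', MulAut.mul_apply, MulAut.mul_apply, ← ih]; rfl
    set η := θ ^ p ^ k with hη
    have hηE : ∀ v ∈ E, η v = v := fun v hv => by
      rw [hη, ← hθv _ ⟨v, hv⟩, hk']; rfl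
    have hηx : x0⁻¹ * η x0 ∈ E := by
      refine h.faith _ ?_
      have h1 := (hθi.pow (p ^ k)).conjNormal x0
      rw [one_pow, one_mul, inv_one, mul_one] at h1
      rw [map_mul, map_mul, map_inv, map_inv, ← hη] at *
      rw [h1, inv_mul_cancel]
    obtain ⟨n, hn⟩ := hEp ⟨_, hηx⟩
    have hn' : (x0⁻¹ * η x0) ^ p ^ n = 1 := congrArg Subtype.val hn
    have hηpow : ∀ t : ℕ, (η ^ t) x0 = x0 * (x0⁻¹ * η x0) ^ t := by
      intro t
      induction t with
      | zero => simp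
      | succ t ih =>
        rw [pow_succ', MulAut.mul_apply, ih, map_mul, map_pow, hηE _ hηx, pow_succ' (x0⁻¹ * η x0), ← mul_assoc,
          mul_inv_cancel_left]
    have hη1 : η ^ p ^ n = 1 := by
      refine MulEquiv.ext fun g => ?_
      have hle : closure {x0} ⊔ E ≤ (η ^ p ^ n).toMonoidHom.eqLocus (MonoidHom.id G) := by
        refine sup_le ((closure_le _).2 (Set.singleton_subset_iff.2 ?_)) fun v hv => ?_
        · show (η ^ p ^ n) x0 = x0
          rw [hηpow, hn', mul_one]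
        · show (η ^ p ^ n) v = v
          generalize p ^ n = t
          induction t with
          | zero => rfl
          | succ t ih => rw [pow_succ, MulAut.mul_apply, hηE v hv, ih]
      exact hle (closure_sup_of_index h.index hx0 (mem_top g))
    rw [hη, ← pow_mul, ← pow_add] at hη1
    have hord : θ ^ m' = 1 := by
      rw [hθdef, hτdef, ← pow_add, ← pow_mul, mul_comm, pow_mul, hTord, one_pow]
    have hcop : Nat.Coprime (p ^ (k + n)) m' :=
      Nat.Coprime.pow_left _ ((Nat.Prime.coprime_iff_not_dvd hp).2 hm')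
    have h1 : orderOf θ = 1 := Nat.eq_one_of_dvd_coprimes hcop (orderOf_dvd_of_pow_eq_one hη1)
      (orderOf_dvd_of_pow_eq_one hord)
    intro g
    rw [← MulAut.mul_apply, ← hθdef, orderOf_eq_one_iff.1 h1, MulAut.one_apply]
  have hτT : τ * T = T * τ := (Commute.pow_self T hh).eq
  have hτE : ∀ v ∈ E, τ v ∈ E := fun v hv => (hτi ⟨v, hv⟩).choose
  -- the lifts
  obtain ⟨c0, hc0⟩ := QuotientGroup.mk'_surjective (frattini E) cb
  obtain ⟨w0, hw0⟩ := QuotientGroup.mk'_surjective (frattini E) wb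
  obtain ⟨kk, hkk⟩ : ∃ kk : ℕ, 2 * kk = p + 1 := ⟨(p + 1) / 2, by obtain ⟨t, ht⟩ := hodd; omega⟩
  set g1 : E := c0 * (⟨τ c0, hτE c0 c0.2⟩)⁻¹ with hg1
  have hτg1 : τ (g1 : G) = (g1 : G)⁻¹ := by
    rw [hg1, Subgroup.coe_mul, InvMemClass.coe_inv]
    show τ ((c0 : G) * (τ c0)⁻¹) = ((c0 : G) * (τ c0)⁻¹)⁻¹
    rw [map_mul, map_inv, hτ2, _root_.mul_inv_rev, inv_inv]
  set e : E := g1 ^ kk with he
  have hτe : τ (e : G) = (e : G)⁻¹ := by rw [he, SubgroupClass.coe_pow, map_pow, hτg1, inv_pow]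
  have heb : H24.frq E e = cb := by
    obtain ⟨h1, h2⟩ := hτi c0
    rw [he, map_pow, hg1, map_mul, map_inv, h2, show H24.frq E c0 = cb from hc0, hτc, inv_inv, ← pow_two, ← pow_mul,
      hkk, pow_succ, hexp, one_mul]
  obtain ⟨k1, hk1, hwfix⟩ := exists_fixed_mul hG hodd hτ2 (w0 : G)
  obtain ⟨hw0E, hw0b⟩ := hτi w0
  have hk1Φ : ∃ hk : k1 ∈ E, H24.frq E ⟨k1, hk⟩ = 1 := by
    obtain ⟨n, rfl⟩ := mem_zpowers_iff.1 hk1
    refine ⟨zpow_mem (mul_mem (inv_mem w0.2) hw0E) n, ?_⟩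
    rw [show (⟨_, zpow_mem (mul_mem (inv_mem w0.2) hw0E) n⟩ : E) = (w0⁻¹ * ⟨τ w0, hw0E⟩) ^ n from
        Subtype.ext (by rw [SubgroupClass.coe_zpow]; rfl),
      map_zpow, map_mul, map_inv, hw0b, show H24.frq E w0 = wb from hw0, hτw, inv_mul_cancel, one_zpow]
  obtain ⟨hk1E, hk1b⟩ := hk1Φ
  set w : E := w0 * ⟨k1, hk1E⟩ with hw
  have hwb : H24.frq E w = wb := by rw [hw, map_mul, hk1b, mul_one]; exact hw0
  have hτw' : τ (w : G) = w := hwfix
  obtain ⟨k2, hk2, hxfix⟩ := exists_fixed_mul hG hodd hτ2 x0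
  have hτx0 : x0⁻¹ * τ x0 ∈ E := by
    refine h.faith _ ?_
    rw [map_mul, map_mul, map_inv, map_inv, hτi.conjNormal x0, show frattiniAct E (MulAut.conjNormal x0) = x0b from rfl]
    rw [inv_mul_eq_one, eq_mul_inv_iff_mul_eq]
    refine mulAut_ext_of_closure htop ?_
    rintro v (hv | hv | hv)
    · rw [hv, MulAut.mul_apply, MulAut.mul_apply, hτc, map_inv, show x0b cb = cb * zb by
        rw [hzb, disp_apply, mul_inv_cancel_left], map_mul, hτc, hτz, _root_.mul_inv]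
    · rw [hv, MulAut.mul_apply, MulAut.mul_apply, hτw, hxw, hτw]
    · rw [Set.mem_singleton_iff.1 hv, MulAut.mul_apply, MulAut.mul_apply, hτz, map_inv, hxz, hτz]
  have hk2E : k2 ∈ E := (zpowers_le.2 hτx0) hk2
  set x := x0 * k2 with hxdef
  have hxb : ρc x = x0b := by
    rw [map_mul, show ρc k2 = 1 from frattiniAct_conjNormal_mem hEp hk2E, mul_one]
  have hxE : x ∉ E := fun hh' => hx0 (by
    have := mul_mem hh' (inv_mem hk2E); rwa [hxdef, mul_inv_cancel_right] at this)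
  have hcE : ∀ (g : G) (v : E), ⁅g, (v : G)⁆ ∈ E := fun g v => by
    rw [commutatorElement_def]; exact mul_mem (hEn.conj_mem v v.2 g) (inv_mem v.2)
  have hdisp : ∀ v : E, H24.frq E ⟨⁅x, (v : G)⁆, hcE x v⟩ = disp x0b (H24.frq E v) := fun v => by
    rw [disp_apply, ← hxb]; exact (disp_conjNormal hEp x v (hcE x v)).symm
  set z : E := ⟨⁅x, (e : G)⁆, hcE x e⟩ with hzdef
  have hzb' : H24.frq E z = zb := by rw [hzdef, hdisp, heb, ← hzb]
  set E2 := nextP p E E with hE2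
  set E3 := nextP p E E2 with hE3
  have hgen := closure_sup_of_index h.index hxE
  have hEgen : E ≤ closure {(e : G), (z : G), (w : G)} ⊔ E2 := by
    have := le_closure_of_frq_top hEp {e, z, w} (by
      rw [Set.image_insert_eq, Set.image_insert_eq, Set.image_singleton, heb, hzb', hwb, Set.pair_comm zb wb]
      exact htop)
    rwa [Set.image_insert_eq, Set.image_insert_eq, Set.image_singleton] at this
  have hcomm0 : ∀ v : E, x0b (H24.frq E v) = H24.frq E v → ⁅x, (v : G)⁆ ∈ E2 := fun v hv =>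
    (frq_eq_one_iff hEp (v := ⟨_, hcE x v⟩)).1 (by rw [hdisp]; exact disp_eq_one.2 hv)
  have hzx : ⁅x, (z : G)⁆ ∈ E2 := hcomm0 z (by rw [hzb']; exact hxz)
  have hwx : ⁅x, (w : G)⁆ ∈ E2 := hcomm0 w (by rw [hwb]; exact hxw)
  have hxpE : x ^ p ∈ E := by rw [← h.index]; exact E.pow_index_mem x
  have hxp : x ^ p ∈ closure {(z : G), (w : G)} ⊔ E2 := by
    have h1 : x0b (H24.frq E ⟨x ^ p, hxpE⟩) = H24.frq E ⟨x ^ p, hxpE⟩ := by
      rw [← hxb]
      show frattiniAct E (MulAut.conjNormal x) _ = _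
      rw [frattiniAct_apply]
      refine congrArg _ (Subtype.ext ?_)
      show x * x ^ p * x⁻¹ = x ^ p
      rw [← pow_succ', pow_succ, mul_inv_cancel_right]
    have := (mem_closure_frq_iff hEp {z, w} (v := ⟨x ^ p, hxpE⟩)).1 (by
      rw [Set.image_insert_eq, Set.image_singleton, hzb', hwb, Set.pair_comm]; exact hfix _ h1)
    rwa [Set.image_insert_eq, Set.image_singleton] at this
  have hzn : (z : G) ∉ E2 := fun hh' => hz1 (by rw [← hzb']; exact (frq_eq_one_iff hEp).2 hh')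
  have hwn : (w : G) ∉ closure {(z : G)} ⊔ E2 := fun hh' => hwz (by
    rw [zpowers_eq_closure]
    have := (mem_closure_frq_iff hEp {z} (v := w)).2 (by rw [Set.image_singleton]; exact hh')
    rwa [Set.image_singleton, hwb, hzb'] at this)
  have hen : (e : G) ∉ closure {(z : G), (w : G)} ⊔ E2 := fun hh' => hcn (by
    have := (mem_closure_frq_iff hEp {z, w} (v := e)).2 (by rw [Set.image_insert_eq, Set.image_singleton]; exact hh')
    rwa [Set.image_insert_eq, Set.image_singleton, heb, hwb, hzb', Set.pair_comm] at this)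
  -- subgroups invariant under a lift of the second transvection
  obtain ⟨α, hα⟩ := h.lift ub hubX
  set Q2 := nextP p (⊤ : Subgroup E) ⊤ with hQ2
  set Q3 := nextP p (⊤ : Subgroup E) Q2 with hQ3
  have hQ3E : ∀ v : E, v ∈ Q3 ↔ (v : G) ∈ E3 := fun v => by
    have h3 : Q3.map E.subtype = E3 := by
      rw [hQ3, hQ2, map_nextP, map_nextP_top_eq, ← MonoidHom.range_eq_map, E.range_subtype]
    rw [← h3]
    exact (Subgroup.mem_map_iff_mem E.subtype_injective).symm
  have hα3 : ∀ v ∈ Q3, α v ∈ Q3 := fun v hv =>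
    apply_mem_nextP α (fun a ha => apply_mem_nextP α (fun _ _ => mem_top _) (fun _ _ => mem_top _) ha)
      (fun _ _ => mem_top _) hv
  have hspread : ∀ K : Subgroup E, Q2 ≤ K → (∀ v ∈ K, α v ∈ K) → z ∈ K → e ∈ K := by
    intro K hK2 hKα hzK
    have hFK : frattini E ≤ K := frattini_eq_nextP hEp ▸ hK2
    have hsat : ∀ {v v' : E}, v ∈ K → H24.frq E v = H24.frq E v' → v' ∈ K := fun {v v'} hv hvv => by
      have := mul_mem hv (hFK (H24.frq_eq_one.1 (by rw [map_mul, map_inv, hvv, inv_mul_cancel] :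
        H24.frq E (v⁻¹ * v') = 1)))
      rwa [mul_inv_cancel_left] at this
    have h1 : z⁻¹ * α z ∈ K := mul_mem (inv_mem hzK) (hKα z hzK)
    obtain ⟨a, b, hab⟩ := (Prime.coprime_iff_not_dvd (Nat.prime_iff_prime_int.1 hp)).2 hγp
    refine hsat (zpow_mem h1 b) ?_
    rw [map_zpow, map_mul, map_inv, ← frattiniAct_apply, hα, hzb', hγ, inv_mul_cancel_left, heb, ← zpow_mul,
      zpow_congr_of_exp (hexp cb) (a := γ * b) (b := 1) ⟨-a, by linear_combination hab⟩, zpow_one]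
  have hCz : ⁅(z : G), (w : G)⁆ ∈ E3 → ⁅(e : G), (w : G)⁆ ∈ E3 := by
    let K : Subgroup E :=
      { carrier := {v | ⁅v, w⁆ ∈ Q3}
        one_mem' := by show ⁅(1 : E), w⁆ ∈ Q3; rw [commutatorElement_one_left]; exact one_mem _
        mul_mem' := fun {a b} ha hb => by show ⁅a * b, w⁆ ∈ Q3; exact comm_mul_left_mem ha hb
        inv_mem' := fun {a} ha => by
          show ⁅a⁻¹, w⁆ ∈ Q3
          rw [show ⁅a⁻¹, w⁆ = a⁻¹ * ⁅a, w⁆⁻¹ * a by simp only [commutatorElement_def]; group]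
          simpa using ((inferInstance : Q3.Normal).conj_mem _ (inv_mem ha) a⁻¹) }
    intro hzw
    refine (hQ3E ⁅e, w⁆).1 (hspread K (fun v hv => comm_mem_nextP hv (mem_top w)) (fun v hv => ?_) ((hQ3E ⁅z, w⁆).2 hzw))
    show ⁅α v, w⁆ ∈ Q3
    have hd : (α w)⁻¹ * w ∈ Q2 := by
      rw [hQ2, ← frattini_eq_nextP hEp, ← H24.frq_eq_one, map_mul, map_inv, ← frattiniAct_apply, hα, hwb, huwb,
        inv_mul_cancel]
    rw [show w = α w * ((α w)⁻¹ * w) by group, comm_mul_right]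
    refine mul_mem ?_ ((inferInstance : Q3.Normal).conj_mem _ (comm_mem_nextP' hd (mem_top _)) _)
    rw [← map_commutatorElement]
    exact hα3 _ hv
  have hPz : (z : G) ^ p ∈ E3 → (e : G) ^ p ∈ E3 := by
    set q := QuotientGroup.mk' Q3
    have hpow : ∀ a b : E, q ((a * b) ^ p) = q (a ^ p) * q (b ^ p) := fun a b => by
      rw [map_pow, map_pow, map_pow, map_mul]
      refine H24.mul_pow_prime_of_class_two hp (by omega) (mem_center_iff.2 fun g => ?_) ?_
      · obtain ⟨g, rfl⟩ := QuotientGroup.mk'_surjective Q3 g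
        rw [← map_commutatorElement]
        refine (commutatorElement_eq_one_iff_mul_comm.1 ?_).symm
        rw [← map_commutatorElement]
        exact (QuotientGroup.eq_one_iff _).2 (comm_mem_nextP (comm_mem_nextP (mem_top b) (mem_top a)) (mem_top g))
      · rw [← map_commutatorElement, ← map_pow]
        exact (QuotientGroup.eq_one_iff _).2 (pow_mem_nextP (comm_mem_nextP (mem_top b) (mem_top a)))
    let K : Subgroup E :=
      { carrier := {v | q (v ^ p) = 1}
        one_mem' := by simp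
        mul_mem' := fun {a b} ha hb => by show q ((a * b) ^ p) = 1; rw [hpow, ha, hb, one_mul]
        inv_mem' := fun {a} ha => by show q (a⁻¹ ^ p) = 1; rw [inv_pow, map_inv, ha, inv_one] }
    intro hzp
    refine (hQ3E (e ^ p)).1 ((QuotientGroup.eq_one_iff _).1 (hspread K
      (fun v hv => (QuotientGroup.eq_one_iff _).2 (pow_mem_nextP hv)) (fun v hv => ?_)
      ((QuotientGroup.eq_one_iff _).2 ((hQ3E (z ^ p)).2 hzp))))
    refine (QuotientGroup.eq_one_iff _).2 ?_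
    rw [← map_pow]
    exact hα3 _ ((QuotientGroup.eq_one_iff _).1 hv)
  have hfacts := transvection_facts hG hp5 hr hE2 hE3 (x := x) (e := (e : G)) (w := (w : G)) (z := (z : G))
    rfl e.2 w.2 hgen hEgen hzx hwx hxp hzn hwn hen τ hτE hτe hxfix hτw' hCz hPz φ hφE
  have hφe : φ (e : G) ∉ E := fun hh' => by
    obtain ⟨a, ha, hna⟩ := hφE
    have hP2E : nextP p (⊤ : Subgroup G) ⊤ ≤ E := nextP_top_le_of_index h.index
    have hinv : ∀ v ∈ nextP p (⊤ : Subgroup G) ⊤, φ v ∈ E := fun v hv =>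
      hP2E (apply_mem_nextP φ (fun _ _ => mem_top _) (fun _ _ => mem_top _) hv)
    refine hna ((show E ≤ E.comap φ.toMonoidHom from hEgen.trans (sup_le ((closure_le _).2 ?_)
      fun v hv => hinv v (hfacts.p2 ▸ mem_sup_right hv))) ha)
    rintro _ (rfl | rfl | rfl)
    exacts [hh', hinv _ (hfacts.p2 ▸ mem_sup_left (subset_closure rfl)),
      (sup_le ((closure_le _).2 (Set.singleton_subset_iff.2 w.2)) hP2E)
        (hfacts.r_inv φ _ (mem_sup_left (subset_closure rfl)))]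
  -- the torus in coordinates
  have hTe : ((e : G) ^ r)⁻¹ * T e ∈ E2 := by
    obtain ⟨h1, h2⟩ := hTi e
    have := (frq_eq_iff hEp (v := e ^ r) (v' := ⟨T e, h1⟩)).1 (by rw [map_zpow, h2, heb, hβc])
    rwa [SubgroupClass.coe_zpow] at this
  have hTw : (w : G)⁻¹ * T w ∈ E2 := by
    obtain ⟨h1, h2⟩ := hTi w
    exact (frq_eq_iff hEp (v' := ⟨T w, h1⟩)).1 (by rw [h2, hwb, hβw])
  have hTz : ((z : G) ^ i)⁻¹ * T z ∈ E2 := by
    obtain ⟨h1, h2⟩ := hTi z
    have := (frq_eq_iff hEp (v := z ^ i) (v' := ⟨T z, h1⟩)).1 (by rw [map_zpow, h2, hzb', hβz])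
    rwa [SubgroupClass.coe_zpow] at this
  have hTx : ∃ cl : ℤ, (x ^ (i * i) * (w : G) ^ cl)⁻¹ * T x ∈ E2 := by
    have hvE : (x ^ (i * i))⁻¹ * T x ∈ E := by
      refine h.faith _ ?_
      rw [map_mul, map_mul, map_inv, map_inv, map_zpow, map_zpow, hTi.conjNormal x,
        show frattiniAct E (MulAut.conjNormal x) = x0b from hxb, hβx, inv_mul_cancel]
    set v : E := ⟨_, hvE⟩ with hv
    have hτv : τ (v : G) = v := by
      show τ ((x ^ (i * i))⁻¹ * T x) = (x ^ (i * i))⁻¹ * T x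
      have h2 : τ (T x) = T x := by
        rw [← MulAut.mul_apply, hτT, MulAut.mul_apply, hxfix]
      rw [map_mul, map_inv, map_zpow, hxfix, h2]
    have hvb : (β ^ hh) (H24.frq E v) = H24.frq E v := by
      obtain ⟨h1, h2⟩ := hτi v
      rw [← h2]
      exact congrArg _ (Subtype.ext hτv)
    obtain ⟨a, v1, hv1, hv1e⟩ := exists_mul_of_mem_sup_closure (K := closure ({wb, zb} : Set (E ⧸ frattini E)))
      (a := cb) (g := H24.frq E v) (by rw [← Subgroup.closure_union, ← Set.insert_eq, htop]; exact mem_top _)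
    obtain ⟨b, d, hd, hv1'⟩ := exists_mul_of_mem_sup_closure (K := closure ({zb} : Set (E ⧸ frattini E)))
      (a := wb) (g := v1) (by rw [← Subgroup.closure_union, ← Set.insert_eq]; exact hv1)
    obtain ⟨d', rfl⟩ := Subgroup.mem_closure_singleton.1 hd
    subst hv1'
    have hb : H24.frq E v = wb ^ b := by
      have h1 := hvb
      rw [hv1e, map_mul, map_mul, map_zpow, map_zpow, map_zpow, hτc, hτw, hτz, inv_zpow, inv_zpow,
        mul_left_comm _ (wb ^ b), mul_left_comm _ (wb ^ b), mul_right_inj, ← _root_.mul_inv] at h1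
      have h2 : cb ^ a * zb ^ d' = 1 :=
        eq_one_of_sq_eq_one hodd (hexp _) (inv_eq_iff_mul_eq_one.1 h1)
      rw [hv1e, mul_left_comm, h2, mul_one]
    refine ⟨b, ?_⟩
    have := (frq_eq_iff hEp (v := w ^ b) (v' := v)).1 (by rw [map_zpow, hwb, hb])
    rw [SubgroupClass.coe_zpow] at this
    rw [_root_.mul_inv_rev, mul_assoc]
    exact this
  refine ⟨x, e, w, z, τ, T, i, r, ⟨hfacts, e.2, w.2, rfl, hgen, hEgen, hxE, hzn, hwn, hen, pow_mem hTB _, hTB, hτT,
    hτe, hxfix, hτw', hTe, mem_sup_right hTw, hTz, hir, hi2⟩, hzx, hwx, hi3, hTx, hTE, hφe⟩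

end Cfsg.Agent.H95
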