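import Cfsg.Agent.H95.RankThreeRegular
import Cfsg.Agent.H24.Resistant

/-!
A maximal subgroup `E = ⟨e, z, w⟩ Φ(E)` with `z = [x, e]` and `w` fixed by `x` modulo `Φ(E)`, in a `p`-group
of sectional rank at most three.
-/
set_option autoImplicit false

namespace Cfsg.Agent.H95

open Subgroup
open scoped commutatorElement

variable {G : Type*} [Group G] {p : ℕ}

theorem frattini_eq_nextP [Fact p.Prime] [Finite G] (hG : IsPGroup p G) :
    frattini G = nextP p (⊤ : Subgroup G) ⊤ := by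
  refine le_antisymm (H24.frattini_le_of (p := p) _ ?_ fun x => pow_mem_nextP (mem_top x))
    (nextP_le (fun a _ b _ => H24.commutator_le_frattini hG ?_) fun a _ => H24.pow_mem_frattini hG a)
  · rw [_root_.commutator_def]
    exact commutator_le.2 fun a ha b hb => comm_mem_nextP ha hb
  · rw [_root_.commutator_def]; exact commutator_mem_commutator (mem_top a) (mem_top b)

theorem eq_one_of_sq_eq_one {H : Type*} [Group H] (hp : Odd p) {a : H} (h1 : a ^ p = 1) (h2 : a * a = 1) :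
    a = 1 := by
  obtain ⟨k, hk⟩ := hp
  rw [hk, pow_succ, pow_mul, pow_two, h2, one_pow, one_mul] at h1
  exact h1

theorem eq_one_of_zpow_two {H : Type*} [Group H] {a : H} {k : ℤ} (h1 : a ^ p = 1) [Fact p.Prime] (h2 : a ^ k = 1)
    (hk : ¬ (p : ℤ) ∣ k) : a = 1 := by
  obtain ⟨u, v, huv⟩ := (Prime.coprime_iff_not_dvd (Nat.prime_iff_prime_int.1 Fact.out)).2 hk
  rw [← zpow_one a, ← huv, zpow_add, mul_comm u, zpow_mul, zpow_natCast, h1, one_zpow, one_mul, mul_comm v,
    zpow_mul, h2, one_zpow]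

theorem exists_mul_of_mem_sup_closure {K : Subgroup G} [K.Normal] {a g : G}
    (h : g ∈ closure {a} ⊔ K) : ∃ (i : ℤ) (d : G), d ∈ K ∧ g = a ^ i * d := by
  obtain ⟨u, hu, d, hd, hud⟩ := Subgroup.mem_sup_of_normal_right.1 h
  obtain ⟨i, rfl⟩ := Subgroup.mem_closure_singleton.1 hu
  exact ⟨i, d, hd, hud.symm⟩

/-- What the first stage provides. -/
structure TFacts (p : ℕ) (E E2 : Subgroup G) (x e w z : G) : Prop where
  xp : x ^ p ∈ E2
  xw : ⁅x, w⁆ ∈ nextP p (⊤ : Subgroup G) (nextP p (⊤ : Subgroup G) ⊤)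
  ew : ⁅e, w⁆ ∈ E2
  p2 : nextP p (⊤ : Subgroup G) ⊤ = closure {z} ⊔ E2
  e2_inv : ∀ β : MulAut G, ∀ a ∈ E2, β a ∈ E2
  r_inv : ∀ β : MulAut G, ∀ a ∈ closure {w} ⊔ nextP p (⊤ : Subgroup G) ⊤,
    β a ∈ closure {w} ⊔ nextP p (⊤ : Subgroup G) ⊤

theorem transvection_facts [Fact p.Prime] [Finite G] (hG : IsPGroup p G) (hp5 : 5 ≤ p)
    (hr : Cfsg.SectionalPRankLE p 3 G) {E E2 E3 : Subgroup G} [E.Normal] (hE2 : E2 = nextP p E E)
    (hE3 : E3 = nextP p E E2) {x e w z : G} (hz0 : z = ⁅x, e⁆) (he : e ∈ E) (hw : w ∈ E)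
    (hgen : (⊤ : Subgroup G) ≤ closure {x} ⊔ E) (hEgen : E ≤ closure {e, z, w} ⊔ E2)
    (hzx : ⁅x, z⁆ ∈ E2) (hwx : ⁅x, w⁆ ∈ E2) (hxp : x ^ p ∈ closure {z, w} ⊔ E2)
    (hz : z ∉ E2) (hw' : w ∉ closure {z} ⊔ E2) (he' : e ∉ closure {z, w} ⊔ E2)
    (τ : MulAut G) (hτE : ∀ a ∈ E, τ a ∈ E) (hτe : τ e = e⁻¹) (hτx : τ x = x) (hτw : τ w = w)
    (hCz : ⁅z, w⁆ ∈ E3 → ⁅e, w⁆ ∈ E3) (hPz : z ^ p ∈ E3 → e ^ p ∈ E3)
    (φ : MulAut G) (hφE : ∃ a ∈ E, φ a ∉ E) : TFacts p E E2 x e w z := by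
  have hpp : p.Prime := Fact.out
  have hp2 : p ≠ 2 := by omega
  have hodd : Odd p := hpp.odd_of_ne_two hp2
  have hE2n : E2.Normal := hE2 ▸ inferInstance
  have hE3n : E3.Normal := hE3 ▸ inferInstance
  have hE2E : E2 ≤ E := hE2 ▸ nextP_le_self
  have hE3E2 : E3 ≤ E2 := hE3 ▸ nextP_le_self
  have hzE : z ∈ E := by
    rw [hz0, commutatorElement_def]; exact mul_mem (‹E.Normal›.conj_mem e he x) (inv_mem he)
  have hEE : ∀ a ∈ E, ∀ b ∈ E, ⁅a, b⁆ ∈ E2 := fun a ha b hb => hE2 ▸ comm_mem_nextP ha hb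
  have hEp : ∀ a ∈ E, a ^ p ∈ E2 := fun a ha => hE2 ▸ pow_mem_nextP ha
  have hE23 : ∀ a ∈ E2, ∀ b ∈ E, ⁅a, b⁆ ∈ E3 := fun a ha b hb => hE3 ▸ comm_mem_nextP ha hb
  have hE2p : ∀ a ∈ E2, a ^ p ∈ E3 := fun a ha => hE3 ▸ pow_mem_nextP ha
  have hxconj : ∀ a : G, x * a * x⁻¹ = ⁅x, a⁆ * a := fun a => by simp [commutatorElement_def, mul_assoc]
  have hfE2 : ∀ a ∈ E2, τ a ∈ E2 := fun a ha => by
    rw [hE2] at ha ⊢; exact apply_mem_nextP τ hτE hτE ha
  have hfE3 : ∀ a ∈ E3, τ a ∈ E3 := fun a ha => by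
    rw [hE3] at ha ⊢; exact apply_mem_nextP τ hfE2 hτE ha
  -- the quotient by `E3`
  set q := QuotientGroup.mk' E3 with hq
  have o : ∀ a, q a = 1 ↔ a ∈ E3 := fun a => QuotientGroup.eq_one_iff a
  have cen : ∀ a ∈ E2, ∀ b ∈ E, Commute (q a) (q b) := fun a ha b hb =>
    commutatorElement_eq_one_iff_mul_comm.1 (by rw [← map_commutatorElement]; exact (o _).2 (hE23 a ha b hb))
  have expo : ∀ a ∈ E2, q a ^ p = 1 := fun a ha => by rw [← map_pow]; exact (o _).2 (hE2p a ha)
  have hh : ∀ a b : G, q (a * b * a⁻¹) = q ⁅a, b⁆ * q b := fun a b => by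
    rw [← map_mul]; congr 1; simp [commutatorElement_def, mul_assoc]
  have bl : ∀ a ∈ E, ∀ b ∈ E, ∀ c ∈ E, q ⁅a * b, c⁆ = q ⁅a, c⁆ * q ⁅b, c⁆ := by
    intro a ha b hb c hc
    rw [comm_mul_left, map_mul, map_mul, map_mul, map_inv, (cen _ (hEE b hb c hc) a ha).eq.symm,
      mul_inv_cancel_right]
    exact (cen _ (hEE b hb c hc) _ (hE2E (hEE a ha c hc))).eq
  have br : ∀ a ∈ E, ∀ b ∈ E, ∀ c ∈ E, q ⁅a, b * c⁆ = q ⁅a, b⁆ * q ⁅a, c⁆ := by
    intro a ha b hb c hc
    rw [comm_mul_right, map_mul, map_mul, map_mul, map_inv, (cen _ (hEE a ha c hc) b hb).eq.symm,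
      mul_inv_cancel_right]
  have bl0 : ∀ a ∈ E2, ∀ c ∈ E, q ⁅a, c⁆ = 1 := fun a ha c hc => (o _).2 (hE23 a ha c hc)
  have br0 : ∀ a ∈ E2, ∀ c ∈ E, q ⁅c, a⁆ = 1 := fun a ha c hc => by
    rw [← commutatorElement_inv, map_inv, bl0 a ha c hc, inv_one]
  have pw : ∀ a ∈ E, ∀ b ∈ E, q ((a * b) ^ p) = q (a ^ p) * q (b ^ p) := by
    intro a ha b hb
    rw [map_pow, map_pow, map_pow, map_mul]
    have hc : ⁅q b, q a⁆ ^ p = 1 := by rw [← map_commutatorElement]; exact expo _ (hEE b hb a ha)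
    have hcc : ∀ g ∈ E, Commute ⁅q b, q a⁆ (q g) := fun g hg => by
      rw [← map_commutatorElement]; exact cen _ (hEE b hb a ha) g hg
    have key : ∀ n : ℕ, (q a * q b) ^ n = q a ^ n * q b ^ n * ⁅q b, q a⁆ ^ (n.choose 2) := by
      intro n
      induction n with
      | zero => simp
      | succ n ih =>
        have e1 : q b ^ n * q a = q a * q b ^ n * ⁅q b, q a⁆ ^ n := by
          clear ih
          induction n with
          | zero => simp
          | succ n ih2 =>
            have e0 : q b * q a = q a * q b * ⁅q b, q a⁆ := by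
              rw [mul_assoc (q a), ← (hcc b hb).eq, ← mul_assoc, ← (hcc a ha).eq]
              simp [commutatorElement_def, mul_assoc]
            calc q b ^ (n + 1) * q a = q b * (q b ^ n * q a) := by rw [pow_succ', mul_assoc]
              _ = q b * q a * q b ^ n * ⁅q b, q a⁆ ^ n := by rw [ih2]; simp [mul_assoc]
              _ = q a * q b * (⁅q b, q a⁆ * q b ^ n) * ⁅q b, q a⁆ ^ n := by rw [e0]; simp [mul_assoc]
              _ = q a * q b ^ (n + 1) * ⁅q b, q a⁆ ^ (n + 1) := by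
                rw [((hcc b hb).pow_right n).eq, pow_succ' (q b), pow_succ' ⁅q b, q a⁆]; simp [mul_assoc]
        have hcn : ∀ g ∈ E, Commute (⁅q b, q a⁆ ^ (n.choose 2)) (q g) := fun g hg => (hcc g hg).pow_left _
        calc (q a * q b) ^ (n + 1) = q a ^ n * q b ^ n * (⁅q b, q a⁆ ^ (n.choose 2) * q a) * q b := by
              rw [pow_succ, ih]; simp [mul_assoc]
          _ = q a ^ n * (q b ^ n * q a) * (⁅q b, q a⁆ ^ (n.choose 2) * q b) := by
              rw [(hcn a ha).eq]; simp [mul_assoc]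
          _ = q a ^ (n + 1) * q b ^ n * (⁅q b, q a⁆ ^ n * q b) * ⁅q b, q a⁆ ^ (n.choose 2) := by
              rw [e1, (hcn b hb).eq, pow_succ (q a)]; simp [mul_assoc]
          _ = q a ^ (n + 1) * q b ^ (n + 1) * ⁅q b, q a⁆ ^ ((n + 1).choose 2) := by
              rw [((hcc b hb).pow_left n).eq, Nat.choose_succ_succ', Nat.choose_one_right, pow_add,
                pow_succ (q b)]
              simp [mul_assoc, pow_add]
    obtain ⟨j, hj⟩ : p ∣ p.choose 2 := hpp.dvd_choose_self (by omega) (by omega)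
    rw [key, hj, pow_mul, hc, one_pow, mul_one]
  -- `x ^ p` is a power of `w` modulo `E2`
  have hτz : z⁻¹ * (τ z)⁻¹ ∈ E2 := by
    rw [hz0, map_commutatorElement, hτx, hτe,
      show ⁅x, e⁆⁻¹ * ⁅x, e⁻¹⁆⁻¹ = ⁅⁅x, e⁆⁻¹, e⁻¹⁆ by simp only [commutatorElement_def]; group, ← hz0]
    exact hEE _ (inv_mem hzE) _ (inv_mem he)
  have hC : closure {z, w} ⊔ E2 = closure {z} ⊔ (closure {w} ⊔ E2) := by
    refine le_antisymm (closure_insert_le z |>.trans ?_) ?_
    · exact sup_le ((le_sup_left : closure {w} ≤ closure {w} ⊔ E2).trans le_sup_right)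
        (sup_le le_sup_left (le_sup_right.trans le_sup_right))
    · exact sup_le ((Subgroup.closure_mono (by simp)).trans le_sup_left)
        (sup_le ((Subgroup.closure_mono (by simp)).trans le_sup_left) le_sup_right)
  have hW2n : ∀ K : Subgroup G, E2 ≤ K → K ≤ E → (∀ a ∈ K, x * a * x⁻¹ ∈ K) → K.Normal := by
    intro K hK2 hKE hx
    refine normalizer_eq_top_iff.1 (top_le_iff.1 (hgen.trans (sup_le ((closure_le _).2 ?_) fun g hg => ?_)))
    · rintro _ rfl
      exact mem_normalizer_of_conj_le fun a ha => hx a ha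
    · refine mem_normalizer_of_conj_le fun a ha => ?_
      rw [show g * a * g⁻¹ = ⁅g, a⁆ * a by simp [commutatorElement_def, mul_assoc]]
      exact mul_mem (hK2 (hEE g hg a (hKE ha))) ha
  have hsingle : ∀ a ∈ E, ⁅x, a⁆ ∈ E2 → (closure {a} ⊔ E2).Normal := fun a ha hax => by
    refine hW2n _ le_sup_right (sup_le ((closure_le _).2 (Set.singleton_subset_iff.2 ha)) hE2E) fun b hb => ?_
    refine (show closure {a} ⊔ E2 ≤ (closure {a} ⊔ E2).comap (MulAut.conj x).toMonoidHom from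
      sup_le ((closure_le _).2 (Set.singleton_subset_iff.2 ?_)) fun c hc => mem_sup_right (hE2n.conj_mem c hc x)) hb
    show x * a * x⁻¹ ∈ closure {a} ⊔ E2
    rw [hxconj]
    exact mul_mem (mem_sup_right hax) (mem_sup_left (subset_closure rfl))
  have hWn : (closure {w} ⊔ E2).Normal := hsingle w hw hwx
  have hZn : (closure {z} ⊔ E2).Normal := hsingle z hzE hzx
  obtain ⟨k, d, hd, hxpk⟩ : ∃ (k : ℤ) (d : G), d ∈ E2 ∧ x ^ p = w ^ k * d := by
    rw [hC] at hxp
    obtain ⟨i, v, hv, hiv⟩ := exists_mul_of_mem_sup_closure hxp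
    obtain ⟨k, d, hd, rfl⟩ := exists_mul_of_mem_sup_closure hv
    set q2 := QuotientGroup.mk' E2
    have o2 : ∀ a, q2 a = 1 ↔ a ∈ E2 := fun a => QuotientGroup.eq_one_iff a
    have h1 : q2 (x ^ p) = q2 z ^ i * q2 w ^ k := by
      rw [hiv, map_mul, map_mul, map_zpow, map_zpow, (o2 d).2 hd, mul_one]
    have h2 : q2 (x ^ p) = (q2 z)⁻¹ ^ i * q2 w ^ k := by
      have h3 : q2 (τ (x ^ p)) = q2 (τ z) ^ i * q2 w ^ k := by
        rw [hiv]
        simp only [map_mul, map_zpow, hτw, (o2 _).2 (hfE2 d hd), mul_one]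
      rw [map_pow, hτx, show q2 (τ z) = (q2 z)⁻¹ by
        have := (o2 _).2 hτz
        rw [map_mul, map_inv, map_inv, mul_inv_eq_one] at this
        exact this.symm] at h3
      exact h3
    rw [h1] at h2
    have h4 := mul_right_cancel h2
    rw [inv_zpow, eq_inv_iff_mul_eq_one] at h4
    have h5 : q2 z ^ i = 1 := by
      refine eq_one_of_sq_eq_one hodd ?_ h4
      rw [← zpow_natCast, ← zpow_mul, mul_comm, zpow_mul, zpow_natCast, ← map_pow, (o2 _).2 (hEp z hzE), one_zpow]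
    refine ⟨k, w ^ (-k) * z ^ i * w ^ k * d, mul_mem ?_ hd, by rw [hiv]; group⟩
    have := hE2n.conj_mem (z ^ i) ((o2 _).1 (by rw [map_zpow]; exact h5)) (w ^ (-k))
    simpa using this
  -- the action of `x` on `E2 / E3`
  set u := ⁅e, w⁆ with hu
  set u' := ⁅z, w⁆ with hu'
  have hue : u ∈ E2 := hEE e he w hw
  have hu'e : u' ∈ E2 := hEE z hzE w hw
  have hδ : ∀ a : G, x * a * x⁻¹ = MulAut.conj x a := fun a => rfl
  have xe : x * e * x⁻¹ = z * e := by rw [hxconj, ← hz0]
  have xz : x * z * x⁻¹ = ⁅x, z⁆ * z := hxconj z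
  have xw : x * w * x⁻¹ = ⁅x, w⁆ * w := hxconj w
  have cdist : ∀ a b : G, x * ⁅a, b⁆ * x⁻¹ = ⁅x * a * x⁻¹, x * b * x⁻¹⁆ := fun a b => by
    simp only [hδ]; exact map_commutatorElement _ a b
  have xu : q (x * u * x⁻¹) = q u' * q u := by
    rw [hu, cdist, xe, xw, bl z hzE e he _ (mul_mem (hE2E hwx) hw), br z hzE _ (hE2E hwx) w hw,
      br e he _ (hE2E hwx) w hw, br0 _ hwx z hzE, br0 _ hwx e he, one_mul, one_mul]
  have xu' : q (x * u' * x⁻¹) = q u' := by
    rw [hu', cdist, xz, xw, bl _ (hE2E hzx) z hzE _ (mul_mem (hE2E hwx) hw),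
      bl0 _ hzx _ (mul_mem (hE2E hwx) hw), one_mul, br z hzE _ (hE2E hwx) w hw, br0 _ hwx z hzE, one_mul]
  have xez : q (x * ⁅e, z⁆ * x⁻¹) = q ⁅e, z⁆ := by
    rw [cdist, xe, xz, bl z hzE e he _ (mul_mem (hE2E hzx) hzE), br z hzE _ (hE2E hzx) z hzE,
      br e he _ (hE2E hzx) z hzE, br0 _ hzx z hzE, br0 _ hzx e he, commutatorElement_self, map_one, one_mul,
      one_mul, one_mul]
  have pwd : ∀ d ∈ E2, ∀ a ∈ E, q ((d * a) ^ p) = q (a ^ p) := fun d hd a ha => by
    rw [pw d (hE2E hd) a ha, map_pow, expo d hd, one_mul]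
  have xzp : q (x * z ^ p * x⁻¹) = q (z ^ p) := by rw [← conj_pow, xz, pwd _ hzx z hzE]
  have xwp : q (x * w ^ p * x⁻¹) = q (w ^ p) := by rw [← conj_pow, xw, pwd _ hwx w hw]
  have xep : q (x * e ^ p * x⁻¹) = q (z ^ p) * q (e ^ p) := by rw [← conj_pow, xe, pw z hzE e he]
  -- two steps suffice on `E2 / E3`
  set δ := ⁅x, z⁆ with hδd
  set ε := ⁅x, δ⁆ with hεd
  have hε : ε ∈ E2 := by rw [hεd, commutatorElement_def]; exact mul_mem (hE2n.conj_mem δ hzx x) (inv_mem hzx)
  have hεfix : q (x * ε * x⁻¹) = q ε := by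
    let Fx : Subgroup G :=
      { carrier := {a | a ∈ E2 ∧ q (x * a * x⁻¹) = q a}
        one_mem' := ⟨one_mem _, by simp⟩
        mul_mem' := fun {a b} ha hb => ⟨mul_mem ha.1 hb.1, by
          rw [show x * (a * b) * x⁻¹ = (x * a * x⁻¹) * (x * b * x⁻¹) by group, map_mul, ha.2, hb.2, map_mul]⟩
        inv_mem' := fun {a} ha => ⟨inv_mem ha.1, by
          rw [show x * a⁻¹ * x⁻¹ = (x * a * x⁻¹)⁻¹ by group, map_inv, ha.2, map_inv]⟩ }
    let G2 : Subgroup G :=
      { carrier := {a | a ∈ E2 ∧ ⁅x, a⁆ ∈ Fx}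
        one_mem' := ⟨one_mem _, by simp⟩
        mul_mem' := fun {a b} ha hb => ⟨mul_mem ha.1 hb.1, by
          refine ⟨mul_mem (hE2n.conj_mem _ (mul_mem ha.1 hb.1) x) (inv_mem (mul_mem ha.1 hb.1)), ?_⟩
          have e1 : q ⁅x, a * b⁆ = q ⁅x, a⁆ * q ⁅x, b⁆ := by
            rw [comm_mul_right, map_mul, map_mul, map_mul, map_inv, (cen _ hb.2.1 a (hE2E ha.1)).eq.symm,
              mul_inv_cancel_right]
          rw [show x * ⁅x, a * b⁆ * x⁻¹ = ⁅x, x * (a * b) * x⁻¹⁆ by simp only [commutatorElement_def]; group]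
          have e2 : q ⁅x, x * (a * b) * x⁻¹⁆ = q ⁅x, a⁆ * q ⁅x, b⁆ := by
            rw [show ⁅x, x * (a * b) * x⁻¹⁆ = (x * ⁅x, a⁆ * x⁻¹) * ((x * a * x⁻¹) * (x * ⁅x, b⁆ * x⁻¹) * (x * a * x⁻¹)⁻¹) by
                simp only [commutatorElement_def]; group,
              map_mul, map_mul q ((x * a * x⁻¹) * (x * ⁅x, b⁆ * x⁻¹)), map_mul q (x * a * x⁻¹) (x * ⁅x, b⁆ * x⁻¹),
              map_inv, ha.2.2, hb.2.2, (cen _ hb.2.1 _ (hE2E (hE2n.conj_mem a ha.1 x))).eq.symm,
              mul_inv_cancel_right]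
          rw [e2, e1]⟩
        inv_mem' := fun {a} ha => ⟨inv_mem ha.1, by
          refine ⟨mul_mem (hE2n.conj_mem _ (inv_mem ha.1) x) (inv_mem (inv_mem ha.1)), ?_⟩
          have e1 : q ⁅x, a⁻¹⁆ = (q ⁅x, a⁆)⁻¹ := by
            rw [show ⁅x, a⁻¹⁆ = a⁻¹ * ⁅x, a⁆⁻¹ * a by simp only [commutatorElement_def]; group, map_mul, map_mul,
              map_inv, map_inv, ((cen _ ha.2.1 a (hE2E ha.1)).inv_left.inv_right).eq.symm, inv_mul_cancel_right]
          rw [show x * ⁅x, a⁻¹⁆ * x⁻¹ = (x * a * x⁻¹)⁻¹ * (x * ⁅x, a⁆ * x⁻¹)⁻¹ * (x * a * x⁻¹) by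
              simp only [commutatorElement_def]; group, map_mul, map_mul, map_inv, map_inv, ha.2.2, e1,
            ((cen _ ha.2.1 _ (hE2E (hE2n.conj_mem a ha.1 x))).inv_left.inv_right).eq.symm, inv_mul_cancel_right]⟩ }
    have hFx3 : ∀ a ∈ E3, a ∈ Fx := fun a ha =>
      ⟨hE3E2 ha, by rw [(o _).2 ha, (o _).2 (hE3n.conj_mem a ha x)]⟩
    have hG3 : ∀ a ∈ E3, a ∈ G2 := fun a ha => ⟨hE3E2 ha, hFx3 _ (by
      rw [commutatorElement_def]; exact mul_mem (hE3n.conj_mem a ha x) (inv_mem ha))⟩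
    have hG2n : G2.Normal := by
      refine normalizer_eq_top_iff.1 (top_le_iff.1 (hgen.trans (sup_le ((closure_le _).2 ?_) fun g hg => ?_)))
      · rintro g hg
        rw [Set.mem_singleton_iff] at hg
        subst hg
        refine mem_normalizer_of_conj_le fun a ha => ⟨hE2n.conj_mem a ha.1 _, ?_⟩
        rw [show ⁅g, g * a * g⁻¹⁆ = g * ⁅g, a⁆ * g⁻¹ by simp only [commutatorElement_def]; group]
        refine ⟨hE2n.conj_mem _ ha.2.1 g, ?_⟩
        have h := ha.2.2
        rw [map_mul, map_mul, map_inv] at h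
        rw [map_mul, map_mul, map_inv, map_mul q, map_mul q, map_inv, h, h]
      · refine mem_normalizer_of_conj_le fun a ha => ?_
        rw [show g * a * g⁻¹ = ⁅g, a⁆ * a by simp [commutatorElement_def, mul_assoc]]
        exact mul_mem (hG3 _ ((o _).1 (br0 a ha.1 g hg))) ha
    have hof : ∀ {a b : G}, a ∈ E2 → b ∈ E2 → q (x * a * x⁻¹) = q b * q a → b ∈ Fx → a ∈ G2 := by
      intro a b ha hb h hbF
      refine ⟨ha, ?_⟩
      have hab : q ⁅x, a⁆ = q b := by rw [commutatorElement_def, map_mul, map_inv, h, mul_inv_cancel_right]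
      refine ⟨mul_mem (hE2n.conj_mem a ha x) (inv_mem ha), ?_⟩
      rw [hab, map_mul, map_mul, hab, ← map_mul, ← map_mul]
      exact hbF.2
    have f1 : ⁅e, z⁆ ∈ Fx := ⟨hEE e he z hzE, xez⟩
    have f2 : u' ∈ Fx := ⟨hu'e, xu'⟩
    have f3 : z ^ p ∈ Fx := ⟨hEp z hzE, xzp⟩
    have f4 : w ^ p ∈ Fx := ⟨hEp w hw, xwp⟩
    have g0 : ∀ a ∈ Fx, a ∈ G2 := fun a ha => hof ha.1 (one_mem _) (by rw [map_one, one_mul]; exact ha.2) (one_mem _)
    have hle : E2 ≤ G2 := by
      have hg : E ≤ closure (({e, z, w} : Set G) ∪ E2) ⊔ G2 := hEgen.trans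
        ((sup_le (Subgroup.closure_mono Set.subset_union_left)
          (fun a ha => subset_closure (Or.inr ha))).trans le_sup_left)
      have hcom : ∀ a ∈ (({e, z, w} : Set G) ∪ E2), ∀ b ∈ (({e, z, w} : Set G) ∪ E2), ⁅a, b⁆ ∈ G2 := by
        rintro a (ha | ha) b (hb | hb)
        · rcases ha with rfl | rfl | rfl <;> rcases hb with rfl | rfl | rfl
          · rw [commutatorElement_self]; exact one_mem _
          · exact g0 _ f1
          · exact hof hue hu'e xu f2
          · rw [← commutatorElement_inv]; exact inv_mem (g0 _ f1)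
          · rw [commutatorElement_self]; exact one_mem _
          · exact g0 _ f2
          · rw [← commutatorElement_inv]; exact inv_mem (hof hue hu'e xu f2)
          · rw [← commutatorElement_inv]; exact inv_mem (g0 _ f2)
          · rw [commutatorElement_self]; exact one_mem _
        · refine hG3 _ ((o _).1 (br0 b hb a ?_))
          rcases ha with rfl | rfl | rfl <;> assumption
        · refine hG3 _ ((o _).1 (bl0 a ha b ?_))
          rcases hb with rfl | rfl | rfl <;> assumption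
        · exact hG3 _ (hE23 a ha b (hE2E hb))
      refine hE2.le.trans (nextP_le_of_gens (s := ({e, z, w} : Set G) ∪ E2) (t := ({e, z, w} : Set G) ∪ E2)
        hg hg hcom hcom ?_)
      rintro a (ha | ha)
      · rcases ha with rfl | rfl | rfl
        exacts [hof (hEp _ he) (hEp _ hzE) xep f3, g0 _ f3, g0 _ f4]
      · exact hG3 _ (hE2p a ha)
    exact (hle hzx).2.2
  -- the `p`-th power of `z`
  have hzpk : q (z ^ p) = q u ^ (-k) := by
    have key : ∀ n : ℕ, q (x ^ n * e * (x ^ n)⁻¹) =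
        q z ^ n * q δ ^ (n.choose 2) * q ε ^ (n.choose 3) * q e := by
      intro n
      induction n with
      | zero => simp
      | succ n ih =>
        rw [pow_succ', show x * x ^ n * e * (x * x ^ n)⁻¹ = x * (x ^ n * e * (x ^ n)⁻¹) * x⁻¹ by group]
        have hc : ∀ a b : G, q (x * (a * b) * x⁻¹) = q (x * a * x⁻¹) * q (x * b * x⁻¹) := fun a b => by
          rw [← map_mul]; congr 1; group
        obtain ⟨a0, ha0⟩ : ∃ a0, a0 = z ^ n * δ ^ (n.choose 2) * ε ^ (n.choose 3) * e := ⟨_, rfl⟩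
        have h1 : q (x * (x ^ n * e * (x ^ n)⁻¹) * x⁻¹) = q (x * a0 * x⁻¹) := by
          rw [map_mul, map_mul, map_inv, ih, ha0, map_mul q (x * _), map_mul q x, map_inv]
          simp [map_mul, map_pow]
        rw [h1, ha0, hc, hc, hc, xe, ← conj_pow, ← conj_pow, ← conj_pow, map_pow, map_pow, map_pow, xz,
          hxconj δ, ← hεd, hεfix, map_mul, map_mul, map_mul]
        have c1 := cen _ hzx z hzE
        have c2 := cen _ hε z hzE
        have c3 := cen _ hε _ (hE2E hzx)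
        rw [c1.mul_pow, c3.mul_pow, Nat.choose_succ_succ', Nat.choose_one_right, Nat.choose_succ_succ' n 2,
          pow_succ, pow_add, pow_add]
        calc q δ ^ n * q z ^ n * (q ε ^ n.choose 2 * q δ ^ n.choose 2) * q ε ^ n.choose 3 * (q z * q e)
            = q δ ^ n * (q z ^ n * (q ε ^ n.choose 2 * q δ ^ n.choose 2 * q ε ^ n.choose 3 * q z)) * q e := by
              simp [mul_assoc]
          _ = q z ^ n * q z * (q δ ^ n * q δ ^ n.choose 2) * (q ε ^ n.choose 2 * q ε ^ n.choose 3) * q e := by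
              have d1 : Commute (q δ ^ n) (q z ^ n) := (c1.pow_left n).pow_right n
              have d2 : Commute (q ε ^ n.choose 2 * q δ ^ n.choose 2 * q ε ^ n.choose 3) (q z) :=
                ((c2.pow_left _).mul_left (c1.pow_left _)).mul_left (c2.pow_left _)
              have d3 : Commute (q ε ^ n.choose 2) (q δ ^ n.choose 2) := (c3.pow_left _).pow_right _
              have d4 : Commute (q δ ^ n) (q z) := c1.pow_left n
              rw [d2.eq, d3.eq]
              simp only [← mul_assoc]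
              rw [d1.eq, mul_assoc (q z ^ n), d4.eq, ← mul_assoc]
    obtain ⟨j2, hj2⟩ : p ∣ p.choose 2 := hpp.dvd_choose_self (by omega) (by omega)
    obtain ⟨j3, hj3⟩ : p ∣ p.choose 3 := hpp.dvd_choose_self (by omega) (by omega)
    have h1 := key p
    rw [hj2, hj3, pow_mul (q δ), pow_mul (q ε), expo δ hzx, expo ε hε, one_pow, one_pow, mul_one, mul_one,
      ← map_pow] at h1
    have hwk : w ^ k ∈ E := zpow_mem hw k
    rw [hh, hxpk, bl _ hwk d (hE2E hd) e he, bl0 d hd e he, mul_one] at h1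
    rw [← mul_right_cancel h1]
    let f : E →* G ⧸ E3 := MonoidHom.mk' (fun a => q ⁅(a : G), e⁆) fun a b => bl a a.2 b b.2 e he
    have h2 := map_zpow f ⟨w, hw⟩ k
    rw [show f (⟨w, hw⟩ ^ k) = q ⁅w ^ k, e⁆ from rfl, show f ⟨w, hw⟩ = q ⁅w, e⁆ from rfl] at h2
    rw [h2, hu, ← commutatorElement_inv, map_inv, inv_zpow, zpow_neg]
  have hcuu : Commute (q u') (q u) := cen u' hu'e u (hE2E hue)
  have hzp3 : z ^ p ∈ E3 := by
    refine (o _).1 ?_
    by_cases hu1 : u' ∈ E3
    · rw [hzpk, (o _).2 (hCz hu1), one_zpow]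
    have h1 := xzp
    rw [map_mul, map_mul, map_inv, hzpk] at h1
    have h2 : q x * q u ^ (-k) * (q x)⁻¹ = (q u' * q u) ^ (-k) := by
      rw [← xu, map_mul, map_mul, map_inv, conj_zpow]
    rw [h2, hcuu.mul_zpow, mul_eq_right] at h1
    by_cases hk : (p : ℤ) ∣ k
    · obtain ⟨j, rfl⟩ := hk
      rw [hzpk, ← mul_neg, zpow_mul, zpow_natCast, expo u hue, one_zpow]
    · exact absurd ((o _).1 (eq_one_of_zpow_two (expo u' hu'e) h1 fun h => hk ((Int.dvd_neg).1 h))) hu1
  have hep3 : e ^ p ∈ E3 := hPz hzp3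
  -- the rank
  set K := closure {⁅e, z⁆, w ^ p} ⊔ E3 with hK
  have hKE2 : K ≤ E2 := sup_le ((closure_le _).2 (by
    rintro _ (rfl | rfl)
    exacts [hEE e he z hzE, hEp w hw])) hE3E2
  have hKn : K.Normal := by
    refine normalizer_eq_top_iff.1 (top_le_iff.1 (hgen.trans (sup_le ((closure_le _).2 ?_) fun g hg => ?_)))
    · rintro g hg
      rw [Set.mem_singleton_iff] at hg
      rw [hg]
      refine mem_normalizer_of_conj_le fun a ha => ?_
      refine (show K ≤ K.comap (MulAut.conj x).toMonoidHom from sup_le ((closure_le _).2 ?_)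
        fun b hb => mem_sup_right (hE3n.conj_mem b hb x)) ha
      have hmem : ∀ {b : G}, b ∈ K → q (x * b * x⁻¹) = q b → x * b * x⁻¹ ∈ K := fun {b} hb h => by
        have h1 : b⁻¹ * (x * b * x⁻¹) ∈ E3 := (o _).1 (by rw [map_mul, map_inv, h, inv_mul_cancel])
        have := mul_mem hb (mem_sup_right (S := closure {⁅e, z⁆, w ^ p}) h1)
        rwa [mul_inv_cancel_left] at this
      rintro b (hb | hb)
      · show x * b * x⁻¹ ∈ K
        rw [hb]
        exact hmem (mem_sup_left (subset_closure (Or.inl rfl))) xez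
      · rw [Set.mem_singleton_iff] at hb
        show x * b * x⁻¹ ∈ K
        rw [hb]
        exact hmem (mem_sup_left (subset_closure (Or.inr rfl))) xwp
    · refine mem_normalizer_of_conj_le fun a ha => ?_
      rw [show g * a * g⁻¹ = ⁅g, a⁆ * a by simp [commutatorElement_def, mul_assoc]]
      exact mul_mem (mem_sup_right ((o _).1 (br0 a (hKE2 ha) g hg))) ha
  -- signs
  have hqq : ∀ {a b : G}, q a = q b → q (τ a) = q (τ b) := fun {a b} h => by
    have h1 : a⁻¹ * b ∈ E3 := (o _).1 (by rw [map_mul, map_inv, h, inv_mul_cancel])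
    have h2 := (o _).2 (hfE3 _ h1)
    rwa [map_mul, map_mul, map_inv, map_inv, inv_mul_eq_one] at h2
  obtain ⟨d0, hd0, hτz'⟩ : ∃ d0 ∈ E2, τ z = d0 * z⁻¹ := by
    refine ⟨τ z * z, ?_, by group⟩
    have := inv_mem hτz
    rw [_root_.mul_inv_rev, inv_inv, inv_inv] at this
    exact this
  have invl : ∀ a ∈ E, ∀ b ∈ E, q ⁅a⁻¹, b⁆ = (q ⁅a, b⁆)⁻¹ := fun a ha b hb => by
    refine eq_inv_of_mul_eq_one_left ?_
    rw [← bl _ (inv_mem ha) a ha b hb, inv_mul_cancel, commutatorElement_one_left, map_one]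
  have invr : ∀ a ∈ E, ∀ b ∈ E, q ⁅a, b⁻¹⁆ = (q ⁅a, b⁆)⁻¹ := fun a ha b hb => by
    rw [← commutatorElement_inv, map_inv, invl b hb a ha, ← commutatorElement_inv a b, map_inv, inv_inv]
  have τu : q (τ u) = (q u)⁻¹ := by rw [hu, map_commutatorElement, hτe, hτw, invl e he w hw]
  have τu' : q (τ u') = (q u')⁻¹ := by
    rw [hu', map_commutatorElement, hτw, hτz', bl _ (hE2E hd0) _ (inv_mem hzE) w hw, bl0 d0 hd0 w hw, one_mul,
      invl z hzE w hw]
  have hKfix : ∀ a ∈ K, q (τ a) = q a := by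
    let Fix : Subgroup G :=
      { carrier := {a | q (τ a) = q a}
        one_mem' := by simp
        mul_mem' := fun {a b} ha hb => by
          show q (τ (a * b)) = q (a * b)
          rw [map_mul, map_mul, ha, hb, map_mul]
        inv_mem' := fun {a} ha => by
          show q (τ a⁻¹) = q a⁻¹
          rw [map_inv, map_inv, ha, map_inv] }
    refine fun a ha => (show K ≤ Fix from sup_le ((closure_le _).2 ?_) fun b hb => ?_) ha
    · rintro b (hb | hb)
      · show q (τ b) = q b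
        rw [hb, map_commutatorElement, hτe, hτz', br _ (inv_mem he) _ (hE2E hd0) _ (inv_mem hzE),
          br0 _ hd0 _ (inv_mem he), one_mul, invl e he _ (inv_mem hzE), invr e he z hzE, inv_inv]
      · rw [Set.mem_singleton_iff] at hb
        show q (τ b) = q b
        rw [hb, map_pow τ, hτw]
    · show q (τ b) = q b
      rw [(o _).2 hb, (o _).2 (hfE3 b hb)]
  have hu'3 : u' ∈ E3 := by
    by_contra hu1
    have hu'K : u' ∉ K := fun h => hu1 ((o _).1 (eq_one_of_sq_eq_one hodd (expo u' hu'e) (by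
      have := hKfix u' h
      rw [τu'] at this
      exact inv_eq_iff_mul_eq_one.1 this)))
    have huK : u ∉ closure {u'} ⊔ K := by
      intro h
      obtain ⟨a, κ, hκ, hue'⟩ := exists_mul_of_mem_sup_closure h
      have h1 : q u = q u' ^ a * q κ := by rw [hue', map_mul, map_zpow]
      have h2 : (q u)⁻¹ = (q u')⁻¹ ^ a * q κ := by
        rw [← τu, hqq (show q u = q (u' ^ a * κ) by rw [h1, map_mul, map_zpow]), map_mul, map_mul, map_zpow,
          map_zpow, τu', hKfix κ hκ]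
      rw [h1, _root_.mul_inv_rev, inv_zpow] at h2
      have hc : Commute (q κ) (q u' ^ a) := (cen κ (hKE2 hκ) u' (hE2E hu'e)).zpow_right a
      rw [hc.inv_inv.eq] at h2
      have hκ1 : q κ = 1 := eq_one_of_sq_eq_one hodd (expo κ (hKE2 hκ))
        (inv_eq_iff_mul_eq_one.1 (mul_left_cancel h2))
      rw [hκ1, mul_one] at h1
      have h3 := xu
      rw [map_mul, map_mul, map_inv, h1, ← conj_zpow, ← map_inv, ← map_mul, ← map_mul, xu', right_eq_mul] at h3
      exact hu1 ((o _).1 h3)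
    have hA : closure {e, z} ⊔ E2 ≤ closure (({e, z} : Set G) ∪ E2) ⊔ K :=
      (sup_le (Subgroup.closure_mono Set.subset_union_left) (fun v hv => subset_closure (Or.inr hv))).trans le_sup_left
    have hcom : ∀ a ∈ (({e, z} : Set G) ∪ E2), ∀ b ∈ (({e, z} : Set G) ∪ E2), ⁅a, b⁆ ∈ K := by
      rintro a (ha | ha) b (hb | hb)
      · rcases ha with rfl | rfl <;> rcases hb with rfl | rfl
        · rw [commutatorElement_self]; exact one_mem _
        · exact mem_sup_left (subset_closure (Or.inl rfl))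
        · rw [← commutatorElement_inv]; exact inv_mem (mem_sup_left (subset_closure (Or.inl rfl)))
        · rw [commutatorElement_self]; exact one_mem _
      · rcases ha with rfl | rfl
        exacts [mem_sup_right ((o _).1 (br0 b hb _ he)), mem_sup_right ((o _).1 (br0 b hb _ hzE))]
      · rcases hb with rfl | rfl
        exacts [mem_sup_right ((o _).1 (bl0 a ha _ he)), mem_sup_right ((o _).1 (bl0 a ha _ hzE))]
      · exact mem_sup_right (hE23 a ha b (hE2E hb))
    refine false_of_rank_chain hG hr (k := 3) (K := K) (A := closure {e, z} ⊔ E2) (hKE2.trans le_sup_right)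
      (fun g _ v hv => hKn.conj_mem v hv g) ?_ ?_
      (fun i => match i with
        | 0 => K | 1 => closure {u'} ⊔ K | 2 => closure {u} ⊔ (closure {u'} ⊔ K)
        | 3 => closure {z} ⊔ (closure {u} ⊔ (closure {u'} ⊔ K))
        | _ => closure {e} ⊔ (closure {z} ⊔ (closure {u} ⊔ (closure {u'} ⊔ K)))) rfl ?_ ?_
    · exact comm_mem_of_gens hA hA hcom
    · refine pow_mem_of_gens hA hcom ?_
      rintro a ((rfl | rfl) | ha)
      exacts [mem_sup_right hep3, mem_sup_right hzp3, mem_sup_right (hE2p a ha)]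
    · intro i hi
      have a1 : closure {u'} ⊔ K ≤ E2 := sup_le ((closure_le _).2 (Set.singleton_subset_iff.2 hu'e)) hKE2
      have a2 : closure {u} ⊔ (closure {u'} ⊔ K) ≤ E2 := sup_le ((closure_le _).2 (Set.singleton_subset_iff.2 hue)) a1
      have a3 : closure {z} ⊔ (closure {u} ⊔ (closure {u'} ⊔ K)) ≤ closure {e, z} ⊔ E2 :=
        sup_le ((Subgroup.closure_mono (by simp)).trans le_sup_left) (a2.trans le_sup_right)
      rcases (show i = 0 ∨ i = 1 ∨ i = 2 ∨ i = 3 ∨ i = 4 by omega) with rfl | rfl | rfl | rfl | rfl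
      exacts [hKE2.trans le_sup_right, a1.trans le_sup_right, a2.trans le_sup_right, a3,
        sup_le ((Subgroup.closure_mono (by simp)).trans le_sup_left) a3]
    · intro i hi
      have a2 : closure {u} ⊔ (closure {u'} ⊔ K) ≤ E2 := sup_le ((closure_le _).2 (Set.singleton_subset_iff.2 hue))
        (sup_le ((closure_le _).2 (Set.singleton_subset_iff.2 hu'e)) hKE2)
      rcases (show i = 0 ∨ i = 1 ∨ i = 2 ∨ i = 3 by omega) with rfl | rfl | rfl | rfl
      exacts [lt_closure_sup hu'K, lt_closure_sup huK, lt_closure_sup (fun h => hz (a2 h)),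
        lt_closure_sup (fun h => he' (sup_le ((Subgroup.closure_mono (by simp)).trans le_sup_left)
          (a2.trans le_sup_right) h))]
  have hu3 : u ∈ E3 := hCz hu'3
  -- the series of `G`
  set P2 := nextP p (⊤ : Subgroup G) ⊤ with hP2
  set P3 := nextP p (⊤ : Subgroup G) P2 with hP3
  have hE2P2 : E2 ≤ P2 := hE2 ▸ nextP_mono le_top le_top
  have hE3P3 : E3 ≤ P3 := hE3 ▸ nextP_mono hE2P2 le_top
  have h32 : P3 ≤ P2 := nextP_le_self
  have hzP2 : z ∈ P2 := hz0 ▸ comm_mem_nextP (mem_top x) (mem_top e)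
  set C := closure {z, w} ⊔ E2 with hCdef
  have hCE : C ≤ E := sup_le ((closure_le _).2 (by rintro _ (rfl | rfl) <;> assumption)) hE2E
  have hCn : C.Normal := by
    refine hW2n C le_sup_right hCE fun a ha => ?_
    refine (show C ≤ C.comap (MulAut.conj x).toMonoidHom from sup_le ((closure_le _).2 ?_) fun b hb =>
      mem_sup_right (hE2n.conj_mem b hb x)) ha
    rintro b (hb | hb)
    · show x * b * x⁻¹ ∈ C
      rw [hb, xz]
      exact mul_mem (mem_sup_right hzx) (mem_sup_left (subset_closure (Or.inl rfl)))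
    · rw [Set.mem_singleton_iff] at hb
      show x * b * x⁻¹ ∈ C
      rw [hb, xw]
      exact mul_mem (mem_sup_right hwx) (mem_sup_left (subset_closure (Or.inr rfl)))
  have hGg : (⊤ : Subgroup G) ≤ closure ({x, e, w, z} ∪ (E2 : Set G)) := hgen.trans (sup_le
    (Subgroup.closure_mono (fun a ha => Or.inl (Or.inl ha))) (hEgen.trans (sup_le (Subgroup.closure_mono (by
      rintro a (rfl | rfl | rfl)
      exacts [Or.inl (Or.inr (Or.inl rfl)), Or.inl (Or.inr (Or.inr (Or.inr rfl))),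
        Or.inl (Or.inr (Or.inr (Or.inl rfl)))])) (fun a ha => subset_closure (Or.inr ha)))))
  have hconv : ∀ a, a ∈ E2 → ∀ b : G, ⁅a, b⁆ ∈ E2 := fun a ha b => by
    rw [commutatorElement_def, mul_assoc a b, mul_assoc a (b * a⁻¹)]
    exact mul_mem ha (hE2n.conj_mem _ (inv_mem ha) b)
  have hall : ∀ a ∈ ({x, e, w, z} : Set G) ∪ E2, ∀ b ∈ ({x, e, w, z} : Set G) ∪ E2,
      ⁅a, b⁆ ∈ closure {z} ⊔ E2 := by
    have hin : ∀ {a b}, a ∈ E → b ∈ E → ⁅a, b⁆ ∈ closure {z} ⊔ E2 := fun ha hb => mem_sup_right (hEE _ ha _ hb)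
    have hx1 : ∀ b, b = e ∨ b = w ∨ b = z → ⁅x, b⁆ ∈ closure {z} ⊔ E2 := by
      intro b hb
      rcases hb with hb | hb | hb <;> rw [hb]
      exacts [mem_sup_left (subset_closure hz0.symm), mem_sup_right hwx, mem_sup_right hzx]
    rintro a (ha | ha) b (hb | hb)
    · simp only [Set.mem_insert_iff, Set.mem_singleton_iff] at ha hb
      have hmemE : ∀ v, v = e ∨ v = w ∨ v = z → v ∈ E := by
        rintro v (rfl | rfl | rfl) <;> assumption
      rcases ha with ha | ha <;> rcases hb with hb | hb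
      · rw [ha, hb, commutatorElement_self]; exact one_mem _
      · rw [ha]; exact hx1 b hb
      · rw [hb, ← commutatorElement_inv]; exact inv_mem (hx1 a ha)
      · exact hin (hmemE a ha) (hmemE b hb)
    · rw [← commutatorElement_inv]; exact inv_mem (mem_sup_right (hconv b hb a))
    · exact mem_sup_right (hconv a ha b)
    · exact mem_sup_right (hconv a ha b)
  have hE2gen : E2 ≤ closure {w ^ p} ⊔ P3 := by
    have hW : (closure {w ^ p} ⊔ P3).Normal := normal_between (A := P2) le_sup_right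
      (sup_le ((closure_le _).2 (Set.singleton_subset_iff.2 (pow_mem_nextP (mem_top w)))) h32)
    have hg : E ≤ closure (({e, z, w} : Set G) ∪ E2) ⊔ (closure {w ^ p} ⊔ P3) := hEgen.trans
      ((sup_le (Subgroup.closure_mono Set.subset_union_left) (fun a ha => subset_closure (Or.inr ha))).trans
        le_sup_left)
    have hcom : ∀ a ∈ (({e, z, w} : Set G) ∪ E2), ∀ b ∈ (({e, z, w} : Set G) ∪ E2),
        ⁅a, b⁆ ∈ closure {w ^ p} ⊔ P3 := by
      rintro a (ha | ha) b (hb | hb)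
      · rcases ha with rfl | rfl | rfl <;> rcases hb with rfl | rfl | rfl
        · rw [commutatorElement_self]; exact one_mem _
        · exact mem_sup_right (comm_mem_nextP' hzP2 (mem_top _))
        · exact mem_sup_right (hE3P3 hu3)
        · exact mem_sup_right (comm_mem_nextP hzP2 (mem_top _))
        · rw [commutatorElement_self]; exact one_mem _
        · exact mem_sup_right (comm_mem_nextP hzP2 (mem_top _))
        · rw [← commutatorElement_inv]; exact inv_mem (mem_sup_right (hE3P3 hu3))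
        · exact mem_sup_right (comm_mem_nextP' hzP2 (mem_top _))
        · rw [commutatorElement_self]; exact one_mem _
      · exact mem_sup_right (comm_mem_nextP' (hE2P2 hb) (mem_top a))
      · exact mem_sup_right (comm_mem_nextP (hE2P2 ha) (mem_top b))
      · exact mem_sup_right (comm_mem_nextP (hE2P2 ha) (mem_top b))
    refine hE2.le.trans (nextP_le_of_gens hg hg hcom hcom ?_)
    rintro a (ha | ha)
    · rcases ha with rfl | rfl | rfl
      exacts [mem_sup_right (hE3P3 hep3), mem_sup_right (hE3P3 hzp3), mem_sup_left (subset_closure rfl)]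
    · exact mem_sup_right (hE3P3 (hE2p a ha))
  have hP2C : P2 ≤ C := by
    refine nextP_le_of_gens (K := C) (hGg.trans le_sup_left) (hGg.trans le_sup_left)
      (fun a ha b hb => ?_) (fun a ha b hb => ?_) ?_
    · exact sup_le ((Subgroup.closure_mono (by simp)).trans le_sup_left) le_sup_right (hall a ha b hb)
    · exact sup_le ((Subgroup.closure_mono (by simp)).trans le_sup_left) le_sup_right (hall a ha b hb)
    rintro a (ha | ha)
    · rcases ha with rfl | rfl | rfl | rfl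
      exacts [hxp, mem_sup_right (hEp _ he), mem_sup_right (hEp _ hw), mem_sup_right (hEp _ hzE)]
    · exact mem_sup_right (pow_mem ha p)
  have hP3E2 : P3 ≤ E2 := by
    refine nextP_le_of_gens (K := E2) (s := ({z, w} : Set G) ∪ E2) (t := ({x, e, w, z} : Set G) ∪ E2)
      (hP2C.trans ((sup_le (Subgroup.closure_mono Set.subset_union_left)
        (fun a ha => subset_closure (Or.inr ha))).trans le_sup_left)) (hGg.trans le_sup_left) ?_ ?_ ?_
    · rintro a (ha | ha) b (hb | hb)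
      · rcases ha with rfl | rfl <;> rcases hb with rfl | rfl | rfl | rfl
        all_goals first
          | exact hEE _ (by assumption) _ (by assumption)
          | (rw [← commutatorElement_inv]; exact inv_mem hzx)
          | (rw [← commutatorElement_inv]; exact inv_mem hwx)
      · rw [← commutatorElement_inv]; exact inv_mem (hconv b hb a)
      · exact hconv a ha b
      · exact hconv a ha b
    · rintro a (ha | ha) b (hb | hb)
      · rcases ha with rfl | rfl <;> rcases hb with rfl | rfl <;> exact hEE _ (by assumption) _ (by assumption)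
      · rw [← commutatorElement_inv]; exact inv_mem (hconv b hb a)
      · exact hconv a ha b
      · exact hconv a ha b
    · rintro a ((rfl | rfl) | ha)
      exacts [hEp _ hzE, hEp _ hw, pow_mem ha p]
  -- the quotient by `P3`
  set q3 := QuotientGroup.mk' P3 with hq3
  have o3 : ∀ a, q3 a = 1 ↔ a ∈ P3 := fun a => QuotientGroup.eq_one_iff a
  have cen3 : ∀ a ∈ P2, ∀ b, Commute (q3 a) (q3 b) := fun a ha b =>
    commutatorElement_eq_one_iff_mul_comm.1 (by
      rw [← map_commutatorElement]; exact (o3 _).2 (comm_mem_nextP ha (mem_top b)))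
  have pw3 : ∀ a b : G, q3 ((a * b) ^ p) = q3 (a ^ p) * q3 (b ^ p) := by
    intro a b
    rw [map_pow, map_pow, map_pow, map_mul]
    refine H24.mul_pow_prime_of_class_two hpp hp2 (mem_center_iff.2 fun g => ?_) ?_
    · obtain ⟨g, rfl⟩ := QuotientGroup.mk'_surjective P3 g
      rw [← map_commutatorElement]
      exact (cen3 _ (comm_mem_nextP (mem_top b) (mem_top a)) g).eq.symm
    · rw [← map_commutatorElement, ← map_pow]
      exact (o3 _).2 (pow_mem_nextP (comm_mem_nextP (mem_top b) (mem_top a)))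
  have b3l : ∀ a b c : G, q3 ⁅a * b, c⁆ = q3 ⁅a, c⁆ * q3 ⁅b, c⁆ := fun a b c => by
    have hc := cen3 _ (show ⁅b, c⁆ ∈ P2 from comm_mem_nextP (mem_top b) (mem_top c))
    rw [comm_mul_left, map_mul, map_mul, map_mul, map_inv, (hc a).eq.symm, mul_inv_cancel_right]
    exact (hc _).eq
  have hgen' : ∀ g : G, ∃ a ∈ E, ∃ b : ℤ, g = a * x ^ b := by
    intro g
    obtain ⟨v, hv, a, ha, hg⟩ := Subgroup.mem_sup_of_normal_right.1 (hgen (mem_top g))
    obtain ⟨b, rfl⟩ := Subgroup.mem_closure_singleton.1 hv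
    exact ⟨x ^ b * a * (x ^ b)⁻¹, ‹E.Normal›.conj_mem a ha _, b, by rw [← hg]; group⟩
  have hf2 : ∀ β : MulAut G, ∀ a ∈ P2, β a ∈ P2 := fun β a ha =>
    apply_mem_nextP β (fun _ _ => mem_top _) (fun _ _ => mem_top _) ha
  have hf3 : ∀ β : MulAut G, ∀ a ∈ P3, β a ∈ P3 := fun β a ha =>
    apply_mem_nextP β (hf2 β) (fun _ _ => mem_top _) ha
  have hmove : φ e ∈ E → φ w ∈ E → False := fun h1 h2 => by
    obtain ⟨a, ha, hna⟩ := hφE
    refine hna ((show E ≤ E.comap φ.toMonoidHom from hEgen.trans (sup_le ((closure_le _).2 ?_)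
      fun v hv => hCE (hP2C (hf2 φ v (hE2P2 hv))))) ha)
    rintro _ (rfl | rfl | rfl)
    exacts [h1, hCE (hP2C (hf2 φ _ hzP2)), h2]
  -- `x ^ p ∈ E2`
  have hwk : w ^ k ∈ E2 := by
    by_contra hwk
    have hpk : ¬ (p : ℤ) ∣ k := by
      rintro ⟨j, rfl⟩
      exact hwk (by rw [zpow_mul, zpow_natCast]; exact zpow_mem (hEp w hw) j)
    have hwP2 : w ∈ P2 := by
      obtain ⟨a, b, hab⟩ := (Prime.coprime_iff_not_dvd (Nat.prime_iff_prime_int.1 hpp)).2 hpk
      have h1 : w ^ k ∈ P2 := by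
        have := mul_mem (pow_mem_nextP (A := (⊤ : Subgroup G)) (B := (⊤ : Subgroup G)) (mem_top x) : x ^ p ∈ P2)
          (inv_mem (hE2P2 hd))
        rwa [hxpk, mul_inv_cancel_right] at this
      have h2 : w ^ (p : ℤ) ∈ P2 := by rw [zpow_natCast]; exact pow_mem_nextP (mem_top w)
      have h3 := mul_mem (zpow_mem h2 a) (zpow_mem h1 b)
      rwa [← zpow_mul, ← zpow_mul, ← zpow_add, mul_comm (p : ℤ), mul_comm k, hab, zpow_one] at h3
    have hepall : ∀ a ∈ E, a ^ p ∈ P3 := by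
      let Kp : Subgroup G :=
        { carrier := {a | q3 (a ^ p) = 1}
          one_mem' := by simp
          mul_mem' := fun {a b} ha hb => by show q3 ((a * b) ^ p) = 1; rw [pw3, ha, hb, one_mul]
          inv_mem' := fun {a} ha => by show q3 (a⁻¹ ^ p) = 1; rw [inv_pow, map_inv, ha, inv_one] }
      have : E ≤ Kp := hEgen.trans (sup_le ((closure_le _).2 (by
        rintro _ (rfl | rfl | rfl)
        exacts [(o3 _).2 (hE3P3 hep3), (o3 _).2 (hE3P3 hzp3), (o3 _).2 (pow_mem_nextP hwP2)]))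
        fun a ha => (o3 _).2 (hE3P3 (hE2p a ha)))
      exact fun a ha => (o3 _).1 (this ha)
    obtain ⟨a, ha, b, hab⟩ := hgen' (φ e)
    have hb : ¬ (p : ℤ) ∣ b := by
      rintro ⟨j, rfl⟩
      refine hmove ?_ (hCE (hP2C (hf2 φ w hwP2)))
      rw [hab, zpow_mul, zpow_natCast]
      exact mul_mem ha (zpow_mem (hCE hxp) j)
    have h1 : q3 (φ e ^ p) = q3 (x ^ p) ^ b := by
      rw [hab, pw3, (o3 _).2 (hepall a ha), one_mul, ← map_zpow]
      congr 1
      rw [← zpow_natCast, ← zpow_mul, mul_comm, zpow_mul, zpow_natCast]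
    rw [← map_pow, (o3 _).2 (hf3 φ _ (hE3P3 hep3))] at h1
    have h2 : q3 (x ^ p) = 1 := eq_one_of_zpow_two (by
      rw [← map_pow]; exact (o3 _).2 (pow_mem_nextP (pow_mem_nextP (mem_top x)))) h1.symm hb
    refine hwk ?_
    have := mul_mem (hP3E2 ((o3 _).1 h2)) (inv_mem hd)
    rwa [hxpk, mul_inv_cancel_right] at this
  have hxpE2 : x ^ p ∈ E2 := hxpk ▸ mul_mem hwk hd
  have hP2eq : P2 = closure {z} ⊔ E2 := by
    refine le_antisymm ?_ (sup_le ((closure_le _).2 (Set.singleton_subset_iff.2 hzP2)) hE2P2)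
    refine nextP_le_of_gens (hGg.trans le_sup_left) (hGg.trans le_sup_left) hall hall ?_
    rintro a (ha | ha)
    · rcases ha with rfl | rfl | rfl | rfl
      exacts [mem_sup_right hxpE2, mem_sup_right (hEp _ he), mem_sup_right (hEp _ hw), mem_sup_right (hEp _ hzE)]
    · exact mem_sup_right (pow_mem ha p)
  have hwP2 : w ∉ P2 := hP2eq ▸ hw'
  -- coordinates on the quotient by `P2`
  have hWP : (closure {w} ⊔ P2).Normal := normal_between (A := (⊤ : Subgroup G)) le_sup_right le_top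
  have hR : closure {w} ⊔ P2 ≤ C := sup_le ((Subgroup.closure_mono (by simp)).trans le_sup_left) hP2C
  have hEdec : ∀ a ∈ E, ∃ i j : ℤ, ∃ d ∈ P2, a = e ^ i * (w ^ j * d) := by
    intro a ha
    have hle : E ≤ closure {e} ⊔ (closure {w} ⊔ P2) := hEgen.trans (sup_le ((closure_le _).2 (by
      rintro _ (rfl | rfl | rfl)
      exacts [mem_sup_left (subset_closure rfl), mem_sup_right (mem_sup_right hzP2),
        mem_sup_right (mem_sup_left (subset_closure rfl))])) ((hE2P2.trans le_sup_right).trans le_sup_right))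
    obtain ⟨i, v, hv, rfl⟩ := exists_mul_of_mem_sup_closure (hle ha)
    obtain ⟨j, d, hd, rfl⟩ := exists_mul_of_mem_sup_closure hv
    exact ⟨i, j, d, hd, rfl⟩
  have hxw3 : ⁅x, w⁆ ∈ P3 := by
    by_contra hη
    set η := ⁅x, w⁆ with hηdef
    have hηP2 : η ∈ P2 := comm_mem_nextP (mem_top x) (mem_top w)
    have hz3 : z ∉ P3 := fun h => hz (hP3E2 h)
    have zl : ∀ (a c : G) (i : ℤ), q3 ⁅a ^ i, c⁆ = q3 ⁅a, c⁆ ^ i := fun a c i => by
      let f : G →* G ⧸ P3 := MonoidHom.mk' (fun v => q3 ⁅v, c⁆) fun v v' => b3l v v' c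
      exact map_zpow f a i
    have zr : ∀ (a c : G) (i : ℤ), q3 ⁅a, c ^ i⁆ = q3 ⁅a, c⁆ ^ i := fun a c i => by
      rw [← commutatorElement_inv (c ^ i) a, map_inv, zl, ← inv_zpow, ← map_inv, commutatorElement_inv]
    have b3r : ∀ a b c : G, q3 ⁅a, b * c⁆ = q3 ⁅a, b⁆ * q3 ⁅a, c⁆ := fun a b c => by
      rw [← commutatorElement_inv (b * c) a, map_inv, b3l, _root_.mul_inv_rev, ← map_inv, ← map_inv,
        commutatorElement_inv, commutatorElement_inv, (cen3 _ (comm_mem_nextP (mem_top a) (mem_top c)) _).eq]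
    have cd : ∀ d ∈ P2, ∀ v : G, q3 ⁅v, d⁆ = 1 ∧ q3 ⁅d, v⁆ = 1 := fun d hd v =>
      ⟨(o3 _).2 (comm_mem_nextP' hd (mem_top v)), (o3 _).2 (comm_mem_nextP hd (mem_top v))⟩
    -- commutation with `φ e` and `φ w`
    have hφuw : q3 ⁅φ e, φ w⁆ = 1 := by
      rw [← map_commutatorElement]; exact (o3 _).2 (hf3 φ _ (hE3P3 hu3))
    obtain ⟨ae, hae, be, hbe⟩ := hgen' (φ e)
    obtain ⟨aw, haw, bw, hbw⟩ := hgen' (φ w)
    obtain ⟨i, j, d1, hd1, rfl⟩ := hEdec ae hae
    obtain ⟨i', j', d2, hd2, rfl⟩ := hEdec aw haw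
    have hez : q3 ⁅e, x⁆ = (q3 z)⁻¹ := by rw [← commutatorElement_inv, ← hz0, map_inv]
    have hwx3 : q3 ⁅w, x⁆ = (q3 η)⁻¹ := by rw [← commutatorElement_inv, map_inv]
    have hew3 : q3 ⁅e, w⁆ = 1 := (o3 _).2 (hE3P3 hu3)
    have hwe3 : q3 ⁅w, e⁆ = 1 := by rw [← commutatorElement_inv, map_inv, ← hu, (o3 _).2 (hE3P3 hu3), inv_one]
    have hcomp : q3 z ^ (be * i' - i * bw) * q3 η ^ (be * j' - j * bw) = 1 := by
      rw [← hφuw, hbe, hbw]
      simp only [b3l, b3r, zl, zr, (cd d1 hd1 _).1, (cd d1 hd1 _).2, (cd d2 hd2 _).1, (cd d2 hd2 _).2, hez, hwx3,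
        hew3, hwe3, ← hz0, commutatorElement_self, map_one, one_zpow, mul_one, one_mul, inv_zpow', ← zpow_mul]
      have hcz : ∀ v : G ⧸ P3, Commute (q3 z) v := fun v => by
        obtain ⟨v, rfl⟩ := QuotientGroup.mk'_surjective P3 v
        exact cen3 z hzP2 v
      rw [show be * i' - i * bw = -i * bw + be * i' by ring, show be * j' - j * bw = -j * bw + be * j' by ring,
        zpow_add, zpow_add]
      simp only [mul_assoc, ← mul_assoc (q3 z ^ (be * i')), ((hcz _).zpow_left (be * i')).eq]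
      ring_nf
      rw [← hηdef, ((hcz (q3 η ^ (be * j'))).zpow_left (be * i')).eq]

    have hτ3 : q3 (τ z) = (q3 z)⁻¹ ∧ q3 (τ η) = q3 η := by
      constructor
      · rw [hz0, map_commutatorElement, hτx, hτe, ← zpow_neg_one e, zr, zpow_neg_one]
      · rw [hηdef, map_commutatorElement, hτx, hτw]
    have hcomp' : (q3 z)⁻¹ ^ (be * i' - i * bw) * q3 η ^ (be * j' - j * bw) = 1 := by
      have h1 : z ^ (be * i' - i * bw) * η ^ (be * j' - j * bw) ∈ P3 := (o3 _).1 (by
        rw [map_mul, map_zpow, map_zpow]; exact hcomp)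
      have h2 := (o3 _).2 (hf3 τ _ h1)
      rwa [map_mul, map_mul, map_zpow, map_zpow, map_zpow, map_zpow, hτ3.1, hτ3.2] at h2
    have hzexp : q3 z ^ p = 1 := by rw [← map_pow]; exact (o3 _).2 (pow_mem_nextP hzP2)
    have hηexp : q3 η ^ p = 1 := by rw [← map_pow]; exact (o3 _).2 (pow_mem_nextP hηP2)
    have hd1' : (p : ℤ) ∣ be * i' - i * bw := by
      by_contra hnd
      refine hz3 ((o3 _).1 (eq_one_of_zpow_two hzexp (eq_one_of_sq_eq_one hodd ?_ ?_) hnd))
      · rw [← zpow_natCast, ← zpow_mul, mul_comm, zpow_mul, zpow_natCast, hzexp, one_zpow]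
      · rw [← hcomp', inv_zpow] at hcomp
        have := mul_right_cancel hcomp
        rwa [eq_inv_iff_mul_eq_one] at this
    have hd2' : (p : ℤ) ∣ be * j' - j * bw := by
      by_contra hnd
      obtain ⟨t, ht⟩ := hd1'
      refine hη ((o3 _).1 (eq_one_of_zpow_two hηexp ?_ hnd))
      rwa [ht, zpow_mul, zpow_natCast, hzexp, one_zpow, one_mul] at hcomp
    have hb : ¬ (p : ℤ) ∣ be := by
      intro hbe0
      have hφeE : φ e ∈ E := by
        obtain ⟨t, rfl⟩ := hbe0
        rw [hbe, zpow_mul, zpow_natCast]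
        exact mul_mem hae (zpow_mem (hCE hxp) t)
      have hbw0 : ¬ (p : ℤ) ∣ bw := by
        rintro ⟨t, rfl⟩
        exact hmove hφeE (by rw [hbw, zpow_mul, zpow_natCast]; exact mul_mem haw (zpow_mem (hCE hxp) t))
      have hpr := Nat.prime_iff_prime_int.1 hpp
      obtain ⟨t, ht⟩ := hbe0
      have hi0 : (p : ℤ) ∣ i := by
        obtain ⟨c, hc⟩ := hd1'
        exact (hpr.dvd_mul.1 ⟨t * i' - c, by linear_combination -hc + i' * ht⟩ :
          (p : ℤ) ∣ i ∨ (p : ℤ) ∣ bw).resolve_right hbw0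
      have hj0 : (p : ℤ) ∣ j := by
        obtain ⟨c, hc⟩ := hd2'
        exact (hpr.dvd_mul.1 ⟨t * j' - c, by linear_combination -hc + j' * ht⟩ :
          (p : ℤ) ∣ j ∨ (p : ℤ) ∣ bw).resolve_right hbw0
      have hpow : ∀ (a : G) {n : ℤ}, (p : ℤ) ∣ n → a ^ n ∈ P2 := fun a {n} ⟨s, hs⟩ => by
        rw [hs, zpow_mul, zpow_natCast]; exact zpow_mem (pow_mem_nextP (mem_top a)) s
      have h1 : φ e ∈ P2 := hbe ▸ mul_mem (mul_mem (hpow e hi0) (mul_mem (hpow w hj0) hd1)) (hpow x ⟨t, ht⟩)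
      have h2 := hf2 φ.symm _ h1
      rw [MulEquiv.symm_apply_apply] at h2
      exact he' (hP2C h2)
    obtain ⟨u1, u2, hu12⟩ := (Prime.coprime_iff_not_dvd (Nat.prime_iff_prime_int.1 hpp)).2 hb
    -- then `φ w` is a power of `φ e` modulo `P2`
    set q2 := QuotientGroup.mk' P2 with hq2
    have o2 : ∀ a, q2 a = 1 ↔ a ∈ P2 := fun a => QuotientGroup.eq_one_iff a
    have com2 : ∀ a b : G, Commute (q2 a) (q2 b) := fun a b => commutatorElement_eq_one_iff_mul_comm.1 (by
      rw [← map_commutatorElement]; exact (o2 _).2 (comm_mem_nextP (mem_top a) (mem_top b)))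
    have ex2 : ∀ (a : G) (m n : ℤ), (p : ℤ) ∣ m - n → q2 a ^ m = q2 a ^ n := fun a m n ⟨t, ht⟩ => by
      rw [show m = n + (p : ℤ) * t by omega, zpow_add, zpow_mul, zpow_natCast, ← map_pow,
        (o2 _).2 (pow_mem_nextP (mem_top a)), one_zpow, mul_one]
    have hne : e ∉ closure {w} ⊔ P2 := fun h => he' (hR h)
    set t := bw * u2 with ht
    have hrel : q2 (φ w) = q2 (φ e) ^ t := by
      rw [hbe, hbw]
      simp only [map_mul, map_zpow, (o2 _).2 hd1, (o2 _).2 hd2, mul_one]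
      rw [((((com2 e x).zpow_zpow i be).mul_left ((com2 w x).zpow_zpow j be))).mul_zpow,
        ((com2 e w).zpow_zpow i j).mul_zpow, ← zpow_mul, ← zpow_mul, ← zpow_mul]
      obtain ⟨c1, hc1⟩ := hd1'
      obtain ⟨c2, hc2⟩ := hd2'
      rw [ex2 e i' (i * t) ⟨u1 * i' + c1 * u2, by rw [ht]; linear_combination -i' * hu12 + u2 * hc1⟩,
        ex2 w j' (j * t) ⟨u1 * j' + c2 * u2, by rw [ht]; linear_combination -j' * hu12 + u2 * hc2⟩,
        ex2 x bw (be * t) ⟨u1 * bw, by rw [ht]; linear_combination -bw * hu12⟩]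
    have h4 : w⁻¹ * e ^ t ∈ P2 := by
      have h5 : (φ w)⁻¹ * φ e ^ t ∈ P2 := (o2 _).1 (by rw [map_mul, map_inv, map_zpow, hrel, inv_mul_cancel])
      have h6 := hf2 φ.symm _ h5
      rwa [map_mul, map_inv, map_zpow, MulEquiv.symm_apply_apply, MulEquiv.symm_apply_apply] at h6
    by_cases htp : (p : ℤ) ∣ t
    · obtain ⟨s, hs⟩ := htp
      refine hwP2 ?_
      rw [hs, zpow_mul, zpow_natCast] at h4
      have := mul_mem (zpow_mem (pow_mem_nextP (A := (⊤ : Subgroup G)) (B := (⊤ : Subgroup G)) (mem_top e)) s)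
        (inv_mem h4)
      rwa [_root_.mul_inv_rev, inv_inv, mul_inv_cancel_left] at this
    · obtain ⟨a1, a2, ha12⟩ := (Prime.coprime_iff_not_dvd (Nat.prime_iff_prime_int.1 hpp)).2 htp
      refine hne ?_
      have h7 : e ^ t ∈ closure {w} ⊔ P2 := by
        have := mul_mem (mem_sup_left (T := P2) (subset_closure (Set.mem_singleton w)))
          (mem_sup_right (S := closure {w}) h4)
        rwa [mul_inv_cancel_left] at this
      have h8 : e ^ (p : ℤ) ∈ closure {w} ⊔ P2 := by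
        rw [zpow_natCast]; exact mem_sup_right (pow_mem_nextP (mem_top e))
      have h9 := mul_mem (zpow_mem h8 a1) (zpow_mem h7 a2)
      rwa [← zpow_mul, ← zpow_mul, ← zpow_add, mul_comm (p : ℤ), mul_comm t, ha12, zpow_one] at h9
  -- the radical
  have hRchar : ∀ g : G, g ∈ closure {w} ⊔ P2 ↔ ∀ h : G, ⁅g, h⁆ ∈ P3 := by
    have hwall : ∀ h : G, ⁅w, h⁆ ∈ P3 := by
      intro h
      refine comm_mem_of_gens (K := P3) (A := closure {w}) (B := ⊤) (s := {w}) (t := ({x, e, w, z} : Set G) ∪ E2)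
        le_sup_left (hGg.trans le_sup_left) ?_ w (subset_closure rfl) h (mem_top h)
      rintro a ha b (hb | hb)
      · rw [Set.mem_singleton_iff] at ha
        simp only [Set.mem_insert_iff, Set.mem_singleton_iff] at hb
        rcases hb with hb | hb | hb | hb <;> rw [ha, hb]
        · rw [← commutatorElement_inv]; exact inv_mem hxw3
        · rw [← commutatorElement_inv, ← hu]; exact inv_mem (hE3P3 hu3)
        · rw [commutatorElement_self]; exact one_mem _
        · exact comm_mem_nextP' hzP2 (mem_top _)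
      · exact comm_mem_nextP' (hE2P2 hb) (mem_top a)
    intro g
    refine ⟨fun hg h => ?_, fun hg => ?_⟩
    · refine comm_mem_of_gens (K := P3) (A := closure {w} ⊔ P2) (B := ⊤) (s := ({w} : Set G) ∪ P2) (t := Set.univ)
        ((sup_le (Subgroup.closure_mono Set.subset_union_left) (fun a ha => subset_closure (Or.inr ha))).trans
          le_sup_left) (fun a _ => mem_sup_left (subset_closure trivial)) ?_ g hg h (mem_top h)
      rintro a (ha | ha) b _
      · rw [Set.mem_singleton_iff] at ha; rw [ha]; exact hwall b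
      · exact comm_mem_nextP ha (mem_top b)
    · obtain ⟨a, ha, b, rfl⟩ := hgen' g
      obtain ⟨i, j, d0, hd0, rfl⟩ := hEdec a ha
      have hqw : ∀ v, q3 ⁅w, v⁆ = 1 := fun v => (o3 _).2 (hwall v)
      have hd0q : ∀ v, q3 ⁅d0, v⁆ = 1 := fun v => (o3 _).2 (comm_mem_nextP hd0 (mem_top v))
      have zl : ∀ (a c : G) (i : ℤ), q3 ⁅a ^ i, c⁆ = q3 ⁅a, c⁆ ^ i := fun a c i => by
        let f : G →* G ⧸ P3 := MonoidHom.mk' (fun v => q3 ⁅v, c⁆) fun v v' => b3l v v' c
        exact map_zpow f a i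
      have hdiv : ∀ {n : ℤ}, q3 z ^ n = 1 → (p : ℤ) ∣ n := fun {n} hn => by
        by_contra hnd
        refine hz (hP3E2 ((o3 _).1 (eq_one_of_zpow_two ?_ hn hnd)))
        rw [← map_pow]; exact (o3 _).2 (pow_mem_nextP hzP2)
      have h1 : q3 ⁅e ^ i * (w ^ j * d0) * x ^ b, x⁆ = 1 := (o3 _).2 (hg x)
      rw [b3l, b3l, b3l, zl, zl, zl, hqw, hd0q, commutatorElement_self, map_one, one_zpow, one_zpow, mul_one,
        mul_one, mul_one, ← commutatorElement_inv, map_inv, ← hz0, inv_zpow', ] at h1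
      have h2 : q3 ⁅e ^ i * (w ^ j * d0) * x ^ b, e⁆ = 1 := (o3 _).2 (hg e)
      rw [b3l, b3l, b3l, zl, zl, zl, hqw, hd0q, commutatorElement_self, map_one, one_zpow, one_zpow, one_mul,
        one_mul, one_mul, ← hz0] at h2
      obtain ⟨t, ht⟩ := hdiv h1
      obtain ⟨s, rfl⟩ := hdiv h2
      refine mul_mem (mul_mem ?_ (mul_mem (mem_sup_left (zpow_mem (subset_closure (Set.mem_singleton w)) j))
        (mem_sup_right hd0))) ?_
      · rw [show i = (p : ℤ) * -t by linarith, zpow_mul, zpow_natCast]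
        exact mem_sup_right (zpow_mem (pow_mem_nextP (mem_top e)) _)
      · rw [zpow_mul, zpow_natCast]
        exact mem_sup_right (zpow_mem (pow_mem_nextP (mem_top x)) _)
  have hrinv : ∀ β : MulAut G, ∀ a ∈ closure {w} ⊔ P2, β a ∈ closure {w} ⊔ P2 := fun β a ha => by
    rw [hRchar] at ha ⊢
    intro h
    obtain ⟨v, rfl⟩ := β.surjective h
    rw [← map_commutatorElement]
    exact hf3 β _ (ha v)
  refine ⟨hxpE2, hxw3, hEE e he w hw, hP2eq, fun β a ha => ?_, hrinv⟩
  obtain ⟨i, v, hv, rfl⟩ := exists_mul_of_mem_sup_closure (hE2gen ha)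
  rw [map_mul, map_zpow, map_pow]
  refine mul_mem (zpow_mem ?_ i) (hP3E2 (hf3 β v hv))
  obtain ⟨j, d0, hd0, hj⟩ := exists_mul_of_mem_sup_closure (hrinv β w (mem_sup_left (subset_closure rfl)))
  rw [hj]
  have h1 : q3 ((w ^ j * d0) ^ p) = q3 ((w ^ p) ^ j) := by
    rw [pw3, (o3 _).2 (pow_mem_nextP hd0), mul_one]
    congr 1
    rw [← zpow_natCast, ← zpow_mul, mul_comm, zpow_mul, zpow_natCast]
  have h2 : ((w ^ p) ^ j)⁻¹ * (w ^ j * d0) ^ p ∈ P3 := (o3 _).1 (by rw [map_mul, map_inv, h1, inv_mul_cancel])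
  have h3 := mul_mem (zpow_mem (hEp w hw) j) (hP3E2 h2)
  rwa [mul_inv_cancel_left] at h3

end Cfsg.Agent.H95
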