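import Cfsg.Agent.H96.Transfer
import Cfsg.Agent.H94.SatBasic
import Mathlib.GroupTheory.PGroup

/-!
Thompson transfer for saturated fusion systems on 2-groups, through the transfer of a characteristic biset.
-/
set_option autoImplicit false

namespace Cfsg.Agent.H95

open Cfsg
open H96 (Pts RightOrbits sel cls sel_spec Supp StableFrom eq_one_of_right_fixed ratio_eq transferHom
  transferHom_apply transferHom_map twist isTw_stabilizer)

variable {Ω : Type*} [Group Ω] {S : Subgroup Ω} {a : Subgroup (S × S) → ℕ}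

theorem cls_right (v : S) (x : Pts a) : cls ((((1 : S), v) : S × S) • x) = cls x :=
  Quotient.sound ⟨v, rfl⟩

theorem cls_sel (t : RightOrbits a) : cls (sel t) = t := Quotient.out_eq t

/-- Left translations on the orbits of right translations. -/
noncomputable def orbitAction (a : Subgroup (S × S) → ℕ) : MulAction S (RightOrbits a) where
  smul u t := cls (((u, (1 : S)) : S × S) • sel t)
  one_smul t := by
    show cls ((((1 : S), (1 : S)) : S × S) • sel t) = t
    rw [Prod.mk_one_one, one_smul, cls_sel]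
  mul_smul u w t := by
    show cls (((u * w, (1 : S)) : S × S) • sel t) = cls (((u, (1 : S)) : S × S) • sel (cls (((w, (1 : S)) : S × S) • sel t)))
    obtain ⟨v, hv⟩ := sel_spec (((w, (1 : S)) : S × S) • sel t)
    generalize sel (cls (((w, (1 : S)) : S × S) • sel t)) = y at hv ⊢
    rw [show ((u * w, (1 : S)) : S × S) = (u, 1) * (w, 1) by simp, mul_smul, hv, smul_smul,
      show ((u, (1 : S)) : S × S) * (1, v) = (1, v) * (u, 1) by simp, mul_smul, cls_right]

/-- Pairs of elements related by a stabilizer are conjugate. -/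
theorem isConjElt_of_fix [Finite S] {F : FusionSystem S} (ha : Supp F a) {u v : S} {x : Pts a}
    (h : ((u, v) : S × S) • x = x) : F.IsConjElt (v : Ω) (u : Ω) := by
  obtain ⟨R, θ, hθ, hR⟩ := isTw_stabilizer ha x
  obtain ⟨hv, hv'⟩ : ((u, v) : S × S) ∈ (twist θ : Subgroup (S × S)) :=
    hR ▸ MulAction.mem_stabilizer_iff.2 h
  exact ⟨H96.res θ (Subgroup.zpowers_le.2 hv), H96.res_mem F hθ _, hv'⟩

theorem eq_one_of_left_fixed [Finite S] {F : FusionSystem S} (ha : Supp F a) {u : S} {x : Pts a}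
    (h : ((u, (1 : S)) : S × S) • x = x) : u = 1 := by
  obtain ⟨R, θ, hθ, hR⟩ := isTw_stabilizer ha x
  obtain ⟨hv, hv'⟩ : ((u, (1 : S)) : S × S) ∈ (twist θ : Subgroup (S × S)) :=
    hR ▸ MulAction.mem_stabilizer_iff.2 h
  refine Subtype.ext (hv'.symm.trans ?_)
  rw [show (⟨((1 : S) : Ω), hv⟩ : R) = 1 from rfl, map_one]
  rfl

theorem isConjElt_trans {F : FusionSystem S} {x y w : Ω} (h1 : F.IsConjElt x y) (h2 : F.IsConjElt y w) :
    F.IsConjElt x w := by
  obtain ⟨φ, hφ, rfl⟩ := h1
  obtain ⟨ψ, hψ, rfl⟩ := h2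
  have hv : ∀ u : Subgroup.zpowers x, φ u ∈ Subgroup.zpowers (φ ⟨x, Subgroup.mem_zpowers x⟩) := by
    intro u
    obtain ⟨i, hi⟩ := Subgroup.mem_zpowers_iff.1 u.2
    have hu : u = (⟨x, Subgroup.mem_zpowers x⟩ : Subgroup.zpowers x) ^ i := Subtype.ext (by simpa using hi.symm)
    exact Subgroup.mem_zpowers_iff.2 ⟨i, by rw [← map_zpow, ← hu]⟩
  exact ⟨_, F.comp_mem hφ hψ hv, rfl⟩

theorem isConjElt_symm {F : FusionSystem S} {x y : Ω} (h : F.IsConjElt x y) : F.IsConjElt y x := by
  obtain ⟨φ, hφ, rfl⟩ := h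
  obtain ⟨ψ, hψ, hψe⟩ := F.inv_mem hφ
  exact ⟨H96.res ψ (Subgroup.zpowers_le.2 ⟨_, rfl⟩), H96.res_mem F hψ _, hψe ⟨x, Subgroup.mem_zpowers x⟩⟩

theorem isConj_of_isConjElt {F : FusionSystem S} {x y : Ω} (h : F.IsConjElt x y) :
    F.IsConj (Subgroup.zpowers x) (Subgroup.zpowers y) := by
  obtain ⟨φ, hφ, rfl⟩ := h
  refine ⟨φ, hφ, le_antisymm ?_ (Subgroup.zpowers_le.2 ⟨_, rfl⟩)⟩
  rintro _ ⟨u, rfl⟩
  obtain ⟨i, hi⟩ := Subgroup.mem_zpowers_iff.1 u.2
  have hu : u = (⟨x, Subgroup.mem_zpowers x⟩ : Subgroup.zpowers x) ^ i := Subtype.ext (by simpa using hi.symm)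
  exact Subgroup.mem_zpowers_iff.2 ⟨i, by rw [← map_zpow, ← hu]⟩

variable [Finite S]

/-- Transfer of the parity modulo a subgroup of index two is nontrivial at a fully normalized involution
all whose conjugates inside the subgroup are not fully normalized. -/
theorem transfer_ne_one {F : FusionSystem S} (hS : IsPGroup 2 S) (ha : Supp F a) {n : ℕ} (hn : ¬ 2 ∣ n)
    (hcard : Nat.card (Pts a) = Nat.card S * n) {f : S →* ℤˣ} {ρ : Pts a → ℤˣ}
    (hρ : ∀ (v : S) (x : Pts a), ρ ((((1 : S), v) : S × S) • x) = f v * ρ x) {i : S} (hi : i * i = 1)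
    (hi1 : i ≠ 1) (hfn : F.IsFullyNormalized (Subgroup.zpowers (i : Ω)))
    (hkey : ∀ v : S, F.IsConjElt (v : Ω) (i : Ω) → f v = 1 →
      ¬ F.IsFullyNormalized (Subgroup.zpowers (v : Ω))) : transferHom hρ i ≠ 1 := by
  classical
  letI := orbitAction a
  letI := Fintype.ofFinite (RightOrbits a)
  have hcls : ∀ (u : S) (x : Pts a), u • cls x = cls (((u, (1 : S)) : S × S) • x) := by
    intro u x
    show cls (((u, (1 : S)) : S × S) • sel (cls x)) = _
    obtain ⟨v, hv⟩ := sel_spec x
    generalize sel (cls x) = y at hv ⊢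
    rw [hv, smul_smul, show ((u, (1 : S)) : S × S) * (1, v) = (1, v) * (u, 1) by simp, mul_smul, cls_right]
  have hnT : Nat.card (RightOrbits a) = n :=
    Nat.eq_of_mul_eq_mul_left Nat.card_pos ((H96.card_pts_eq ha).symm.trans hcard)
  let r : RightOrbits a → ℤˣ := fun t => ρ (((i, (1 : S)) : S × S) • sel t) / ρ (sel t)
  have hr : ∀ x : Pts a, r (cls x) = ρ (((i, (1 : S)) : S × S) • x) / ρ x := fun x =>
    (ratio_eq hρ (g := fun y => ((i, (1 : S)) : S × S) • y) (fun v y => by
      show _ • _ • y = _ • _ • y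
      rw [smul_smul, smul_smul]; simp) x).symm
  have hpair : ∀ t, r t * r (i • t) = 1 := by
    intro t
    conv_lhs => rw [← cls_sel t]
    rw [hr, hcls, hr, smul_smul, show ((i, (1 : S)) : S × S) * (i, 1) = 1 by simp [hi], one_smul]
    exact div_mul_div_cancel _ _ _ |>.trans (div_self' _)
  -- fixed orbits come with a partner
  have hfixed : ∀ t, i • t = t → ∃ v : S, ((i, v) : S × S) • sel t = sel t ∧ r t = (f v)⁻¹ := by
    intro t ht
    obtain ⟨w, hw⟩ := sel_spec (((i, (1 : S)) : S × S) • sel t)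
    rw [show cls (((i, (1 : S)) : S × S) • sel t) = t from ht] at hw
    refine ⟨w⁻¹, ?_, ?_⟩
    · rw [show ((i, w⁻¹) : S × S) = (1, w⁻¹) * (i, 1) by simp, mul_smul, hw, smul_smul]
      simp [Prod.mk_one_one]
    · show ρ _ / ρ _ = _
      rw [hw, hρ, map_inv, inv_inv, mul_div_cancel_right]
  set C := (Subgroup.centralizer ({i} : Set S)) with hC
  let W : Set (RightOrbits a) := {t | i • t = t ∧ r t = 1}
  have hWinv : ∀ (c : C) (t : RightOrbits a), t ∈ W → (c : S) • t ∈ W := by
    rintro ⟨c, hc⟩ t ⟨ht, ht1⟩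
    have hci : c * i = i * c := Subgroup.mem_centralizer_singleton_iff.1 hc
    refine ⟨by rw [smul_smul, ← hci, mul_smul, ht], ?_⟩
    obtain ⟨v, hv, hrv⟩ := hfixed t ht
    rw [show c • t = cls (((c, (1 : S)) : S × S) • sel t) from rfl, hr]
    have h1 : ((i, (1 : S)) : S × S) • ((c, (1 : S)) : S × S) • sel t =
        (((1 : S), v⁻¹) : S × S) • ((c, (1 : S)) : S × S) • sel t := by
      conv_rhs => rw [← hv]
      rw [smul_smul, smul_smul, smul_smul]
      simp [hci]
    rw [h1, hρ, mul_div_cancel_right, map_inv, ← hrv, ht1]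
  let actW : MulAction C W :=
    { smul := fun c t => ⟨(c : S) • t.1, hWinv c t t.2⟩
      one_smul := fun t => Subtype.ext (one_smul S t.1)
      mul_smul := fun c d t => Subtype.ext (mul_smul (c : S) (d : S) t.1) }
  have hWeven : 2 ∣ Nat.card W := by
    letI := actW
    refine Nat.modEq_zero_iff_dvd.1 ((hS.to_subgroup C).card_modEq_card_fixedPoints W |>.trans ?_)
    rw [Nat.card_eq_zero.2 (Or.inl ⟨?_⟩)]
    rintro ⟨⟨t, ht, ht1⟩, hfix⟩
    obtain ⟨v, hv, hrv⟩ := hfixed t ht
    have hfv : f v = 1 := by rwa [ht1, eq_comm, inv_eq_one] at hrv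
    have hvi : F.IsConjElt (v : Ω) (i : Ω) := isConjElt_of_fix ha hv
    -- the centralizer of `i` embeds into that of `v`
    have hw : ∀ c : C, ∃ w : S, (((c : S), w) : S × S) • sel t = sel t := by
      intro c
      obtain ⟨w, hw⟩ := sel_spec ((((c : S), (1 : S)) : S × S) • sel t)
      have e : cls ((((c : S), (1 : S)) : S × S) • sel t) = t :=
        show (c : S) • t = t from congrArg Subtype.val (hfix c :)
      rw [e] at hw
      exact ⟨w⁻¹, by
        rw [show (((c : S), w⁻¹) : S × S) = (1, w⁻¹) * ((c : S), 1) by simp, mul_smul, hw, smul_smul]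
        simp [Prod.mk_one_one]⟩
    choose w hw using hw
    have hwv : ∀ c : C, w c * v = v * w c := by
      intro c
      have hci : (c : S) * i = i * c := Subgroup.mem_centralizer_singleton_iff.1 c.2
      have h1 : (((1 : S), (w c)⁻¹ * v⁻¹ * w c * v) : S × S) • sel t = sel t := by
        have : (((c : S), w c) : S × S)⁻¹ * (i, v)⁻¹ * ((c : S), w c) * (i, v) =
            ((1 : S), (w c)⁻¹ * v⁻¹ * w c * v) := by
          refine Prod.ext ?_ rfl
          show (c : S)⁻¹ * i⁻¹ * c * i = 1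
          rw [mul_assoc _ (c : S) i, hci]; group
        rw [← this]
        exact MulAction.mem_stabilizer_iff.1 (mul_mem (mul_mem (mul_mem (inv_mem (hw c)) (inv_mem hv)) (hw c)) hv :
          (((c : S), w c) : S × S)⁻¹ * (i, v)⁻¹ * ((c : S), w c) * (i, v) ∈ MulAction.stabilizer _ (sel t))
      have h2 := eq_one_of_right_fixed ha h1
      rw [mul_assoc, ← mul_inv_rev, inv_mul_eq_one] at h2
      exact h2.symm
    have hinj : Function.Injective (fun c : C => (⟨w c, Subgroup.mem_centralizer_singleton_iff.2 (hwv c)⟩ :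
        Subgroup.centralizer ({v} : Set S))) := by
      intro c d hcd
      have hcd' : w c = w d := congrArg Subtype.val hcd
      have h1 : (((c : S)⁻¹ * (d : S), (1 : S)) : S × S) • sel t = sel t := by
        have : (((c : S), w c) : S × S)⁻¹ * ((d : S), w d) = ((c : S)⁻¹ * d, 1) := by
          rw [hcd']; simp
        rw [← this]
        exact MulAction.mem_stabilizer_iff.1 (mul_mem (inv_mem (hw c)) (hw d) :
          (((c : S), w c) : S × S)⁻¹ * ((d : S), w d) ∈ MulAction.stabilizer _ (sel t))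
      exact Subtype.ext (inv_mul_eq_one.1 (eq_one_of_left_fixed ha h1))
    have hle : Nat.card C ≤ Nat.card (Subgroup.centralizer ({v} : Set S)) :=
      Nat.card_le_card_of_injective _ hinj
    -- centralizers are normalizers of subgroups of order two
    have hN : ∀ u : S, u * u = 1 → u ≠ 1 →
        Nat.card (FusionSystem.normalizerIn S (Subgroup.zpowers (u : Ω))) =
          Nat.card (Subgroup.centralizer ({u} : Set S)) := by
      intro u hu hu1
      have e : FusionSystem.normalizerIn S (Subgroup.zpowers (u : Ω)) =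
          (Subgroup.centralizer ({u} : Set S)).map S.subtype := by
        ext g
        constructor
        · rintro ⟨hg, hgn⟩
          refine ⟨⟨g, hg⟩, Subgroup.mem_centralizer_singleton_iff.2 ?_, rfl⟩
          have h1 := (Subgroup.mem_normalizer_iff.1 hgn _).1 (Subgroup.mem_zpowers (u : Ω))
          obtain ⟨k, hk⟩ := h1
          have hk' : (u : S) ^ k = ⟨g, hg⟩ * u * ⟨g, hg⟩⁻¹ := Subtype.ext (by simpa using hk)
          have hu2 : (u : S) ^ (2 : ℤ) = 1 := by rw [zpow_ofNat, pow_two, hu]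
          rcases Int.even_or_odd k with ⟨l, hl⟩ | ⟨l, hl⟩
          · rw [hl, ← two_mul, zpow_mul, hu2, one_zpow, eq_comm, conj_eq_one_iff] at hk'
            exact absurd hk' hu1
          · rw [hl, zpow_add, zpow_mul, hu2, one_zpow, one_mul, zpow_one, eq_mul_inv_iff_mul_eq] at hk'
            exact hk'.symm
        · rintro ⟨⟨g', hg⟩, hgc, rfl⟩
          refine ⟨hg, Subgroup.mem_normalizer_iff.2 fun y => ?_⟩
          have hgu : g' * (u : Ω) = (u : Ω) * g' :=
            congrArg Subtype.val (Subgroup.mem_centralizer_singleton_iff.1 hgc)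
          have hall : ∀ k : ℤ, g' * (u : Ω) ^ k * g'⁻¹ = (u : Ω) ^ k := fun k => by
            rw [((show Commute g' (u : Ω) from hgu).zpow_right k).eq, mul_inv_cancel_right]
          constructor
          · rintro ⟨k, rfl⟩; exact ⟨k, (hall k).symm⟩
          · rintro ⟨k, hk⟩
            refine ⟨k, ?_⟩
            have h2 : g' * y * g'⁻¹ = g' * (u : Ω) ^ k * g'⁻¹ := hk.symm.trans (hall k).symm
            exact (mul_left_cancel (mul_right_cancel h2)).symm
      rw [e, Subgroup.card_map_of_injective S.subtype_injective]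
    have hv2 : v * v = 1 := by
      have h1 : (((1 : S), v * v) : S × S) • sel t = sel t := by
        rw [show (((1 : S), v * v) : S × S) = (i, v) * (i, v) by simp [hi], mul_smul, hv, hv]
      exact eq_one_of_right_fixed ha h1
    have hv1 : v ≠ 1 := by
      rintro rfl
      exact hi1 (eq_one_of_left_fixed ha hv)
    refine hkey v hvi hfv ⟨Subgroup.zpowers_le.2 v.2, fun Q hQ => ?_⟩
    refine (hfn.2 Q (H96.isConj_trans (isConj_of_isConjElt (isConjElt_symm hvi)) hQ)).trans ?_
    rw [hN i hi hi1, hN v hv2 hv1]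
    exact hle
  -- the number of fixed orbits is odd
  let Fx : Finset (RightOrbits a) := Finset.univ.filter fun t => i • t = t
  have hFx : ¬ 2 ∣ Fx.card := by
    have hp : IsPGroup 2 (Subgroup.zpowers i) := hS.to_subgroup _
    have h1 := hp.card_modEq_card_fixedPoints (RightOrbits a)
    rw [hnT] at h1
    have h2 : Nat.card (MulAction.fixedPoints (Subgroup.zpowers i) (RightOrbits a)) = Fx.card := by
      rw [← Nat.card_eq_finsetCard]
      refine Nat.card_congr (Equiv.subtypeEquivRight fun t => ?_)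
      simp only [MulAction.mem_fixedPoints, Fx, Finset.mem_filter, Finset.mem_univ, true_and]
      refine ⟨fun h => h ⟨i, Subgroup.mem_zpowers i⟩, fun h g => ?_⟩
      have : (g : S) ∈ MulAction.stabilizer S t := (Subgroup.zpowers_le.2 h) g.2
      exact this
    rw [h2] at h1
    exact fun h => hn (Nat.modEq_zero_iff_dvd.1 (h1.trans (Nat.modEq_zero_iff_dvd.2 h)))
  have hbad : ∀ t ∈ Fx.filter (fun t => ¬ r t = 1), r t = -1 := fun t ht =>
    (Int.units_eq_one_or (r t)).resolve_left (Finset.mem_filter.1 ht).2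
  have hodd : ¬ 2 ∣ (Fx.filter fun t => ¬ r t = 1).card := by
    have h1 := Finset.card_filter_add_card_filter_not (s := Fx) (p := fun t => r t = 1)
    have h2 : (Fx.filter fun t => r t = 1).card = Nat.card W := by
      rw [← Nat.card_eq_finsetCard]
      exact Nat.card_congr (Equiv.subtypeEquivRight fun t => by simp [Fx, W])
    omega
  have hrest : ∏ t ∈ Finset.univ.filter (fun t => ¬ i • t = t), r t = 1 := by
    refine Finset.prod_involution (fun t _ => i • t) (fun t _ => hpair t)
      (fun t ht _ => (Finset.mem_filter.1 ht).2) (fun t ht => ?_) (fun t _ => ?_)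
    · refine Finset.mem_filter.2 ⟨Finset.mem_univ _, fun h => (Finset.mem_filter.1 ht).2 ?_⟩
      exact smul_left_cancel i h
    · rw [smul_smul, hi, one_smul]
  rw [transferHom_apply, ← Finset.prod_filter_mul_prod_filter_not (Finset.univ : Finset (RightOrbits a))
    (fun t => i • t = t) r, hrest, mul_one, ← Finset.prod_filter_mul_prod_filter_not Fx (fun t => r t = 1) r,
    Finset.prod_eq_one (fun t ht => (Finset.mem_filter.1 ht).2), one_mul, Finset.prod_congr rfl hbad,
    Finset.prod_const]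
  rw [(Nat.odd_iff.2 (by omega) : Odd (Fx.filter fun t => ¬ r t = 1).card).neg_one_pow]
  decide

/-- Thompson transfer for saturated systems on 2-groups. -/
theorem not_mem_hyperfocal {F : FusionSystem S} (hS : IsPGroup 2 S) (hF : F.IsSaturated 2) {T : Subgroup Ω}
    (hT : T.relIndex S = 2) {i : Ω} (hi : i ∈ S) (hi2 : orderOf i = 2)
    (h : ∀ j : Ω, F.IsConjElt i j → F.IsFullyNormalized (Subgroup.zpowers j) → j ∉ T) :
    i ∉ F.hyperfocalSubgroup 2 := by
  classical
  obtain ⟨a, n, ha, hst, hn, hcard⟩ := H96.exists_char_biset hS hF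
  have hidx : (T.subgroupOf S).index = 2 := hT
  let f : S →* ℤˣ := MonoidHom.mk' (fun u => if (u : Ω) ∈ T then 1 else -1) (fun u v => by
    have h1 := Subgroup.mul_mem_iff_of_index_two hidx (a := u) (b := v)
    simp only [Subgroup.mem_subgroupOf] at h1
    rw [Subgroup.coe_mul] at h1
    by_cases hu : (u : Ω) ∈ T <;> by_cases hv : (v : Ω) ∈ T <;> simp [hu, hv, h1])
  letI : MulAction S ℤˣ := MulAction.compHom ℤˣ f
  obtain ⟨ρ, hρ⟩ := H96.exists_equivariant (X := H96.Pull (MonoidHom.inr S S) (Pts a)) (Y := ℤˣ) (L := S)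
    fun x => ⟨1, fun v hv => by rw [eq_one_of_right_fixed ha (x := (x : Pts a)) hv, one_smul]⟩
  let ρ' : Pts a → ℤˣ := ρ
  have hρR : ∀ (v : S) (x : Pts a), ρ' ((((1 : S), v) : S × S) • x) = f v * ρ' x := fun v x => hρ v x
  obtain ⟨Q, hQ, hQn⟩ := H94.exists_fullyNormalized (F := F) (Subgroup.zpowers_le.2 hi)
  obtain ⟨φ, hφ, rfl⟩ := hQ
  set j := φ ⟨i, Subgroup.mem_zpowers i⟩ with hj
  have hij : F.IsConjElt i j := ⟨φ, hφ, rfl⟩
  have hjS : j ∈ S := (F.le_of_mem hφ).2 _
  have hrange : φ.range = Subgroup.zpowers j := by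
    refine le_antisymm ?_ (Subgroup.zpowers_le.2 ⟨_, rfl⟩)
    rintro _ ⟨⟨_, k, rfl⟩, rfl⟩
    refine ⟨k, ?_⟩
    show φ _ ^ k = _
    rw [← map_zpow]
    congr 1
  rw [hrange] at hQn
  intro hmem
  have hi' : (⟨i, hi⟩ : S) * ⟨i, hi⟩ = 1 := Subtype.ext (by
    show i * i = 1
    rw [← pow_two, ← hi2, pow_orderOf_eq_one])
  have hj' : (⟨j, hjS⟩ : S) * ⟨j, hjS⟩ = 1 := Subtype.ext (by
    show φ _ * φ _ = 1
    rw [← map_mul, show (⟨i, Subgroup.mem_zpowers i⟩ : Subgroup.zpowers i) * ⟨i, _⟩ = 1 from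
      Subtype.ext (congrArg Subtype.val hi' :), map_one])
  have hj1 : (⟨j, hjS⟩ : S) ≠ 1 := fun e => by
    have e1 : φ ⟨i, Subgroup.mem_zpowers i⟩ = φ 1 := by rw [map_one]; exact congrArg Subtype.val e
    have : i = 1 := congrArg Subtype.val (F.injective_of_mem hφ e1)
    rw [this, orderOf_one] at hi2
    omega
  refine transfer_ne_one hS ha hn hcard hρR hj' hj1 hQn (fun v hv hfv hvn => ?_) ?_
  · refine h v (isConjElt_trans hij (isConjElt_symm hv)) hvn ?_
    by_contra hvT
    simp only [f, MonoidHom.mk'_apply, if_neg hvT] at hfv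
    exact absurd hfv (by decide)
  · rw [transferHom_map ha hst hρR hφ ⟨i, Subgroup.mem_zpowers i⟩ hi hjS]
    have hker : F.hyperfocalSubgroup 2 ≤ (transferHom hρR).ker.map S.subtype := by
      refine (Subgroup.closure_le _).2 ?_
      rintro _ ⟨P, α, x, hP, -, rfl⟩
      refine ⟨(⟨x, hP x.2⟩ : S)⁻¹ * ⟨((α : MulAut P) x : P), hP ((α : MulAut P) x).2⟩, ?_, rfl⟩
      show transferHom hρR _ = 1
      rw [map_mul, map_inv, inv_mul_eq_one]
      exact (transferHom_map ha hst hρR ((H96.mem_autGroup F hP).1 α.2) x (hP x.2) (hP ((α : MulAut P) x).2)).symm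
    obtain ⟨y, hy, hye⟩ := hker hmem
    rw [show (⟨i, hi⟩ : S) = y from Subtype.ext hye.symm]
    exact hy

end Cfsg.Agent.H95
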