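import Cfsg.Agent.H96.ConstrainedSubsystem
import Cfsg.Agent.H96.Tate
import Cfsg.Agent.H94.PPowerIndex
import Cfsg.Agent.H94.SolvableSystems
import Cfsg.Agent.H95.HyperfocalFactor
import Cfsg.Agent.H24.PGroupBasic

/-!
Weakly embedded subgroups of one order with inner normalizer systems force an inner system.
-/
set_option autoImplicit false

namespace Cfsg.Agent.H95

open Cfsg Cfsg.FusionSystem
open scoped commutatorElement
open H94 (mem_preimageAlong preimageAlong_le mem_imageAlong)

universe u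

variable {Ω : Type u} [Group Ω] {S : Subgroup Ω} {p : ℕ}

/-- Every subgroup of order `d` lies between two strongly closed subgroups in the weakly embedded sense. -/
def WEmb (F : FusionSystem S) (d : ℕ) : Prop :=
  ∀ Q : Subgroup Ω, Q ≤ S → Nat.card Q = d →
    ∃ P : Subgroup Ω, F.StronglyClosed P ∧ F.StronglyClosed (Q ⊔ P) ∧ F.StronglyClosed (Q ⊓ P)

/-- Automorphisms stabilizing a subgroup of order `d` normalized by `S` have `p`-power order. -/
def StabP (F : FusionSystem S) (p d : ℕ) : Prop :=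
  ∀ R : Subgroup Ω, R ≤ S → ∀ α ∈ F.autGroup R, ∀ H : Subgroup Ω, H ≤ R → S ≤ Subgroup.normalizer (H : Set Ω) →
    Nat.card H = d → (∀ x : R, (x : Ω) ∈ H → ((α x : R) : Ω) ∈ H) → ∃ k : ℕ, α ^ p ^ k = 1

theorem stronglyClosed_inf {F : FusionSystem S} {A B : Subgroup Ω} (hA : F.StronglyClosed A)
    (hB : F.StronglyClosed B) : F.StronglyClosed (A ⊓ B) :=
  ⟨inf_le_left.trans hA.1, fun R hR φ hφ x =>
    ⟨hA.2 R (hR.trans inf_le_left) φ hφ x, hB.2 R (hR.trans inf_le_right) φ hφ x⟩⟩

theorem stronglyClosed_bot' (F : FusionSystem S) : F.StronglyClosed (⊥ : Subgroup Ω) := by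
  refine ⟨bot_le, fun R hR φ _ x => ?_⟩
  obtain rfl : R = ⊥ := le_bot_iff.1 hR
  rw [show x = 1 from Subsingleton.elim _ _, map_one]
  exact one_mem _

/-- Automorphisms of order prime to `p`, of a subgroup inside a finite `p`-group, with displacements fixed
are trivial. -/
theorem coprime_eq_one [Finite S] [Fact p.Prime] (hS : IsPGroup p S) {R : Subgroup Ω} (hR : R ≤ S) {c : MulAut R}
    (hc : (orderOf c).Coprime p) (hfix : ∀ x : R, c (x⁻¹ * c x) = x⁻¹ * c x) : c = 1 := by
  refine MulEquiv.ext fun x => ?_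
  have hit : ∀ n : ℕ, (c ^ n) x = x * (x⁻¹ * c x) ^ n := by
    intro n
    induction n with
    | zero => simp
    | succ n ih =>
      rw [pow_succ', MulAut.mul_apply, ih, map_mul, map_pow, hfix, pow_succ' (x⁻¹ * c x), mul_assoc,
        mul_inv_cancel_left]
  have h1 := hit (orderOf c)
  rw [pow_orderOf_eq_one, MulAut.one_apply, left_eq_mul] at h1
  obtain ⟨k, hk⟩ := hS.to_le hR (x⁻¹ * c x)
  have h2 := Nat.dvd_gcd (orderOf_dvd_of_pow_eq_one h1) (orderOf_dvd_of_pow_eq_one hk)
  rw [hc.pow_right k, Nat.dvd_one, orderOf_eq_one_iff, inv_mul_eq_one] at h2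
  exact h2.symm

/-- An automorphism has a power of `p`-power exponent of order prime to `p`. -/
theorem exists_pow_coprime [Fact p.Prime] {G : Type*} [Group G] [Finite G] (a : G) :
    ∃ k : ℕ, (orderOf (a ^ p ^ k)).Coprime p := by
  have hp : p.Prime := Fact.out
  obtain ⟨k, m, hm, hkm⟩ := Nat.exists_eq_pow_mul_and_not_dvd (orderOf_pos a).ne' p hp.ne_one
  refine ⟨k, Nat.Coprime.coprime_dvd_left ?_ (hp.coprime_iff_not_dvd.2 hm).symm⟩
  refine orderOf_dvd_of_pow_eq_one ?_
  rw [← pow_mul, ← hkm, pow_orderOf_eq_one]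

theorem isInner_of_coprime [Finite S] [Fact p.Prime] {F : FusionSystem S}
    (h : ∀ R : Subgroup Ω, R ≤ S → ∀ c ∈ F.autGroup R, (orderOf c).Coprime p → c = 1) : H96.IsInner F p := by
  intro U hU a ha
  have := H96.finite_of_le hU
  obtain ⟨k, hk⟩ := exists_pow_coprime (p := p) a
  exact ⟨k, h U hU _ (pow_mem ha _) hk⟩

theorem coprime_eq_one_of_pow [Fact p.Prime] {G : Type*} [Group G] {c : G} (hc : (orderOf c).Coprime p) {k : ℕ}
    (hk : c ^ p ^ k = 1) : c = 1 := by
  have := Nat.dvd_gcd dvd_rfl (orderOf_dvd_of_pow_eq_one hk)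
  rw [hc.pow_right k, Nat.dvd_one, orderOf_eq_one_iff] at this
  exact this

/-- Displacements of automorphisms of order prime to `p` are hyperfocal. -/
theorem disp_mem_hyperfocal {F : FusionSystem S} {R : Subgroup Ω} (hR : R ≤ S) {c : MulAut R}
    (hc : c ∈ F.autGroup R) (hco : (orderOf c).Coprime p) (x : R) :
    (x : Ω)⁻¹ * ((c x : R) : Ω) ∈ F.hyperfocalSubgroup p :=
  Subgroup.subset_closure ⟨R, ⟨c, hc⟩, x, hR, Subgroup.subset_closure (by
    show Nat.Coprime (orderOf (⟨c, hc⟩ : F.autGroup R)) p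
    rwa [Subgroup.orderOf_mk]), rfl⟩

theorem hyperfocal_eq_bot_of_isInner [Fact p.Prime] {F : FusionSystem S} (h : H96.IsInner F p) :
    F.hyperfocalSubgroup p = ⊥ := by
  refine le_bot_iff.1 (hyperfocal_le_of_coprime fun P α x hP hα => ?_)
  obtain ⟨k, hk⟩ := h P hP α α.2
  rw [coprime_eq_one_of_pow (by rwa [Subgroup.orderOf_coe]) hk, MulAut.one_apply, inv_mul_cancel]
  exact one_mem _

theorem card_sup_of_disjoint [Finite S] {A B : Subgroup Ω} (hA : A ≤ S) (hB : B ≤ S)
    (hn : A ≤ Subgroup.normalizer (B : Set Ω)) (hd : A ⊓ B = ⊥) :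
    Nat.card ↥(A ⊔ B) = Nat.card A * Nat.card B := by
  rw [← Nat.card_prod]
  refine (Nat.card_congr (Equiv.ofBijective
    (fun q : A × B => (⟨(q.1 : Ω) * q.2, Subgroup.mul_mem_sup q.1.2 q.2.2⟩ : ↥(A ⊔ B))) ⟨?_, ?_⟩)).symm
  · exact fun q q' h => (Subgroup.mul_injective_of_disjoint (disjoint_iff.2 hd) (congrArg Subtype.val h) :)
  · rintro ⟨x, hx⟩
    rw [← SetLike.mem_coe, Subgroup.coe_mul_of_left_le_normalizer_right _ _ hn] at hx
    obtain ⟨u, hu, v, hv, huv⟩ := hx
    exact ⟨(⟨u, hu⟩, ⟨v, hv⟩), Subtype.ext huv⟩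

/-- A subgroup of prescribed order between two given ones. -/
theorem exists_between [Finite S] [Fact p.Prime] (hS : IsPGroup p S) {A B : Subgroup Ω} (hB : B ≤ S) (hAB : A ≤ B)
    {b : ℕ} (hA : Nat.card A ≤ p ^ b) (hb : p ^ b ≤ Nat.card B) :
    ∃ K : Subgroup Ω, A ≤ K ∧ K ≤ B ∧ Nat.card K = p ^ b := by
  have hp : p.Prime := Fact.out
  have := H96.finite_of_le hB
  have := H96.finite_of_le (hAB.trans hB)
  obtain ⟨n, hn⟩ := IsPGroup.iff_card.1 (hS.to_le hB)
  obtain ⟨a, ha⟩ := IsPGroup.iff_card.1 (hS.to_le (hAB.trans hB))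
  have hbn : b ≤ n := (Nat.pow_le_pow_iff_right hp.one_lt).1 (hn ▸ hb)
  have hab : a ≤ b := (Nat.pow_le_pow_iff_right hp.one_lt).1 (ha ▸ hA)
  obtain ⟨K, hK, hAK⟩ := Sylow.exists_subgroup_card_pow_prime_le p (hn ▸ pow_dvd_pow p hbn) (A.subgroupOf B)
    ((Nat.card_congr (Subgroup.subgroupOfEquivOfLe hAB).toEquiv).trans ha) hab
  refine ⟨K.map B.subtype, ?_, Subgroup.map_subtype_le _, ?_⟩
  · intro x hx
    exact ⟨⟨x, hAB hx⟩, hAK hx, rfl⟩
  · rw [Subgroup.card_map_of_injective B.subtype_injective, hK]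

/-- Inside a nontrivial normal subgroup of a `p`-group there is a central element of order `p`. -/
theorem exists_central [Finite S] [Fact p.Prime] (hS : IsPGroup p S) {M : Subgroup Ω} (hM : M ≤ S)
    (hn : S ≤ Subgroup.normalizer (M : Set Ω)) (h1 : M ≠ ⊥) :
    ∃ y ∈ M, y ≠ 1 ∧ y ^ p = 1 ∧ ∀ s ∈ S, s * y = y * s := by
  have hp : p.Prime := Fact.out
  haveI : (M.subgroupOf S).Normal := (Subgroup.normal_subgroupOf_iff_le_normalizer hM).2 hn
  have hne : M.subgroupOf S ≠ ⊥ := by
    intro e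
    rw [Subgroup.subgroupOf_eq_bot, disjoint_iff, inf_of_le_left hM] at e
    exact h1 e
  have h2 := H24.inf_center_ne_bot hS hne
  haveI : Nontrivial ↥(M.subgroupOf S ⊓ Subgroup.center S) := (Subgroup.nontrivial_iff_ne_bot _).2 h2
  obtain ⟨k, hk, hcard⟩ := IsPGroup.nontrivial_iff_card (hS.to_subgroup (M.subgroupOf S ⊓ Subgroup.center S)) |>.1 this
  obtain ⟨⟨y, hyM, hyc⟩, hy⟩ := exists_prime_orderOf_dvd_card' p
    (hcard ▸ dvd_pow_self p hk.ne' : p ∣ Nat.card ↥(M.subgroupOf S ⊓ Subgroup.center S))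
  rw [← Subgroup.orderOf_coe] at hy
  change orderOf y = p at hy
  refine ⟨y, hyM, fun e => ?_, ?_, fun s hs => congrArg Subtype.val (Subgroup.mem_center_iff.1 hyc ⟨s, hs⟩)⟩
  · rw [show y = 1 from Subtype.ext e, orderOf_one] at hy
    exact hp.one_lt.ne hy
  · have := pow_orderOf_eq_one y
    rw [hy] at this
    simpa using congrArg Subtype.val this

variable [Finite S] [Fact p.Prime] {F : FusionSystem S} {d : ℕ}

/-- A normal subgroup of order `d` makes the system inner. -/
theorem isInner_of_normal (hstab : StabP F p d) {Q : Subgroup Ω} (hQ : F.IsNormal Q) (hc : Nat.card Q = d) :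
    H96.IsInner F p := by
  intro U hU a ha
  obtain ⟨b, hb, hbQ, hpow⟩ := H96.exists_normal_aut_ext hQ hU ha
  obtain ⟨k, hk⟩ := hstab _ (sup_le hU hQ.1) b hb Q le_sup_right
    (H93.StronglyClosed.le_normalizer (H93.IsNormal.stronglyClosed hQ)) hc hbQ
  refine ⟨k, MulEquiv.ext fun x => Subtype.ext ?_⟩
  rw [← hpow, hk]
  rfl

/-- A strongly closed subgroup of order `d` fixed by all automorphisms of order prime to `p` makes the system
inner. -/
theorem isInner_of_fix (hS : IsPGroup p S) (hF : F.IsSaturated p) (hstab : StabP F p d) {W : Subgroup Ω}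
    (hW : F.StronglyClosed W) (hc : Nat.card W = d)
    (hfix : ∀ R : Subgroup Ω, R ≤ S → ∀ c ∈ F.autGroup R, (orderOf c).Coprime p →
      ∀ x : R, (x : Ω) ∈ W → c x = x) : H96.IsInner F p := by
  have hWn : S ≤ Subgroup.normalizer (W : Set Ω) := H93.StronglyClosed.le_normalizer hW
  refine H96.isInner_of_hom_eq hS fun P => H96.hom_eq_of_le_inner (fun P φ hφ => ?_) P
  refine H94.alperin_induction hS hF (fun P φ => φ ∈ (innerFusionSystem S).Hom P)
    (fun P R hle φ _ hC => H96.res_mem _ hC hle)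
    (fun P Q φ ψ _ _ h1 h2 hh => (innerFusionSystem S).comp_mem h1 h2 hh)
    (fun U hU hcen hr α hα => ?_) hφ
  have hUS := hU.1
  have := H96.finite_of_le hUS
  set A := F.autGroup U
  have hinv : ∀ a ∈ A, ∀ x : U, (x : Ω) ∈ W → ((a x : U) : Ω) ∈ W := fun a ha x hx =>
    H94.apply_mem_of_stronglyClosed hW ((H96.mem_autGroup F hUS).1 ha) hx
  -- the automorphisms trivial modulo `W`
  let K : Subgroup A :=
    { carrier := {a | ∀ x : U, (x : Ω)⁻¹ * (((a : MulAut U) x : U) : Ω) ∈ W}
      one_mem' := fun x => by simp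
      mul_mem' := by
        intro a b ha hb x
        have := W.mul_mem (hb x) (ha ((b : MulAut U) x))
        rw [mul_assoc, mul_inv_cancel_left] at this
        exact this
      inv_mem' := by
        intro a ha x
        have := W.inv_mem (ha ((a : MulAut U)⁻¹ x))
        rw [mul_inv_rev, inv_inv, MulAut.apply_inv_self] at this
        exact this }
  have hKn : K.Normal := ⟨fun a ha b x => by
    set y := (b : MulAut U)⁻¹ x
    have h1 := hinv _ b.2 (y⁻¹ * (a : MulAut U) y) (ha y)
    rw [map_mul, map_inv, MulAut.apply_inv_self] at h1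
    exact h1⟩
  have hKp : IsPGroup p K := by
    rintro ⟨⟨a, haA⟩, haK⟩
    obtain ⟨k, hk⟩ := exists_pow_coprime (p := p) a
    refine ⟨k, Subtype.ext (Subtype.ext ?_)⟩
    show a ^ p ^ k = 1
    refine coprime_eq_one hS hUS hk fun x => hfix U hUS _ (pow_mem haA _) hk _ ?_
    have := pow_mem haK (p ^ k) x
    simpa using this
  have hKI : ∀ a : A, a ∈ K → (a : MulAut U) ∈ Inn U := by
    intro a ha
    rw [← hr.2]
    exact ⟨a, H19.le_pCore hKn hKp ha, rfl⟩
  have hNW : ∀ g ∈ W, g ∈ Subgroup.normalizer (U : Set Ω) → g ∈ U := by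
    intro g hg hgn
    obtain ⟨a, ha, hae⟩ := H96.exists_autGroup_of_mem F (F.conj_mem hUS (hW.1 hg))
      (fun y => (Subgroup.mem_normalizer_iff.1 hgn y).1 y.2)
    obtain ⟨u, hu⟩ := hKI ⟨a, ha⟩ fun x => by
      show (x : Ω)⁻¹ * ((a x : U) : Ω) ∈ W
      rw [hae]
      show (x : Ω)⁻¹ * (g * x * g⁻¹) ∈ W
      have h1 := (Subgroup.mem_normalizer_iff.1 (hWn (S.inv_mem (hUS x.2))) _).1 hg
      rw [inv_inv] at h1
      rw [show (x : Ω)⁻¹ * (g * x * g⁻¹) = (x : Ω)⁻¹ * g * x * g⁻¹ by group]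
      exact W.mul_mem h1 (W.inv_mem hg)
    have hcmem : (u : Ω)⁻¹ * g ∈ centralizerIn S U := by
      refine ⟨S.mul_mem (S.inv_mem (hUS u.2)) (hW.1 hg), Subgroup.mem_centralizer_iff.2 fun y hy => ?_⟩
      have h1 : (u : Ω) * y * (u : Ω)⁻¹ = g * y * g⁻¹ :=
        (congrArg (fun f : MulAut U => ((f ⟨y, hy⟩ : U) : Ω)) hu).trans (hae ⟨y, hy⟩)
      calc y * ((u : Ω)⁻¹ * g) = (u : Ω)⁻¹ * ((u : Ω) * y * (u : Ω)⁻¹) * g := by group
        _ = (u : Ω)⁻¹ * g * y := by rw [h1]; group
    have := U.mul_mem u.2 (hcen.2 U (H96.isConj_refl F hUS) hcmem)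
    rwa [mul_inv_cancel_left] at this
  have hWU : W ≤ U := by
    by_contra hno
    have hlt : U < U ⊔ W := lt_of_le_of_ne le_sup_left fun e => hno (le_sup_right.trans e.ge)
    have hX : U ⊔ W ≤ S := sup_le hUS hW.1
    have := H96.finite_of_le hX
    obtain ⟨y, hy, hyn⟩ := SetLike.exists_of_lt (H93.lt_normalizerIn (hS.to_le hX) hlt)
    have hy1 : y ∈ U ⊔ W := hy.1
    rw [← SetLike.mem_coe, Subgroup.coe_mul_of_left_le_normalizer_right _ _ (hUS.trans hWn)] at hy1
    obtain ⟨v, hv, w, hw, rfl⟩ := hy1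
    have hwn : w ∈ Subgroup.normalizer (U : Set Ω) := by
      have := Subgroup.mul_mem _ (Subgroup.inv_mem _ (Subgroup.le_normalizer hv)) hy.2
      rwa [inv_mul_cancel_left] at this
    exact hyn (U.mul_mem hv (hNW w hw hwn))
  obtain ⟨-, R, hR⟩ := (H94.fullyNormalized_spec hS hF hU).1
  have hAp : IsPGroup p A := fun a => by
    obtain ⟨k, hk⟩ := hstab U hUS a a.2 W hWU hWn hc (hinv a a.2)
    exact ⟨k, Subtype.ext hk⟩
  have hmem : (⟨α, hα⟩ : A) ∈ (R : Subgroup A) :=
    (R.is_maximal' (hAp.to_subgroup ⊤) le_top).le (Subgroup.mem_top _)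
  rw [hR, Subgroup.mem_subgroupOf] at hmem
  obtain ⟨g, hg, hge⟩ := H96.mem_autInducedBy.1 hmem
  exact ⟨hUS, g, hg, hge⟩

/-- A minimal nontrivial strongly closed subgroup inside a given one. -/
theorem exists_minimal_stronglyClosed {X : Subgroup Ω} (hX : F.StronglyClosed X) (h1 : X ≠ ⊥) :
    ∃ M, M ≤ X ∧ M ≠ ⊥ ∧ F.StronglyClosed M ∧ ∀ M', F.StronglyClosed M' → M' ≤ M → M' = ⊥ ∨ M' = M := by
  classical
  obtain ⟨M, ⟨hMX, hM1, hMc⟩, hmin⟩ := ((H96.finite_subgroups_le (S := S)).subset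
    (t := {M | M ≤ X ∧ M ≠ ⊥ ∧ F.StronglyClosed M}) fun M h => h.2.2.1).exists_minimal ⟨X, le_rfl, h1, hX⟩
  refine ⟨M, hMX, hM1, hMc, fun M' hM' hle => or_iff_not_imp_left.2 fun hne => ?_⟩
  exact le_antisymm hle (hmin ⟨hle.trans hMX, hne, hM'⟩ hle)

/-- A subgroup of order `d` meeting a minimal strongly closed subgroup properly gives another one. -/
theorem exists_other (hw : WEmb F d) {M : Subgroup Ω} (hM : F.StronglyClosed M)
    (hmin : ∀ M', F.StronglyClosed M' → M' ≤ M → M' = ⊥ ∨ M' = M) {Q : Subgroup Ω} (hQ : Q ≤ S)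
    (hQc : Nat.card Q = d) (hne : Q ⊓ M ≠ ⊥) (hno : ¬ M ≤ Q) :
    ∃ P, F.StronglyClosed P ∧ F.StronglyClosed (Q ⊔ P) ∧ F.StronglyClosed (Q ⊓ P) ∧ P ⊓ M = ⊥ ∧ M ≤ Q ⊔ P ∧
      ∃ W, W ≤ P ∧ W ≠ ⊥ ∧ F.StronglyClosed W ∧ (∀ M', F.StronglyClosed M' → M' ≤ W → M' = ⊥ ∨ M' = W) ∧ W ≠ M := by
  obtain ⟨P, hP, hQP, hQiP⟩ := hw Q hQ hQc
  have hPM : P ⊓ M = ⊥ := by
    rcases hmin _ (stronglyClosed_inf hP hM) inf_le_right with e | e
    · exact e
    exfalso
    have hle : M ≤ P := e.ge.trans inf_le_left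
    have e2 : Q ⊓ P ⊓ M = Q ⊓ M := by rw [inf_assoc, inf_of_le_right hle]
    rcases hmin _ (stronglyClosed_inf hQiP hM) inf_le_right with h | h
    · exact hne (e2 ▸ h)
    · exact hno ((e2 ▸ h).ge.trans inf_le_left)
  have hMQP : M ≤ Q ⊔ P := by
    rcases hmin _ (stronglyClosed_inf hQP hM) inf_le_right with h | h
    · exact absurd (le_bot_iff.1 (h ▸ inf_le_inf_right M (le_sup_left : Q ≤ Q ⊔ P))) hne
    · exact h.ge.trans inf_le_left
  have hP1 : P ≠ ⊥ := fun e => hno (by rwa [e, sup_bot_eq] at hMQP)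
  obtain ⟨W, hWP, hW1, hWc, hWmin⟩ := exists_minimal_stronglyClosed hP hP1
  refine ⟨P, hP, hQP, hQiP, hPM, hMQP, W, hWP, hW1, hWc, hWmin, fun e => hW1 ?_⟩
  rw [← le_bot_iff, ← hPM]
  exact le_inf hWP e.le

/-- Two strongly closed subgroups meeting trivially commute. -/
theorem commute_of_inf_eq_bot {A B : Subgroup Ω} (hA : F.StronglyClosed A) (hB : F.StronglyClosed B)
    (h : A ⊓ B = ⊥) : ∀ a ∈ A, ∀ b ∈ B, a * b = b * a := by
  intro a ha b hb
  have h1 : a * b * a⁻¹ * b⁻¹ ∈ A ⊓ B := by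
    refine ⟨?_, B.mul_mem ((Subgroup.mem_normalizer_iff.1 (H93.StronglyClosed.le_normalizer hB (hA.1 ha)) b).1 hb)
      (B.inv_mem hb)⟩
    rw [show a * b * a⁻¹ * b⁻¹ = a * (b * a⁻¹ * b⁻¹) by group]
    exact A.mul_mem ha
      ((Subgroup.mem_normalizer_iff.1 (H93.StronglyClosed.le_normalizer hA (hB.1 hb)) _).1 (A.inv_mem ha))
  rw [h, Subgroup.mem_bot, mul_inv_eq_one, mul_inv_eq_iff_eq_mul] at h1
  exact h1

/-- The criterion. -/
theorem isInner_of_wEmb : ∀ (N : ℕ) {Ω : Type u} [Group Ω] {S : Subgroup Ω} [Finite S] {F : FusionSystem S}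
    {j : ℕ}, Nat.card S ≤ N → IsPGroup p S → F.IsSaturated p → 1 ≤ j → p ^ j < Nat.card S → WEmb F (p ^ j) →
      StabP F p (p ^ j) → H96.IsInner F p := by
  intro N
  induction N using Nat.strong_induction_on with
  | _ N IH =>
  intro Ω _ S _ F j hN hS hF hj hjS hw hstab
  have hp : p.Prime := Fact.out
  by_contra hnot
  have habel : ∀ W, F.StronglyClosed W → Nat.card W = p ^ j → (∀ a ∈ W, ∀ b ∈ W, a * b = b * a) → False :=
    fun W hW hc hab => hnot (isInner_of_normal hstab (H93.isNormal_of_stronglyClosed_abelian hS hF hW hab) hc)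
  have hd1 : 1 < p ^ j := Nat.one_lt_pow (by omega) hp.one_lt
  have hbound : ∀ M, F.StronglyClosed M → (∀ M', F.StronglyClosed M' → M' ≤ M → M' = ⊥ ∨ M' = M) →
      Nat.card M ≤ p ^ j := by
    intro M hM hmin
    by_contra hlt
    push Not at hlt
    have := H96.finite_of_le hM.1
    haveI : (M.subgroupOf S).Normal :=
      (Subgroup.normal_subgroupOf_iff_le_normalizer hM.1).2 (H93.StronglyClosed.le_normalizer hM)
    obtain ⟨k, hk⟩ := IsPGroup.iff_card.1 (hS.to_le hM.1)
    have hkj : j ≤ k := ((Nat.pow_lt_pow_iff_right hp.one_lt).1 (hk ▸ hlt)).le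
    obtain ⟨K, hKn, hKM, hKc⟩ := H24.exists_normal_le_card hS
      ((Nat.card_congr (Subgroup.subgroupOfEquivOfLe hM.1).toEquiv).trans hk) hkj
    set Q := K.map S.subtype with hQ
    have hQc : Nat.card Q = p ^ j := by rw [hQ, Subgroup.card_map_of_injective S.subtype_injective, hKc]
    have hQM : Q ≤ M := by rintro _ ⟨x, hx, rfl⟩; exact hKM hx
    have hQ1 : Q ⊓ M ≠ ⊥ := by
      rw [inf_of_le_left hQM]
      intro e
      rw [e, Subgroup.card_bot] at hQc
      omega
    have hno : ¬ M ≤ Q := fun e => by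
      have := H96.finite_of_le (Subgroup.map_subtype_le K : Q ≤ S)
      have := Subgroup.card_le_of_le e
      omega
    obtain ⟨P, hP, -, -, hPM, hMQP, -⟩ := exists_other hw hM hmin (Subgroup.map_subtype_le K) hQc hQ1 hno
    refine hno fun x hx => ?_
    have hQn : P ≤ Subgroup.normalizer (Q : Set Ω) := hP.1.trans
      ((Subgroup.normal_subgroupOf_iff_le_normalizer (Subgroup.map_subtype_le K)).1
        (by rw [show (K.map S.subtype).subgroupOf S = K from Subgroup.comap_map_eq_self_of_injective S.subtype_injective K]; exact hKn))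
    have hx' := hMQP hx
    rw [← SetLike.mem_coe, Subgroup.coe_mul_of_right_le_normalizer_left _ _ hQn] at hx'
    obtain ⟨q, hq, r, hr, rfl⟩ := hx'
    have hrM : r ∈ P ⊓ M := ⟨hr, by
      have := M.mul_mem (M.inv_mem (hQM hq)) hx
      rwa [inv_mul_cancel_left] at this⟩
    rw [hPM, Subgroup.mem_bot] at hrM
    show q * r ∈ Q
    rwa [hrM, mul_one]
  -- small strongly closed subgroups contain the hyperfocal subgroup
  have hsmall : ∀ M, F.StronglyClosed M → M ≠ ⊥ → Nat.card M < p ^ j → F.hyperfocalSubgroup p ≤ M := by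
    intro M hM hM1 hlt
    have hMn := H93.StronglyClosed.le_normalizer hM
    haveI hMnorm : (M.subgroupOf S).Normal := (Subgroup.normal_subgroupOf_iff_le_normalizer hM.1).2 hMn
    set θ := QuotientGroup.mk' (M.subgroupOf S)
    have hker : ∀ s : S, θ s = 1 ↔ (s : Ω) ∈ M := fun s => QuotientGroup.eq_one_iff s
    have hrange : θ.range = ⊤ := MonoidHom.range_eq_top.2 (QuotientGroup.mk'_surjective _)
    obtain ⟨D, hD⟩ := H94.exists_factorSystem F M hM θ hker hrange
    have := H96.finite_of_le hM.1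
    obtain ⟨i, hi⟩ := IsPGroup.iff_card.1 (hS.to_le hM.1)
    have hij : i < j := (Nat.pow_lt_pow_iff_right hp.one_lt).1 (hi ▸ hlt)
    have hM1' : 1 < p ^ i := by rw [← hi]; exact (Subgroup.one_lt_card_iff_ne_bot M).2 hM1
    have hMsub : Nat.card (M.subgroupOf S) = p ^ i :=
      (Nat.card_congr (Subgroup.subgroupOfEquivOfLe hM.1).toEquiv).trans hi
    have hcardS : Nat.card S = Nat.card (S ⧸ M.subgroupOf S) * p ^ i := by
      rw [← hMsub]; exact Subgroup.card_eq_card_quotient_mul_card_subgroup _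
    -- preimages
    have hpre : ∀ X : Subgroup (S ⧸ M.subgroupOf S),
        Nat.card ↥(preimageAlong θ X) = Nat.card X * p ^ i := by
      intro X
      show Nat.card ↥((X.comap θ).map S.subtype) = _
      rw [Subgroup.card_map_of_injective S.subtype_injective]
      have h1 := Subgroup.index_comap_of_surjective X (QuotientGroup.mk'_surjective (M.subgroupOf S))
      have h2 := (X.comap θ).card_mul_index
      rw [h1, hcardS, ← X.card_mul_index, mul_right_comm] at h2
      exact Nat.eq_of_mul_eq_mul_right (Nat.pos_of_ne_zero Subgroup.index_ne_zero_of_finite) h2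
    have hMle : ∀ X : Subgroup (S ⧸ M.subgroupOf S), M ≤ preimageAlong θ X := fun X x hx =>
      mem_preimageAlong.2 ⟨hM.1 hx, by rw [(hker ⟨x, hM.1 hx⟩).2 hx]; exact one_mem X⟩
    have hpj : p ^ (j - i) * p ^ i = p ^ j := by rw [← pow_add]; congr 1; omega
    have hwD : WEmb D (p ^ (j - i)) := by
      intro Q' hQ' hQ'c
      obtain ⟨P, hP, h1, h2⟩ := hw (preimageAlong θ Q') preimageAlong_le (by rw [hpre, hQ'c, hpj])
      refine ⟨imageAlong θ P, H94.stronglyClosed_imageAlong hS hF hM hD hP, ?_, ?_⟩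
      · have e : imageAlong θ (preimageAlong θ Q' ⊔ P) = Q' ⊔ imageAlong θ P := by
          show (((Q'.comap θ).map S.subtype ⊔ P).subgroupOf S).map θ = Q' ⊔ _
          rw [Subgroup.subgroupOf_sup (Subgroup.map_subtype_le _) hP.1, Subgroup.map_sup,
            show ((Q'.comap θ).map S.subtype).subgroupOf S = Q'.comap θ from
              Subgroup.comap_map_eq_self_of_injective S.subtype_injective _,
            Subgroup.map_comap_eq_self_of_surjective (QuotientGroup.mk'_surjective _)]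
          rfl
        rw [← e]
        exact H94.stronglyClosed_imageAlong hS hF hM hD h1
      · have e : imageAlong θ (preimageAlong θ Q' ⊓ P) = Q' ⊓ imageAlong θ P := by
          ext y
          constructor
          · intro hy
            obtain ⟨x, hx, rfl⟩ := mem_imageAlong.1 hy
            exact ⟨(mem_preimageAlong.1 hx.1).2, mem_imageAlong.2 ⟨x, hx.2, rfl⟩⟩
          · rintro ⟨hy, hy'⟩
            obtain ⟨x, hx, rfl⟩ := mem_imageAlong.1 hy'
            exact mem_imageAlong.2 ⟨x, ⟨mem_preimageAlong.2 ⟨x.2, hy⟩, hx⟩, rfl⟩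
        rw [← e]
        exact H94.stronglyClosed_imageAlong hS hF hM hD h2
    have hstabD : StabP D p (p ^ (j - i)) := by
      intro R' hR' α' hα' H' hHR hHn hHc hinv
      obtain ⟨-, φ, hφ, hP₁, hφS, hm, hind⟩ := (hD.2.2.2 _ _).1 ((H96.mem_autGroup D hR').1 hα')
      have hfin := H96.finite_of_le (preimageAlong_le : preimageAlong θ R' ≤ S)
      obtain ⟨α, hα, hαe⟩ := H96.exists_autGroup_of_mem F hφ fun x =>
        mem_preimageAlong.2 ⟨hφS x, by rw [← hind x]; exact (α' _).2⟩
      have hpow : ∀ (n : ℕ) (x : preimageAlong θ R'),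
          θ ⟨(((α ^ n) x : preimageAlong θ R') : Ω), preimageAlong_le ((α ^ n) x).2⟩ =
            (((α' ^ n) ⟨_, hm x⟩ : R') : S ⧸ M.subgroupOf S) := by
        intro n
        induction n with
        | zero => intro x; rfl
        | succ n ih =>
          intro x
          have e1 : (⟨((α ((α ^ n) x) : preimageAlong θ R') : Ω), preimageAlong_le (α ((α ^ n) x)).2⟩ : S) =
              ⟨φ ((α ^ n) x), hφS _⟩ := Subtype.ext (hαe _)
          simp only [pow_succ', MulAut.mul_apply]
          rw [e1, ← hind]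
          show (((α' : MulAut R') _ : R') : S ⧸ M.subgroupOf S) = _
          congr 2
          exact Subtype.ext (ih x)
      have hHS : preimageAlong θ H' ≤ preimageAlong θ R' :=
        Subgroup.map_mono (Subgroup.comap_mono hHR)
      obtain ⟨k, hk⟩ := hstab _ preimageAlong_le α hα (preimageAlong θ H') hHS (by
          refine (Subgroup.normal_subgroupOf_iff_le_normalizer preimageAlong_le).1 ?_
          rw [show (preimageAlong θ H').subgroupOf S = H'.comap θ from
            Subgroup.comap_map_eq_self_of_injective S.subtype_injective _]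
          haveI : H'.Normal := Subgroup.normalizer_eq_top_iff.1 (top_le_iff.1 hHn)
          exact Subgroup.Normal.comap inferInstance θ)
        (by rw [hpre, hHc, hpj]) (fun x hx => mem_preimageAlong.2 ⟨preimageAlong_le (α x).2, by
          have h1 := hpow 1 x
          simp only [pow_one] at h1
          rw [h1]
          exact hinv _ (mem_preimageAlong.1 hx).2⟩)
      refine ⟨k, MulEquiv.ext fun y => Subtype.ext ?_⟩
      obtain ⟨x, hx⟩ := QuotientGroup.mk'_surjective (M.subgroupOf S) (y : S ⧸ M.subgroupOf S)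
      have hxm : (x : Ω) ∈ preimageAlong θ R' := mem_preimageAlong.2 ⟨x.2, by
        show θ x ∈ R'
        rw [show θ x = y from hx]; exact y.2⟩
      have h1 := hpow (p ^ k) ⟨x, hxm⟩
      rw [hk] at h1
      obtain rfl : (⟨_, hm ⟨x, hxm⟩⟩ : R') = y := Subtype.ext hx
      exact h1.symm
    have hlt' : Nat.card (⊤ : Subgroup (S ⧸ M.subgroupOf S)) < Nat.card S := by
      rw [Subgroup.card_top, hcardS]
      exact lt_mul_of_one_lt_right Nat.card_pos hM1'
    have hin := IH _ (lt_of_lt_of_le hlt' hN) le_rfl ((hS.to_quotient _).to_subgroup ⊤)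
      (H94.factor_isSaturated hS hF hM hD) (j := j - i) (by omega) (by
        rw [Subgroup.card_top]
        refine Nat.lt_of_mul_lt_mul_right (a := p ^ i) ?_
        rw [hpj, ← hcardS]
        exact hjS) hwD hstabD
    have h1 := hyperfocal_factor hS hF hM hD
    rw [hyperfocal_eq_bot_of_isInner hin, eq_comm, Subgroup.map_eq_bot_iff] at h1
    intro x hx
    exact (hker ⟨x, H94.hyperfocal_le F p hx⟩).1 (h1 hx)
  have hS1 : S ≠ ⊥ := fun e => by rw [e, Subgroup.card_bot] at hjS; omega
  by_cases hK : F.hyperfocalSubgroup p = ⊥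
  · refine hnot (isInner_of_coprime fun R hR c hc hco => MulEquiv.ext fun x => Subtype.ext ?_)
    have h1 := disp_mem_hyperfocal hR hc hco x
    rw [hK, Subgroup.mem_bot, inv_mul_eq_one] at h1
    exact h1.symm
  by_cases hex : ∃ M, M ≠ ⊥ ∧ F.StronglyClosed M ∧ (∀ M', F.StronglyClosed M' → M' ≤ M → M' = ⊥ ∨ M' = M) ∧
      Nat.card M < p ^ j
  · obtain ⟨M, hM1, hM, hmin, hlt⟩ := hex
    have hhypM := hsmall M hM hM1 hlt
    have hhyp : F.hyperfocalSubgroup p = M :=
      (hmin _ (H94.stronglyClosed_of_hyperfocal_le hS hF (H94.hyperfocal_le F p)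
        (fun s hs t ht => H94.conj_mem_hyperfocal hs ht) le_rfl) hhypM).resolve_left hK
    have hMn := H93.StronglyClosed.le_normalizer hM
    -- no other minimal strongly closed subgroup
    have huniq : ∀ W, W ≠ ⊥ → F.StronglyClosed W → (∀ M', F.StronglyClosed M' → M' ≤ W → M' = ⊥ ∨ M' = W) →
        W = M := by
      intro W hW1 hW hWmin
      by_contra hne
      have hWM : W ⊓ M = ⊥ := by
        rcases hWmin _ (stronglyClosed_inf hW hM) inf_le_left with e | e
        · exact e
        · exact absurd ((hmin _ hW (e.ge.trans inf_le_right)).resolve_left hW1) hne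
      rcases (hbound W hW hWmin).lt_or_eq with h | h
      · have := hsmall W hW hW1 h
        rw [hhyp] at this
        exact hM1 (le_bot_iff.1 (hWM ▸ le_inf this le_rfl))
      · refine hnot (isInner_of_fix hS hF hstab hW h fun R hR c hc hco x hx => Subtype.ext ?_)
        have h2 : (x : Ω)⁻¹ * ((c x : R) : Ω) ∈ W ⊓ M :=
          ⟨W.mul_mem (W.inv_mem hx) (H94.apply_mem_of_stronglyClosed hW ((H96.mem_autGroup F hR).1 hc) hx),
            hhyp ▸ disp_mem_hyperfocal hR hc hco x⟩
        rw [hWM, Subgroup.mem_bot, inv_mul_eq_one] at h2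
        exact h2.symm
    have := H96.finite_of_le hM.1
    obtain ⟨i, hi⟩ := IsPGroup.iff_card.1 (hS.to_le hM.1)
    by_cases hMp : Nat.card M = p
    · -- `M` is central of order `p`
      obtain ⟨y, hy, hy1, hyp, hyc⟩ := exists_central hS hM.1 hMn hM1
      have hMy : M = Subgroup.zpowers y := by
        refine (Subgroup.eq_of_le_of_card_ge (Subgroup.zpowers_le.2 hy) ?_).symm
        rw [hMp, Nat.card_zpowers, orderOf_eq_prime hyp hy1]
      have hcen : ∀ x ∈ M, ∀ s ∈ S, s * x = x * s := by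
        intro x hx s hs
        rw [hMy] at hx
        obtain ⟨l, rfl⟩ := Subgroup.mem_zpowers_iff.1 hx
        exact ((show Commute s y from hyc s hs).zpow_right l).eq
      haveI hMnorm : (M.subgroupOf S).Normal := (Subgroup.normal_subgroupOf_iff_le_normalizer hM.1).2 hMn
      obtain ⟨n, hn⟩ := IsPGroup.iff_card.1 hS
      have hMsub : Nat.card (M.subgroupOf S) = p :=
        (Nat.card_congr (Subgroup.subgroupOfEquivOfLe hM.1).toEquiv).trans hMp
      have hjn : j < n := (Nat.pow_lt_pow_iff_right hp.one_lt).1 (hn ▸ hjS)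
      have hcq : Nat.card (⊤ : Subgroup (S ⧸ M.subgroupOf S)) = p ^ (n - 1) := by
        have h1 := Subgroup.card_eq_card_quotient_mul_card_subgroup (M.subgroupOf S)
        rw [hMsub, hn, show n = n - 1 + 1 by omega, pow_succ] at h1
        rw [Subgroup.card_top]
        exact Nat.eq_of_mul_eq_mul_right hp.pos h1.symm
      obtain ⟨K, hKn, -, hKc⟩ := H24.exists_normal_le_card (hS.to_quotient (M.subgroupOf S)) hcq
        (show j - 1 ≤ n - 1 by omega)
      set Q := (K.comap (QuotientGroup.mk' (M.subgroupOf S))).map S.subtype with hQ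
      have hQS : Q ≤ S := Subgroup.map_subtype_le _
      have hQsub : Q.subgroupOf S = K.comap (QuotientGroup.mk' (M.subgroupOf S)) :=
        Subgroup.comap_map_eq_self_of_injective S.subtype_injective _
      have hQn : S ≤ Subgroup.normalizer (Q : Set Ω) :=
        (Subgroup.normal_subgroupOf_iff_le_normalizer hQS).1 (hQsub ▸ hKn.comap _)
      have hMQ : M ≤ Q := fun x hx => ⟨⟨x, hM.1 hx⟩, by
        show QuotientGroup.mk' _ _ ∈ K
        rw [show QuotientGroup.mk' (M.subgroupOf S) ⟨x, hM.1 hx⟩ = 1 from (QuotientGroup.eq_one_iff _).2 hx]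
        exact K.one_mem, rfl⟩
      have hQc : Nat.card Q = p ^ j := by
        rw [hQ, Subgroup.card_map_of_injective S.subtype_injective]
        have h1 := Subgroup.index_comap_of_surjective K (QuotientGroup.mk'_surjective (M.subgroupOf S))
        have h2 := (K.comap (QuotientGroup.mk' (M.subgroupOf S))).card_mul_index
        rw [h1, Subgroup.card_eq_card_quotient_mul_card_subgroup (M.subgroupOf S), hMsub, ← K.card_mul_index, hKc,
          mul_right_comm, ← pow_succ, show j - 1 + 1 = j by omega] at h2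
        exact Nat.eq_of_mul_eq_mul_right (Nat.pos_of_ne_zero Subgroup.index_ne_zero_of_finite) h2
      have hQsc : F.StronglyClosed Q := H94.stronglyClosed_of_hyperfocal_le hS hF hQS
        (fun s hs t ht => (Subgroup.mem_normalizer_iff.1 (hQn hs) t).1 ht) (hhyp ▸ hMQ)
      refine hnot (isInner_of_coprime fun R hR c hc hco => coprime_eq_one hS hR hco fun x => ?_)
      have hd : (x : Ω)⁻¹ * ((c x : R) : Ω) ∈ M := hhyp ▸ disp_mem_hyperfocal hR hc hco x
      by_cases hyR : y ∈ R
      · have hMR : M ≤ R := hMy ▸ Subgroup.zpowers_le.2 hyR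
        have hcF := (H96.mem_autGroup F hR).1 hc
        obtain ⟨α, hα, hαe⟩ := H96.exists_autGroup_of_mem F (H96.res_mem F hcF hMR)
          (fun z => H94.apply_mem_of_stronglyClosed hM hcF (x := ⟨z, hMR z.2⟩) z.2)
        have hαF := (H96.mem_autGroup F hM.1).1 hα
        have hfn : F.IsFullyNormalized M :=
          H93.isFullyNormalized_of_normalized hM.1 (inf_of_le_left hMn)
        have hrange : (M.subtype.comp α.toMonoidHom).range = M := by
          ext z
          exact ⟨fun ⟨w, hw⟩ => hw ▸ (α w).2, fun hz => ⟨α.symm ⟨z, hz⟩, by simp⟩⟩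
        obtain ⟨ξ, hξ, hξe⟩ := (H94.fullyNormalized_spec hS hF hfn).2.2 M _ hαF hrange
        have hext : S ≤ extender S M (M.subtype.comp α.toMonoidHom) := fun s hs =>
          H96.mem_extender.2 ⟨hs, hMn hs, s, hs, fun z hz => by
            rw [show (⟨s * (z : Ω) * s⁻¹, hz⟩ : M) = z from Subtype.ext (by
              show s * (z : Ω) * s⁻¹ = z
              rw [hcen z z.2 s hs, mul_inv_cancel_right])]
            show ((α z : M) : Ω) = s * ((α z : M) : Ω) * s⁻¹
            rw [hcen _ (α z).2 s hs, mul_inv_cancel_right]⟩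
        have hξS := H96.res_mem F hξ hext
        obtain ⟨β, hβ, hβe⟩ := H96.exists_autGroup_of_mem F hξS (F.le_of_mem hξS).2
        obtain ⟨k, hk⟩ := hstab S le_rfl β hβ Q hQS hQn hQc fun z hz =>
          H94.apply_mem_of_stronglyClosed hQsc ((H96.mem_autGroup F le_rfl).1 hβ) hz
        have hβM : ∀ (n : ℕ) (z : M) (hzR : (z : Ω) ∈ R),
            (((β ^ n) ⟨z, hM.1 z.2⟩ : S) : Ω) = (((c ^ n) ⟨z, hzR⟩ : R) : Ω) ∧
              (((c ^ n) ⟨z, hzR⟩ : R) : Ω) ∈ M := by
          intro n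
          induction n with
          | zero => exact fun z hzR => ⟨rfl, z.2⟩
          | succ n ih =>
            intro z hzR
            obtain ⟨e1, e2⟩ := ih z hzR
            rw [pow_succ', pow_succ', MulAut.mul_apply, MulAut.mul_apply,
              show (β ^ n) ⟨z, hM.1 z.2⟩ = ⟨_, hM.1 e2⟩ from Subtype.ext e1]
            refine ⟨?_, H94.apply_mem_of_stronglyClosed hM hcF (x := (c ^ n) ⟨z, hzR⟩) e2⟩
            rw [hβe]
            refine (hξe _ e2 (hext (hM.1 e2))).trans ?_
            exact hαe ⟨_, e2⟩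
        set e : R := x⁻¹ * c x
        obtain ⟨m, hm⟩ := exists_pow_eq_self_of_coprime (hco.pow_right k).symm
        have hst : c ^ p ^ k ∈ MulAction.stabilizer (MulAut R) e := by
          rw [MulAction.mem_stabilizer_iff]
          show (c ^ p ^ k) e = e
          refine Subtype.ext ?_
          have := (hβM (p ^ k) ⟨_, hd⟩ e.2).1
          rw [hk] at this
          exact this.symm
        have := pow_mem hst m
        rw [hm] at this
        exact this
      · have hRM : ∀ z ∈ R, z ∈ M → z = 1 := by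
          intro z hzR hzM
          by_contra hz1
          refine hyR ?_
          have hsub : Subgroup.zpowers z = M := by
            refine Subgroup.eq_of_le_of_card_ge (Subgroup.zpowers_le.2 hzM) ?_
            have hzp : z ^ p = 1 := by
              have := pow_card_eq_one' (x := (⟨z, hzM⟩ : M))
              rw [hMp] at this
              simpa using congrArg Subtype.val this
            rw [hMp, Nat.card_zpowers, orderOf_eq_prime hzp hz1]
          exact Subgroup.zpowers_le.2 hzR (hsub.ge hy)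
        rw [show x⁻¹ * c x = 1 from Subtype.ext (hRM _ (x⁻¹ * c x).2 hd), map_one]
    · by_cases hΦ : M.subgroupOf S ≤ frattini S
      · refine hnot (H96.isInner_of_hom_eq hS fun P => H96.eq_inner_of_congr_frattini hS hF
          (fun {P φ} hφ x hx hφx => ?_) P)
        haveI : (M.subgroupOf S).Normal := (Subgroup.normal_subgroupOf_iff_le_normalizer hM.1).2 hMn
        obtain ⟨w, hw'⟩ := H96.exists_conj_congr hS hF (M.subgroupOf S)
          (Subgroup.comap_mono hhypM) hφ
        have h1 := hΦ (hw' x hx hφx)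
        have h2 : (⟨x, hx⟩ : S)⁻¹ * (w * ⟨x, hx⟩ * w⁻¹) ∈ frattini S := by
          refine H24.commutator_le_frattini hS ?_
          rw [show (⟨x, hx⟩ : S)⁻¹ * (w * ⟨x, hx⟩ * w⁻¹) = ⁅(⟨x, hx⟩ : S)⁻¹, w⁆ by
            rw [commutatorElement_def]; group]
          exact Subgroup.commutator_mem_commutator (Subgroup.mem_top _) (Subgroup.mem_top _)
        have := mul_mem h2 h1
        rwa [mul_assoc, mul_inv_cancel_left] at this
      · obtain ⟨C, hC, hMC⟩ : ∃ C : Subgroup S, IsCoatom C ∧ ¬ M.subgroupOf S ≤ C := by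
          by_contra hno
          push Not at hno
          exact hΦ (le_iInf₂ fun C hC => hno C hC)
        obtain ⟨n, hn⟩ := IsPGroup.iff_card.1 hS
        obtain ⟨c, hc⟩ := IsPGroup.iff_card.1 (hS.to_subgroup C)
        have hCn : p ^ (c + 1) = Nat.card S := by
          have hcn : c < n := by
            refine (Nat.pow_lt_pow_iff_right hp.one_lt).1 ?_
            rw [← hc, ← hn]
            refine lt_of_le_of_ne (Subgroup.card_le_card_group C) fun e => hC.1 ?_
            exact Subgroup.eq_top_of_card_eq C e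
          obtain ⟨K, hK, hCK⟩ := Sylow.exists_subgroup_card_pow_succ (hn ▸ pow_dvd_pow p hcn) hc
          rcases hC.le_iff.1 hCK with e | e
          · rw [← hK, e, Subgroup.card_top]
          · rw [e, hc] at hK
            exact absurd ((Nat.pow_right_injective hp.two_le) hK) (by omega)
        set U := C.map S.subtype with hU
        have hUS : U ≤ S := Subgroup.map_subtype_le _
        have hUc : Nat.card U = p ^ c := by rw [hU, Subgroup.card_map_of_injective S.subtype_injective, hc]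
        have hjc : p ^ j ≤ p ^ c := Nat.pow_le_pow_right hp.pos (by
          have := (Nat.pow_lt_pow_iff_right hp.one_lt).1 (hCn ▸ hjS)
          omega)
        have hMU : ¬ M ≤ U := fun e => hMC fun z hz => by
          obtain ⟨w, hw'', hwe⟩ := e hz
          rwa [← show w = z from Subtype.ext hwe]
        have hne : U ⊓ M ≠ ⊥ := by
          intro e
          have h1 := card_sup_of_disjoint hUS hM.1 (hUS.trans hMn) e
          have h2 := Subgroup.card_le_of_le (sup_le hUS hM.1)
          rw [h1, hUc, hi, ← hCn, ← pow_add] at h2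
          have h3 := (Nat.pow_le_pow_iff_right hp.one_lt).1 h2
          have : i ≠ 1 := fun h => hMp (by rw [hi, h, pow_one])
          have : i ≠ 0 := fun h => hM1 (Subgroup.card_eq_one.1 (by rw [hi, h, pow_zero]))
          omega
        obtain ⟨Q, hAQ, hQU, hQc⟩ := exists_between hS hUS (inf_le_left : U ⊓ M ≤ U)
          ((Subgroup.card_le_of_le inf_le_right).trans hlt.le) (hUc ▸ hjc)
        obtain ⟨-, -, -, -, -, -, W, -, hW1, hW, hWmin, hWM⟩ := exists_other hw hM hmin (hQU.trans hUS) hQc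
          (fun e => hne (le_bot_iff.1 (e ▸ le_inf hAQ inf_le_right))) (fun e => hMU (e.trans hQU))
        exact hWM (huniq W hW1 hW hWmin)
  -- every minimal strongly closed subgroup has order `p ^ j`
  have hall : ∀ M, M ≠ ⊥ → F.StronglyClosed M → (∀ M', F.StronglyClosed M' → M' ≤ M → M' = ⊥ ∨ M' = M) →
      Nat.card M = p ^ j := fun M h1 h2 h3 =>
    ((hbound M h2 h3).lt_or_eq).resolve_left fun h => hex ⟨M, h1, h2, h3, h⟩
  have hSsc : F.StronglyClosed S := ⟨le_rfl, fun R _ φ hφ => (F.le_of_mem hφ).2⟩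
  obtain ⟨M, -, hM1, hM, hmin⟩ := exists_minimal_stronglyClosed hSsc hS1
  have hMc := hall M hM1 hM hmin
  have := H96.finite_of_le hM.1
  have hMn := H93.StronglyClosed.le_normalizer hM
  have hj2 : 2 ≤ j := by
    by_contra h
    obtain rfl : j = 1 := by omega
    haveI : IsCyclic M := isCyclic_of_prime_card (hMc.trans (pow_one p))
    obtain ⟨g, hg⟩ := IsCyclic.exists_generator (α := M)
    refine habel M hM hMc fun a ha b hb => ?_
    obtain ⟨u, hu⟩ := Subgroup.mem_zpowers_iff.1 (hg ⟨a, ha⟩)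
    obtain ⟨v, hv⟩ := Subgroup.mem_zpowers_iff.1 (hg ⟨b, hb⟩)
    have := (Commute.zpow_zpow_self g u v).eq
    rw [hu, hv] at this
    exact congrArg Subtype.val this
  have huniq : ∀ W, W ≠ ⊥ → F.StronglyClosed W → (∀ M', F.StronglyClosed M' → M' ≤ W → M' = ⊥ ∨ M' = W) →
      W = M := by
    intro W hW1 hW hWmin
    by_contra hne
    have hWM : W ⊓ M = ⊥ := by
      rcases hWmin _ (stronglyClosed_inf hW hM) inf_le_left with e | e
      · exact e
      · exact absurd ((hmin _ hW (e.ge.trans inf_le_right)).resolve_left hW1) hne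
    obtain ⟨y, hy, hy1, hyp, hyc⟩ := exists_central hS hW.1 (H93.StronglyClosed.le_normalizer hW) hW1
    obtain ⟨M₁, -, hM₁M, hM₁c⟩ := exists_between hS hM.1 (bot_le : (⊥ : Subgroup Ω) ≤ M) (b := j - 1)
      (by rw [Subgroup.card_bot]; exact Nat.one_le_pow _ _ hp.pos)
      (hMc ▸ Nat.pow_le_pow_right hp.pos (by omega))
    have hM₁1 : M₁ ≠ ⊥ := fun e => by
      rw [e, Subgroup.card_bot] at hM₁c
      exact (Nat.one_lt_pow (by omega) hp.one_lt).ne hM₁c
    have hyM : y ∉ M := fun h => hy1 (Subgroup.mem_bot.1 (hWM ▸ ⟨hy, h⟩))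
    have hM₁S := hM₁M.trans hM.1
    have hys : Subgroup.zpowers y ≤ S := Subgroup.zpowers_le.2 (hW.1 hy)
    have := H96.finite_of_le hys
    set Q := M₁ ⊔ Subgroup.zpowers y
    have hQS : Q ≤ S := sup_le hM₁S hys
    have hQc : Nat.card Q = p ^ j := by
      rw [card_sup_of_disjoint hM₁S hys (fun s hs => H94.mem_normalizer_of_forall_conj_mem fun r hr => by
        obtain ⟨l, rfl⟩ := Subgroup.mem_zpowers_iff.1 hr
        rw [((show Commute s y from hyc s (hM₁S hs)).zpow_right l).eq, mul_inv_cancel_right]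
        exact Subgroup.zpow_mem_zpowers y l) (le_bot_iff.1 (hWM ▸ le_inf
          (inf_le_right.trans (Subgroup.zpowers_le.2 hy)) (inf_le_left.trans hM₁M))),
        hM₁c, Nat.card_zpowers, orderOf_eq_prime hyp hy1, ← pow_succ, show j - 1 + 1 = j by omega]
    have := H96.finite_of_le hQS
    have hyQ : y ∈ Q := Subgroup.mem_sup_right (Subgroup.mem_zpowers y)
    have hno : ¬ M ≤ Q := fun e =>
      hyM ((Subgroup.eq_of_le_of_card_ge e (by rw [hQc, hMc])).ge hyQ)
    obtain ⟨P, hP, -, hQiP, hPM, hMQP, -⟩ := exists_other hw hM hmin hQS hQc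
      (fun e => hM₁1 (le_bot_iff.1 (e ▸ le_inf le_sup_left hM₁M))) hno
    have hQP0 : Q ⊓ P = ⊥ := by
      by_contra hQP1
      obtain ⟨W', hW'le, hW'1, hW', hW'min⟩ := exists_minimal_stronglyClosed hQiP hQP1
      have hW'Q : W' = Q :=
        Subgroup.eq_of_le_of_card_ge (hW'le.trans inf_le_left) (by rw [hQc, hall W' hW'1 hW' hW'min])
      have : Q ≤ P := hW'Q ▸ hW'le.trans inf_le_right
      exact hM₁1 (le_bot_iff.1 (hPM ▸ le_inf (le_sup_left.trans this) hM₁M))
    have hPn := H93.StronglyClosed.le_normalizer hP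
    have hMP0 : M ⊓ P = ⊥ := by rw [inf_comm]; exact hPM
    have hMPle : M ⊔ P ≤ Q ⊔ P := sup_le hMQP le_sup_right
    have := H96.finite_of_le (sup_le hQS hP.1)
    have heq : M ⊔ P = Q ⊔ P := Subgroup.eq_of_le_of_card_ge hMPle (by
      rw [card_sup_of_disjoint hQS hP.1 (hQS.trans hPn) hQP0,
        card_sup_of_disjoint hM.1 hP.1 (hM.1.trans hPn) hMP0, hQc, hMc])
    have hWle : W ≤ M ⊔ P := by
      rcases hWmin _ (stronglyClosed_inf hW (H94.stronglyClosed_sup hS hF hM hP)) inf_le_left with e | e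
      · exact absurd (Subgroup.mem_bot.1 (e ▸ ⟨hy, heq ▸ Subgroup.mem_sup_left hyQ⟩)) hy1
      · exact e.ge.trans inf_le_right
    have hWP : W ⊓ P = ⊥ := by
      rcases hWmin _ (stronglyClosed_inf hW hP) inf_le_left with e | e
      · exact e
      · exact absurd (Subgroup.mem_bot.1 (hQP0 ▸ ⟨hyQ, (e.ge hy).2⟩)) hy1
    have hcW : M ⊔ P ≤ Subgroup.centralizer (W : Set Ω) := sup_le
      (fun m hm w hw' => commute_of_inf_eq_bot hW hM hWM w hw' m hm)
      (fun m hm w hw' => commute_of_inf_eq_bot hW hP hWP w hw' m hm)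
    exact habel W hW (hall W hW1 hW hWmin) fun a ha b hb => hcW (hWle hb) a ha
  obtain ⟨y, hy, hy1, hyp, hyc⟩ := exists_central hS hM.1 hMn hM1
  obtain ⟨n, hn⟩ := IsPGroup.iff_card.1 hS
  have hjn : j < n := (Nat.pow_lt_pow_iff_right hp.one_lt).1 (hn ▸ hjS)
  obtain ⟨K, hMK, hKS, hKc⟩ := exists_between hS le_rfl hM.1 (b := j + 1)
    (hMc ▸ Nat.pow_le_pow_right hp.pos (by omega)) (hn ▸ Nat.pow_le_pow_right hp.pos hjn)
  have := H96.finite_of_le hKS
  obtain ⟨g, hgK, hgM⟩ : ∃ g ∈ K, g ∉ M := by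
    by_contra hno
    push Not at hno
    have := Subgroup.card_le_of_le (show K ≤ M from hno)
    rw [hKc, hMc] at this
    have := (Nat.pow_le_pow_iff_right hp.one_lt).1 this
    omega
  set H := Subgroup.closure ({y, g} : Set Ω)
  have hHK : H ≤ K := by
    rw [Subgroup.closure_le]
    rintro z (rfl | rfl)
    · exact hMK hy
    · exact hgK
  have := H96.finite_of_le (hHK.trans hKS)
  by_cases hHc : Nat.card H ≤ p ^ j
  · obtain ⟨Q, hHQ, hQK, hQc⟩ := exists_between hS hKS hHK hHc (hKc ▸ Nat.pow_le_pow_right hp.pos (by omega))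
    have hyQ : y ∈ Q := hHQ (Subgroup.subset_closure (Set.mem_insert _ _))
    have hgQ : g ∈ Q := hHQ (Subgroup.subset_closure (Set.mem_insert_of_mem _ rfl))
    have := H96.finite_of_le (hQK.trans hKS)
    obtain ⟨-, -, -, -, -, -, W, -, hW1, hW, hWmin, hWM⟩ := exists_other hw hM hmin (hQK.trans hKS) hQc
      (fun e => hy1 (Subgroup.mem_bot.1 (e ▸ ⟨hyQ, hy⟩)))
      (fun e => hgM ((Subgroup.eq_of_le_of_card_ge e (by rw [hQc, hMc])).ge hgQ))
    exact hWM (huniq W hW1 hW hWmin)
  · have hHK' : H = K := by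
      obtain ⟨h, hh⟩ := IsPGroup.iff_card.1 (hS.to_le (hHK.trans hKS))
      refine Subgroup.eq_of_le_of_card_ge hHK ?_
      rw [hKc, hh]
      rw [hh, not_le] at hHc
      exact Nat.pow_le_pow_right hp.pos ((Nat.pow_lt_pow_iff_right hp.one_lt).1 hHc)
    have hgS : g ∈ S := hKS hgK
    have hHc' : H ≤ Subgroup.centralizer (H : Set Ω) := by
      have hgen : ∀ z ∈ ({y, g} : Set Ω), H ≤ Subgroup.centralizer ({z} : Set Ω) := by
        intro z hz
        rw [Subgroup.closure_le]
        rintro w (rfl | rfl) <;> rcases hz with rfl | rfl <;>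
          simp only [SetLike.mem_coe, Subgroup.mem_centralizer_singleton_iff]
        · exact (hyc _ hgS).symm
        · exact hyc _ hgS
      rw [Subgroup.closure_le]
      intro z hz
      exact fun w hw' => Subgroup.mem_centralizer_singleton_iff.1 (hgen z hz hw')
    exact habel M hM hMc fun a ha b hb =>
      hHc' (hHK'.ge (hMK hb)) a (hHK'.ge (hMK ha))

end Cfsg.Agent.H95
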